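import Cfsg.Agent.Lib.AutPOmega.Root

/-!
# Automorphisms preserve the root elements

For a totally singular line `⟨u, u'⟩` some Sylow `p`-subgroup has all its central elements in the
root group of that line; every root element is central in some Sylow subgroup.
-/

set_option autoImplicit false
set_option linter.unusedSectionVars false

namespace Cfsg.Agent.AutPOmega

open scoped commutatorElement Pointwise
open Cfsg.Agent Cfsg.Agent.TransvMax Cfsg.Agent.QMax
open Cfsg.Agent.OrthSimple (Om sg)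

variable {ι : Type} [Fintype ι] [DecidableEq ι] {F : Type*} [Field F] [Finite F]
  {Q : QuadraticForm F (ι → F)}

local notation "V" => ι → F
local notation "B" => pB Q
local notation "OmQ" => Om (Q := Q)
local notation "PO" => Om (Q := Q) ⧸ Subgroup.center (Om (Q := Q))
local notation "pr" => QuotientGroup.mk' (Subgroup.center (Om (Q := Q)))

instance finite_Om : Finite (Om (Q := Q)) :=
  haveI : Finite (V ≃ₗ[F] V) := Finite.of_injective _ DFunLike.coe_injective
  inferInstance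

variable (S : QSetting Q)

include S

theorem sg_congr {u w u' w' : V} {hu : Q u = 0} {hw : B w u = 0} {hu' : Q u' = 0}
    {hw' : B w' u' = 0} (e1 : u = u') (e2 : w = w') : sg S u w hu hw = sg S u' w' hu' hw' :=
  Subtype.ext (S.siegel_congr (hu := hu) (hw := hw) (hu' := hu') (hw' := hw') e1 e2)

theorem sg_zero {u : V} (hu : Q u = 0) : sg S u 0 hu (by rw [map_zero, LinearMap.zero_apply]) = 1 :=
  Subtype.ext (LinearEquiv.ext fun x => S.siegelHom_zero u x)

/-- The Siegel transformations at a point. -/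
def ptRad (u : V) (hu : Q u = 0) : Subgroup OmQ where
  carrier := {g | ∃ w, ∃ hw : B w u = 0, g = sg S u w hu hw}
  one_mem' := ⟨0, _, (sg_zero S hu).symm⟩
  mul_mem' := by
    rintro _ _ ⟨w, hw, rfl⟩ ⟨w', hw', rfl⟩
    exact ⟨w + w', by rw [map_add, LinearMap.add_apply, hw, hw', add_zero],
      Subtype.ext (S.siegel_mul hu hw hw')⟩
  inv_mem' := by
    rintro _ ⟨w, hw, rfl⟩
    exact ⟨-w, by rw [map_neg, LinearMap.neg_apply, hw, neg_zero], Subtype.ext (S.siegel_inv hu hw)⟩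

/-- The Siegel transformations at `u'` with parameter orthogonal to `u`. -/
def ptRad₀ (u u' : V) (hu' : Q u' = 0) : Subgroup OmQ where
  carrier := {g | ∃ w, ∃ hw : B w u' = 0, B w u = 0 ∧ g = sg S u' w hu' hw}
  one_mem' := ⟨0, _, by rw [map_zero, LinearMap.zero_apply], (sg_zero S hu').symm⟩
  mul_mem' := by
    rintro _ _ ⟨w, hw, h, rfl⟩ ⟨w', hw', h', rfl⟩
    exact ⟨w + w', by rw [map_add, LinearMap.add_apply, hw, hw', add_zero],
      by rw [map_add, LinearMap.add_apply, h, h', add_zero],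
      Subtype.ext (S.siegel_mul hu' hw hw')⟩
  inv_mem' := by
    rintro _ ⟨w, hw, h, rfl⟩
    exact ⟨-w, by rw [map_neg, LinearMap.neg_apply, hw, neg_zero], by rw [map_neg, LinearMap.neg_apply, h, neg_zero], Subtype.ext (S.siegel_inv hu' hw)⟩

theorem sg_conj (g : OmQ) {u w : V} (hu : Q u = 0) (hw : B w u = 0) :
    g * sg S u w hu hw * g⁻¹ = sg S (g.1 u) (g.1 w)
      ((OrthSimple.mem_oGroup_of_mem_Om g.2 u).trans hu) ((pB_oGroup S g w u).trans hw) :=
  Subtype.ext (S.siegel_conj (OrthSimple.mem_oGroup_of_mem_Om g.2) hu hw)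

theorem fix_ptRad₀ {u u' : V} (hu' : Q u' = 0) (huu' : B u u' = 0) {r : OmQ}
    (hr : r ∈ ptRad₀ S u u' hu') : r.1 u = u := by
  obtain ⟨w, hw, hwu, rfl⟩ := hr
  show S.siegel u' w hu' hw u = u
  rw [S.siegel_apply, siegelHom_apply, huu', S.pB_comm u w, hwu]
  simp

theorem ptRad₀_le_normalizer {u u' : V} (hu : Q u = 0) (hu' : Q u' = 0) (huu' : B u u' = 0) :
    ptRad₀ S u u' hu' ≤ Subgroup.normalizer (ptRad S u hu : Set OmQ) := by
  have key : ∀ r ∈ ptRad₀ S u u' hu', ∀ g ∈ ptRad S u hu, r * g * r⁻¹ ∈ ptRad S u hu := by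
    rintro r hr _ ⟨w, hw, rfl⟩
    exact ⟨r.1 w, _, (sg_conj S r hu hw).trans
      (sg_congr S (fix_ptRad₀ S hu' huu' hr) rfl (hu' := hu)
        (hw' := by rw [← fix_ptRad₀ S hu' huu' hr, pB_oGroup S, hw]))⟩
  intro r hr
  refine Subgroup.mem_normalizer_iff.2 fun g => ⟨key r hr g, fun hg => ?_⟩
  have := key r⁻¹ (inv_mem hr) _ hg
  rwa [inv_inv, show r⁻¹ * (r * g * r⁻¹) * r = g by group] at this

variable (p : ℕ) [Fact p.Prime] [CharP F p]

theorem isPGroup_ptRad {u : V} (hu : Q u = 0) : IsPGroup p (ptRad S u hu) := by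
  rintro ⟨_, w, hw, rfl⟩
  exact ⟨1, Subtype.ext (by rw [pow_one]; exact sg_pow_char S p hu hw)⟩

theorem isPGroup_ptRad₀ {u u' : V} (hu' : Q u' = 0) : IsPGroup p (ptRad₀ S u u' hu') := by
  rintro ⟨_, w, hw, h, rfl⟩
  exact ⟨1, Subtype.ext (by rw [pow_one]; exact sg_pow_char S p hu' hw)⟩

omit p

theorem sg_eq_sub {u w w' : V} (hu0 : u ≠ 0) (hu : Q u = 0) {hw : B w u = 0} {hw' : B w' u = 0}
    (h : sg S u w hu hw = sg S u w' hu hw') : w - w' ∈ Submodule.span F {u} := by
  obtain ⟨x, hx⟩ := S.exists_values (v := ![u]) (by simp [linearIndependent_unique_iff, hu0]) ![1]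
  have hxu : B x u = 1 := hx 0
  have e := congrArg (fun g : OmQ => g.1 x) h
  change siegelHom Q u w x = siegelHom Q u w' x at e
  simp only [siegelHom_apply, hxu, one_smul, mul_one] at e
  refine Submodule.mem_span_singleton.2 ⟨(B x w + Q w) - (B x w' + Q w'), ?_⟩
  linear_combination (norm := module) -e

theorem mem_ptRad_of_commute {u : V} (hu0 : u ≠ 0) (hu : Q u = 0) {g : OmQ}
    (h : ∀ r ∈ ptRad S u hu, Commute g r) : ∃ r ∈ ptRad S u hu, pr g = pr r := by
  have hd := S.dim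
  have hconj : ∀ w (hw : B w u = 0), g * sg S u w hu hw * g⁻¹ = sg S u w hu hw := fun w hw => by
    rw [(h _ ⟨w, hw, rfl⟩).eq, mul_inv_cancel_right]
  obtain ⟨w₁, -, hQ₁, hv₁, hw₁⟩ := S.topDec.exists_norm_out (k := 1) ![u] (Submodule.span F {u})
    (by rw [S.finrank_top_eq]; omega) (by rw [S.finrank_top_eq, finrank_span_singleton hu0]; omega) 0
  have hw₁u : B w₁ u = 0 := hv₁ 0
  have hp₁ : Pair Q u w₁ := ⟨hu, hQ₁, by rw [S.pB_comm, hw₁u],
    (LinearIndependent.pair_iff' hu0).2 fun c hc => hw₁ (hc ▸ Submodule.smul_mem _ c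
      (Submodule.mem_span_singleton_self u))⟩
  obtain ⟨w₂, -, hQ₂, hv₂, hw₂⟩ := S.topDec.exists_norm_out (k := 1) ![u]
    (Submodule.span F (Set.range ![u, w₁]))
    (by rw [S.finrank_top_eq]; omega) (by rw [S.finrank_top_eq, (pair_ts2 S hp₁).1]; omega) 0
  have hw₂u : B w₂ u = 0 := hv₂ 0
  have hp₂ : Pair Q u w₂ := ⟨hu, hQ₂, by rw [S.pB_comm, hw₂u],
    (LinearIndependent.pair_iff' hu0).2 fun c hc => hw₂ (hc ▸ Submodule.smul_mem _ c (mem_left S u w₁))⟩
  have hin : ∀ w, Pair Q u w → ∀ hw : B w u = 0, g.1 u ∈ Submodule.span F (Set.range ![u, w]) := by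
    intro w hp hw
    have hL : mv (sg S u w hu hw) = Submodule.span F (Set.range ![u, w]) :=
      mv_of_apply S hp.li one_ne_zero fun x => by rw [one_smul]; exact sg_apply_root S _ _ hp.qb x
    have h2 : (mv (sg S u w hu hw)).map (g.1 : V →ₗ[F] V) = mv (sg S u w hu hw) := by
      rw [← mv_conj S, hconj w hw]
    rw [← hL, ← h2, hL]
    exact Submodule.mem_map_of_mem (mem_left S u w)
  obtain ⟨α, β, e₁⟩ := mem_span_pair' S (hin w₁ hp₁ hw₁u)
  obtain ⟨α', β', e₂⟩ := mem_span_pair' S (hin w₂ hp₂ hw₂u)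
  have hβ : β' = 0 := by
    by_contra hb
    refine hw₂ ?_
    have : w₂ = (β'⁻¹ * (α - α')) • u + (β'⁻¹ * β) • w₁ := by
      have h' := congrArg (fun v => β'⁻¹ • v) (e₁.symm.trans e₂)
      simp only [smul_add, smul_smul, inv_mul_cancel₀ hb, one_smul] at h'
      linear_combination (norm := module) -h'
    rw [this]
    exact add_mem (Submodule.smul_mem _ _ (mem_left S u w₁)) (Submodule.smul_mem _ _ (mem_right S u w₁))
  rw [hβ, zero_smul, add_zero] at e₂
  have hg := OrthSimple.mem_oGroup_of_mem_Om g.2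
  have hmod : ∀ w, B w u = 0 → α' • g.1 w - w ∈ Submodule.span F {u} := by
    intro w hw
    have h1 := (sg_conj S g hu hw).symm.trans (hconj w hw)
    have h2 : sg S (g.1 u) (g.1 w) ((hg u).trans hu) ((pB_oGroup S g w u).trans hw) =
        sg S u (α' • g.1 w) hu (by
          rw [LinearMap.map_smul₂, smul_eq_mul, ← smul_eq_mul, ← map_smul, ← e₂, pB_oGroup S, hw]) := by
      refine Subtype.ext (Eq.trans ?_ (S.siegel_smul (u := u) (w := g.1 w) α' hu
        (by rw [S.quad_smul, hu, mul_zero]) (by rw [← e₂, pB_oGroup S, hw])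
        (by rw [LinearMap.map_smul₂, smul_eq_mul, ← smul_eq_mul, ← map_smul, ← e₂, pB_oGroup S, hw])))
      exact S.siegel_congr (hu := (hg u).trans hu) (hw := (pB_oGroup S g w u).trans hw) e₂ rfl
    exact sg_eq_sub S hu0 hu (h2.symm.trans h1)
  obtain ⟨q, -, hqv, hQq⟩ := S.topDec.exists_aniso (k := 1) ![u] (by rw [S.finrank_top_eq]; omega)
  have hqu : B q u = 0 := hqv 0
  have hα : α' * α' = 1 := by
    obtain ⟨t, ht⟩ := Submodule.mem_span_singleton.1 (hmod q hqu)
    have e3 : α' • g.1 q = q + t • u := by rw [ht]; abel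
    have h4 := congrArg Q e3
    rw [S.quad_smul, hg q, S.quad_add, S.quad_smul, hu, map_smul, hqu, mul_zero, smul_zero, add_zero,
      add_zero] at h4
    exact (mul_eq_right₀ hQq).1 h4
  obtain ⟨y, -, hQy, hyv⟩ := S.topDec.exists_values_in (v := ![u]) (fun i => Submodule.mem_top)
    (by simp [linearIndependent_unique_iff, hu0]) (by rw [S.finrank_top_eq]; omega) ![1] 0
  have hyu : B y u = 1 := hyv 0
  have hQgy : Q (α' • g.1 y) = 0 := by rw [S.quad_smul, hg y, hQy, mul_zero]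
  have hgyu : B (α' • g.1 y) u = 1 := by
    have : B (g.1 y) (α' • u) = 1 := by rw [← e₂, pB_oGroup S, hyu]
    rw [LinearMap.map_smul₂, ← map_smul]; exact this
  have hw₀ : B (α' • g.1 y - y) u = 0 := by rw [map_sub, LinearMap.sub_apply, hgyu, hyu, sub_self]
  refine ⟨sg S u (α' • g.1 y - y) hu hw₀, ⟨_, hw₀, rfl⟩, ?_⟩
  set r := sg S u (α' • g.1 y - y) hu hw₀ with hr
  have hry : r.1 y = α' • g.1 y := S.siegel_map hu hyu (by rw [hQy, hQgy]) hw₀
  have hru : r.1 u = u := OrthSimple.siegel_self S hu hw₀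
  have hperp : ∀ w, B w u = 0 → r.1 w = α' • g.1 w := by
    intro w hw
    obtain ⟨t, ht⟩ := Submodule.mem_span_singleton.1 (hmod w hw)
    have e3 : α' • g.1 w = w + t • u := by rw [ht]; abel
    have e4 : r.1 w = w + (-(B w (α' • g.1 y - y))) • u := by
      show S.siegel u _ hu hw₀ w = _
      rw [S.siegel_apply, siegelHom_apply, hw]
      module
    have h5 : B (r.1 w) (r.1 y) = B (α' • g.1 w) (α' • g.1 y) := by
      rw [pB_oGroup S, LinearMap.map_smul₂, map_smul, smul_eq_mul, smul_eq_mul, pB_oGroup S, ← mul_assoc,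
        hα, one_mul]
    rw [hry, e4, e3, map_add, map_add, LinearMap.add_apply, LinearMap.add_apply, LinearMap.map_smul₂,
      LinearMap.map_smul₂, S.pB_comm u (α' • g.1 y), hgyu] at h5
    simp only [smul_eq_mul, mul_one] at h5
    rw [e3, e4, add_left_cancel h5]
  have hall : ∀ x, r.1 x = α' • g.1 x := by
    intro x
    have hz : B (x - B x u • y) u = 0 := by
      rw [map_sub, LinearMap.sub_apply, LinearMap.map_smul₂, hyu, smul_eq_mul, mul_one, sub_self]
    have e : x = (x - B x u • y) + B x u • y := by abel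
    generalize hc : B x u = c at hz e
    rw [e, map_add, map_smul, hperp _ hz, hry, map_add, map_smul]
    module
  show QuotientGroup.mk g = QuotientGroup.mk r
  rw [QuotientGroup.eq]
  refine OrthSimple.mem_center_of_scalar S (c := α') fun v => ?_
  show g.1.symm (r.1 v) = α' • v
  rw [hall, map_smul, LinearEquiv.symm_apply_apply]

include p

/-- A Sylow subgroup whose central elements lie in the root group of a given line. -/
theorem exists_sylow_centre {u u' : V} (hp : Pair Q u u') :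
    ∃ P : Sylow p PO, ∀ z ∈ (P : Subgroup PO), z ≠ 1 → (∀ y ∈ (P : Subgroup PO), Commute z y) →
      ∃ r : OmQ, IsRoot r ∧ mv r = Submodule.span F (Set.range ![u, u']) ∧ pr r = z := by
  have hd := S.dim
  have hT : IsPGroup p ((ptRad₀ S u u' hp.qb ⊔ ptRad S u hp.qa).map pr) :=
    ((isPGroup_ptRad₀ S p hp.qb).to_sup_of_normal_right' (isPGroup_ptRad S p hp.qa)
      (ptRad₀_le_normalizer S hp.qa hp.qb hp.ab)).map _
  obtain ⟨P, hP⟩ := hT.exists_le_sylow
  refine ⟨P, fun z _ hz1 hzc => ?_⟩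
  obtain ⟨g, rfl⟩ := QuotientGroup.mk'_surjective _ z
  obtain ⟨r, ⟨w₀, hw₀, rfl⟩, hgr⟩ := mem_ptRad_of_commute S hp.ne hp.qa (g := g) fun r hr =>
    commute_of_pr S p (by obtain ⟨w, hw, rfl⟩ := hr; exact sg_pow_char S p _ hw)
      (hzc _ (hP ⟨r, Subgroup.mem_sup_right hr, rfl⟩))
  have hfix : ∀ w', B w' u' = 0 → B w' u = 0 →
      B w₀ u' • w' - (B w₀ w' + Q w' * B w₀ u') • u' ∈ Submodule.span F {u} := by
    intro w' h1 h2
    have hs : sg S u' w' hp.qb h1 ∈ ptRad₀ S u u' hp.qb := ⟨w', h1, h2, rfl⟩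
    have hc := commute_of_pr S p (sg_pow_char S p hp.qa hw₀)
      (show Commute (pr (sg S u' w' hp.qb h1)) (pr (sg S u w₀ hp.qa hw₀)) from
        hgr ▸ (hzc _ (hP ⟨_, Subgroup.mem_sup_left hs, rfl⟩)).symm)
    have hfu : (sg S u' w' hp.qb h1).1 u = u := fix_ptRad₀ S hp.qb hp.ab hs
    have h4 : sg S u ((sg S u' w' hp.qb h1).1 w₀) hp.qa
        (by nth_rw 2 [← hfu]; rw [pB_oGroup S, hw₀]) = sg S u w₀ hp.qa hw₀ := by
      rw [← sg_congr S hfu rfl (hu := (OrthSimple.mem_oGroup_of_mem_Om (sg S u' w' hp.qb h1).2 u).trans hp.qa)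
        (hw := (pB_oGroup S _ w₀ u).trans hw₀), ← sg_conj S _ hp.qa hw₀, hc.eq, mul_inv_cancel_right]
    have h5 := sg_eq_sub S hp.ne hp.qa h4
    rwa [show (sg S u' w' hp.qb h1).1 w₀ = siegelHom Q u' w' w₀ from rfl, siegelHom_apply,
      show w₀ + B w₀ u' • w' - B w₀ w' • u' - (Q w' * B w₀ u') • u' - w₀ =
        B w₀ u' • w' - (B w₀ w' + Q w' * B w₀ u') • u' by module] at h5
  obtain ⟨w₁, -, -, hv, hw₁⟩ := S.topDec.exists_norm_out (k := 2) ![u', u]
    (Submodule.span F (Set.range ![u, u']))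
    (by rw [S.finrank_top_eq]; omega) (by rw [S.finrank_top_eq, (pair_ts2 S hp).1]; omega) 0
  have hb : B w₀ u' = 0 := by
    by_contra hne
    obtain ⟨t, ht⟩ := Submodule.mem_span_singleton.1 (hfix w₁ (hv 0) (hv 1))
    refine hw₁ ?_
    have e := congrArg (fun v => (B w₀ u')⁻¹ • v) ht
    simp only [smul_sub, smul_smul, inv_mul_cancel₀ hne, one_smul] at e
    rw [← sub_add_cancel w₁ (((B w₀ u')⁻¹ * (B w₀ w₁ + Q w₁ * B w₀ u')) • u'), ← e]
    exact add_mem (Submodule.smul_mem _ _ (mem_left S u u')) (Submodule.smul_mem _ _ (mem_right S u u'))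
  have hperp : ∀ w', B w' u' = 0 → B w' u = 0 → B w₀ w' = 0 := by
    intro w' h1 h2
    obtain ⟨t, ht⟩ := Submodule.mem_span_singleton.1 (hfix w' h1 h2)
    rw [hb, zero_smul, mul_zero, add_zero, zero_sub] at ht
    exact (LinearIndependent.pair_iff.1 hp.li t (B w₀ w') (by rw [ht, neg_add_cancel])).2
  have hspan : w₀ ∈ Submodule.span F (Set.range ![u, u']) := by
    by_contra hn
    obtain ⟨x, hx⟩ := S.exists_values (v := (Fin.cons w₀ ![u, u'] : Fin 3 → V))
      (linearIndependent_finCons.2 ⟨hp.li, hn⟩) ![1, 0, 0]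
    have hx0 : B x w₀ = 1 := hx 0
    exact one_ne_zero (by rw [← hx0, S.pB_comm]; exact hperp x (hx 2) (hx 1))
  obtain ⟨a, b, rfl⟩ := mem_span_pair' S hspan
  have happ : ∀ x, (sg S u (a • u + b • u') hp.qa hw₀).1 x = x + b • om Q u u' x := fun x => by
    rw [sg_apply_root S hp.qa hw₀ (by rw [quad_comb S, hp.qa, hp.qb, hp.ab]; ring)]
    have := om_comb (Q := Q) u u' 1 0 a b
    rw [one_smul, zero_smul, add_zero, one_mul, zero_mul, sub_zero] at this
    rw [this]; rfl
  have hb0 : b ≠ 0 := by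
    rintro rfl
    refine hz1 ?_
    rw [hgr, show sg S u (a • u + (0 : F) • u') hp.qa hw₀ = 1 from om_ext S fun x => by
      rw [happ]; simp, map_one]
  refine ⟨_, ⟨u, b • u', ⟨hp.qa, by rw [S.quad_smul, hp.qb, mul_zero], by rw [map_smul, hp.ab, smul_zero],
    (LinearIndependent.pair_iff' hp.ne).2 fun c hc => hp.not_mem ?_⟩, fun x => ?_⟩,
    mv_of_apply S hp.li hb0 happ, hgr.symm⟩
  · have e := congrArg (fun v => b⁻¹ • v) hc
    simp only [smul_smul, inv_mul_cancel₀ hb0, one_smul] at e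
    rw [← e]
    exact Submodule.smul_mem _ _ (Submodule.mem_span_singleton_self u)
  · rw [happ, om_smul_right]; rfl

omit p

/-- Singular non-orthogonal vectors are exchanged, fixing a vector orthogonal to both. -/
theorem exists_move {a b c : V} (ha : Q a = 0) (hb : Q b = 0) (hab : B a b ≠ 0) (hc0 : c ≠ 0)
    (hca : B c a = 0) (hcb : B c b = 0) : ∃ h : OmQ, h.1 a = b ∧ h.1 c = c := by
  have hd := S.dim
  have hli : LinearIndependent F ![a, b] := by
    refine LinearIndependent.pair_iff.2 fun s t hst => ?_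
    have h1 : t * B a b = 0 := by
      have := congrArg (B a) hst
      rwa [map_add, map_smul, map_smul, S.pB_self, ha, map_zero, smul_eq_mul, smul_eq_mul, mul_zero,
        mul_zero, zero_add] at this
    have h2 : s * B a b = 0 := by
      have := congrArg (B b) hst
      rwa [map_add, map_smul, map_smul, S.pB_self, hb, map_zero, smul_eq_mul, smul_eq_mul, mul_zero,
        mul_zero, add_zero, S.pB_comm b a] at this
    exact ⟨(mul_eq_zero.1 h2).resolve_right hab, (mul_eq_zero.1 h1).resolve_right hab⟩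
  obtain ⟨U, D⟩ := exists_ODec S (Submodule.span F (Set.range ![a, b])) fun w hw hw0 => by
    obtain ⟨s, t, rfl⟩ := mem_span_pair' S hw
    by_cases hs : s = 0
    · refine ⟨a, mem_left S a b, ?_⟩
      have ht : t ≠ 0 := fun e => hw0 (by rw [hs, e]; simp)
      rw [map_add, map_smul, map_smul, S.pB_self, ha, smul_eq_mul, smul_eq_mul, mul_zero, mul_zero,
        zero_add]
      exact mul_ne_zero ht hab
    · refine ⟨b, mem_right S a b, ?_⟩
      rw [map_add, map_smul, map_smul, S.pB_self, hb, smul_eq_mul, smul_eq_mul, mul_zero, mul_zero,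
        add_zero, S.pB_comm b a]
      exact mul_ne_zero hs hab
  have hU : Module.finrank F U + 2 = Fintype.card ι := by
    have := D.finrank_add
    rw [finrank_span_eq_card hli, Fintype.card_fin] at this
    omega
  have hcU : c ∈ U := D.swap.mem_W fun x hx => by
    obtain ⟨s, t, rfl⟩ := mem_span_pair' S hx
    simp only [map_add, map_smul, hca, hcb, smul_zero, add_zero]
  obtain ⟨w, hwU, hQw, hwc⟩ := D.exists_values_in (v := ![c]) (fun i => by fin_cases i; exact hcU)
    (by simp [linearIndependent_unique_iff, hc0]) (by omega) ![0] (-(B a b)⁻¹)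
  have hwa : B w a = 0 := D.orth' (mem_left S a b) hwU
  have hwb : B w b = 0 := D.orth' (mem_right S a b) hwU
  have hwc' : B w c = 0 := hwc 0
  have hQv : Q ((B a b)⁻¹ • a + (B a b)⁻¹ • b + w) = 0 := by
    rw [S.quad_add, quad_comb S, ha, hb, hQw, map_add, LinearMap.add_apply, LinearMap.map_smul₂,
      LinearMap.map_smul₂, S.pB_comm a w, S.pB_comm b w, hwa, hwb]
    simp only [smul_eq_mul, mul_zero, add_zero, zero_add]
    field_simp
    ring
  generalize hv : (B a b)⁻¹ • a + (B a b)⁻¹ • b + w = v at hQv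
  have hvals : B a v = 1 ∧ B b v = 1 ∧ B c v = 0 := by
    subst hv
    simp only [map_add, map_smul, smul_eq_mul, S.pB_self, ha, hb, S.pB_comm a w, S.pB_comm b w,
      S.pB_comm c w, hwa, hwb, hwc', hca, hcb, S.pB_comm b a, mul_zero, add_zero, zero_add,
      inv_mul_cancel₀ hab]
    simp
  have hba : B (b - a) v = 0 := by rw [map_sub, LinearMap.sub_apply, hvals.1, hvals.2.1, sub_self]
  refine ⟨sg S v (b - a) hQv hba, S.siegel_map hQv hvals.1 (by rw [ha, hb]) hba, ?_⟩
  show S.siegel v (b - a) hQv hba c = c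
  rw [S.siegel_apply, siegelHom_apply, hvals.2.2, map_sub, hcb, hca]
  simp

include p

theorem center_nontrivial_sylow (P : Sylow p PO) {x : PO} (hx : x ≠ 1) (hxp : x ^ p = 1) :
    ∃ z ∈ (P : Subgroup PO), z ≠ 1 ∧ ∀ y ∈ (P : Subgroup PO), Commute z y := by
  haveI : Nontrivial (P : Subgroup PO) := by
    rw [Subgroup.nontrivial_iff_ne_bot]
    refine fun h => Fact.out (p := p.Prime).ne_one ?_
    have h1 : p ∣ Nat.card PO := by
      rw [← orderOf_eq_prime hxp hx]
      exact orderOf_dvd_natCard x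
    have h2 := P.dvd_card_of_dvd_card h1
    rw [h, Subgroup.card_bot] at h2
    exact Nat.dvd_one.1 h2
  haveI := P.2.center_nontrivial
  obtain ⟨z, hz⟩ := exists_ne (1 : Subgroup.center (P : Subgroup PO))
  exact ⟨z.1.1, z.1.2, fun e => hz (Subtype.ext (Subtype.ext e)), fun y hy =>
    congrArg Subtype.val (Subgroup.mem_center_iff.1 z.2 ⟨y, hy⟩) |>.symm⟩

theorem root_pr_ne_one {r : OmQ} (hr : IsRoot r) : pr r ≠ 1 := fun h => by
  have h1 : r = 1 := eq_of_pr S p (hr.pow_char S p) (one_pow p) (by rw [h, map_one])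
  have := (hr.ts2 S).1
  rw [h1, mv, show (((1 : OmQ).1 : V ≃ₗ[F] V) : V →ₗ[F] V) - LinearMap.id = 0 from by
    refine LinearMap.ext fun x => ?_
    simp, LinearMap.range_zero, finrank_bot] at this
  omega

/-- Every root element is central in some Sylow subgroup. -/
theorem exists_sylow_root {r : OmQ} (hr : IsRoot r) :
    ∃ P : Sylow p PO, pr r ∈ (P : Subgroup PO) ∧ ∀ y ∈ (P : Subgroup PO), Commute (pr r) y := by
  have hd := S.dim
  obtain ⟨u, u', hp, hL⟩ := exists_basis S (hr.ts2 S)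
  obtain ⟨k, hk, hrx⟩ := hr.normal S hp hL
  obtain ⟨P, hP⟩ := exists_sylow_centre S p hp
  obtain ⟨z, hzP, hz1, hzc⟩ := center_nontrivial_sylow S p P (root_pr_ne_one S p hr)
    (by rw [← map_pow, hr.pow_char S p, map_one])
  obtain ⟨s, hs, hsL, rfl⟩ := hP z hzP hz1 hzc
  obtain ⟨l, hl, hsx⟩ := hs.normal S hp hsL
  obtain ⟨y, -, hQy, hyv⟩ := S.topDec.exists_values_in (v := ![u', u]) (fun i => Submodule.mem_top)
    (S.sing_indep_pair hp.ne hp.not_mem) (by rw [S.finrank_top_eq]; omega) ![0, 1] 0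
  have hyu' : B y u' = 0 := hyv 0
  have hyu : B y u = 1 := hyv 1
  have hu'u : B u' u = 0 := by rw [S.pB_comm, hp.ab]
  obtain ⟨h₁, e₁, f₁⟩ := exists_move S hp.qa hQy (by rw [S.pB_comm, hyu]; exact one_ne_zero) hp.ne'
    hu'u (by rw [S.pB_comm, hyu'])
  obtain ⟨h₂, e₂, f₂⟩ := exists_move S hQy (b := (k / l) • u) (by rw [S.quad_smul, hp.qa, mul_zero])
    (by rw [map_smul, hyu, smul_eq_mul, mul_one]; exact div_ne_zero hk hl) hp.ne'
    (by rw [S.pB_comm, hyu']) (by rw [map_smul, hu'u, smul_zero])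
  set h := h₂ * h₁ with hh
  have hu : h.1 u = (k / l) • u := by
    show h₂.1 (h₁.1 u) = _
    rw [e₁, e₂]
  have hu' : h.1 u' = u' := by
    show h₂.1 (h₁.1 u') = _
    rw [f₁, f₂]
  have key : h * s * h⁻¹ = r := by
    refine om_ext S fun x => ?_
    obtain ⟨v, rfl⟩ := h.1.surjective x
    show h.1 (s.1 (h.1.symm (h.1 v))) = _
    rw [LinearEquiv.symm_apply_apply, hsx, hrx, map_add, map_smul, om_apply, om_apply, map_sub, map_smul,
      map_smul, hu, hu', ← pB_oGroup S h v u, ← pB_oGroup S h v u', hu, hu']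
    simp only [map_smul, smul_eq_mul]
    match_scalars <;> field_simp
  refine ⟨MulAut.conj (pr h) • P, ?_, ?_⟩
  · show pr r ∈ MulAut.conj (pr h) • (P : Subgroup PO)
    rw [← key, map_mul (pr) (h * s), map_mul (pr) h s, map_inv]
    exact ⟨_, hzP, rfl⟩
  · show ∀ y ∈ MulAut.conj (pr h) • (P : Subgroup PO), _
    rintro _ ⟨y', hy', rfl⟩
    rw [← key, map_mul, map_mul, map_inv]
    exact (hzc y' hy').map (MulAut.conj (pr h)).toMonoidHom

/-- Automorphisms map root elements to root elements. -/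
theorem isRootG_map (φ : MulAut PO) {x : PO} (hx : IsRootG x) : IsRootG (φ x) := by
  obtain ⟨r, hr, rfl⟩ := hx
  obtain ⟨P, hrP, hrc⟩ := exists_sylow_root S p hr
  obtain ⟨u, u', hp, -⟩ := exists_basis S (hr.ts2 S)
  obtain ⟨P₀, hP₀⟩ := exists_sylow_centre S p hp
  let P' : Sylow p PO := P.mapSurjective (f := φ.toMonoidHom) φ.surjective
  obtain ⟨g, hg⟩ := MulAction.exists_smul_eq PO P' P₀
  have hmem : ∀ y ∈ (P : Subgroup PO), g * φ y * g⁻¹ ∈ (P₀ : Subgroup PO) := by
    intro y hy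
    rw [← hg]
    show g * φ y * g⁻¹ ∈ MulAut.conj g • (P' : Subgroup PO)
    exact ⟨φ y, ⟨y, hy, rfl⟩, rfl⟩
  have hsurj : ∀ z ∈ (P₀ : Subgroup PO), ∃ y ∈ (P : Subgroup PO), z = g * φ y * g⁻¹ := by
    intro z hz
    rw [← hg] at hz
    change z ∈ MulAut.conj g • (P' : Subgroup PO) at hz
    obtain ⟨_, ⟨y, hy, rfl⟩, rfl⟩ := hz
    exact ⟨y, hy, rfl⟩
  obtain ⟨s, hs, -, hsz⟩ := hP₀ _ (hmem _ hrP) (fun e => root_pr_ne_one S p hr (φ.injective (by
    rw [map_one]; exact (conj_eq_one_iff).1 e))) fun z hz => by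
    obtain ⟨y, hy, rfl⟩ := hsurj z hz
    exact ((hrc y hy).map φ.toMonoidHom).map (MulAut.conj g).toMonoidHom
  obtain ⟨g', rfl⟩ := QuotientGroup.mk'_surjective _ g
  refine ⟨g'⁻¹ * s * g', by simpa using hs.conj S g'⁻¹, ?_⟩
  rw [map_mul, map_mul, map_inv, hsz]
  group

end Cfsg.Agent.AutPOmega
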