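import Cfsg.Agent.Lib.AutPOmega.Semilinear
import Cfsg.Prelude.Def_LieTypeDatum

/-!
# Automorphisms of `PΩ` are induced by semilinear similitudes

Outside the hyperbolic space of dimension eight every automorphism of `PΩ` in dimension at least
seven is conjugation by a semilinear similitude.
-/

set_option autoImplicit false
set_option linter.unusedSectionVars false

namespace Cfsg.Agent.AutPOmega

open scoped commutatorElement Matrix
open Cfsg.Agent Cfsg.Agent.TransvMax Cfsg.Agent.QMax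
open Cfsg.Agent.OrthSimple (Om sg)

variable {ι : Type} [Fintype ι] [DecidableEq ι] {F : Type*} [Field F] [Finite F]
  {Q : QuadraticForm F (ι → F)}

local notation "V" => ι → F
local notation "OmQ" => Om (Q := Q)
local notation "PO" => Om (Q := Q) ⧸ Subgroup.center (Om (Q := Q))
local notation "pr" => QuotientGroup.mk' (Subgroup.center (Om (Q := Q)))

/-- Conjugation by a semilinear similitude preserves the derived group. -/
theorem exists_conj {T : V → V} {σ : F ≃+* F} {c : F} (hbij : Function.Bijective T)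
    (hadd : ∀ x y, T (x + y) = T x + T y) (hsmul : ∀ (t : F) x, T (t • x) = σ t • T x)
    (hQ : ∀ x, Q (T x) = c * σ (Q x)) (g : OmQ) :
    ∃ g' : OmQ, ∀ x, g'.1 (T x) = T (g.1 x) := by
  obtain ⟨Te, rfl⟩ : ∃ Te : V ≃ V, ⇑Te = T := ⟨Equiv.ofBijective T hbij, rfl⟩
  have hinv : ∀ x y, Te.symm (x + y) = Te.symm x + Te.symm y := fun x y => Te.injective (by
    rw [hadd]; simp)
  have hinv' : ∀ (t : F) x, Te.symm (t • x) = σ.symm t • Te.symm x := fun t x => Te.injective (by
    rw [hsmul]; simp)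
  let lin : ((ι → F) ≃ₗ[F] (ι → F)) →* ((ι → F) ≃ₗ[F] (ι → F)) :=
    { toFun := fun h =>
        { toFun := fun x => Te (h (Te.symm x))
          map_add' := fun x y => by rw [hinv, map_add, hadd]
          map_smul' := fun t x => by rw [hinv', map_smul, hsmul, σ.apply_symm_apply]; rfl
          invFun := fun x => Te (h.symm (Te.symm x))
          left_inv := fun x => by simp
          right_inv := fun x => by simp }
      map_one' := LinearEquiv.ext fun x => Te.apply_symm_apply x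
      map_mul' := fun h k => LinearEquiv.ext fun x => by
        show Te (h (k (Te.symm x))) = Te (h (Te.symm (Te (k (Te.symm x)))))
        rw [Te.symm_apply_apply] }
  have hle : (FormsLib.oGroup Q).map lin ≤ FormsLib.oGroup Q := by
    rintro _ ⟨h, hh, rfl⟩ x
    show Q (Te (h (Te.symm x))) = Q x
    rw [hQ, hh, ← hQ, Te.apply_symm_apply]
  have hmem : lin g.1 ∈ Om (Q := Q) := by
    have h1 : lin g.1 ∈ (Om (Q := Q)).map lin := ⟨g.1, g.2, rfl⟩
    rw [show (Om (Q := Q)).map lin = ⁅(FormsLib.oGroup Q).map lin, (FormsLib.oGroup Q).map lin⁆ from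
      Subgroup.map_commutator _ _ _] at h1
    exact Subgroup.commutator_mono hle hle h1
  exact ⟨⟨lin g.1, hmem⟩, fun x => by
    show Te (g.1 (Te.symm (Te x))) = Te (g.1 x)
    rw [Te.symm_apply_apply]⟩

variable (S : QSetting Q)
  (h8 : Fintype.card ι = 8 → ∀ W : Submodule F (ι → F), (∀ x ∈ W, Q x = 0) → Module.finrank F W ≤ 3)

include S h8

/-- Automorphisms of the projective derived group come from semilinear similitudes. -/
theorem exists_semilinear_of_aut (φ : MulAut PO) :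
    ∃ (T : V → V) (σ : F ≃+* F) (c : F), c ≠ 0 ∧ Function.Bijective T ∧
      (∀ x y, T (x + y) = T x + T y) ∧ (∀ (t : F) x, T (t • x) = σ t • T x) ∧
      (∀ x, Q (T x) = c * σ (Q x)) ∧
      ∀ g g' : OmQ, (∀ x, g'.1 (T x) = T (g.1 x)) → φ (pr g) = pr g' := by
  haveI : Fintype F := Fintype.ofFinite F
  haveI : Fact (ringChar F).Prime := ⟨CharP.char_is_prime F (ringChar F)⟩
  set p := ringChar F
  obtain ⟨T, σ, c, hc, hbij, hadd, hsmul, hQ, hT⟩ := exists_semilinear S (polarMap_pointMap S p h8 φ)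
  refine ⟨T, σ, c, hc, hbij, hadd, hsmul, hQ, fun g g' hg' => ?_⟩
  obtain ⟨h, hh⟩ := QuotientGroup.mk'_surjective (Subgroup.center OmQ) (φ (pr g))
  rw [← hh]
  set f := pointMap S p h8 φ
  have hline : ∀ X : LineT Q, ∃ X' : LineT Q, X'.1 = X.1.map (g.1 : V →ₗ[F] V) ∧
      (lineMap S p φ X').1 = (lineMap S p φ X).1.map (h.1 : V →ₗ[F] V) := by
    intro X
    obtain ⟨r, hr, hrX⟩ := exists_root_of_ts2 S X.2
    obtain ⟨s, hs, ers, hsX⟩ := lineMap_spec S p φ X hr hrX
    refine ⟨⟨mv (g * r * g⁻¹), (hr.conj S g).ts2 S⟩, by rw [← hrX]; exact mv_conj S g r, ?_⟩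
    obtain ⟨s', hs', e', hsX'⟩ := lineMap_spec S p φ ⟨mv (g * r * g⁻¹), (hr.conj S g).ts2 S⟩
      (hr.conj S g) rfl
    rw [← hsX', ← hsX, ← mv_conj S h s]
    have e1 : pr s' = pr (h * s * h⁻¹) := by
      rw [← e', map_mul, map_mul, map_inv, map_mul, map_mul, map_inv, map_mul, map_mul, map_inv,
        ← hh, ers]
    rw [eq_of_pr S p (hs'.pow_char S p) ((hs.conj S h).pow_char S p) e1]
  have hfix : ∀ x, x ≠ 0 → Q x = 0 → ∃ k : F, ((g'⁻¹ * h : OmQ).1) x = k • x := by
    intro x hx hQx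
    obtain ⟨a, rfl⟩ := hbij.2 x
    have hT0 : T 0 = 0 := by have := hsmul 0 0; rwa [smul_zero, map_zero, zero_smul] at this
    have ha : a ≠ 0 := fun e => hx (by rw [e, hT0])
    have hQa : Q a = 0 := by
      rw [hQ] at hQx
      exact (map_eq_zero σ).1 ((mul_eq_zero.1 hQx).resolve_left hc)
    have hga : g.1 a ≠ 0 := fun e => ha (g.1.map_eq_zero_iff.1 e)
    have hQga : Q (g.1 a) = 0 := by rw [OrthSimple.mem_oGroup_of_mem_Om g.2 a, hQa]
    obtain ⟨⟨hfa, hQfa⟩, hstar⟩ := pointMap_spec S p h8 φ ha hQa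
    obtain ⟨⟨hfga, hQfga⟩, hstar'⟩ := pointMap_spec S p h8 φ hga hQga
    have hpt : h.1 (f a) ∈ Submodule.span F {f (g.1 a)} := by
      refine point_ext S hfga hQfga fun Y hY => ?_
      obtain ⟨X', rfl⟩ := (lineMap S p φ).surjective Y
      have hgaX : g.1 a ∈ X'.1 := (hstar' X').2 hY
      obtain ⟨r, hr, hrX⟩ := exists_root_of_ts2 S X'.2
      obtain ⟨X'', hX1, hX2⟩ := hline ⟨mv (g⁻¹ * r * g⁻¹⁻¹), (hr.conj S g⁻¹).ts2 S⟩
      have hXe : X'' = X' := Subtype.ext (by
        rw [hX1, ← hrX]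
        show (mv (g⁻¹ * r * g⁻¹⁻¹)).map _ = _
        rw [← mv_conj S]
        congr 1
        group)
      subst hXe
      rw [hX2]
      refine ⟨f a, (hstar _).1 ?_, rfl⟩
      have hmem : g.1 a ∈ (mv (g⁻¹ * r * g⁻¹⁻¹)).map (g.1 : V →ₗ[F] V) := hX1 ▸ hgaX
      obtain ⟨y, hy, hye⟩ := hmem
      exact g.1.injective hye ▸ hy
    obtain ⟨k, hk⟩ := Submodule.mem_span_singleton.1 (hT a ha hQa)
    obtain ⟨k', hk'⟩ := Submodule.mem_span_singleton.1 (hT _ hga hQga)
    obtain ⟨l, hl⟩ := Submodule.mem_span_singleton.1 hpt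
    have hk'0 : k' ≠ 0 := fun e => hga (hbij.1 (by rw [← hk', e, zero_smul, hT0]))
    refine ⟨k * l * k'⁻¹, g'.1.injective ?_⟩
    show g'.1 (g'.1.symm (h.1 (T a))) = g'.1 ((k * l * k'⁻¹) • T a)
    rw [LinearEquiv.apply_symm_apply, map_smul, hg', ← hk, ← hk', map_smul, smul_smul,
      inv_mul_cancel_right₀ hk'0, ← smul_smul]
    exact congrArg (k • ·) hl.symm
  obtain ⟨k, hk⟩ := OrthSimple.scalar_of_fix_singular S (g'⁻¹ * h : OmQ).1 hfix
  exact ((QuotientGroup.mk'_eq_mk' _).2 ⟨g'⁻¹ * h, OrthSimple.mem_center_of_scalar S hk, by group⟩).symm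

omit h8 S

theorem exists_omEquiv :
    ∃ e : Cfsg.Omega F ⇑Q ≃* OmQ, ∀ s v,
      (e s).1 v = (((s : Cfsg.isometryGroup F ⇑Q) : GL ι F) : Matrix ι ι F) *ᵥ v := by
  let e := FormsLib.oEquiv Q
  let f : Cfsg.isometryGroup F ⇑Q →* ((ι → F) ≃ₗ[F] (ι → F)) :=
    (FormsLib.oGroup Q).subtype.comp e.toMonoidHom
  have hf : Function.Injective f := Subtype.val_injective.comp e.injective
  have hr : (⊤ : Subgroup (Cfsg.isometryGroup F ⇑Q)).map f = FormsLib.oGroup Q := by
    ext g
    exact ⟨fun ⟨x, _, hx⟩ => hx ▸ (e x).2, fun hg => ⟨e.symm ⟨g, hg⟩, Subgroup.mem_top _,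
      congrArg Subtype.val (e.apply_symm_apply ⟨g, hg⟩)⟩⟩
  have h : (commutator (Cfsg.isometryGroup F ⇑Q)).map f = Om (Q := Q) := by
    rw [_root_.commutator_def, Subgroup.map_commutator, hr]
  exact ⟨(Subgroup.equivMapOfInjective _ f hf).trans (MulEquiv.subgroupCongr h), fun s v => rfl⟩

include S h8

/-- Every automorphism of `PΩ(Q)` is induced by a semisimilarity. -/
theorem exists_pair {f : V → F} (hf : ⇑Q = f) (β : MulAut (Cfsg.POmega F f)) :
    ∃ (g : GL ι F) (σ : F ≃+* F),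
      Cfsg.IsSemisimilarityPair f g σ ∧ Cfsg.IsInducedBySemilinearPOmega f g σ β := by
  subst hf
  obtain ⟨e, he⟩ := exists_omEquiv (Q := Q)
  let e' := QuotientGroup.congr (Subgroup.center (Cfsg.Omega F ⇑Q)) (Subgroup.center OmQ) e
    (by
      refine le_antisymm ?_ fun z hz => ⟨e.symm z, Subgroup.mem_center_iff.2 fun x => ?_, e.apply_symm_apply z⟩
      · rintro _ ⟨z, hz, rfl⟩
        refine Subgroup.mem_center_iff.2 fun x => ?_
        obtain ⟨x, rfl⟩ := e.surjective x
        show e x * e z = e z * e x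
        rw [← map_mul, ← map_mul, Subgroup.mem_center_iff.1 hz x]
      · apply e.injective
        rw [map_mul, map_mul, e.apply_symm_apply, Subgroup.mem_center_iff.1 hz (e x)])
  obtain ⟨T, σ, c, hc, hbij, hadd, hsmul, hQ, hφ⟩ :=
    exists_semilinear_of_aut S h8 ((e'.symm.trans β).trans e')
  let L : V →ₗ[F] V :=
    { toFun := fun x => T fun i => σ.symm (x i)
      map_add' := fun x y => by rw [← hadd]; congr 1; funext i; simp
      map_smul' := fun t x => by
        rw [RingHom.id_apply, ← σ.apply_symm_apply t, ← hsmul, σ.apply_symm_apply]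
        congr 1; funext i; simp }
  have hL : ∀ x, L (fun i => σ (x i)) = T x := fun x => congrArg T (funext fun i => by simp)
  have hLi : Function.Injective L := fun x y hxy => funext fun i =>
    σ.symm.injective (congrFun (hbij.1 hxy) i)
  let Le : V ≃ₗ[F] V := LinearEquiv.ofInjectiveEndo L hLi
  let A : GL ι F :=
    Matrix.GeneralLinearGroup.toLin.symm (LinearMap.GeneralLinearGroup.ofLinearEquiv Le)
  have hA : ∀ x, (A : Matrix ι ι F) *ᵥ x = L x := fun x => LinearMap.toMatrix'_mulVec _ _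
  refine ⟨A, σ, ⟨Units.mk0 c hc, fun v => by rw [hA, hL, hQ]; rfl⟩, fun s s' hs => ?_⟩
  apply e'.injective
  have h1 := hφ (e s) (e s') fun x => by
    rw [he, he, ← hL x, ← hA, hs, Matrix.mulVec_mulVec, Matrix.mul_assoc, ← Units.val_mul,
      inv_mul_cancel, Units.val_one, Matrix.mul_one, ← Matrix.mulVec_mulVec, ← hL]
    rw [← hA]
    congr 1
    funext i
    exact (RingHom.map_mulVec (σ : F →+* F) _ _ i).symm
  have h2 : e'.symm (pr (e s)) = QuotientGroup.mk s := e'.injective (by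
    rw [e'.apply_symm_apply]; rfl)
  rw [MulEquiv.trans_apply, MulEquiv.trans_apply, h2] at h1
  exact h1

theorem gammaPOmega_eq_top {f : V → F} (hf : ⇑Q = f) :
    Cfsg.gammaPOmega F f = ⊤ := by
  refine (Subgroup.eq_top_iff' _).2 fun β => ?_
  obtain ⟨g, σ, h1, h2⟩ := exists_pair S h8 hf β
  exact Subgroup.subset_closure ⟨g, σ, h1, h2⟩

end Cfsg.Agent.AutPOmega
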