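import Cfsg.Agent.Lib.AutPOmega.Semi
import Cfsg.Prelude.Def_KGroupFacts

/-!
# The order and the named subgroups of the automorphism group of `PΩ`
-/

set_option autoImplicit false
set_option linter.unusedSectionVars false

namespace Cfsg.Agent.AutPOmega

open scoped Matrix
open Cfsg.Agent Cfsg.Agent.TransvMax Cfsg.Agent.QMax

variable {ι : Type} [Fintype ι] [DecidableEq ι] {F : Type*} [Field F] [Finite F]
  {Q : QuadraticForm F (ι → F)}

local notation "V" => ι → F
local notation "SimQ" => Cfsg.Geo.quadSimilarityGroup (F := F) (DFunLike.coe Q)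
local notation "IsoQ" => Cfsg.isometryGroup F (DFunLike.coe Q)

theorem scalar_mem_sim (c : Fˣ) :
    Matrix.GeneralLinearGroup.scalar ι c ∈ SimQ := ⟨c * c, fun v => by
  rw [show ((Matrix.GeneralLinearGroup.scalar ι c : GL ι F) : Matrix ι ι F) *ᵥ v = (c : F) • v by
    simp [Matrix.GeneralLinearGroup.scalar, ← Matrix.smul_one_eq_diagonal, Matrix.smul_mulVec],
    QuadraticMap.map_smul, Units.val_mul, smul_eq_mul]⟩

/-- The scalars as similarities. -/
def scalSim : Fˣ →* SimQ :=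
  MonoidHom.mk' (fun c => ⟨Matrix.GeneralLinearGroup.scalar ι c, scalar_mem_sim c⟩)
    fun a b => Subtype.ext (map_mul (Matrix.GeneralLinearGroup.scalar ι) a b)

theorem scalSim_apply (c : Fˣ) (x : V) :
    (ofSim (scalSim (Q := Q) c)).1 x = (c : F) • x := by
  rw [ofSim_apply]
  show ((Matrix.GeneralLinearGroup.scalar ι c : GL ι F) : Matrix ι ι F) *ᵥ x = _
  simp [Matrix.GeneralLinearGroup.scalar, ← Matrix.smul_one_eq_diagonal, Matrix.smul_mulVec]

/-- Similarities acting on `PΩ`. -/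
noncomputable def simAut : SimQ →* MulAut (Cfsg.POmega F ⇑Q) := theta.comp ofSim

/-- Isometries acting on `PΩ`. -/
noncomputable def isoAut : IsoQ →* MulAut (Cfsg.POmega F ⇑Q) :=
  simAut.comp (Subgroup.inclusion isometry_le_sim)

theorem ofPair_sim (g : SimQ) :
    ∃ h : Cfsg.IsSemisimilarityPair (⇑Q) g.1 (RingEquiv.refl F), ofPair h = ofSim g := by
  obtain ⟨c, hc⟩ := g.2
  exact ⟨⟨c, fun v => hc v⟩, Subtype.ext (Equiv.ext fun x => rfl)⟩

theorem induced_sim_iff (g : SimQ) (β : MulAut (Cfsg.POmega F ⇑Q)) :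
    Cfsg.IsInducedBySemilinearPOmega (⇑Q) g.1 (RingEquiv.refl F) β ↔ β = simAut g := by
  obtain ⟨h, e⟩ := ofPair_sim g
  rw [induced_iff h, e]
  rfl

theorem pgoAut_eq : Cfsg.pgoAut F ⇑Q = (simAut (Q := Q)).range := by
  have : {β : MulAut (Cfsg.POmega F ⇑Q) | Cfsg.IsSimilarityInducedAutPOmega ⇑Q β} =
      ((simAut (Q := Q)).range : Set (MulAut (Cfsg.POmega F ⇑Q))) := by
    refine Set.ext fun β => ⟨?_, ?_⟩
    · rintro ⟨g, hg, h⟩
      exact ⟨⟨g, hg⟩, ((induced_sim_iff ⟨g, hg⟩ β).1 h).symm⟩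
    · rintro ⟨g, rfl⟩
      exact ⟨g, g.2, (induced_sim_iff g _).2 rfl⟩
  show Subgroup.closure _ = _
  rw [this, Subgroup.closure_eq]

theorem poAut_eq : Cfsg.poAut F ⇑Q = (isoAut (Q := Q)).range := by
  have : {β : MulAut (Cfsg.POmega F ⇑Q) | Cfsg.IsIsometryInducedAutPOmega ⇑Q β} =
      ((isoAut (Q := Q)).range : Set (MulAut (Cfsg.POmega F ⇑Q))) := by
    refine Set.ext fun β => ⟨?_, ?_⟩
    · rintro ⟨g, hg, h⟩
      exact ⟨⟨g, hg⟩, ((induced_sim_iff (Subgroup.inclusion isometry_le_sim ⟨g, hg⟩) β).1 h).symm⟩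
    · rintro ⟨g, rfl⟩
      exact ⟨g, g.2, (induced_sim_iff (Subgroup.inclusion isometry_le_sim g) _).2 rfl⟩
  show Subgroup.closure _ = _
  rw [this, Subgroup.closure_eq]

theorem psoAut_eq :
    Cfsg.psoAut F ⇑Q = ((Cfsg.specialIsometryGroup F ⇑Q).map (isoAut (Q := Q))) := by
  have : {β : MulAut (Cfsg.POmega F ⇑Q) | Cfsg.IsSpecialIsometryInducedAutPOmega ⇑Q β} =
      ((Cfsg.specialIsometryGroup F ⇑Q).map (isoAut (Q := Q)) : Set (MulAut (Cfsg.POmega F ⇑Q))) := by
    refine Set.ext fun β => ⟨?_, ?_⟩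
    · rintro ⟨g, ⟨hg, hd⟩, h⟩
      exact ⟨⟨g, hg⟩, hd, ((induced_sim_iff (Subgroup.inclusion isometry_le_sim ⟨g, hg⟩) β).1 h).symm⟩
    · rintro ⟨g, hg, rfl⟩
      exact ⟨g, ⟨g.2, hg⟩, (induced_sim_iff (Subgroup.inclusion isometry_le_sim g) _).2 rfl⟩
  show Subgroup.closure _ = _
  rw [this, Subgroup.closure_eq]

theorem isoAut_omega (t : Cfsg.Omega F ⇑Q) :
    isoAut (t : IsoQ) = MulAut.conj (QuotientGroup.mk t : Cfsg.POmega F ⇑Q) := theta_omSim t

theorem inn_eq : Cfsg.Inn (Cfsg.POmega F ⇑Q) = (Cfsg.Omega F ⇑Q).map (isoAut (Q := Q)) := by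
  refine le_antisymm ?_ ?_
  · rintro _ ⟨x, rfl⟩
    induction x using QuotientGroup.induction_on with
    | H s => exact ⟨s, s.2, isoAut_omega s⟩
  · rintro _ ⟨g, hg, rfl⟩
    exact ⟨QuotientGroup.mk ⟨g, hg⟩, (isoAut_omega ⟨g, hg⟩).symm⟩

variable (S : QSetting Q)

include S

theorem ker_theta : (theta (Q := Q)).ker = (ofSim.comp (scalSim (Q := Q))).range := by
  refine le_antisymm (fun T hT => ?_) ?_
  · obtain ⟨a, ha, h⟩ := (theta_eq_one_iff S T).1 hT
    exact ⟨Units.mk0 a ha, Subtype.ext (Equiv.ext fun x => (scalSim_apply _ x).trans (h x).symm)⟩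
  · rintro _ ⟨c, rfl⟩
    exact (theta_eq_one_iff S _).2 ⟨c, c.ne_zero, fun x => scalSim_apply c x⟩

theorem simAut_eq_one_iff (g : SimQ) : simAut g = 1 ↔ g ∈ (scalSim (Q := Q)).range := by
  show ofSim g ∈ (theta (Q := Q)).ker ↔ _
  rw [ker_theta S, MonoidHom.range_comp]
  exact ⟨fun ⟨x, hx, e⟩ => ofSim_injective e ▸ hx, fun h => ⟨g, h, rfl⟩⟩

theorem isoAut_eq_one_iff (g : IsoQ) :
    isoAut g = 1 ↔ ∃ a : F, ∀ x, (g.1 : Matrix ι ι F) *ᵥ x = a • x := by
  show theta (ofSim (Subgroup.inclusion isometry_le_sim g)) = 1 ↔ _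
  rw [theta_eq_one_iff S]
  refine ⟨fun ⟨a, _, h⟩ => ⟨a, h⟩, fun ⟨a, h⟩ => ⟨a, fun e => ?_, h⟩⟩
  obtain ⟨x, hx⟩ := exists_quad_one_ne S
  have h2 : Q ((g.1 : Matrix ι ι F) *ᵥ x) = Q x := g.2 x x
  exact hx (by rw [← h2, h, e, zero_smul, map_zero])

theorem ker_sigHom : (sigHom S).ker = (ofSim (Q := Q)).range := by
  refine le_antisymm (fun T hT => ?_) ?_
  · have hσ : sigT T = RingEquiv.refl F := hT
    obtain ⟨g, h, e⟩ := exists_pair_of_semi T
    obtain ⟨c, hc⟩ := h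
    refine ⟨⟨g, c, fun v => ?_⟩, ?_⟩
    · have := hc v
      simp only [hσ] at this
      exact this
    · refine Subtype.ext (Equiv.ext fun x => ?_)
      show (g : Matrix ι ι F) *ᵥ x = T.1 x
      refine Eq.trans ?_ (congrArg (fun U : SemiT Q => U.1 x) e)
      show (g : Matrix ι ι F) *ᵥ x = (g : Matrix ι ι F) *ᵥ fun i => sigT T (x i)
      simp only [hσ]
      rfl
  · rintro _ ⟨g, rfl⟩
    obtain ⟨c, hc⟩ := g.2
    exact sigT_eq S (c := c) ⟨c.ne_zero, fun x y => Matrix.mulVec_add _ x y,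
      fun t x => Matrix.mulVec_smul _ t x, hc⟩

/-- The multiplier of a similarity. -/
noncomputable def simMul : SimQ →* Fˣ :=
  MonoidHom.mk' (fun g => g.2.choose) fun g h => by
    obtain ⟨x, hx⟩ := exists_quad_one_ne S
    have e := (g * h).2.choose_spec x
    have l : Q (((g * h : SimQ).1 : Matrix ι ι F) *ᵥ x) = (g.2.choose : F) * h.2.choose * Q x := by
      show Q (((g.1 : Matrix ι ι F) * (h.1 : Matrix ι ι F)) *ᵥ x) = _
      rw [← Matrix.mulVec_mulVec, g.2.choose_spec, h.2.choose_spec, mul_assoc]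
    exact Units.ext ((mul_right_cancel₀ hx (e.symm.trans l)).trans (Units.val_mul _ _).symm)

theorem simMul_spec (g : SimQ) (v : V) : Q ((g.1 : Matrix ι ι F) *ᵥ v) = (simMul S g : F) * Q v :=
  g.2.choose_spec v

theorem simMul_eq {g : SimQ} {c : F} (h : ∀ v, Q ((g.1 : Matrix ι ι F) *ᵥ v) = c * Q v) :
    (simMul S g : F) = c := by
  obtain ⟨x, hx⟩ := exists_quad_one_ne S
  exact mul_right_cancel₀ hx ((simMul_spec S g x).symm.trans (h x))

theorem ker_simMul : (simMul S).ker = (Subgroup.inclusion (isometry_le_sim (Q := Q))).range := by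
  refine le_antisymm (fun g hg => ?_) ?_
  · refine ⟨⟨g.1, fun v _ => ?_⟩, rfl⟩
    show Q ((g.1 : Matrix ι ι F) *ᵥ v) = Q v
    rw [simMul_spec S g v, show simMul S g = 1 from hg, Units.val_one, one_mul]
  · rintro _ ⟨g, rfl⟩
    exact Units.ext ((simMul_eq S (c := 1) fun v => (g.2 v v).trans (one_mul _).symm).trans Units.val_one.symm)

theorem card_sim : Nat.card SimQ = Nat.card IsoQ * Nat.card (simMul S).range := by
  rw [Subgroup.card_eq_card_quotient_mul_card_subgroup (simMul S).ker,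
    Nat.card_congr (QuotientGroup.quotientKerEquivRange (simMul S)).toEquiv, ker_simMul S, mul_comm]
  congr 1
  exact (Nat.card_congr (MonoidHom.ofInjective (Subgroup.inclusion_injective _)).toEquiv).symm

variable (h8 : Fintype.card ι = 8 → ∀ W : Submodule F (ι → F), (∀ x ∈ W, Q x = 0) → Module.finrank F W ≤ 3)

include h8

theorem card_aut : Nat.card (MulAut (Cfsg.POmega F ⇑Q)) * (Nat.card F - 1) =
    Nat.card IsoQ * Nat.card (simMul S).range * Nat.card (sigHom S).range := by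
  have hd := S.dim
  obtain ⟨i⟩ : Nonempty ι := Fintype.card_pos_iff.1 (by omega)
  have h1 := Subgroup.card_eq_card_quotient_mul_card_subgroup (theta (Q := Q)).ker
  rw [Nat.card_congr (QuotientGroup.quotientKerEquivOfSurjective _ (theta_surjective S h8)).toEquiv,
    ker_theta S] at h1
  have h2 := Subgroup.card_eq_card_quotient_mul_card_subgroup (sigHom S).ker
  rw [Nat.card_congr (QuotientGroup.quotientKerEquivRange _).toEquiv, ker_sigHom S,
    ← Nat.card_congr (MonoidHom.ofInjective (ofSim_injective (Q := Q))).toEquiv, card_sim S] at h2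
  have hinj : Function.Injective (ofSim.comp (scalSim (Q := Q))) := fun a b hab => by
    have h3 : scalSim (Q := Q) a = scalSim b := ofSim_injective hab
    refine Units.ext ?_
    have h4 := congrFun (congrFun (congrArg (fun g : SimQ => (g.1 : Matrix ι ι F)) h3) i) i
    simpa [scalSim, Matrix.GeneralLinearGroup.scalar] using h4
  rw [← Nat.card_units, Nat.card_congr (MonoidHom.ofInjective hinj).toEquiv, ← h1, h2, mul_comm]

end Cfsg.Agent.AutPOmega
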