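import Cfsg.Agent.Lib.AutPOmega.Out
import Cfsg.Agent.Lib.AutPSL.Descent
import Cfsg.Agent.Lib.Spinor.F2Forms

/-!
# Galois descent for semilinear similitudes

A semilinear similitude whose action has the order of its field automorphism is, after a change of
basis, the coordinatewise field automorphism, and then the form is defined over the fixed field up to
a scalar.
-/

set_option autoImplicit false
set_option linter.unusedSectionVars false

namespace Cfsg.Agent.AutPOmega

open scoped Matrix
open Cfsg.Agent Cfsg.Agent.TransvMax Cfsg.Agent.QMax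
open Cfsg.Agent.AutPSL (cyc uMap)

variable {ι : Type} [Fintype ι] [DecidableEq ι] {F : Type*} [Field F] [Fintype F]
  {Q : QuadraticForm F (ι → F)}

local notation "V" => ι → F

theorem cyc_one {G : Type*} [Group G] (θ : G →* G) : ∀ i, cyc θ 1 i = 1
  | 0 => rfl
  | i + 1 => by rw [cyc, cyc_one θ i, map_one, one_mul]

theorem cyc_inv {A : Type*} [CommGroup A] (θ : A →* A) (a : A) (i : ℕ) :
    cyc θ a⁻¹ i = (cyc θ a i)⁻¹ := by
  refine eq_inv_of_mul_eq_one_left ?_
  rw [← AutPSL.cyc_comm, inv_mul_cancel, cyc_one]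

theorem scal_mul_apply (l : Fˣ) (T : SemiT Q) (x : V) :
    (ofSim (scalSim l) * T).1 x = (l : F) • T.1 x := scalSim_apply l _

theorem scal_mul_pow (l : Fˣ) (T : SemiT Q) (x : V) : ∀ i,
    ((ofSim (scalSim l) * T) ^ i).1 x = ((cyc (uMap (sigT T)) l i : Fˣ) : F) • (T ^ i).1 x
  | 0 => by simp [cyc]
  | i + 1 => by
    rw [pow_succ', pow_succ']
    show (ofSim (scalSim l) * T).1 (((ofSim (scalSim l) * T) ^ i).1 x) = _ • T.1 ((T ^ i).1 x)
    rw [scal_mul_pow l T x i, scal_mul_apply, (semi_spec T).smul, smul_smul, cyc, Units.val_mul]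
    rfl

/-- The coordinate map of a field automorphism of `GL`. -/
def glSig (σ : F ≃+* F) : GL ι F →* GL ι F := Matrix.GeneralLinearGroup.map (σ : F →+* F)

theorem glSig_mulVec (σ : F ≃+* F) (A : GL ι F) (x : V) :
    ((glSig σ A : GL ι F) : Matrix ι ι F) *ᵥ (fun i => σ (x i)) =
      fun i => σ (((A : Matrix ι ι F) *ᵥ x) i) :=
  funext fun i => (RingHom.map_mulVec (σ : F →+* F) (A : Matrix ι ι F) x i).symm

theorem exists_descent_ι (σ : F ≃+* F) (hr : 0 < orderOf σ) (g : GL ι F)
    (hg : cyc (glSig σ) g (orderOf σ) = 1) : ∃ h : GL ι F, g * glSig σ h = h := by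
  let e : GL ι F ≃* GL (Fin (Fintype.card ι)) F :=
    Units.mapEquiv (Matrix.reindexAlgEquiv F F (Fintype.equivFin ι)).toMulEquiv
  have he : ∀ x, e (glSig σ x) = AutPSL.glMap σ (e x) := fun x => by
    apply Units.ext; ext i j; rfl
  obtain ⟨h, hh⟩ := AutPSL.exists_descent σ hr (e g) (by
    show cyc (AutPSL.glMap σ) (e.toMonoidHom g) _ = 1
    rw [← AutPSL.map_cyc (glSig σ) (AutPSL.glMap σ) e.toMonoidHom he, hg, map_one])
  refine ⟨e.symm h, e.injective ?_⟩
  rw [map_mul, he, e.apply_symm_apply, hh]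

variable (S : QSetting Q)

include S

/-- Fixing the scalar so that the semilinear map has the order of its field automorphism. -/
theorem exists_normalised (T : SemiT Q) {r : ℕ} (hr : orderOf (sigHom S T) = r) (hr0 : 0 < r)
    (h : theta T ^ r = 1) :
    ∃ T' : SemiT Q, theta T' = theta T ∧ sigHom S T' = sigHom S T ∧ T' ^ r = 1 := by
  obtain ⟨c, hc0, hc⟩ := (theta_eq_one_iff S (T ^ r)).1 (by rw [map_pow, h])
  obtain ⟨x, hx⟩ := exists_quad_one_ne S
  have hfix : sigT T c = c := by
    have hx0 : T.1 x ≠ 0 := fun e => hx (by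
      have h1 := (semi_spec T).quad x
      rw [e, map_zero] at h1
      exact (map_eq_zero _).1 ((mul_eq_zero.1 h1.symm).resolve_left (semi_spec T).ne))
    refine smul_left_injective F hx0 ?_
    show sigT T c • T.1 x = c • T.1 x
    rw [← (semi_spec T).smul, ← hc, ← hc]
    show (T * T ^ r).1 x = (T ^ r * T).1 x
    rw [← pow_succ', ← pow_succ]
  obtain ⟨l, hl⟩ := AutPSL.exists_norm_eq (sigT T) (by rw [← sigHom_apply S, hr]; exact hr0)
    (Units.mk0 c hc0) (Units.ext hfix)
  refine ⟨ofSim (scalSim l⁻¹) * T, ?_, ?_, Subtype.ext (Equiv.ext fun y => ?_)⟩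
  · rw [map_mul, show theta (ofSim (scalSim (Q := Q) l⁻¹)) = 1 from
      (theta_eq_one_iff S _).2 ⟨(l⁻¹ : Fˣ), Units.ne_zero _, fun z => scalSim_apply _ z⟩, one_mul]
  · rw [map_mul, (sig_eq_one_iff S).2 ⟨_, rfl⟩, one_mul]
  · rw [scal_mul_pow, cyc_inv, hc, ← hr, sigHom_apply S, hl, smul_smul, Units.val_inv_eq_inv_val,
      Units.val_mk0, inv_mul_cancel₀ hc0, one_smul]
    rfl

/-- A basis in which a semilinear similitude of finite order is the field automorphism. -/
theorem exists_fixed_basis (T : SemiT Q) {r : ℕ} (hr : orderOf (sigHom S T) = r) (hr0 : 0 < r)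
    (h : T ^ r = 1) :
    ∃ H : GL ι F, ∀ x, T.1 ((H : Matrix ι ι F) *ᵥ x) = (H : Matrix ι ι F) *ᵥ fun i => sigT T (x i) := by
  obtain ⟨g, hg, hgT⟩ := exists_pair_of_semi T
  set σ := sigT T
  have happ : ∀ x, T.1 x = (g : Matrix ι ι F) *ᵥ fun i => σ (x i) := fun x => by
    rw [← ofPair_apply hg, hgT]
  have hpow : ∀ i x, (T ^ i).1 x =
      ((cyc (glSig σ) g i : GL ι F) : Matrix ι ι F) *ᵥ fun k => (σ ^ i) (x k) := by
    intro i
    induction i with
    | zero => intro x; simp [cyc]
    | succ i ih =>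
      intro x
      rw [pow_succ']
      show T.1 ((T ^ i).1 x) = _
      rw [ih, happ, ← glSig_mulVec, cyc, Units.val_mul, ← Matrix.mulVec_mulVec, pow_succ']
      rfl
  have hσr : orderOf σ = r := hr
  obtain ⟨H, hH⟩ := exists_descent_ι σ (by omega) g (by
    refine glPerm_injective (Equiv.ext fun x => ?_)
    have h1 := hpow r x
    rw [h, ← hσr, pow_orderOf_eq_one] at h1
    rw [map_one]
    exact h1.symm)
  refine ⟨H, fun x => ?_⟩
  rw [happ, ← glSig_mulVec, Matrix.mulVec_mulVec, ← Units.val_mul, hH]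

omit S

variable {F₀ : Type*} [Field F₀] (j : F₀ →+* F)

/-- Forms agreeing on the rational vectors agree. -/
theorem quad_ext_j {A B : QuadraticForm F V} (h : ∀ u : ι → F₀, A (fun i => j (u i)) = B fun i => j (u i))
    (x : V) : A x = B x := by
  have hb : ∀ k, (Pi.basisFun F ι k : V) = fun i => j ((Pi.single k (1 : F₀) : ι → F₀) i) := fun k => by
    funext i; simp [Pi.single_apply, apply_ite j]
  refine Spinor.quad_ext (Pi.basisFun F ι) A B (LinearEquiv.refl F V) (fun k => ?_) (fun k l => ?_) x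
  · rw [LinearEquiv.refl_apply, hb, h]
  · simp only [LinearEquiv.refl_apply, QuadraticMap.polar, hb, Pi.add_def, ← map_add, h]

/-- A form over the subfield from one whose rational values are rational. -/
theorem exists_restrict {A : QuadraticForm F V} (h : ∀ u : ι → F₀, A (fun i => j (u i)) ∈ j.range) :
    ∃ Q₀ : QuadraticForm F₀ (ι → F₀), ∀ u, j (Q₀ u) = A fun i => j (u i) := by
  choose f hf using h
  have hs : ∀ (t : F₀) (u : ι → F₀), (fun i => j ((t • u) i)) = j t • fun i => j (u i) := fun t u => by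
    funext i; simp
  have ha : ∀ u v : ι → F₀, (fun i => j ((u + v) i)) = (fun i => j (u i)) + fun i => j (v i) := fun u v => by
    funext i; simp
  have hp : ∀ u v : ι → F₀, j (QuadraticMap.polar f u v) =
      QuadraticMap.polar A (fun i => j (u i)) (fun i => j (v i)) := fun u v => by
    simp only [QuadraticMap.polar, map_sub, hf, ha]
  refine ⟨QuadraticMap.ofPolar f (fun t u => j.injective ?_) (fun u u' v => j.injective ?_)
    (fun t u v => j.injective ?_), hf⟩
  · rw [hf, hs, QuadraticMap.map_smul, smul_eq_mul, smul_eq_mul, map_mul, map_mul, hf]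
  · rw [hp, map_add, hp, hp, ha, QuadraticMap.polar_add_left]
  · rw [hp, hs, QuadraticMap.polar_smul_left, smul_eq_mul, smul_eq_mul, map_mul, hp]

include S

/-- **Descent**: the form over the fixed field. -/
theorem exists_descended (T : SemiT Q) {r : ℕ} (hr : orderOf (sigHom S T) = r) (hr0 : 0 < r)
    (h : T ^ r = 1) (hj : ∀ a, sigT T a = a ↔ a ∈ j.range) :
    ∃ (H : GL ι F) (b : Fˣ) (Q₀ : QuadraticForm F₀ (ι → F₀)),
      (∀ x, T.1 ((H : Matrix ι ι F) *ᵥ x) = (H : Matrix ι ι F) *ᵥ fun i => sigT T (x i)) ∧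
      (∀ u : ι → F₀, Q ((H : Matrix ι ι F) *ᵥ fun i => j (u i)) = (b : F) * j (Q₀ u)) ∧
      (QuadraticMap.polarBilin Q₀).Nondegenerate := by
  obtain ⟨H, hH⟩ := exists_fixed_basis S T hr hr0 h
  have hT := semi_spec T
  set σ := sigT T
  have hσr : orderOf σ = r := hr
  set μ := Units.mk0 (mulT T) hT.ne
  have hμ : cyc (uMap σ) μ r = 1 := by
    obtain ⟨x, hx⟩ := exists_quad_one_ne S
    have hit : ∀ i, Q ((T ^ i).1 x) = ((cyc (uMap σ) μ i : Fˣ) : F) * (σ ^ i) (Q x) := by
      intro i
      induction i with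
      | zero => simp [cyc]
      | succ i ih =>
        rw [pow_succ']
        show Q (T.1 ((T ^ i).1 x)) = _
        rw [hT.quad, ih, map_mul, cyc, Units.val_mul, pow_succ', mul_assoc]
        rfl
    have h1 := hit r
    rw [h, ← hσr, pow_orderOf_eq_one] at h1
    refine Units.ext (mul_right_cancel₀ hx ?_)
    rw [Units.val_one, one_mul, ← hσr]
    exact h1.symm
  obtain ⟨b, hb⟩ := AutPSL.exists_hilbert90 σ (by omega) μ (by rw [hσr]; exact hμ)
  let A : QuadraticForm F V := ((b⁻¹ : Fˣ) : F) • Q.comp (Matrix.mulVecLin (H : Matrix ι ι F))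
  have hA : ∀ x, A x = ((b⁻¹ : Fˣ) : F) * Q ((H : Matrix ι ι F) *ᵥ x) := fun x => rfl
  have hrat : ∀ u : ι → F₀, A (fun i => j (u i)) ∈ j.range := fun u => by
    refine (hj _).1 ?_
    have h1 : Q ((H : Matrix ι ι F) *ᵥ fun i => j (u i)) =
        mulT T * σ (Q ((H : Matrix ι ι F) *ᵥ fun i => j (u i))) := by
      conv_lhs => rw [show (fun i => j (u i)) = fun i => σ (j (u i)) from
        funext fun i => ((hj _).2 ⟨u i, rfl⟩).symm, ← hH, hT.quad]
    have hb' : mulT T = (b : F) * (σ b)⁻¹ := by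
      have := congrArg Units.val hb
      rw [Units.val_mul, Units.val_inv_eq_inv_val] at this
      exact this
    rw [hA, map_mul, Units.val_inv_eq_inv_val, map_inv₀]
    conv_rhs => rw [h1, hb']
    have := Units.ne_zero b
    field_simp
  obtain ⟨Q₀, hQ₀⟩ := exists_restrict j hrat
  refine ⟨H, b, Q₀, hH, fun u => ?_, OrthOrder.nondegenerate_iff.2 fun u hu => ?_⟩
  · rw [hQ₀, hA, Units.val_inv_eq_inv_val, mul_inv_cancel_left₀ b.ne_zero]
  · have h1 : ∀ k, QuadraticMap.polar A (fun i => j (u i)) (fun i => j ((Pi.single k (1 : F₀) : ι → F₀) i)) = 0 :=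
      fun k => by
        rw [show QuadraticMap.polar A (fun i => j (u i)) (fun i => j ((Pi.single k (1 : F₀) : ι → F₀) i)) =
          j (QuadraticMap.polar Q₀ u (Pi.single k 1)) by
            simp only [QuadraticMap.polar, map_sub, hQ₀]
            congr 3
            funext i; simp, hu, map_zero]
    have h2 : ∀ y, QuadraticMap.polar A (fun i => j (u i)) y = 0 := fun y => by
      rw [pi_eq_sum_univ' y, ← QuadraticMap.polarBilin_apply_apply, map_sum]
      refine Finset.sum_eq_zero fun k _ => ?_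
      have hk := h1 k
      rw [show (fun i => j ((Pi.single k (1 : F₀) : ι → F₀) i)) = (Pi.single k (1 : F) : V) by
        funext i; simp [Pi.single_apply, apply_ite j]] at hk
      rw [map_smul, QuadraticMap.polarBilin_apply_apply, hk, smul_zero]
    have h3 : (H : Matrix ι ι F) *ᵥ (fun i => j (u i)) = 0 := by
      refine OrthOrder.nondegenerate_iff.1 S.nondeg _ fun z => ?_
      obtain ⟨y, rfl⟩ := (glPerm H).surjective z
      have := h2 y
      simp only [QuadraticMap.polar, hA, Matrix.mulVec_add, ← mul_sub] at this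
      exact (mul_eq_zero.1 this).resolve_left (Units.ne_zero _)
    funext i
    have h4 : (fun i => j (u i)) = (0 : V) := (glPerm H).injective (by
      rw [glPerm_apply, glPerm_apply, h3, Matrix.mulVec_zero])
    exact j.injective ((congrFun h4 i).trans (map_zero j).symm)

end Cfsg.Agent.AutPOmega
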