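import Cfsg.Agent.Lib.AutPOmega.FrameCount

/-!
# Outer classes of the kernel of the Dickson character, and their rational points
-/

set_option autoImplicit false
set_option linter.unusedSectionVars false
set_option maxHeartbeats 2000000

namespace Cfsg.Agent.AutPOmega

open Cfsg.Agent Cfsg.Agent.TransvMax Cfsg.Agent.QMax
open scoped Matrix

section Rational

variable {F : Type*} [Field F] [Fintype F] {F₀ : Type*} [Field F₀] [Fintype F₀] (j : F₀ →+* F)

include j

/-- In a quadratic extension the rational elements are squares. -/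
theorem isSquare_of_rational (h2 : (2 : F) ≠ 0) (hq : Fintype.card F = Fintype.card F₀ ^ 2) (x : F₀) :
    IsSquare (j x) := by
  rcases eq_or_ne x 0 with rfl | hx
  · rw [map_zero]; exact IsSquare.zero
  have h20 : (2 : F₀) ≠ 0 := fun e => h2 (by rw [← map_ofNat j 2, e, map_zero])
  rw [FiniteField.isSquare_iff (Spinor.ringChar_ne_two h2) ((map_ne_zero j).2 hx), ← map_pow, ← map_one j]
  congr 1
  rw [hq]
  obtain ⟨t, ht⟩ := Nat.odd_iff.2 (FiniteField.odd_card_of_char_ne_two (Spinor.ringChar_ne_two h20))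
  rw [show Fintype.card F₀ ^ 2 / 2 = (Fintype.card F₀ - 1) * (t + 1) by
    rw [ht, Nat.add_sub_cancel, show (2 * t + 1) ^ 2 = 2 * (2 * t * (t + 1)) + 1 by ring,
      Nat.mul_add_div two_pos]
    simp,
    pow_mul, FiniteField.pow_card_sub_one_eq_one _ hx, one_pow]

/-- The square root of a rational non-square is a square exactly when `q₀ ≡ 3 mod 4`. -/
theorem isSquare_sqrt_iff (h2 : (2 : F) ≠ 0) (hq : Fintype.card F = Fintype.card F₀ ^ 2) {ν : F₀}
    (hν : ¬ IsSquare ν) {s : F} (hs : s * s = j ν) : IsSquare s ↔ Fintype.card F₀ % 4 = 3 := by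
  have h20 : (2 : F₀) ≠ 0 := fun e => h2 (by rw [← map_ofNat j 2, e, map_zero])
  have hν0 : ν ≠ 0 := fun e => hν (e ▸ IsSquare.zero)
  have hs0 : s ≠ 0 := fun e => hν0 (j.injective (by rw [← hs, e, mul_zero, map_zero]))
  obtain ⟨t, ht⟩ := Nat.odd_iff.2 (FiniteField.odd_card_of_char_ne_two (Spinor.ringChar_ne_two h20))
  have hpow : ν ^ (Fintype.card F₀ / 2) = -1 :=
    (FiniteField.pow_dichotomy (Spinor.ringChar_ne_two h20) hν0).resolve_left
      fun e => hν ((FiniteField.isSquare_iff (Spinor.ringChar_ne_two h20) hν0).2 e)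
  rw [show Fintype.card F₀ / 2 = t by omega] at hpow
  rw [FiniteField.isSquare_iff (Spinor.ringChar_ne_two h2) hs0,
    show Fintype.card F / 2 = 2 * (t * (t + 1)) by
      rw [hq, ht, show (2 * t + 1) ^ 2 = 2 * (2 * (t * (t + 1))) + 1 by ring, Nat.mul_add_div two_pos]
      simp,
    pow_mul, sq, hs, ← map_pow, pow_mul, hpow, map_pow, map_neg, map_one]
  constructor
  · intro h
    rcases Nat.even_or_odd (t + 1) with ⟨i, hi⟩ | he
    · omega
    · rw [he.neg_one_pow] at h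
      exact absurd (by linear_combination -h) h2
  · intro h
    exact Even.neg_one_pow (by rw [Nat.even_iff]; omega)

end Rational

section Classes

variable {ι : Type} [Fintype ι] [DecidableEq ι] {F : Type*} [Field F] [Fintype F]
  {Q : QuadraticForm F (ι → F)} (S : QSetting Q)

include S

theorem dk_omega_one (t : Cfsg.Omega F ⇑Q) : OrthRows.dk S.nondeg (hexc S) t.1 = 1 :=
  ((OrthRows.mem_omega S.nondeg (hexc S)).1 t.2).1

/-- In characteristic two the kernel of the Dickson character is inner. -/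
theorem outI_dk_two (h2 : (2 : F) = 0) {h : Cfsg.isometryGroup F ⇑Q}
    (hd : OrthRows.dk S.nondeg (hexc S) h = 1) : outI h = 1 := by
  refine outI_omega ((OrthRows.mem_omega S.nondeg (hexc S)).2 ⟨hd, ?_⟩)
  refine DFunLike.congr_fun (MonoidHom.eq_of_eqOn_dense (OrthRows.closure_rf S.nondeg (hexc S))
    (f := OrthRows.sp S.nondeg (hexc S)) (g := 1) ?_) h
  rintro x ⟨v, hv, hx⟩
  rw [OrthRows.eq_rf hv hx, OrthRows.sp_rf,
    if_pos (FiniteField.isSquare_of_char_two (Spinor.ringChar_eq_two h2) _)]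
  rfl

/-- The kernel of the Dickson character gives at most two classes. -/
theorem outI_dk_cases {u w : ι → F} (hu : Q u ≠ 0) (hw : Q w ≠ 0) (hsu : IsSquare (Q u))
    (hsw : ¬ IsSquare (Q w)) {h : Cfsg.isometryGroup F ⇑Q} (hd : OrthRows.dk S.nondeg (hexc S) h = 1) :
    outI h = 1 ∨ outI h = outI (OrthRows.rf Q u hu) * outI (OrthRows.rf Q w hw) := by
  rcases Int.units_eq_one_or (OrthRows.sp S.nondeg (hexc S) h) with hs | hs
  · exact Or.inl (outI_omega ((OrthRows.mem_omega S.nondeg (hexc S)).2 ⟨hd, hs⟩))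
  · right
    have h1 : h * (OrthRows.rf Q w hw * OrthRows.rf Q u hu) ∈ Cfsg.Omega F ⇑Q := by
      refine (OrthRows.mem_omega S.nondeg (hexc S)).2 ⟨?_, ?_⟩
      · rw [map_mul, map_mul, hd, OrthRows.dk_rf, OrthRows.dk_rf]; rfl
      · rw [map_mul, map_mul, hs, OrthRows.sp_rf, OrthRows.sp_rf, if_pos hsu, if_neg hsw]; rfl
    have h3 := outI_omega h1
    rw [map_mul, mul_eq_one_iff_eq_inv, ← map_inv, mul_inv_rev] at h3
    rw [h3, map_mul, map_inv, map_inv, inv_eq_of_mul_eq_one_right (outI_rf_sq S hu),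
      inv_eq_of_mul_eq_one_right (outI_rf_sq S hw)]

/-- A similarity of square multiplier is inner times an isometry. -/
theorem exists_outI_of_sq {g : Cfsg.Geo.quadSimilarityGroup (F := F) ⇑Q} (hg : IsSquare (simMul S g : F)) :
    ∃ (c : Fˣ) (h : Cfsg.isometryGroup F ⇑Q), g = scalSim c * incl h ∧ outS g = outI h := by
  obtain ⟨s, hs⟩ := hg
  have hs0 : s ≠ 0 := fun e => Units.ne_zero (simMul S g) (by rw [hs, e, zero_mul])
  have hk1 : (scalSim (Q := Q) (Units.mk0 s hs0))⁻¹ * g ∈ (simMul S).ker := by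
    rw [MonoidHom.mem_ker, map_mul, map_inv, simMul_scal S, inv_mul_eq_one]
    exact Units.ext hs.symm
  rw [ker_simMul S] at hk1
  obtain ⟨h, he⟩ := hk1
  have e : g = scalSim (Units.mk0 s hs0) * incl h := by rw [show incl h = _ from he, mul_inv_cancel_left]
  exact ⟨_, h, e, by rw [e, map_mul, outS_scal S, one_mul]; rfl⟩

variable {χ : Cfsg.Geo.quadSimilarityGroup (F := F) ⇑Q →* ℤˣ}
  (hdk : ∀ h, χ (incl h) = OrthRows.dk S.nondeg (hexc S) h) (hsc : ∀ c, χ (scalSim c) = 1)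

include hdk hsc

theorem outS_sq_two (h2 : (2 : F) = 0) {g : Cfsg.Geo.quadSimilarityGroup (F := F) ⇑Q} (hg : χ g = 1) :
    outS g = 1 := by
  obtain ⟨c, h, e, ho⟩ := exists_outI_of_sq S (g := g) (FiniteField.isSquare_of_char_two (Spinor.ringChar_eq_two h2) _)
  rw [ho]
  refine outI_dk_two S h2 ?_
  rwa [e, map_mul, hsc, one_mul, hdk] at hg

theorem outS_sq_cases {u w : ι → F} (hu : Q u ≠ 0) (hw : Q w ≠ 0) (hsu : IsSquare (Q u))
    (hsw : ¬ IsSquare (Q w)) {g : Cfsg.Geo.quadSimilarityGroup (F := F) ⇑Q} (hg : χ g = 1)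
    (hm : IsSquare (simMul S g : F)) :
    outS g = 1 ∨ outS g = outI (OrthRows.rf Q u hu) * outI (OrthRows.rf Q w hw) := by
  obtain ⟨c, h, e, ho⟩ := exists_outI_of_sq S (g := g) hm
  rw [ho]
  refine outI_dk_cases S hu hw hsu hsw ?_
  rwa [e, map_mul, hsc, one_mul, hdk] at hg

variable {F₀ : Type*} [Field F₀] [Fintype F₀] (j : F₀ →+* F)
  {R : QuadraticForm F₀ (ι → F₀)} (S₀ : QSetting R)
  {σ : F ≃+* F} {T : SemiT Q} (P : Frame j σ T R)
  {χ₀ : Cfsg.Geo.quadSimilarityGroup (F := F₀) ⇑R →* ℤˣ}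
  (hdk₀ : ∀ h, χ₀ (incl h) = OrthRows.dk S₀.nondeg (hexc S₀) h) (hsc₀ : ∀ c, χ₀ (scalSim c) = 1)

include S₀ hdk₀ hsc₀

/-- Rational classes of a quadratic extension: at most one besides the trivial one. -/
theorem rational_classes_sq (h2 : (2 : F) ≠ 0) (hq : Fintype.card F = Fintype.card F₀ ^ 2)
    {G₀ : Cfsg.Geo.quadSimilarityGroup (F := F₀) ⇑R} (hG₀ : χ₀ G₀ = 1) (hns : ¬ IsSquare (simMul S₀ G₀ : F₀)) :
    Nat.card (χ₀.ker.map ((outS (Q := Q)).comp (frameJ j P))) =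
      orderOf (outS (frameJ j P G₀)) ∧ outS (frameJ j P G₀) * outS (frameJ j P G₀) = 1 := by
  have h20 : (2 : F₀) ≠ 0 := fun e => h2 (by rw [← map_ofNat j 2, e, map_zero])
  obtain ⟨u, hu⟩ := exists_quad_one_ne S₀
  set a := outS (frameJ j P (incl (OrthRows.rf R u hu))) with ha
  have hw : ∀ v, R v ≠ 0 → Q (P.H.1 *ᵥ fun i => j (v i)) ≠ 0 := fun v hv => by
    rw [P.quad_eq]; exact mul_ne_zero P.bb.ne_zero ((map_ne_zero j).2 hv)
  have hcls : ∀ (v : ι → F₀) (hv : R v ≠ 0), outS (frameJ j P (incl (OrthRows.rf R v hv))) = a := fun v hv => by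
    rw [ha, frameJ_rf j P hv (hw v hv), frameJ_rf j P hu (hw u hu)]
    refine outI_rf_congr S _ _ ?_
    rw [P.quad_eq, P.quad_eq,
      Spinor.isSquare_mul_iff' P.bb.ne_zero ((map_ne_zero j).2 hv),
      Spinor.isSquare_mul_iff' P.bb.ne_zero ((map_ne_zero j).2 hu)]
    simp [isSquare_of_rational j h2 hq]
  have haa : a * a = 1 := by
    rw [ha, ← map_mul, ← map_mul, ← map_mul, OrthRows.rf_mul_self, map_one, map_one, map_one]
  have hiso : ∀ h : Cfsg.isometryGroup F₀ ⇑R,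
      (OrthRows.dk S₀.nondeg (hexc S₀) h = 1 ∧ outS (frameJ j P (incl h)) = 1) ∨
      (OrthRows.dk S₀.nondeg (hexc S₀) h = -1 ∧ outS (frameJ j P (incl h)) = a) := fun h => by
    induction (show h ∈ Subgroup.closure _ by
      rw [OrthRows.closure_rf S₀.nondeg (hexc S₀)]; exact Subgroup.mem_top h) using Subgroup.closure_induction with
    | mem y hy =>
      obtain ⟨v, hv, hx⟩ := hy
      rw [OrthRows.eq_rf hv hx]
      exact Or.inr ⟨OrthRows.dk_rf _ _ hv, hcls v hv⟩
    | one => exact Or.inl ⟨map_one _, by rw [map_one, map_one, map_one]⟩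
    | mul y z _ _ ihy ihz =>
      rcases ihy with ⟨d, e⟩ | ⟨d, e⟩ <;> rcases ihz with ⟨d', e'⟩ | ⟨d', e'⟩ <;>
        simp [map_mul, d, d', e, e', haa]
    | inv y _ ihy =>
      rcases ihy with ⟨d, e⟩ | ⟨d, e⟩ <;> simp [map_inv, d, e, inv_eq_of_mul_eq_one_right haa]
  have hsq : ∀ g₀, χ₀ g₀ = 1 → IsSquare (simMul S₀ g₀ : F₀) → outS (frameJ j P g₀) = 1 := fun g₀ h0 hm => by
    obtain ⟨c, h, e, -⟩ := exists_outI_of_sq S₀ hm
    rw [e, map_mul, hsc₀, one_mul, hdk₀] at h0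
    rw [e, map_mul, map_mul, frameJ_scal, outS_scal S, one_mul]
    rcases hiso h with ⟨-, e'⟩ | ⟨d, -⟩
    · exact e'
    · exact absurd (h0.symm.trans d) (by decide)
  set X := outS (frameJ j P G₀) with hX
  have hXX : X * X = 1 := by
    rw [hX, ← map_mul, ← map_mul]
    exact hsq _ (by rw [map_mul, hG₀, one_mul]) (by rw [map_mul, Units.val_mul]; exact ⟨_, rfl⟩)
  refine ⟨?_, hXX⟩
  rw [← Nat.card_zpowers]
  refine congrArg (fun K : Subgroup (Cfsg.Out (Cfsg.POmega F ⇑Q)) => Nat.card K) (le_antisymm ?_ ?_)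
  · rintro _ ⟨g₀, hg₀, rfl⟩
    show outS (frameJ j P g₀) ∈ Subgroup.zpowers X
    by_cases hm : IsSquare (simMul S₀ g₀ : F₀)
    · rw [hsq g₀ hg₀ hm]; exact one_mem _
    · have h3 := hsq (g₀ * G₀⁻¹) (by rw [map_mul, map_inv, show χ₀ g₀ = 1 from hg₀, hG₀]; rfl) (by
        rw [map_mul, map_inv, Units.val_mul, Units.val_inv_eq_inv_val]
        refine (Spinor.isSquare_mul_iff' (Units.ne_zero _) (inv_ne_zero (Units.ne_zero _))).2 ?_
        rw [isSquare_inv]
        exact iff_of_false hm hns)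
      rw [map_mul, map_inv, map_mul, map_inv, mul_inv_eq_one] at h3
      rw [h3]; exact Subgroup.mem_zpowers _
  · exact Subgroup.zpowers_le.2 ⟨G₀, hG₀, rfl⟩

end Classes

end Cfsg.Agent.AutPOmega
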