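import Cfsg.Agent.Lib.AutPOmega.PlusCount
import Cfsg.Agent.Lib.Chev.OrthModel.Main
import Cfsg.Agent.Lib.Chev.Aut.GraphAuts
import Cfsg.Agent.Lib.Chev.Aut.OutStruct

/-!
# The inner-diagonal group of `PΩ₈⁺` is invariant under all automorphisms
-/

set_option autoImplicit false
set_option linter.unusedSectionVars false
set_option maxHeartbeats 2000000

namespace Cfsg.Agent.AutPOmega

open Cfsg.Agent Cfsg.Agent.TransvMax Cfsg.Agent.QMax Cfsg.Agent.Chev Cfsg.Agent.Chev.OrthModel Cfsg.Lie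
open scoped Matrix

variable {F : Type*} [Field F]

/-- The Chevalley group of type `D4` as the orthogonal group, with the images of the root elements. -/
theorem exists_model_iso (fq : (I8 → F) → F) (hfq : Cfsg.quadFormPlus 4 F = fq) :
    ∃ e : ↥(Cfsg.Lie.chevD4.group F) ≃* Cfsg.POmega F fq, ∀ r < D4.pk.nroots, ∀ t, ∃ s : Cfsg.Omega F fq,
      ((s : Cfsg.isometryGroup F fq) : GL I8 F) = uX all_D4 mem_L8 r t ∧
        e (Chev.Aut.xS D4.ok r t) = QuotientGroup.mk s := by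
  subst hfq
  have h : CT.Full Cfsg.Lie.chevD4 D4.pk := ⟨D4.ok, ckComm_D4, CT.UpD4.up_ok, CT.UpD4.eta_sim⟩
  have hperf := Cfsg.Agent.S2395.result (K := F) Cfsg.Lie.chevD4 (by simp) (fun hD => by
    simp only [List.mem_cons, List.not_mem_nil, or_false] at hD
    rcases hD with hD | hD <;> exact absurd (congrArg Cfsg.Lie.ChevalleyDatum.rank hD) (by decide))
  haveI := (D4.ok.simple ckComm_D4 ckConn_D4 (D4.ok.perfect_all ckComm_D4 ckPerf_D4 (F := F))).1
  obtain ⟨θ, hθ, hker, hθg⟩ := CT.exists_cover_proj (K := F) h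
  obtain ⟨φ, hφ, hgen⟩ := exists_onto all_D4 mem_L8 h deg_M8 hQ8 hperf omega8_le
  have hab : ((0 : Fin 4), true).1 ≠ ((1 : Fin 4), true).1 := by decide
  obtain ⟨g, hg, e⟩ := eGroup_mem_of_root (K := F) all_D4 mem_L8 (op_D4 _ _ hab) 1
  have hg1 : g ≠ 1 := fun hg' => opM_ne_one (K := F) vv8_inj hab (by
    rw [evS_opS (spec all_D4).1 mem_L8] at e
    rw [← e, hg', Units.val_one])
  have hne := center_ne all_D4 mem_L8 hperf hφ hgen hg hg1
  set ψ := (QuotientGroup.mk' (Subgroup.center (Cfsg.Omega F (Cfsg.quadFormPlus 4 F)))).comp φ with hψ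
  have hψs : Function.Surjective ψ := (QuotientGroup.mk'_surjective _).comp hφ
  have hle : θ.ker ≤ ψ.ker := fun x hx => by
    have hxc := hker hx
    rw [MonoidHom.mem_ker, hψ, MonoidHom.comp_apply, QuotientGroup.mk'_apply, QuotientGroup.eq_one_iff,
      Subgroup.mem_center_iff]
    intro y
    obtain ⟨y, rfl⟩ := hφ y
    rw [← map_mul, ← map_mul, Subgroup.mem_center_iff.1 hxc y]
  have hge : ψ.ker ≤ θ.ker := by
    rcases ((inferInstance : ψ.ker.Normal).map θ hθ).eq_bot_or_eq_top with e | e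
    · exact fun x hx => (Subgroup.eq_bot_iff_forall _).1 e _ (Subgroup.mem_map_of_mem θ hx)
    · exfalso
      refine hne (eq_top_iff.2 fun y _ => ?_)
      obtain ⟨x, rfl⟩ := hφ y
      obtain ⟨y, hy, he⟩ : θ x ∈ Subgroup.map θ ψ.ker := e ▸ Subgroup.mem_top _
      have h1 : y⁻¹ * x ∈ ψ.ker := hle (by rw [MonoidHom.mem_ker, map_mul, map_inv, he, inv_mul_cancel])
      have h2 : x ∈ ψ.ker := by simpa using mul_mem hy h1
      rwa [MonoidHom.mem_ker, hψ, MonoidHom.comp_apply, QuotientGroup.mk'_apply, QuotientGroup.eq_one_iff] at h2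
  let E := ((QuotientGroup.quotientKerEquivOfSurjective θ hθ).symm.trans
    (QuotientGroup.quotientMulEquivOfEq (le_antisymm hle hge))).trans
    (QuotientGroup.quotientKerEquivOfSurjective ψ hψs)
  have hE : ∀ s, E (θ s) = ψ s := fun s => by
    show (QuotientGroup.quotientKerEquivOfSurjective ψ hψs) ((QuotientGroup.quotientMulEquivOfEq (le_antisymm hle hge))
      ((QuotientGroup.quotientKerEquivOfSurjective θ hθ).symm (θ s))) = ψ s
    rw [show (QuotientGroup.quotientKerEquivOfSurjective θ hθ).symm (θ s) = QuotientGroup.mk s from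
      (QuotientGroup.quotientKerEquivOfSurjective θ hθ).symm_apply_eq.2 rfl]
    rfl
  refine ⟨E, fun r hr t => ⟨φ (Cfsg.Lie.chevD4.scGen F r t), hgen r hr t, ?_⟩⟩
  have hx : Chev.Aut.xS D4.ok r t = θ (Cfsg.Lie.chevD4.scGen F r t) := Subtype.ext (Units.ext (by
    rw [hθg r t (D4.ok.nroots ▸ hr), Chev.Aut.coe_xS, D4.ok.coe_xG]))
  rw [hx, hE]
  rfl

/-- The diagonal values of a similitude. -/
def dwt (s : Fin 4 → Fˣ) (μ : Fˣ) : I8 → Fˣ := Sum.elim s fun i => μ * (s i)⁻¹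

/-- A diagonal similitude. -/
noncomputable def gDiag (s : Fin 4 → Fˣ) (μ : Fˣ) :
    Cfsg.Geo.quadSimilarityGroup (F := F) ⇑(OrthOrder.qPlus 4 F) :=
  ⟨{ val := Matrix.diagonal fun i => (dwt s μ i : F)
     inv := Matrix.diagonal fun i => ((dwt s μ i)⁻¹ : Fˣ)
     val_inv := by rw [Matrix.diagonal_mul_diagonal, ← Matrix.diagonal_one]; congr 1; funext i; simp
     inv_val := by rw [Matrix.diagonal_mul_diagonal, ← Matrix.diagonal_one]; congr 1; funext i; simp },
    μ, fun v => by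
      rw [OrthOrder.qPlus_apply, OrthOrder.qPlus_apply]
      simp only [Cfsg.quadFormPlus, Matrix.mulVec_diagonal, dwt, Sum.elim_inl, Sum.elim_inr, Finset.mul_sum]
      refine Finset.sum_congr rfl fun i _ => ?_
      have h := (s i).ne_zero
      simp only [Units.val_mul, Units.val_inv_eq_inv_val]
      field_simp⟩

theorem gDiag_mulVec (s : Fin 4 → Fˣ) (μ : Fˣ) (v : I8 → F) (i : I8) :
    (((gDiag s μ).1 : Matrix I8 I8 F) *ᵥ v) i = dwt s μ i * v i :=
  Matrix.mulVec_diagonal _ _ _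

/-- The nodes' values of a diagonal similitude. -/
def nodeVal (s : Fin 4 → Fˣ) (μ : Fˣ) : Fin D4.pk.rank → Fˣ :=
  fun i => ([s 0 * (s 1)⁻¹, s 1 * (s 2)⁻¹, s 2 * (s 3)⁻¹, s 2 * s 3 * μ⁻¹] : List Fˣ).getD i.val 1

theorem table_pos : ((List.range 4).map fun i => (T8 (D4.pk.sim i)).map fun e => (e.1, e.2.1, e.2.2.1)) =
    [[(Sum.inl 0, Sum.inl 1, 1), (Sum.inr 1, Sum.inr 0, 1)], [(Sum.inl 1, Sum.inl 2, 1), (Sum.inr 2, Sum.inr 1, 1)],
     [(Sum.inl 2, Sum.inl 3, 1), (Sum.inr 3, Sum.inr 2, 1)], [(Sum.inl 2, Sum.inr 3, 1), (Sum.inl 3, Sum.inr 2, 1)]] := by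
  decide +kernel

theorem table_neg : ((List.range 4).map fun i => (T8 (D4.pk.ng (D4.pk.sim i))).map fun e => (e.1, e.2.1, e.2.2.1)) =
    [[(Sum.inr 0, Sum.inr 1, 1), (Sum.inl 1, Sum.inl 0, 1)], [(Sum.inr 1, Sum.inr 2, 1), (Sum.inl 2, Sum.inl 1, 1)],
     [(Sum.inr 2, Sum.inr 3, 1), (Sum.inl 3, Sum.inl 2, 1)], [(Sum.inr 2, Sum.inl 3, 1), (Sum.inr 3, Sum.inl 2, 1)]] := by
  decide +kernel

theorem node_spec (s : Fin 4 → Fˣ) (μ : Fˣ) (i : Fin D4.pk.rank) :
    (∀ e ∈ T8 (D4.pk.sim i), e.2.2.1 = 1 ∧ dwt s μ e.1 = nodeVal s μ i * dwt s μ e.2.1) ∧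
    (∀ e ∈ T8 (D4.pk.ng (D4.pk.sim i)), e.2.2.1 = 1 ∧ dwt s μ e.1 = (nodeVal s μ i)⁻¹ * dwt s μ e.2.1) := by
  have hlt : i.val < 4 := i.isLt
  have key : ∀ (l : List (List (I8 × I8 × ℕ))) (f : ℕ → ℕ),
      ((List.range 4).map fun i => (T8 (f i)).map fun e => (e.1, e.2.1, e.2.2.1)) = l →
      ∀ e ∈ T8 (f i), (e.1, e.2.1, e.2.2.1) ∈ l.getD i.val [] := fun l f hl e he => by
    subst hl
    rw [List.getD_eq_getElem _ _ (by simpa using hlt)]
    simp only [List.getElem_map, List.getElem_range]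
    exact List.mem_map.2 ⟨e, he, rfl⟩
  constructor
  · intro e he
    have := key _ _ table_pos e he
    rcases e with ⟨x, y, dg, cf⟩
    obtain h | h | h | h : i.val = 0 ∨ i.val = 1 ∨ i.val = 2 ∨ i.val = 3 := by omega
    all_goals
      simp only [h, List.getD_cons_zero, List.getD_cons_succ, List.mem_cons, List.not_mem_nil, or_false,
        Prod.mk.injEq] at this
      rcases this with ⟨rfl, rfl, rfl⟩ | ⟨rfl, rfl, rfl⟩ <;>
        refine ⟨rfl, Units.ext ?_⟩ <;>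
        simp [nodeVal, dwt, h] <;> field_simp
  · intro e he
    have := key _ (fun i => D4.pk.ng (D4.pk.sim i)) table_neg e he
    rcases e with ⟨x, y, dg, cf⟩
    obtain h | h | h | h : i.val = 0 ∨ i.val = 1 ∨ i.val = 2 ∨ i.val = 3 := by omega
    all_goals
      simp only [h, List.getD_cons_zero, List.getD_cons_succ, List.mem_cons, List.not_mem_nil, or_false,
        Prod.mk.injEq] at this
      rcases this with ⟨rfl, rfl, rfl⟩ | ⟨rfl, rfl, rfl⟩ <;>
        refine ⟨rfl, Units.ext ?_⟩ <;>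
        simp [nodeVal, dwt, h] <;> field_simp

theorem gDiag_conj (s : Fin 4 → Fˣ) (μ : Fˣ) {r : ℕ} (hr : r < D4.pk.nroots) (c : Fˣ)
    (hc : ∀ e ∈ T8 r, e.2.2.1 = 1 ∧ dwt s μ e.1 = c * dwt s μ e.2.1) (t : F) :
    (gDiag s μ).1 * uX all_D4 mem_L8 r t * (gDiag s μ).1⁻¹ = uX all_D4 mem_L8 r ((c : F) * t) := by
  obtain ⟨hn, -⟩ := spec all_D4
  refine Units.ext ?_
  rw [Units.val_mul, Units.val_mul, coe_uX all_D4 mem_L8 hr, coe_uX all_D4 mem_L8 hr, mX, mX, elS,
    evS_append, evS_append, evS_one _ _ hn mem_L8, evS_one _ _ hn mem_L8, mul_add, add_mul, mul_one,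
    ← Units.val_mul, mul_inv_cancel, Units.val_one]
  congr 1
  simp only [evS, List.map_map, ← List.sum_map_mul_left, ← List.sum_map_mul_right]
  refine congrArg List.sum (List.map_congr_left fun e he => ?_)
  obtain ⟨hdeg, hd⟩ := hc e he
  show Matrix.diagonal (fun i => (dwt s μ i : F)) * _ * Matrix.diagonal (fun i => (((dwt s μ i)⁻¹ : Fˣ) : F)) = _
  simp only [Function.comp, term, Nat.mul_one, Nat.mul_zero, pow_zero, mul_one, hdeg, pow_one]
  ext a b
  simp only [Matrix.mul_diagonal, Matrix.diagonal_mul, Matrix.single, Matrix.of_apply]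
  split_ifs with hab
  · obtain ⟨rfl, rfl⟩ := hab
    rw [hd, Units.val_mul, Units.val_inv_eq_inv_val]
    field_simp
  · simp

variable [Fintype F]

/-- The inner-diagonal group in dimension eight is stable under every automorphism. -/
theorem inndiag_invariant (S : QSetting (OrthOrder.qPlus 4 F)) {π : SemiT (OrthOrder.qPlus 4 F) →* ℤˣ}
    (hdk : ∀ h, π (ofSim (incl h)) = OrthRows.dk S.nondeg (hexc S) h) (hD : ∀ c, π (ofSim (plusD c)) = 1) :
    ((π.comp ofSim).ker.map (simAut (Q := OrthOrder.qPlus 4 F))).Normal := by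
  classical
  obtain ⟨E, hE⟩ := exists_model_iso (F := F) (⇑(OrthOrder.qPlus 4 F)) coe_qPlus.symm
  set χ := π.comp ofSim with hχ
  set G := χ.ker.map (simAut (Q := OrthOrder.qPlus 4 F))
  have hgD : ∀ s μ, χ (gDiag s μ) = 1 := fun s μ => by
    obtain ⟨h, hh⟩ := exists_split_plus S (gDiag s μ)
    have hle : Cfsg.imageSubmodule ((h.1 : GL I8 F) : Matrix I8 I8 F) (Spinor.halfX F 4) ≤ Spinor.halfX F 4 := by
      rintro _ ⟨x, hx, rfl⟩
      rw [SetLike.mem_coe, Spinor.mem_halfX] at hx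
      rw [Spinor.mem_halfX]
      intro i
      have h1 := congrFun (congrArg (fun g : Cfsg.Geo.quadSimilarityGroup (F := F) ⇑(OrthOrder.qPlus 4 F) =>
        ((g.1 : GL I8 F) : Matrix I8 I8 F) *ᵥ x) hh) (Sum.inr i)
      simp only [gDiag_mulVec, hx i, mul_zero] at h1
      rw [show ((plusD (m := 4) (simMul S (gDiag s μ)) * incl h).1 : GL I8 F) = (plusD (simMul S (gDiag s μ))).1 * h.1
        from rfl, Units.val_mul, ← Matrix.mulVec_mulVec, plusD_mulVec, Sum.elim_inr, one_mul] at h1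
      exact h1.symm
    have heq : Cfsg.imageSubmodule ((h.1 : GL I8 F) : Matrix I8 I8 F) (Spinor.halfX F 4) = Spinor.halfX F 4 := by
      refine Submodule.eq_of_le_of_finrank_eq hle ?_
      exact (LinearEquiv.finrank_eq (Submodule.equivMapOfInjective _ (glPerm h.1).injective _)).symm
    have h2 := (sameParity_dk S (card_plus S) Spinor.halfX_singular Spinor.finrank_halfX h).1 (by
      rw [heq, Cfsg.SameParityClass, inf_idem, Nat.sub_self]; exact ⟨0, rfl⟩)
    show π (ofSim _) = 1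
    rw [hh, map_mul, map_mul, hD, hdk, h2, one_mul]
  have hinn : Cfsg.Inn (Cfsg.POmega F ⇑(OrthOrder.qPlus 4 F)) ≤ G := by
    rw [inn_eq]
    rintro _ ⟨t, ht, rfl⟩
    exact ⟨incl t, (hdk t).trans (dk_omega_one S ⟨t, ht⟩), rfl⟩
  have hconj : ∀ s μ, MulAut.congr E (Chev.Aut.dHom D4.ok (nodeVal s μ)) = simAut (gDiag s μ) := fun s μ => by
    rw [← MulEquiv.eq_symm_apply]
    refine Chev.Aut.aut_ext D4.ok (fun i t => ?_) fun i t => ?_
    · have hr := D4.ok.sim_lt i.isLt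
      obtain ⟨w, hw, he⟩ := hE _ hr t
      obtain ⟨w', hw', he'⟩ := hE _ hr ((nodeVal s μ i : F) * t)
      rw [Chev.Aut.dHom_pos]
      refine E.injective (he'.trans ?_)
      show _ = E (E.symm (simAut (gDiag s μ) (E (Chev.Aut.xS D4.ok _ t))))
      rw [E.apply_symm_apply, he]
      refine ((induced_sim_iff (gDiag s μ) _).2 rfl w w' ?_).symm
      rw [hw', hw, ← gDiag_conj s μ hr _ (node_spec s μ i).1 t]
      simp
    · have hr := Chev.Ok.ng_lt (P := D4.pk) (D4.ok.sim_lt i.isLt)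
      obtain ⟨w, hw, he⟩ := hE _ hr t
      obtain ⟨w', hw', he'⟩ := hE _ hr ((nodeVal s μ i : F)⁻¹ * t)
      rw [Chev.Aut.dHom_neg]
      refine E.injective (he'.trans ?_)
      show _ = E (E.symm (simAut (gDiag s μ) (E (Chev.Aut.xS D4.ok _ t))))
      rw [E.apply_symm_apply, he]
      refine ((induced_sim_iff (gDiag s μ) _).2 rfl w w' ?_).symm
      rw [hw', hw, ← Units.val_inv_eq_inv_val, ← gDiag_conj s μ hr _ (node_spec s μ i).2 t]
      simp
  set D := (Chev.Aut.dOut (F := F) D4.ok).range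
  set N := D.comap (QuotientGroup.mk' (Cfsg.Inn ↥(Cfsg.Lie.chevD4.group F)))
  haveI : D.Normal := Chev.Aut.dOut_normal D4.ok ckComm_D4 Chev.Aut.ckAut_D4
  have hN : (N.map (MulAut.congr E).toMonoidHom).Normal :=
    (inferInstance : N.Normal).map _ (MulAut.congr E).surjective
  suffices h : G = N.map (MulAut.congr E).toMonoidHom by rw [h]; exact hN
  have hconjE : ∀ x, MulAut.congr E (MulAut.conj x) = MulAut.conj (E x) := fun x => MulEquiv.ext fun y => by
    show E (x * E.symm y * x⁻¹) = E x * y * (E x)⁻¹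
    simp
  have hDG : ∀ a, MulAut.congr E (Chev.Aut.dHom D4.ok a) ∈ G := fun a => by
    have hrk : (4 : ℕ) = D4.pk.rank := by decide
    obtain ⟨c, hc⟩ : ∃ c : Fin 4 → Fˣ, ∀ k, c k = a (Fin.cast hrk k) := ⟨_, fun _ => rfl⟩
    have ha : a = nodeVal ![c 0 * c 1 * c 2, c 1 * c 2, c 2, 1] (c 2 * (c 3)⁻¹) := by
      funext i
      obtain ⟨k, rfl⟩ : ∃ k, Fin.cast hrk k = i := ⟨Fin.cast hrk.symm i, Fin.ext rfl⟩
      rw [← hc]
      refine Units.ext ?_
      fin_cases k <;> simp [nodeVal, Fin.cast]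
    rw [ha, hconj]
    exact ⟨_, hgD _ _, rfl⟩
  have hNI : Cfsg.Inn (Cfsg.POmega F ⇑(OrthOrder.qPlus 4 F)) ≤ N.map (MulAut.congr E).toMonoidHom := by
    rintro _ ⟨y, rfl⟩
    refine ⟨MulAut.conj (E.symm y), ?_, by rw [MulEquiv.coe_toMonoidHom, hconjE, E.apply_symm_apply]⟩
    show QuotientGroup.mk' _ _ ∈ D
    rw [Chev.Aut.mk_conj D4.ok]
    exact one_mem _
  have hgN : ∀ s μ, simAut (gDiag s μ) ∈ N.map (MulAut.congr E).toMonoidHom := fun s μ =>
    ⟨Chev.Aut.dHom D4.ok (nodeVal s μ), ⟨nodeVal s μ, rfl⟩, hconj s μ⟩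
  refine le_antisymm ?_ ?_
  · rintro _ ⟨g, hg, rfl⟩
    obtain ⟨h, hh⟩ := exists_split_plus S g
    have hpl : plusD (simMul S g) = gDiag (fun _ => simMul S g) (simMul S g) := by
      refine Subtype.ext (glPerm_injective (Equiv.ext fun y => funext fun i => ?_))
      rw [glPerm_apply, glPerm_apply, plusD_mulVec, gDiag_mulVec]
      cases i <;> simp [dwt]
    have hd : OrthRows.dk S.nondeg (hexc S) h = 1 := by
      have h1 : π (ofSim g) = 1 := hg
      rwa [hh, map_mul, map_mul, hD, one_mul, hdk] at h1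
    rw [hh, map_mul]
    refine mul_mem (hpl ▸ hgN _ _) ?_
    suffices hz : ∃ β ∈ N.map (MulAut.congr E).toMonoidHom,
        QuotientGroup.mk' (Cfsg.Inn (Cfsg.POmega F ⇑(OrthOrder.qPlus 4 F))) β = outI h by
      obtain ⟨β, hβ, he⟩ := hz
      have := QuotientGroup.eq.1 he
      rw [← mul_inv_cancel_left β (simAut (incl h))]
      exact mul_mem hβ (hNI this)
    by_cases h2 : (2 : F) = 0
    · exact ⟨1, one_mem _, by rw [map_one, outI_dk_two S h2 hd]⟩
    obtain ⟨ν, hν⟩ := FiniteField.exists_nonsquare (Spinor.ringChar_ne_two h2)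
    have hν0 : ν ≠ 0 := fun e => hν (e ▸ IsSquare.zero)
    let u : I8 → F := Sum.elim (Pi.single 0 1) (Pi.single 0 1)
    let w : I8 → F := Sum.elim (Pi.single 0 1) (Pi.single 0 ν)
    have hQu : OrthOrder.qPlus 4 F u = 1 := by
      simp [OrthOrder.qPlus_apply, Cfsg.quadFormPlus, u, Fin.sum_univ_four]
    have hQw : OrthOrder.qPlus 4 F w = ν := by
      simp [OrthOrder.qPlus_apply, Cfsg.quadFormPlus, w, Fin.sum_univ_four]
    have hu : OrthOrder.qPlus 4 F u ≠ 0 := by rw [hQu]; exact one_ne_zero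
    have hw : OrthOrder.qPlus 4 F w ≠ 0 := by rw [hQw]; exact hν0
    rcases outI_dk_cases S hu hw (by rw [hQu]; exact IsSquare.one) (by rw [hQw]; exact hν) hd with e | e
    · exact ⟨1, one_mem _, by rw [map_one, e]⟩
    refine ⟨simAut (gDiag ![Units.mk0 ν hν0, 1, 1, 1] 1), hgN _ _, ?_⟩
    rw [e, ← map_mul]
    show QuotientGroup.mk' _ _ = QuotientGroup.mk' _ (simAut (incl _))
    congr 2
    refine Subtype.ext (glPerm_injective (Equiv.ext fun y => funext fun i => ?_))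
    rw [glPerm_apply, glPerm_apply, gDiag_mulVec]
    show _ = ((((OrthRows.rf _ u hu).1 * (OrthRows.rf _ w hw).1 : GL I8 F) : Matrix I8 I8 F) *ᵥ y) i
    rw [Units.val_mul, ← Matrix.mulVec_mulVec, OrthRows.rf_val, OrthRows.rf_val, FormsLib.reflectionMatrix_mulVec,
      FormsLib.reflectionMatrix_mulVec, FormsLib.reflHom_apply, FormsLib.reflHom_apply]
    rcases i with i | i <;> fin_cases i <;>
      simp [dwt, u, w, QuadraticMap.polar, OrthOrder.qPlus_apply, Cfsg.quadFormPlus, Fin.sum_univ_four,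
        Pi.single_apply] <;> field_simp <;> ring
  · rintro _ ⟨β, hβ, rfl⟩
    obtain ⟨a, ha⟩ : QuotientGroup.mk' (Cfsg.Inn ↥(Cfsg.Lie.chevD4.group F)) β ∈ D := hβ
    obtain ⟨x, hx⟩ := QuotientGroup.eq.1 (show QuotientGroup.mk' (Cfsg.Inn ↥(Cfsg.Lie.chevD4.group F))
      (Chev.Aut.dHom D4.ok a) = QuotientGroup.mk' _ β from ha)
    rw [show β = Chev.Aut.dHom D4.ok a * MulAut.conj x by rw [hx, mul_inv_cancel_left], MulEquiv.coe_toMonoidHom,
      map_mul, hconjE]
    exact mul_mem (hDG a) (hinn ⟨E x, rfl⟩)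

end Cfsg.Agent.AutPOmega
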