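import Cfsg.Agent.Lib.AutPOmega.PlusFieldCount
import Cfsg.Agent.Lib.AutPOmega.TrialityNormal

/-!
# Normality of the inner-diagonal group and transport along outer automorphisms
-/

set_option autoImplicit false
set_option linter.unusedSectionVars false

namespace Cfsg.Agent.AutPOmega

open Cfsg.Agent Cfsg.Agent.TransvMax Cfsg.Agent.QMax

/-- Centralisers in a normal subgroup. -/
theorem centralizer_conj_normal {X : Type*} [Group X] (H : Subgroup X) [H.Normal] (α x : X) :
    Nonempty (↥(H ⊓ Subgroup.centralizer {x}) ≃* ↥(H ⊓ Subgroup.centralizer {α * x * α⁻¹})) := by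
  refine ⟨(Subgroup.equivMapOfInjective _ (MulAut.conj α).toMonoidHom (MulAut.conj α).injective).trans
    (MulEquiv.subgroupCongr ?_)⟩
  have key : ∀ a y c : X, c ∈ H → c * y = y * c → a * c * a⁻¹ ∈ H ∧ a * c * a⁻¹ * (a * y * a⁻¹) = a * y * a⁻¹ * (a * c * a⁻¹) :=
    fun a y c hc h => ⟨Subgroup.Normal.conj_mem inferInstance c hc a, by
      simp only [mul_assoc, inv_mul_cancel_left]
      rw [← mul_assoc c y, h, mul_assoc]⟩
  refine le_antisymm ?_ ?_
  · rintro _ ⟨c, ⟨hc, hcx⟩, rfl⟩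
    obtain ⟨h1, h2⟩ := key α x c hc (Subgroup.mem_centralizer_singleton_iff.1 hcx)
    exact ⟨h1, Subgroup.mem_centralizer_singleton_iff.2 h2⟩
  · rintro d ⟨hd, hdx⟩
    obtain ⟨h1, h2⟩ := key α⁻¹ _ d hd (Subgroup.mem_centralizer_singleton_iff.1 hdx)
    refine ⟨α⁻¹ * d * α, ⟨by rwa [inv_inv] at h1, Subgroup.mem_centralizer_singleton_iff.2 ?_⟩, ?_⟩
    · simpa [mul_assoc] using h2
    · simp [mul_assoc]

/-- Class counts for normal subgroups. -/
theorem splitClassCount_conj_normal {X : Type*} [Group X] (H K : Subgroup X) [H.Normal] [K.Normal] (α x : X) :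
    Cfsg.splitClassCount H K (α * x * α⁻¹) = Cfsg.splitClassCount H K x := by
  have key : ∀ (L : Subgroup X) [L.Normal] (a y z : X), Cfsg.IsConjUnder L y z →
      Cfsg.IsConjUnder L (a * y * a⁻¹) (a * z * a⁻¹) := by
    rintro L _ a y z ⟨l, hl, rfl⟩
    exact ⟨a * l * a⁻¹, Subgroup.Normal.conj_mem inferInstance l hl a, by simp [mul_assoc]⟩
  refine Nat.card_congr (Quot.congr
    { toFun := fun y => ⟨α⁻¹ * y.1 * α⁻¹⁻¹, by
        have := key H α⁻¹ _ _ y.2
        simpa [mul_assoc] using this⟩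
      invFun := fun y => ⟨α * y.1 * α⁻¹, key H α _ _ y.2⟩
      left_inv := fun y => Subtype.ext (by simp [mul_assoc])
      right_inv := fun y => Subtype.ext (by simp [mul_assoc]) } fun y z => ?_)
  refine ⟨fun h => key K α⁻¹ _ _ h, fun h => ?_⟩
  have := key K α _ _ h
  simpa [mul_assoc] using this

variable {F : Type*} [Field F] [Fintype F] {m : ℕ} (S : QSetting (OrthOrder.qPlus m F))
  {π : SemiT (OrthOrder.qPlus m F) →* ℤˣ}
  (hdk : ∀ h, π (ofSim (incl h)) = OrthRows.dk S.nondeg (hexc S) h) (hD : ∀ c, π (ofSim (plusD c)) = 1)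

include S hdk hD

/-- The inner-diagonal group is normal among all automorphisms. -/
theorem inndiag_normal (hm : 4 ≤ m) : ((π.comp ofSim).ker.map (simAut (Q := OrthOrder.qPlus m F))).Normal := by
  rcases eq_or_lt_of_le hm with rfl | h5
  · exact inndiag_invariant S hdk hD
  refine ⟨?_⟩
  rintro _ ⟨g, hg, rfl⟩ α
  obtain ⟨U, rfl⟩ := theta_surjective S (h8_plus h5) α
  have hs : sigHom S (U * ofSim g * U⁻¹) = 1 := by
    rw [map_mul, map_mul, (sig_eq_one_iff S).2 ⟨g, rfl⟩, mul_one, map_inv, mul_inv_cancel]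
  obtain ⟨g', hg'⟩ := (sig_eq_one_iff S).1 hs
  refine ⟨g', ?_, ?_⟩
  · show π (ofSim g') = 1
    rw [hg', map_mul, map_mul, show π (ofSim g) = 1 from hg, mul_one, map_inv, mul_inv_cancel]
  · show theta (ofSim g') = _
    rw [hg', map_mul, map_mul, map_inv]
    rfl

end Cfsg.Agent.AutPOmega
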