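import Cfsg.Agent.Lib.AutPOmega.Frames
import Cfsg.Agent.Lib.AutPSp.Twisted

/-!
# Centralisers and class counts of framed similitudes
-/

set_option autoImplicit false
set_option linter.unusedSectionVars false
set_option maxHeartbeats 2000000

namespace Cfsg.Agent.AutPOmega

open Cfsg.Agent Cfsg.Agent.TransvMax Cfsg.Agent.QMax
open scoped Matrix

variable {ι : Type} [Fintype ι] [DecidableEq ι] {F : Type*} [Field F] [Fintype F]
  {Q : QuadraticForm F (ι → F)} (S : QSetting Q)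
  {F₀ : Type*} [Field F₀] [Fintype F₀] (j : F₀ →+* F)
  {R : QuadraticForm F₀ (ι → F₀)} (S₀ : QSetting R)
  {σ : F ≃+* F} (hj : ∀ a, σ a = a ↔ a ∈ j.range) {T : SemiT Q} (P : Frame j σ T R)
  {χ : Cfsg.Geo.quadSimilarityGroup (F := F) ⇑Q →* ℤˣ}
  {χ₀ : Cfsg.Geo.quadSimilarityGroup (F := F₀) ⇑R →* ℤˣ}
  (hcj : ∀ g, χ (frameJ j P g) = χ₀ g) (hsc : ∀ c, χ (scalSim c) = 1) (hr0 : 0 < orderOf σ)

include S S₀ hj hcj hsc hr0

/-- The centraliser of a framed similitude in the group cut out by a character. -/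
theorem centralizer_equiv_frame :
    Nonempty (↥(χ.ker.map (simAut (Q := Q)) ⊓ Subgroup.centralizer {theta T}) ≃*
      ↥(χ₀.ker.map (simAut (Q := R)))) := by
  let Φ : χ₀.ker →* ↥(χ.ker.map (simAut (Q := Q)) ⊓ Subgroup.centralizer {theta T}) :=
    ((simAut (Q := Q)).comp ((frameJ j P).comp χ₀.ker.subtype)).codRestrict _ fun g =>
      ⟨⟨frameJ j P g, (hcj _).trans g.2, rfl⟩,
        Subgroup.mem_centralizer_singleton_iff.2 ((frameJ_commute j hj P g.1).map theta).eq⟩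
  have hΦ : Function.Surjective Φ := by
    rintro ⟨_, ⟨g, hg, rfl⟩, hc⟩
    obtain ⟨g₀, d, hd⟩ := exists_frameJ S j S₀ hj P hr0 g (Subgroup.mem_centralizer_singleton_iff.1 hc)
    refine ⟨⟨g₀, ?_⟩, Subtype.ext ?_⟩
    · rw [MonoidHom.mem_ker, ← hcj, ← hd, map_mul, hsc, one_mul]; exact hg
    · show simAut (frameJ j P g₀) = simAut g
      rw [← hd, map_mul, (simAut_eq_one_iff S (scalSim d)).2 ⟨d, rfl⟩, one_mul]
  let Ψ : χ₀.ker →* ↥(χ₀.ker.map (simAut (Q := R))) :=
    ((simAut (Q := R)).comp χ₀.ker.subtype).codRestrict _ fun g => ⟨g, g.2, rfl⟩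
  have hΨ : Function.Surjective Ψ := by
    rintro ⟨_, g, hg, rfl⟩
    exact ⟨⟨g, hg⟩, rfl⟩
  refine ⟨((QuotientGroup.quotientKerEquivOfSurjective Φ hΦ).symm.trans
    ((QuotientGroup.quotientMulEquivOfEq ?_).trans (QuotientGroup.quotientKerEquivOfSurjective Ψ hΨ)))⟩
  ext g
  rw [MonoidHom.mem_ker, MonoidHom.mem_ker, Subtype.ext_iff, Subtype.ext_iff]
  show simAut (frameJ j P g.1) = 1 ↔ simAut g.1 = 1
  rw [simAut_eq_one_iff S, simAut_eq_one_iff S₀]
  constructor
  · rintro ⟨c, hc⟩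
    obtain ⟨u, hu⟩ := exists_quad_one_ne S₀
    obtain ⟨i, hi⟩ : ∃ i, u i ≠ 0 := by
      by_contra hall
      push Not at hall
      exact hu (by rw [show u = 0 from funext hall, map_zero])
    have he : ∀ v : ι → F₀, (fun l => j (((g.1.1).1 *ᵥ v) l)) = (c : F) • fun l => j (v l) := fun v => by
      refine (glPerm P.H).injective ?_
      rw [glPerm_apply, glPerm_apply, ← frameJ_apply j P g.1 v, ← hc, Matrix.mulVec_smul]
      exact scalSim_apply c _
    have hc0 : (c : F) = j (((g.1.1).1 *ᵥ u) i / u i) := by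
      rw [map_div₀, eq_div_iff ((map_ne_zero j).2 hi)]
      exact (congrFun (he u) i).symm
    set d := ((g.1.1).1 *ᵥ u) i / u i
    refine ⟨Units.mk0 d fun e => c.ne_zero (by rw [hc0, e, map_zero]),
      ofSim_injective (Subtype.ext (Equiv.ext fun v => ?_))⟩
    rw [scalSim_apply]
    funext l
    refine j.injective ?_
    show j (d * v l) = _
    rw [map_mul, ← hc0]
    exact (congrFun (he v) l).symm
  · rintro ⟨c, hc⟩
    exact ⟨_, by rw [← hc, frameJ_scal]⟩

/-- The class count times the number of rational outer classes is the number of outer classes. -/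
theorem splitCount_frame (hinn : ∀ t : Cfsg.Omega F ⇑Q, χ (incl t.1) = 1) :
    Cfsg.splitClassCount (χ.ker.map (simAut (Q := Q))) (Cfsg.Inn (Cfsg.POmega F ⇑Q)) (theta T) *
      Nat.card (χ₀.ker.map ((outS (Q := Q)).comp (frameJ j P))) = Nat.card (χ.ker.map (outS (Q := Q))) := by
  classical
  set A := χ.ker.map (outS (Q := Q)) with hA
  set B := χ₀.ker.map ((outS (Q := Q)).comp (frameJ j P)) with hB
  have hBA : B ≤ A := by
    rintro _ ⟨g₀, hg₀, rfl⟩
    exact ⟨frameJ j P g₀, (hcj _).trans hg₀, rfl⟩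
  set φ := (simAut (Q := Q)).comp χ.ker.subtype with hφdef
  let ψ : χ.ker →* A := ((outS (Q := Q)).comp χ.ker.subtype).codRestrict A fun g => ⟨g, g.2, rfl⟩
  have hψ : Function.Surjective ψ := by
    rintro ⟨_, g, hg, rfl⟩
    exact ⟨⟨g, hg⟩, rfl⟩
  have hN : ψ.ker.map φ = Cfsg.Inn (Cfsg.POmega F ⇑Q) := by
    refine le_antisymm ?_ ?_
    · rintro _ ⟨g, hg, rfl⟩
      exact (QuotientGroup.eq_one_iff _).1 (congrArg Subtype.val hg)
    · intro y hy
      obtain ⟨t, ht, rfl⟩ := (SetLike.ext_iff.1 inn_eq y).1 hy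
      exact ⟨⟨incl t, hinn ⟨t, ht⟩⟩, Subtype.ext (outI_omega ht), rfl⟩
  have hφ : φ.range = χ.ker.map (simAut (Q := Q)) := by
    rw [hφdef, MonoidHom.range_eq_map, ← Subgroup.map_map, ← MonoidHom.range_eq_map, Subgroup.range_subtype]
  rw [← hφ, show Cfsg.splitClassCount φ.range (Cfsg.Inn (Cfsg.POmega F ⇑Q)) (theta T) =
    Cfsg.splitClassCount φ.range (ψ.ker.map φ) (theta T) from congrArg (Cfsg.splitClassCount _ · _) hN.symm,
    AutPSp.splitClassCount_eq_index, AutPSp.index_ker_sup ψ hψ]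
  have hmap : (AutPSp.commSub φ (theta T)).map ψ = B.subgroupOf A := by
    ext ⟨y, hy⟩
    constructor
    · rintro ⟨g, hg, he⟩
      obtain ⟨g₀, d, hd⟩ := exists_frameJ S j S₀ hj P hr0 g.1 (AutPSp.mem_commSub.1 hg)
      refine ⟨g₀, ?_, ?_⟩
      · show χ₀ g₀ = 1
        rw [← hcj, ← hd, map_mul, hsc, one_mul]; exact g.2
      · show outS (frameJ j P g₀) = y
        rw [← (show outS g.1 = y from congrArg Subtype.val he), ← hd, map_mul, outS_scal S, one_mul]
    · rintro ⟨g₀, hg₀, he⟩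
      exact ⟨⟨frameJ j P g₀, (hcj _).trans hg₀⟩,
        AutPSp.mem_commSub.2 ((frameJ_commute j hj P g₀).map theta), Subtype.ext he⟩
  rw [hmap, mul_comm, ← Nat.card_congr (Subgroup.subgroupOfEquivOfLe hBA).toEquiv]
  exact Subgroup.card_mul_index _

end Cfsg.Agent.AutPOmega
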