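import Cfsg.Agent.Lib.AutPOmega.OddCentralizer
import Cfsg.Agent.Lib.Spinor.Tools

/-!
# The rational subgroup of the fixed points of an odd field automorphism
-/

set_option autoImplicit false
set_option linter.unusedSectionVars false
set_option maxHeartbeats 2000000

namespace Cfsg.Agent.AutPOmega

open scoped Matrix commutatorElement
open Cfsg.Agent Cfsg.Agent.TransvMax Cfsg.Agent.QMax

section Planes

variable {ι : Type} [Fintype ι] [DecidableEq ι] {F : Type*} [Field F] [Fintype F]
  {Q : QuadraticForm F (ι → F)} (S : QSetting Q) (h2 : (2 : F) ≠ 0)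

include S h2

/-- Cutting a non-degenerate subspace by the polar of an anisotropic vector in it. -/
theorem inf_ker_polar {W : Submodule F (ι → F)}
    (hW : W ⊓ LinearMap.BilinForm.orthogonal (QuadraticMap.polarBilin Q) W = ⊥) {u : ι → F} (hu : u ∈ W)
    (hQu : Q u ≠ 0) :
    (W ⊓ LinearMap.ker ((QuadraticMap.polarBilin Q).flip u)) ⊓ LinearMap.BilinForm.orthogonal
        (QuadraticMap.polarBilin Q) (W ⊓ LinearMap.ker ((QuadraticMap.polarBilin Q).flip u)) = ⊥ ∧
      Module.finrank F ↥(W ⊓ LinearMap.ker ((QuadraticMap.polarBilin Q).flip u)) + 1 =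
        Module.finrank F W := by
  refine ⟨?_, Spinor.finrank_inf_ker fun h => ?_⟩
  · rw [Submodule.eq_bot_iff]
    rintro x ⟨hx, hx'⟩
    refine (Submodule.eq_bot_iff _).1 hW x ⟨hx.1, fun y hy => ?_⟩
    show QuadraticMap.polar Q y x = 0
    set s := (2 : F)⁻¹ * (Q u)⁻¹ * QuadraticMap.polar Q y u with hs
    have hy' : y - s • u ∈ W ⊓ LinearMap.ker ((QuadraticMap.polarBilin Q).flip u) := by
      refine ⟨W.sub_mem hy (W.smul_mem _ hu), Spinor.mem_ker_polar.2 ?_⟩
      rw [QuadraticMap.polar_sub_left, QuadraticMap.polar_smul_left, QuadraticMap.polar_self, smul_eq_mul,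
        nsmul_eq_mul, hs]
      field_simp
      push_cast
      ring
    have h4 : QuadraticMap.polar Q (y - s • u) x = 0 := hx' _ hy'
    rwa [QuadraticMap.polar_sub_left, QuadraticMap.polar_smul_left, QuadraticMap.polar_comm Q u x,
      Spinor.mem_ker_polar.1 hx.2, smul_zero, sub_zero] at h4
  · have := Spinor.mem_ker_polar.1 (h hu)
    rw [QuadraticMap.polar_self, nsmul_eq_mul] at this
    exact (mul_ne_zero (by exact_mod_cast h2) hQu) this

/-- The product of two orthogonal reflections of equal norm is in `Ω`. -/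
theorem rf_mul_rf_omega {a b : ι → F} (ha : Q a ≠ 0) (hb : Q b ≠ 0) (hab : Q b = Q a)
    (hp : QuadraticMap.polar Q a b = 0) :
    OrthRows.rf Q a ha * OrthRows.rf Q b hb ∈ Cfsg.Omega F ⇑Q := by
  have hw : Q (a - b) ≠ 0 := by
    have e : Q (a - b) = Q a + Q b - QuadraticMap.polar Q a b := by
      rw [sub_eq_add_neg, show Q (a + -b) = Q a + Q (-b) + QuadraticMap.polar Q a (-b) by
        simp only [QuadraticMap.polar]; ring, QuadraticMap.map_neg, QuadraticMap.polar_neg_right]
      ring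
    rw [e, hab, hp, sub_zero, ← two_mul]
    exact mul_ne_zero h2 ha
  have himg : ((OrthRows.rf Q (a - b) hw).1 : Matrix ι ι F) *ᵥ a = b := by
    rw [OrthRows.rf_val, FormsLib.reflectionMatrix_mulVec, FormsLib.reflHom_apply]
    have e1 : QuadraticMap.polar Q a (a - b) = Q (a - b) := by
      rw [sub_eq_add_neg, QuadraticMap.polar_add_right, QuadraticMap.polar_neg_right, QuadraticMap.polar_self, hp]
      rw [show Q (a + -b) = Q a + Q (-b) + QuadraticMap.polar Q a (-b) by simp only [QuadraticMap.polar]; ring,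
        QuadraticMap.map_neg, QuadraticMap.polar_neg_right, hp, hab, nsmul_eq_mul]
      push_cast; ring
    rw [e1, inv_mul_cancel₀ hw, one_smul, sub_sub_cancel]
  have hconj : OrthRows.rf Q (a - b) hw * OrthRows.rf Q a ha * OrthRows.rf Q (a - b) hw =
      OrthRows.rf Q b hb := by
    have h3 := semi_conj_refl (ofSim (Subgroup.inclusion isometry_le_sim (OrthRows.rf Q (a - b) hw))) ha
      (show Q ((ofSim (Subgroup.inclusion isometry_le_sim (OrthRows.rf Q (a - b) hw))).1 a) ≠ 0 by
        rw [ofSim_apply]; show Q (((OrthRows.rf Q (a - b) hw).1 : Matrix ι ι F) *ᵥ a) ≠ 0; rw [himg]; exact hb)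
    rw [← map_inv, ← map_mul, ← map_mul] at h3
    have h3' := ofSim_injective h3
    rw [← map_inv, ← map_mul, ← map_mul] at h3'
    have h4 := Subgroup.inclusion_injective _ h3'
    rw [OrthRows.rf_inv] at h4
    refine h4.trans (Subtype.ext (Units.ext ?_))
    rw [OrthRows.rf_val, OrthRows.rf_val, ofSim_apply]
    exact congrArg (Cfsg.reflectionMatrix (⇑Q)) himg
  have e : OrthRows.rf Q a ha * OrthRows.rf Q b hb = ⁅OrthRows.rf Q a ha, OrthRows.rf Q (a - b) hw⁆ := by
    rw [commutatorElement_def, OrthRows.rf_inv, OrthRows.rf_inv, ← hconj]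
    simp only [mul_assoc]
  rw [e]
  exact Subgroup.commutator_mem_commutator (Subgroup.mem_top _) (Subgroup.mem_top _)

/-- Two partners for an anisotropic vector. -/
theorem exists_partners (hn : 4 ≤ Fintype.card ι) {a : ι → F} (ha : Q a ≠ 0) :
    ∃ b b', Q b = Q a ∧ Q b' = Q a ∧ QuadraticMap.polar Q a b = 0 ∧ QuadraticMap.polar Q a b' = 0 ∧
      QuadraticMap.polar Q b' b = 0 := by
  obtain ⟨hW, hd⟩ := inf_ker_polar S h2 (Spinor.top_inf_orth S.nondeg) Submodule.mem_top ha
  rw [finrank_top, Module.finrank_fintype_fun_eq_card] at hd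
  obtain ⟨b, hb, hQb⟩ := Spinor.exists_norm hW (Or.inl (by omega)) ha
  obtain ⟨hW', hd'⟩ := inf_ker_polar S h2 hW hb (by rw [hQb]; exact ha)
  obtain ⟨b', hb', hQb'⟩ := Spinor.exists_norm hW' (Or.inl (by omega)) ha
  exact ⟨b, b', hQb, hQb', by rw [QuadraticMap.polar_comm]; exact Spinor.mem_ker_polar.1 hb.2,
    by rw [QuadraticMap.polar_comm]; exact Spinor.mem_ker_polar.1 hb'.1.2, Spinor.mem_ker_polar.1 hb'.2⟩

end Planes

section OddSub

open Cfsg.Agent.AutPSL (cyc uMap)

variable {F : Type*} [Field F] [Fintype F] {F₀ : Type*} [Field F₀] [Fintype F₀] {m : ℕ} (j : F₀ →+* F)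

local notation "Ix" => Unit ⊕ (Fin m ⊕ Fin m)
local notation "QO" => FormsLib.qOdd m F
local notation "QO0" => FormsLib.qOdd m F₀

/-- Extension of scalars for isometries. -/
noncomputable def isoJ : Cfsg.isometryGroup F₀ ⇑QO0 →* Cfsg.isometryGroup F ⇑QO :=
  MonoidHom.mk' (fun h => ⟨Matrix.GeneralLinearGroup.map j h.1, fun v _ =>
    quad_ext_j j (A := (FormsLib.qOdd m F).comp (Matrix.mulVecLin ((Matrix.GeneralLinearGroup.map j h.1 : GL Ix F) : Matrix Ix Ix F)))
      (B := FormsLib.qOdd m F) (fun u => by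
        rw [QuadraticMap.comp_apply, Matrix.mulVecLin_apply,
          show ((Matrix.GeneralLinearGroup.map j h.1 : GL Ix F) : Matrix Ix Ix F) *ᵥ (fun i => j (u i)) =
            fun i => j ((((h.1 : GL Ix F₀) : Matrix Ix Ix F₀) *ᵥ u) i) from
            funext fun i => (RingHom.map_mulVec j _ u i).symm,
          qOdd_j, qOdd_j]
        exact congrArg j (h.2 u u)) v⟩) fun g h => Subtype.ext (map_mul _ g.1 h.1)

theorem incl_isoJ (h : Cfsg.isometryGroup F₀ ⇑QO0) : incl (isoJ j h) = simJ j (incl h) :=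
  Subtype.ext rfl

theorem isoJ_apply (h : Cfsg.isometryGroup F₀ ⇑QO0) (u : Ix → F₀) :
    ((isoJ j h).1 : Matrix Ix Ix F) *ᵥ (fun i => j (u i)) =
      fun i => j ((((h.1 : GL Ix F₀) : Matrix Ix Ix F₀) *ᵥ u) i) :=
  funext fun i => (RingHom.map_mulVec j _ u i).symm

theorem isoJ_injective : Function.Injective (isoJ j (m := m)) := fun g h e =>
  Subtype.ext (Units.ext (Matrix.map_injective j.injective
    (congrArg (fun z : Cfsg.isometryGroup F ⇑QO => (z.1 : Matrix Ix Ix F)) e)))

theorem isoJ_omega {s : Cfsg.isometryGroup F₀ ⇑QO0} (hs : s ∈ Cfsg.Omega F₀ ⇑QO0) :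
    isoJ j s ∈ Cfsg.Omega F ⇑QO := by
  refine (show (Cfsg.Omega F₀ ⇑QO0).map (isoJ j) ≤ Cfsg.Omega F ⇑QO from ?_) (Subgroup.mem_map_of_mem _ hs)
  show (commutator _).map _ ≤ commutator _
  rw [commutator_def, Subgroup.map_commutator, commutator_def]
  exact Subgroup.commutator_mono le_top le_top

variable (S : QSetting (FormsLib.qOdd m F)) (S₀ : QSetting (FormsLib.qOdd m F₀))
  (h2 : (2 : F) ≠ 0) (h20 : (2 : F₀) ≠ 0)

/-- A scalar in `Ω` is trivial in odd dimension. -/
theorem omega_scalar {K : Type*} [Field K] [Fintype K] (SK : QSetting (FormsLib.qOdd m K))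
    {t : Cfsg.isometryGroup K (⇑(FormsLib.qOdd m K))} (ht : t ∈ Cfsg.Omega K ⇑(FormsLib.qOdd m K)) {a : K}
    (ha : ∀ x, (t.1 : Matrix Ix Ix K) *ᵥ x = a • x) : t = 1 := by
  obtain ⟨x, hx⟩ := exists_quad_one_ne SK
  have h1 : FormsLib.qOdd m K ((t.1 : Matrix Ix Ix K) *ᵥ x) = FormsLib.qOdd m K x := t.2 x x
  rw [ha, QuadraticMap.map_smul, smul_eq_mul] at h1
  have ha2 : a * a = 1 := (mul_eq_right₀ hx).1 h1
  have hM : (t.1 : Matrix Ix Ix K) = a • 1 := Matrix.toLin'.injective (LinearMap.ext fun y => by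
    rw [Matrix.toLin'_apply, Matrix.toLin'_apply, ha, Matrix.smul_mulVec, Matrix.one_mulVec])
  have hd : Matrix.GeneralLinearGroup.det t.1 = 1 :=
    (Abelianization.commutator_subset_ker
      (Matrix.GeneralLinearGroup.det.comp (Cfsg.isometryGroup K ⇑(FormsLib.qOdd m K)).subtype)) ht
  have hd' := congrArg Units.val hd
  rw [Matrix.GeneralLinearGroup.val_det_apply, hM, Matrix.det_smul, Matrix.det_one, mul_one, Units.val_one,
    show Fintype.card Ix = 2 * m + 1 by simp [Fintype.card_sum]; omega, pow_succ, pow_mul, sq, ha2, one_pow,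
    one_mul] at hd'
  exact Subtype.ext (Units.ext (by rw [hM, hd', one_smul]; rfl))

/-- The rational points inside `PΩ`. -/
noncomputable def omJ : Cfsg.Omega F₀ ⇑QO0 →* Cfsg.POmega F ⇑QO :=
  MonoidHom.mk' (fun s => QuotientGroup.mk ⟨isoJ j s.1, isoJ_omega j s.2⟩) fun s t => by
    rw [← QuotientGroup.mk_mul]
    exact congrArg QuotientGroup.mk (Subtype.ext (map_mul (isoJ j) s.1 t.1))

theorem conj_omJ (s : Cfsg.Omega F₀ ⇑QO0) : MulAut.conj (omJ j s) = isoAut (isoJ j s.1) :=
  (isoAut_omega ⟨_, isoJ_omega j s.2⟩).symm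

include S

theorem omJ_injective : Function.Injective (omJ j (m := m)) := by
  rw [injective_iff_map_eq_one]
  intro s hs
  have h1 : isoAut (isoJ j s.1) = 1 := by rw [← conj_omJ, hs, map_one]
  obtain ⟨a, ha⟩ := (isoAut_eq_one_iff S _).1 h1
  exact Subtype.ext (isoJ_injective j ((omega_scalar S (isoJ_omega j s.2) ha).trans (map_one _).symm))

include S₀ h2 h20

/-- An automorphism fixing the rational points is a field automorphism fixing the subfield. -/
theorem exists_of_fix (hm : 3 ≤ m) (d : MulAut (Cfsg.POmega F ⇑QO))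
    (hd : ∀ s, d (omJ j s) = omJ j s) :
    ∃ τ : F ≃+* F, (∀ t, τ (j t) = j t) ∧ d = theta (fldOdd τ) := by
  classical
  obtain ⟨T, rfl⟩ := theta_surjective S h8_odd d
  have hT := semi_spec T
  set τ := sigT T
  have hcomm : ∀ (s : Cfsg.Omega F₀ ⇑QO0) (x : Ix → F),
      ((isoJ j s.1).1 : Matrix Ix Ix F) *ᵥ T.1 x = T.1 (((isoJ j s.1).1 : Matrix Ix Ix F) *ᵥ x) := by
    intro s
    let s1 : Cfsg.Omega F ⇑QO := ⟨isoJ j s.1, isoJ_omega j s.2⟩
    obtain ⟨s', hs'⟩ := exists_conjOmega T s1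
    have h1 : (QuotientGroup.mk s' : Cfsg.POmega F ⇑QO) = QuotientGroup.mk s1 :=
      (theta_mk T s1 s' hs').symm.trans (hd s)
    have hz := QuotientGroup.eq.1 h1.symm
    have h3 : isoAut ((s1⁻¹ * s' : Cfsg.Omega F ⇑QO) : Cfsg.isometryGroup F ⇑QO) = 1 := by
      rw [isoAut_omega, (QuotientGroup.eq_one_iff _).2 hz, map_one]
    obtain ⟨a, ha⟩ := (isoAut_eq_one_iff S _).1 h3
    have h4 : s1⁻¹ * s' = 1 := Subtype.ext (omega_scalar S (s1⁻¹ * s').2 ha)
    rw [← inv_mul_eq_one.1 h4] at hs'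
    exact hs'
  -- rational anisotropic lines
  have hline : ∀ a : Ix → F₀, QO0 a ≠ 0 → ∃ l : F, T.1 (fun i => j (a i)) = l • fun i => j (a i) := by
    intro a ha
    obtain ⟨b, b', hb, hb', hab, hab', hbb⟩ := exists_partners S₀ h20 (by simp [Fintype.card_sum]; omega) ha
    set A : Ix → F := fun i => j (a i)
    have pol : ∀ u v : Ix → F₀, QuadraticMap.polar QO (fun i => j (u i)) (fun i => j (v i)) =
        j (QuadraticMap.polar QO0 u v) := fun u v => by
      simp only [QuadraticMap.polar, map_sub, ← qOdd_j j]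
      congr 3
      funext l; simp
    have step : ∀ c : Ix → F₀, QO0 c = QO0 a → QuadraticMap.polar QO0 a c = 0 →
        ∃ α β : F, T.1 A = α • A + β • fun i => j (c i) := by
      intro c hc hac
      set C : Ix → F := fun i => j (c i)
      have hA : QO A = j (QO0 a) := qOdd_j j a
      have hC : QO C = j (QO0 a) := (qOdd_j j c).trans (by rw [hc])
      have hA0 : QO A ≠ 0 := by rw [hA]; exact (map_ne_zero j).2 ha
      have hC0 : QO C ≠ 0 := by rw [hC]; exact (map_ne_zero j).2 ha
      have hca : QO0 c ≠ 0 := by rw [hc]; exact ha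
      let s : Cfsg.Omega F₀ ⇑QO0 := ⟨_, rf_mul_rf_omega S₀ h20 ha hca hc hac⟩
      have happ : ∀ x, ((isoJ j s.1).1 : Matrix Ix Ix F) *ᵥ x =
          (x - ((QO A)⁻¹ * QuadraticMap.polar QO x A) • A) -
            ((QO C)⁻¹ * QuadraticMap.polar QO x C) • C := fun x => by
        have e : ∀ (u : Ix → F₀) (hu : QO0 u ≠ 0) (hju : QO (fun i => j (u i)) ≠ 0),
            isoJ j (OrthRows.rf QO0 u hu) = OrthRows.rf QO (fun i => j (u i)) hju := fun u hu hju =>
          Subgroup.inclusion_injective _ ((incl_isoJ j _).trans (simJ_rf j hu hju))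
        show ((isoJ j (OrthRows.rf QO0 a ha * OrthRows.rf QO0 c hca)).1 : Matrix Ix Ix F) *ᵥ x = _
        rw [map_mul, e a ha hA0, e c hca hC0, Subgroup.coe_mul, Units.val_mul, ← Matrix.mulVec_mulVec,
          OrthRows.rf_val, OrthRows.rf_val, FormsLib.reflectionMatrix_mulVec, FormsLib.reflectionMatrix_mulVec,
          FormsLib.reflHom_apply, FormsLib.reflHom_apply]
        rw [QuadraticMap.polar_sub_left, QuadraticMap.polar_smul_left, QuadraticMap.polar_comm QO C A,
          show QuadraticMap.polar QO A C = 0 by rw [pol, hac, map_zero], smul_zero, sub_zero]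
        abel
      have hsA : ((isoJ j s.1).1 : Matrix Ix Ix F) *ᵥ A = -A := by
        rw [happ, show QuadraticMap.polar QO A C = 0 by rw [pol, hac, map_zero], mul_zero, zero_smul, sub_zero,
          QuadraticMap.polar_self, nsmul_eq_mul, mul_comm ((2 : ℕ) : F), inv_mul_cancel_left₀ hA0]
        norm_num [two_smul]
      have h5 := hcomm s A
      rw [hsA, show T.1 (-A) = -T.1 A by rw [← neg_one_smul F A, hT.smul, map_neg, map_one, neg_one_smul],
        happ] at h5
      refine ⟨2⁻¹ * ((QO A)⁻¹ * QuadraticMap.polar QO (T.1 A) A),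
        2⁻¹ * ((QO C)⁻¹ * QuadraticMap.polar QO (T.1 A) C), ?_⟩
      have h6 : (2 : F) • T.1 A = ((QO A)⁻¹ * QuadraticMap.polar QO (T.1 A) A) • A +
          ((QO C)⁻¹ * QuadraticMap.polar QO (T.1 A) C) • C := by
        rw [two_smul]
        linear_combination (norm := module) h5
      conv_lhs => rw [← inv_smul_smul₀ h2 (T.1 A), h6, smul_add, smul_smul, smul_smul]
    obtain ⟨α, β, e1⟩ := step b hb hab
    obtain ⟨α', β', e2⟩ := step b' hb' hab'
    refine ⟨α, ?_⟩
    have hβ : β = 0 := by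
      have e3 := congrArg (fun y => QuadraticMap.polar QO y fun i => j (b i)) (e1.symm.trans e2)
      simp only [QuadraticMap.polar_add_left, QuadraticMap.polar_smul_left] at e3
      rw [pol, pol, pol, hab, hbb, map_zero, smul_zero, smul_zero, zero_add, zero_add,
        QuadraticMap.polar_self, nsmul_eq_mul, map_mul, hb, smul_eq_mul, map_natCast] at e3
      rw [smul_zero, Nat.cast_ofNat] at e3
      exact (mul_eq_zero.1 e3).resolve_right (mul_ne_zero h2 ((map_ne_zero j).2 ha))
    rw [e1, hβ, zero_smul, add_zero]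
  -- the standard basis
  let x0 : Ix → F₀ := Pi.single (Sum.inl ()) 1
  let E : (Fin m ⊕ Fin m) → Ix → F₀ := fun k => Pi.single (Sum.inr k) 1
  have hQ0 : ∀ (c : F₀) (k : Fin m ⊕ Fin m), QO0 (x0 + c • E k) = 1 := fun c k => by
    rcases k with k | k <;> simp [x0, E, FormsLib.coe_qOdd, Cfsg.quadFormOdd, Pi.single_apply]
  have hjadd : ∀ u v : Ix → F₀, (fun i => j ((u + v) i)) = (fun i => j (u i)) + fun i => j (v i) := fun u v => by
    funext i; simp
  have hjsmul : ∀ (c : F₀) (v : Ix → F₀), (fun i => j ((c • v) i)) = j c • fun i => j (v i) := fun c v => by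
    funext i; simp
  set X : Ix → F := fun i => j (x0 i)
  set Y : (Fin m ⊕ Fin m) → Ix → F := fun k i => j (E k i)
  obtain ⟨l, hl⟩ := hline x0 (by simp [x0, FormsLib.coe_qOdd, Cfsg.quadFormOdd])
  have hXl : X (Sum.inl ()) = 1 := by simp [X, x0]
  have hXr : ∀ k, X (Sum.inr k) = 0 := fun k => by simp [X, x0]
  have hYl : ∀ k, Y k (Sum.inl ()) = 0 := fun k => by simp [Y, E]
  have hYr : ∀ k k', Y k (Sum.inr k') = if k' = k then 1 else 0 := fun k k' => by
    simp [Y, E, Pi.single_apply, apply_ite j]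
  have hmix : ∀ (c : F₀) k, ∃ μ : F, l • X + τ (j c) • T.1 (Y k) = μ • (X + j c • Y k) := fun c k => by
    obtain ⟨μ, hμ⟩ := hline (x0 + c • E k) (by rw [hQ0]; exact one_ne_zero)
    refine ⟨μ, ?_⟩
    rw [hjadd, hjsmul, hT.add, hT.smul, hl] at hμ
    exact hμ
  choose μ hμ using hmix
  set ν : (Fin m ⊕ Fin m) → F := fun k => μ 1 k
  have hTY : ∀ k, T.1 (Y k) = (ν k - l) • X + ν k • Y k := fun k => by
    have h6 := hμ 1 k
    rw [map_one, map_one, one_smul, one_smul] at h6
    linear_combination (norm := module) h6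
  have hν : ∀ k, ν k = l := by
    have hpair : ∀ i : Fin m, ν (.inl i) = l ∧ ν (.inr i) = l := fun i => by
      obtain ⟨l', hl'⟩ := hline (E (.inl i) + E (.inr i)) (by
        simp [E, FormsLib.coe_qOdd, Cfsg.quadFormOdd, Pi.single_apply])
      obtain ⟨κ, hκ⟩ := hline (x0 + (E (.inl i) + E (.inr i))) (by
        simp [x0, E, FormsLib.coe_qOdd, Cfsg.quadFormOdd, Pi.single_apply]
        intro h; exact h20 (by linear_combination h))
      rw [hjadd, hT.add] at hl'
      rw [hjadd, hjadd, hT.add, hT.add, hl, hl'] at hκ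
      change T.1 (Y (.inl i)) + T.1 (Y (.inr i)) = l' • (Y (.inl i) + Y (.inr i)) at hl'
      rw [hTY, hTY] at hl'
      have a0 := congrFun hl' (Sum.inl ())
      have a1 := congrFun hl' (Sum.inr (.inl i))
      have a2 := congrFun hl' (Sum.inr (.inr i))
      have b0 := congrFun hκ (Sum.inl ())
      have b1 := congrFun hκ (Sum.inr (.inl i))
      change l • X (Sum.inl ()) + l' • (Y (.inl i) (Sum.inl ()) + Y (.inr i) (Sum.inl ())) =
        κ • (X (Sum.inl ()) + (Y (.inl i) (Sum.inl ()) + Y (.inr i) (Sum.inl ()))) at b0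
      change l • X (Sum.inr (.inl i)) + l' • (Y (.inl i) (Sum.inr (.inl i)) + Y (.inr i) (Sum.inr (.inl i))) =
        κ • (X (Sum.inr (.inl i)) + (Y (.inl i) (Sum.inr (.inl i)) + Y (.inr i) (Sum.inr (.inl i)))) at b1
      simp [hXl, hXr, hYl, hYr] at a0 a1 a2 b0 b1
      exact ⟨by linear_combination a1 + b1 - b0, by linear_combination a2 + b1 - b0⟩
    rintro (i | i)
    exacts [(hpair i).1, (hpair i).2]
  have hbasis : ∀ k : Ix, T.1 (Pi.single k 1) = l • Pi.single k 1 := by
    rintro (u | k)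
    · rw [show (Pi.single (Sum.inl u) (1 : F) : Ix → F) = X by
        funext i; simp [X, x0, Pi.single_apply, apply_ite j]]
      exact hl
    · rw [show (Pi.single (Sum.inr k) (1 : F) : Ix → F) = Y k by
        funext i; simp [Y, E, Pi.single_apply, apply_ite j], hTY, hν, sub_self, zero_smul, zero_add]
  have hl0 : l ≠ 0 := fun e => by
    have h9 := hbasis (Sum.inl ())
    rw [e, zero_smul] at h9
    have h10 := hT.quad (Pi.single (Sum.inl ()) 1)
    rw [h9, map_zero] at h10
    have h11 : QO (Pi.single (Sum.inl ()) (1 : F)) = 1 := by simp [FormsLib.coe_qOdd, Cfsg.quadFormOdd]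
    rw [h11, map_one, mul_one] at h10
    exact hT.ne h10.symm
  have hfix : ∀ t, τ (j t) = j t := fun t => by
    have i0 : Fin m := ⟨0, by omega⟩
    have h7 := hμ t (.inl i0)
    rw [hTY, hν, sub_self, zero_smul, zero_add] at h7
    have c0 := congrFun h7 (Sum.inl ())
    have c1 := congrFun h7 (Sum.inr (.inl i0))
    simp [hXl, hXr, hYl, hYr] at c0 c1
    rw [← c0] at c1
    exact mul_left_cancel₀ hl0 (by linear_combination c1)
  refine ⟨τ, hfix, ?_⟩
  have hTeq : T = ofSim (scalSim (Units.mk0 l hl0)) * fldOdd τ := by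
    refine Subtype.ext (Equiv.ext fun x => ?_)
    rw [scal_mul_apply]
    show T.1 x = l • fun i => τ (x i)
    let A : (Ix → F) →+ (Ix → F) := AddMonoidHom.mk' T.1 hT.add
    calc T.1 x = A (∑ k, x k • Pi.single k 1) := by rw [← pi_eq_sum_univ' x]; rfl
      _ = ∑ k, A (x k • Pi.single k 1) := map_sum A _ _
      _ = ∑ k, τ (x k) • (l • Pi.single k 1) := Finset.sum_congr rfl fun k _ =>
          (hT.smul _ _).trans (by rw [hbasis])
      _ = _ := by
        simp only [smul_comm _ l, ← Finset.smul_sum]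
        exact congrArg (l • ·) (pi_eq_sum_univ' fun i => τ (x i)).symm
  rw [hTeq, map_mul, show theta (ofSim (scalSim (Q := QO) (Units.mk0 l hl0))) = 1 from
    (theta_eq_one_iff S _).2 ⟨l, hl0, fun z => scalSim_apply _ z⟩, one_mul]

omit S h2

/-- The group of rational points has even order. -/
theorem two_dvd_omega (hm : 3 ≤ m) : 2 ∣ Nat.card (Cfsg.Omega F₀ ⇑QO0) := by
  set a : Ix → F₀ := Pi.single (Sum.inl ()) 1
  set b : Ix → F₀ := Pi.single (Sum.inr (.inl ⟨0, by omega⟩)) 1 + Pi.single (Sum.inr (.inr ⟨0, by omega⟩)) 1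
  have hQa : QO0 a = 1 := by simp [a, FormsLib.coe_qOdd, Cfsg.quadFormOdd]
  have hQb : QO0 b = 1 := by simp [b, FormsLib.coe_qOdd, Cfsg.quadFormOdd, Pi.single_apply]
  have hp : QuadraticMap.polar QO0 a b = 0 := by
    simp [QuadraticMap.polar, a, b, FormsLib.coe_qOdd, Cfsg.quadFormOdd, Pi.single_apply]
  have ha : QO0 a ≠ 0 := by rw [hQa]; exact one_ne_zero
  have hb : QO0 b ≠ 0 := by rw [hQb]; exact one_ne_zero
  set t : Cfsg.Omega F₀ ⇑QO0 := ⟨_, rf_mul_rf_omega S₀ h20 ha hb (hQb.trans hQa.symm) hp⟩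
  have happ : (((t : Cfsg.isometryGroup F₀ ⇑QO0).1 : GL Ix F₀) : Matrix Ix Ix F₀) *ᵥ a = -a := by
    show ((OrthRows.rf QO0 a ha * OrthRows.rf QO0 b hb).1 : Matrix Ix Ix F₀) *ᵥ a = -a
    rw [Subgroup.coe_mul, Units.val_mul, ← Matrix.mulVec_mulVec, OrthRows.rf_val, OrthRows.rf_val,
      FormsLib.reflectionMatrix_mulVec, FormsLib.reflectionMatrix_mulVec, FormsLib.reflHom_apply,
      FormsLib.reflHom_apply, hp, mul_zero, zero_smul, sub_zero, QuadraticMap.polar_self, hQa]
    norm_num
    module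
  have hne : t ≠ 1 := fun e => by
    rw [e] at happ
    have := congrFun happ (Sum.inl ())
    simp [a] at this
    exact h20 (by linear_combination this)
  have hsq : t * t = 1 := by
    refine Subtype.ext ?_
    show (OrthRows.rf QO0 a ha * OrthRows.rf QO0 b hb) * (OrthRows.rf QO0 a ha * OrthRows.rf QO0 b hb) = 1
    have hc : OrthRows.rf QO0 b hb * OrthRows.rf QO0 a ha = OrthRows.rf QO0 a ha * OrthRows.rf QO0 b hb := by
      refine Subtype.ext (Units.ext (Matrix.toLin'.injective (LinearMap.ext fun x => ?_)))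
      rw [Matrix.toLin'_apply, Matrix.toLin'_apply, Subgroup.coe_mul, Subgroup.coe_mul, Units.val_mul,
        Units.val_mul, ← Matrix.mulVec_mulVec, ← Matrix.mulVec_mulVec]
      simp only [OrthRows.rf_val, FormsLib.reflectionMatrix_mulVec, FormsLib.reflHom_apply,
        QuadraticMap.polar_sub_left, QuadraticMap.polar_smul_left, hp, QuadraticMap.polar_comm _ b a, smul_zero,
        sub_zero]
      abel
    rw [mul_assoc, ← mul_assoc (OrthRows.rf QO0 b hb), hc, mul_assoc, OrthRows.rf_mul_self, mul_one,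
      OrthRows.rf_mul_self]
  rw [← orderOf_eq_prime (p := 2) (by rw [sq]; exact hsq) hne]
  exact orderOf_dvd_natCard t

end OddSub

/-- The criterion, from a simple group of fixed points whose pointwise stabiliser is small. -/
theorem core_criterion {K L : Type*} [Group K] [Group L] [Finite K] [IsSimpleGroup L] (p : ℕ) [Fact p.Prime]
    (A : Subgroup (MulAut K)) (hinn : ∀ k, MulAut.conj k ∈ A) (φ : MulAut K)
    (hinj : Function.Injective (MulAut.conj : K →* MulAut K)) (j : L →* K) (hj : Function.Injective j)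
    (hfix : ∀ l, φ (j l) = j l) (hstab : ∀ d : MulAut K, (∀ l, d (j l) = j l) → d ^ p = 1)
    (hK₀ : ∀ k, φ k = k → (∀ l, k * j l = j l * k) → k = 1)
    (hcard : Nat.card ↥(MonoidHom.eqLocus φ.toMonoidHom (MonoidHom.id K)) ∣ 2 * Nat.card L)
    (heven : 2 ∣ Nat.card L) :
    Cfsg.pPrimeCore p ↥(A ⊓ Subgroup.centralizer {φ}) ≠ ⊥ ↔
      Nat.Coprime p (Nat.card ↥(MonoidHom.eqLocus φ.toMonoidHom (MonoidHom.id K))) := by
  classical
  set K₀ := MonoidHom.eqLocus φ.toMonoidHom (MonoidHom.id K)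
  set C := A ⊓ Subgroup.centralizer {φ}
  have hconj : ∀ (d : MulAut K) (k : K), d * MulAut.conj k * d⁻¹ = MulAut.conj (d k) := fun d k =>
    MulEquiv.ext fun z => by simp [MulAut.mul_apply, MulAut.conj_apply]
  have hcom : ∀ d : C, Commute d.1 φ := fun d => Subgroup.mem_centralizer_singleton_iff.1 d.2.2
  let ι : K₀ →* C := ((MulAut.conj : K →* MulAut K).comp K₀.subtype).codRestrict C fun k =>
    ⟨hinn _, Subgroup.mem_centralizer_singleton_iff.2 (by
      have h := hconj φ k.1
      rw [show φ k.1 = k.1 from k.2] at h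
      exact (mul_inv_eq_iff_eq_mul.1 h).symm)⟩
  have hι : Function.Injective ι := fun a b h => Subtype.ext (hinj (congrArg Subtype.val h))
  have hnorm : ∀ (d : C) (k : K₀), ∃ k' : K₀, ι k' = d * ι k * d⁻¹ := fun d k => by
    refine ⟨⟨d.1 k.1, ?_⟩, Subtype.ext (hconj d.1 k.1).symm⟩
    show φ (d.1 k.1) = d.1 k.1
    rw [← MulAut.mul_apply, ← (hcom d).eq, MulAut.mul_apply, show φ k.1 = k.1 from k.2]
  have hN : ι.range.Normal := ⟨by
    rintro _ ⟨k, rfl⟩ d
    obtain ⟨k', hk'⟩ := hnorm d k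
    exact ⟨k', hk'⟩⟩
  let L₀ : L →* K₀ := j.codRestrict K₀ hfix
  have hL₀ : Function.Injective L₀ := fun a b h => hj (congrArg Subtype.val h)
  haveI : Nontrivial L := IsSimpleGroup.toNontrivial
  haveI : Finite L := Finite.of_injective j hj
  constructor
  · intro hne
    by_contra hnc
    have hpK : p ∣ Nat.card K₀ := by
      rwa [Nat.Prime.coprime_iff_not_dvd Fact.out, not_not] at hnc
    have hpL : p ∣ Nat.card L := by
      rcases (Nat.Prime.dvd_mul (Fact.out : p.Prime)).1 (hpK.trans hcard) with h | h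
      · rw [(Nat.prime_dvd_prime_iff_eq Fact.out Nat.prime_two).1 h]; exact heven
      · exact h
    refine hne ((eq_bot_iff (α := Subgroup C)).2 (sSup_le ?_))
    rintro D ⟨hDn, hDp⟩
    haveI := hDn
    have hsmall : ∀ d ∈ D, d ^ p = 1 → d = 1 := by
      intro d hd hdp
      have h1 : orderOf (⟨d, hd⟩ : D) ∣ p := orderOf_dvd_of_pow_eq_one (Subtype.ext hdp)
      exact congrArg Subtype.val (orderOf_eq_one_iff.1 (Nat.eq_one_of_dvd_coprimes hDp (orderOf_dvd_natCard _) h1))
    -- `D` meets the simple subgroup trivially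
    have hDL : ∀ l, ι (L₀ l) ∈ D → l = 1 := by
      rcases IsSimpleGroup.eq_bot_or_eq_top_of_normal (D.comap (ι.comp L₀)) inferInstance with h | h
      · intro l hl
        rwa [← Subgroup.mem_bot, ← h]
      · intro l hl
        exfalso
        obtain ⟨l₁, hl₁⟩ := exists_prime_orderOf_dvd_card' (G := L) p hpL
        have h2 : ι (L₀ l₁) ∈ D := ((Subgroup.eq_top_iff' _).1 h l₁ : _)
        have h3 : ι (L₀ l₁) = 1 := hsmall _ h2 (by
          rw [← map_pow, ← map_pow, ← hl₁, pow_orderOf_eq_one, map_one, map_one])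
        have h4 : l₁ = 1 := hL₀ (hι (h3.trans ((map_one ι).symm.trans (congrArg ι (map_one L₀).symm))))
        rw [h4, orderOf_one] at hl₁
        exact (Fact.out : p.Prime).ne_one hl₁.symm
    -- `D` meets the fixed points trivially
    set R := D.comap ι
    have hR2 : Nat.card R ≤ 2 := by
      have hidx : L₀.range.index ≤ 2 := by
        have h1 := Subgroup.card_mul_index L₀.range
        rw [← Nat.card_congr (MonoidHom.ofInjective hL₀).toEquiv] at h1
        refine Nat.le_of_dvd two_pos ?_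
        refine Nat.dvd_of_mul_dvd_mul_left (Nat.card_pos (α := L)) ?_
        rw [h1, mul_comm (Nat.card L)]
        exact hcard
      refine le_trans (Nat.card_le_card_of_injective (fun r : R => (QuotientGroup.mk r.1 : K₀ ⧸ L₀.range)) ?_) hidx
      intro a b h
      obtain ⟨l, hl⟩ := QuotientGroup.eq.1 h
      have hmem : ι (L₀ l) ∈ D := by rw [hl, map_mul, map_inv]; exact mul_mem (inv_mem a.2) b.2
      rw [hDL l hmem, map_one] at hl
      exact Subtype.ext (inv_mul_eq_one.1 hl.symm)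
    have hR : ∀ k ∈ R, k = 1 := by
      intro k hk
      by_contra hk1
      have hall : ∀ k' ∈ R, k' = 1 ∨ k' = k := by
        intro k' hk'
        by_contra hcon
        push Not at hcon
        have h3 : ({1, k, k'} : Set K₀) ⊆ (R : Set K₀) := by
          rintro z (rfl | rfl | rfl)
          exacts [one_mem _, hk, hk']
        have h4 := Set.ncard_le_ncard h3 (Set.toFinite _)
        rw [Set.ncard_insert_of_notMem (by simp [Ne.symm hk1, Ne.symm hcon.1]) (Set.toFinite _),
          Set.ncard_pair (Ne.symm hcon.2), ← Nat.card_coe_set_eq, SetLike.coe_sort_coe] at h4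
        omega
      refine hk1 (Subtype.ext (hK₀ k.1 k.2 fun l => ?_))
      haveI : R.Normal := Subgroup.Normal.comap hDn ι
      rcases hall _ (Subgroup.Normal.conj_mem inferInstance k hk (L₀ l)) with h | h
      · exact absurd (conj_eq_one_iff.1 h) hk1
      · exact (congrArg Subtype.val (mul_inv_eq_iff_eq_mul.1 h)).symm
    intro d hd
    refine Subgroup.mem_bot.2 (hsmall d hd (Subtype.ext ?_))
    show d.1 ^ p = 1
    refine hstab d.1 fun l => ?_
    obtain ⟨k', hk'⟩ := hnorm d (L₀ l)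
    have hmem : ι (k' * (L₀ l)⁻¹) ∈ D := by
      rw [map_mul, map_inv, hk', mul_assoc d, mul_assoc d]
      exact mul_mem hd (hDn.conj_mem _ (inv_mem hd) _)
    rw [mul_inv_eq_one.1 (hR _ hmem)] at hk'
    exact hinj ((hconj d.1 (j l)).symm.trans (congrArg Subtype.val hk').symm)
  · intro hco hbot
    obtain ⟨l, hl⟩ := exists_ne (1 : L)
    have hle : ι.range ≤ Cfsg.pPrimeCore p ↥C := le_sSup ⟨hN, by
      rw [← Nat.card_congr (MonoidHom.ofInjective hι).toEquiv]; exact hco.symm⟩
    rw [hbot] at hle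
    have h1 : ι (L₀ l) = 1 := Subgroup.mem_bot.1 (hle ⟨_, rfl⟩)
    exact hl (hL₀ (hι (h1.trans ((map_one ι).symm.trans (congrArg ι (map_one L₀).symm)))))

end Cfsg.Agent.AutPOmega
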