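import Cfsg.Agent.Lib.AutPOmega.FrameStab
import Cfsg.Agent.Lib.AutPOmega.OddCore
import Cfsg.Agent.S2730

/-!
# The criterion for a framed field automorphism
-/

set_option autoImplicit false
set_option linter.unusedSectionVars false
set_option maxHeartbeats 1000000

namespace Cfsg.Agent.AutPOmega

open Cfsg.Agent Cfsg.Agent.TransvMax Cfsg.Agent.QMax
open scoped Matrix

variable {ι : Type} [Fintype ι] [DecidableEq ι] {F : Type*} [Field F] [Fintype F]
  {Q : QuadraticForm F (ι → F)}

section Similar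

variable {Q' : QuadraticForm F (ι → F)} {H : GL ι F} {b : F} (hb : b ≠ 0)
  (hH : ∀ x, Q ((H : Matrix ι ι F) *ᵥ x) = b * Q' x)

include hb hH

theorem conjGL_mem_isometry (g : Cfsg.isometryGroup F ⇑Q') : H * g.1 * H⁻¹ ∈ Cfsg.isometryGroup F ⇑Q := by
  intro v _
  obtain ⟨x, rfl⟩ := (glPerm H).surjective v
  show Q (((H * g.1 * H⁻¹ : GL ι F) : Matrix ι ι F) *ᵥ ((H : Matrix ι ι F) *ᵥ x)) = Q ((H : Matrix ι ι F) *ᵥ x)
  rw [Matrix.mulVec_mulVec, ← Units.val_mul, inv_mul_cancel_right, Units.val_mul, ← Matrix.mulVec_mulVec, hH, hH]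
  exact congrArg (b * ·) (g.2 x x)

theorem conjGL_inv_mem_isometry (g : Cfsg.isometryGroup F ⇑Q) : H⁻¹ * g.1 * H ∈ Cfsg.isometryGroup F ⇑Q' := by
  intro x _
  refine mul_left_cancel₀ hb ?_
  show b * Q' (((H⁻¹ * g.1 * H : GL ι F) : Matrix ι ι F) *ᵥ x) = b * Q' x
  rw [← hH, ← hH, Matrix.mulVec_mulVec, ← Units.val_mul, mul_assoc, mul_inv_cancel_left, Units.val_mul,
    ← Matrix.mulVec_mulVec]
  exact g.2 _ ((H : Matrix ι ι F) *ᵥ x)

/-- Similar forms have conjugate isometry groups. -/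
noncomputable def isoCongr : Cfsg.isometryGroup F ⇑Q' ≃* Cfsg.isometryGroup F ⇑Q where
  toFun g := ⟨H * g.1 * H⁻¹, conjGL_mem_isometry hb hH g⟩
  invFun g := ⟨H⁻¹ * g.1 * H, conjGL_inv_mem_isometry hb hH g⟩
  left_inv g := Subtype.ext (by simp [mul_assoc])
  right_inv g := Subtype.ext (by simp [mul_assoc])
  map_mul' g g' := Subtype.ext (by simp [mul_assoc])

theorem omega_map_isoCongr :
    (Cfsg.Omega F ⇑Q').map (isoCongr hb hH).toMonoidHom = Cfsg.Omega F ⇑Q := by
  rw [Cfsg.Omega, _root_.commutator_def, Subgroup.map_commutator,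
    Subgroup.map_top_of_surjective _ (isoCongr hb hH).surjective, Cfsg.Omega, _root_.commutator_def]

/-- Similar forms have isomorphic derived groups. -/
noncomputable def omCongr : Cfsg.Omega F ⇑Q' ≃* Cfsg.Omega F ⇑Q :=
  ((isoCongr hb hH).subgroupMap (Cfsg.Omega F ⇑Q')).trans (MulEquiv.subgroupCongr (omega_map_isoCongr hb hH))

theorem center_map_omCongr :
    (Subgroup.center (Cfsg.Omega F ⇑Q')).map (omCongr hb hH).toMonoidHom = Subgroup.center (Cfsg.Omega F ⇑Q) := by
  ext z
  rw [Subgroup.mem_map, Subgroup.mem_center_iff]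
  constructor
  · rintro ⟨w, hw, rfl⟩ g
    obtain ⟨g', rfl⟩ := (omCongr hb hH).surjective g
    rw [MulEquiv.coe_toMonoidHom, ← map_mul, ← map_mul, Subgroup.mem_center_iff.1 hw g']
  · intro hz
    obtain ⟨w, rfl⟩ := (omCongr hb hH).surjective z
    refine ⟨w, Subgroup.mem_center_iff.2 fun g => (omCongr hb hH).injective ?_, rfl⟩
    rw [map_mul, map_mul]
    exact hz _

/-- Similar forms have isomorphic projective groups. -/
noncomputable def pomCongr : Cfsg.POmega F ⇑Q' ≃* Cfsg.POmega F ⇑Q :=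
  QuotientGroup.congr _ _ (omCongr hb hH) (center_map_omCongr hb hH)

/-- A semilinear map standard in the coordinates of `H` is a field automorphism there. -/
theorem isFieldOf_pomCongr {σ : F ≃+* F} {T : SemiT Q}
    (hT : ∀ x : ι → F, T.1 ((H : Matrix ι ι F) *ᵥ x) = (H : Matrix ι ι F) *ᵥ fun i => σ (x i)) :
    Cfsg.IsFieldAutPOmegaOf (⇑Q') σ
      (((pomCongr hb hH).trans (theta T)).trans (pomCongr hb hH).symm) := by
  intro s s' hs
  show (pomCongr hb hH).symm (theta T (QuotientGroup.mk (omCongr hb hH s))) = QuotientGroup.mk s'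
  rw [MulEquiv.symm_apply_eq]
  show theta T _ = QuotientGroup.mk (omCongr hb hH s')
  refine theta_mk T _ _ fun v => ?_
  obtain ⟨y, rfl⟩ := (glPerm H).surjective v
  have e : ∀ (t : Cfsg.Omega F ⇑Q') (u : ι → F), omMat (omCongr hb hH t) *ᵥ ((H : Matrix ι ι F) *ᵥ u) =
      (H : Matrix ι ι F) *ᵥ (((t : Cfsg.isometryGroup F ⇑Q').1 : Matrix ι ι F) *ᵥ u) := fun t u => by
    show ((H * (t : Cfsg.isometryGroup F ⇑Q').1 * H⁻¹ : GL ι F) : Matrix ι ι F) *ᵥ _ = _
    rw [Matrix.mulVec_mulVec, ← Units.val_mul, inv_mul_cancel_right, Units.val_mul, ← Matrix.mulVec_mulVec]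
  rw [glPerm_apply, hT, e, e, hT, hs]
  congr 1
  exact funext fun i => (RingHom.map_mulVec (σ : F →+* F) _ y i).symm

end Similar

variable (S : QSetting Q)
  {F₀ : Type*} [Field F₀] [Fintype F₀] (j : F₀ →+* F)
  {R : QuadraticForm F₀ (ι → F₀)} (S₀ : QSetting R)
  {σ : F ≃+* F} (hj : ∀ a, σ a = a ↔ a ∈ j.range) {T : SemiT Q} (P : Frame j σ T R)

include S S₀ hj in
theorem isSquare_of_image {p : ℕ} (hσp : orderOf σ = p) (hodd : Odd p) (c : F₀) (h : IsSquare (j c)) :
    IsSquare c := by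
  obtain ⟨x, hx⟩ := h
  have h1 : σ x * σ x = x * x := by rw [← map_mul, ← hx]; exact (hj _).2 ⟨c, rfl⟩
  have h3 : σ x = x := by
    rcases mul_self_eq_mul_self_iff.1 h1 with h | h
    · exact h
    · have hit : ∀ n : ℕ, (σ ^ n) x = (-1) ^ n * x := by
        intro n
        induction n with
        | zero => simp
        | succ n ih =>
          rw [pow_succ' σ]
          show σ ((σ ^ n) x) = _
          rw [ih, map_mul, map_pow, map_neg, map_one, h, pow_succ]; ring
      have h4 := hit p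
      rw [← hσp, pow_orderOf_eq_one, hσp, hodd.neg_one_pow] at h4
      rw [h]
      exact (show x = -x by simpa using h4).symm
  obtain ⟨y, hy⟩ := (hj x).1 h3
  exact ⟨y, j.injective (by rw [map_mul, hy, hx])⟩

include S S₀ hj in
/-- The criterion for a framed field automorphism of odd prime order. -/
theorem frame_core (p : ℕ) [Fact p.Prime] (hσp : orderOf σ = p) (hodd : Odd p)
    (hsurj : Function.Surjective (theta (Q := Q)))
    {χ : Cfsg.Geo.quadSimilarityGroup (F := F) ⇑Q →* ℤˣ}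
    {χ₀ : Cfsg.Geo.quadSimilarityGroup (F := F₀) ⇑R →* ℤˣ}
    (hcj : ∀ g, χ (frameJ j P g) = χ₀ g)
    (hdk : ∀ h, χ (incl h) = OrthRows.dk S.nondeg (hexc S) h) (hsc : ∀ c, χ (scalSim c) = 1)
    (hdk₀ : ∀ h, χ₀ (incl h) = OrthRows.dk S₀.nondeg (hexc S₀) h)
    (heven : 2 ∣ Nat.card (Cfsg.POmega F₀ ⇑R))
    (A : Subgroup (MulAut (Cfsg.POmega F ⇑Q))) (hinn : ∀ k, MulAut.conj k ∈ A) :
    Cfsg.pPrimeCore p ↥(A ⊓ Subgroup.centralizer {theta T}) ≠ ⊥ ↔
      Nat.Coprime p (Nat.card ↥(MonoidHom.eqLocus (theta T).toMonoidHom (MonoidHom.id (Cfsg.POmega F ⇑Q)))) := by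
  classical
  have hr0 : 0 < orderOf σ := by rw [hσp]; exact hodd.pos
  haveI := OrthSimple.isSimple_POmega S₀ (f := ⇑R) rfl
  refine core_criterion p A hinn (theta T) (conj_injective S) (framePOm S j S₀ P)
    (framePOm_injective S j S₀ P) (framePOm_fix S j S₀ P hj) ?_ ?_ ?_ heven
  · -- the stabiliser is a field automorphism in the frame
    intro d hd
    obtain ⟨U, rfl⟩ := hsurj d
    obtain ⟨l, hl, hτ, hU⟩ := frame_stab S j S₀ P hj U hd
    have hτp : sigT U ^ p = 1 := hσp ▸ S2730.pow_eq_one_of_fix σ (sigT U) hr0 fun a ha => by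
      obtain ⟨t, rfl⟩ := (hj a).1 ha
      exact hτ t
    have hit : ∀ n : ℕ, ∃ c : F, c ≠ 0 ∧
        ∀ x, (U ^ n).1 ((P.H).1 *ᵥ x) = c • ((P.H).1 *ᵥ fun i => (sigT U ^ n) (x i)) := by
      intro n
      induction n with
      | zero => exact ⟨1, one_ne_zero, fun x => by rw [one_smul]; rfl⟩
      | succ n ih =>
        obtain ⟨c, hc, h⟩ := ih
        refine ⟨sigT U c * l, mul_ne_zero ((map_ne_zero (sigT U)).2 hc) hl, fun x => ?_⟩
        rw [pow_succ' U]
        show U.1 ((U ^ n).1 _) = _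
        rw [h, (semi_spec U).smul, hU, smul_smul, pow_succ' (sigT U)]
        rfl
    obtain ⟨c, hc, h⟩ := hit p
    rw [← map_pow]
    refine (theta_eq_one_iff S _).2 ⟨c, hc, fun v => ?_⟩
    obtain ⟨x, rfl⟩ := (glPerm P.H).surjective v
    rw [glPerm_apply, h, hτp]
    rfl
  · -- nothing inner centralises the rational points
    intro k _ hk
    induction k using QuotientGroup.induction_on with
    | H t =>
      set U := ofSim (incl (t : Cfsg.isometryGroup F ⇑Q))
      have hθ : theta U = MulAut.conj (QuotientGroup.mk t) := isoAut_omega t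
      obtain ⟨l, hl, -, hU⟩ := frame_stab S j S₀ P hj U fun z => by
        rw [hθ, MulAut.conj_apply, mul_inv_eq_iff_eq_mul]
        exact hk z
      have hs : sigT U = 1 := (sig_eq_one_iff S).2 ⟨_, rfl⟩
      refine conj_injective S ?_
      rw [map_one, ← hθ]
      refine (theta_eq_one_iff S _).2 ⟨l, hl, fun v => ?_⟩
      obtain ⟨x, rfl⟩ := (glPerm P.H).surjective v
      rw [glPerm_apply, hU, hs]
      rfl
  · -- the fixed points are covered by the rational special group
    let Θ : (OrthRows.dk S₀.nondeg (hexc S₀)).ker →* MulAut (Cfsg.POmega F ⇑Q) :=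
      ((isoAut (Q := Q)).comp (frameIso S j S₀ P)).comp (OrthRows.dk S₀.nondeg (hexc S₀)).ker.subtype
    let K₀ := MonoidHom.eqLocus (theta T).toMonoidHom (MonoidHom.id (Cfsg.POmega F ⇑Q))
    have hsub : K₀.map (MulAut.conj : Cfsg.POmega F ⇑Q →* MulAut (Cfsg.POmega F ⇑Q)) ≤ Θ.range := by
      rintro _ ⟨k, hk, rfl⟩
      induction k using QuotientGroup.induction_on with
      | H t =>
        have h3 : theta T * MulAut.conj (QuotientGroup.mk t) * (theta T)⁻¹ =
            MulAut.conj (theta T (QuotientGroup.mk t)) := MulEquiv.ext fun z => by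
          simp [MulAut.mul_apply, MulAut.conj_apply]
        rw [show theta T (QuotientGroup.mk t) = QuotientGroup.mk t from hk] at h3
        have hcom : Commute (simAut (incl (t : Cfsg.isometryGroup F ⇑Q))) (theta T) := by
          rw [show simAut (incl (t : Cfsg.isometryGroup F ⇑Q)) = MulAut.conj (QuotientGroup.mk t) from isoAut_omega t]
          exact (mul_inv_eq_iff_eq_mul.1 h3).symm
        obtain ⟨g₀, d, hd⟩ := exists_frameJ S j S₀ hj P hr0 _ hcom
        have hμ : j (simMul S₀ g₀ : F₀) = (d : F) * d := by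
          rw [← simMul_frameJ S j P S₀, ← hd, map_mul, simMul_scal S, simMul_incl S, mul_one, Units.val_mul]
        obtain ⟨s, hs⟩ := isSquare_of_image S j S₀ hj hσp hodd _ ⟨_, hμ⟩
        have hs0 : s ≠ 0 := fun e => Units.ne_zero (simMul S₀ g₀) (by rw [hs, e, zero_mul])
        have hk1 : (scalSim (Q := R) (Units.mk0 s hs0))⁻¹ * g₀ ∈ (simMul S₀).ker := by
          rw [MonoidHom.mem_ker, map_mul, map_inv, simMul_scal S₀, inv_mul_eq_one]
          exact Units.ext hs.symm
        rw [ker_simMul S₀] at hk1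
        obtain ⟨h₀, hh₀⟩ := hk1
        have hh : frameJ j P g₀ = frameJ j P (scalSim (Units.mk0 s hs0)) * incl (frameIso S j S₀ P h₀) := by
          rw [incl_frameIso, ← map_mul]
          exact congrArg _ (by rw [show incl h₀ = _ from hh₀, mul_inv_cancel_left])
        have hχ : OrthRows.dk S₀.nondeg (hexc S₀) h₀ = 1 := by
          have e1 := congrArg χ hh
          rw [← hd, map_mul, map_mul, frameJ_scal, hsc, hsc, one_mul, one_mul, hdk,
            ((OrthRows.mem_omega S.nondeg (hexc S)).1 t.2).1, incl_frameIso, hcj, hdk₀] at e1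
          exact e1.symm
        refine ⟨⟨h₀, hχ⟩, ?_⟩
        show isoAut (frameIso S j S₀ P h₀) = MulAut.conj (QuotientGroup.mk t)
        rw [← isoAut_omega]
        show simAut (incl (frameIso S j S₀ P h₀)) = simAut (incl (t : Cfsg.isometryGroup F ⇑Q))
        have e2 := congrArg (simAut (Q := Q)) hh
        rw [← hd, map_mul, map_mul, frameJ_scal] at e2
        simp only [(simAut_eq_one_iff S (scalSim _)).2 ⟨_, rfl⟩, one_mul] at e2
        exact e2.symm
    have h1 : Nat.card K₀ ∣ Nat.card Θ.range := by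
      rw [Nat.card_congr (Subgroup.equivMapOfInjective K₀ _ (conj_injective S)).toEquiv]
      exact Subgroup.card_dvd_of_le hsub
    refine h1.trans ?_
    let W : Subgroup (OrthRows.dk S₀.nondeg (hexc S₀)).ker :=
      ((OrthRows.sp S₀.nondeg (hexc S₀)).comp (OrthRows.dk S₀.nondeg (hexc S₀)).ker.subtype).ker
    have hW : W.index ∣ 2 := by
      rw [Subgroup.index_ker]
      exact (Subgroup.card_subgroup_dvd_card _).trans (by rw [Nat.card_eq_fintype_card, Fintype.card_units_int])
    have hWcard : Nat.card (W.map Θ.rangeRestrict) = Nat.card (Cfsg.POmega F₀ ⇑R) := by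
      have e : (W.map Θ.rangeRestrict).map Θ.range.subtype =
          ((MulAut.conj : Cfsg.POmega F ⇑Q →* MulAut (Cfsg.POmega F ⇑Q)).comp (framePOm S j S₀ P)).range := by
        rw [Subgroup.map_map, MonoidHom.subtype_comp_rangeRestrict]
        ext y
        constructor
        · rintro ⟨g, hg, rfl⟩
          let s : Cfsg.Omega F₀ ⇑R := ⟨g.1, (OrthRows.mem_omega S₀.nondeg (hexc S₀)).2 ⟨g.2, hg⟩⟩
          exact ⟨QuotientGroup.mk s, conj_framePOm S j S₀ P s⟩
        · rintro ⟨z, rfl⟩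
          induction z using QuotientGroup.induction_on with
          | H s =>
            have hs := (OrthRows.mem_omega S₀.nondeg (hexc S₀)).1 s.2
            exact ⟨⟨s.1, hs.1⟩, hs.2, (conj_framePOm S j S₀ P s).symm⟩
      rw [Nat.card_congr (Subgroup.equivMapOfInjective _ Θ.range.subtype (Subgroup.subtype_injective _)).toEquiv, e]
      exact (Nat.card_congr (MonoidHom.ofInjective
        ((conj_injective S).comp (framePOm_injective S j S₀ P) : Function.Injective
          ((MulAut.conj : Cfsg.POmega F ⇑Q →* MulAut (Cfsg.POmega F ⇑Q)).comp (framePOm S j S₀ P)))).toEquiv).symm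
    rw [← (W.map Θ.rangeRestrict).card_mul_index, hWcard, mul_comm 2]
    exact Nat.mul_dvd_mul_left _ ((Subgroup.index_map_dvd _ Θ.rangeRestrict_surjective).trans hW)

end Cfsg.Agent.AutPOmega
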