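import Cfsg.Agent.Lib.AutPOmega.Layers
import Cfsg.Agent.Lib.Spinor.Trans
import Cfsg.Agent.Lib.TransvMax.QuadSingular

/-!
# Rotations of hyperbolic pairs and the classes of halves
-/

set_option autoImplicit false
set_option linter.unusedSectionVars false

namespace Cfsg.Agent.AutPOmega

open Cfsg.Agent Cfsg.Agent.TransvMax Cfsg.Agent.QMax
open scoped Matrix

variable {ι : Type} [Fintype ι] [DecidableEq ι] {F : Type*} [Field F] [Fintype F]
  {Q : QuadraticForm F (ι → F)}

local notation "IsoQ" => Cfsg.isometryGroup F (DFunLike.coe Q)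
local notation "OutQ" => Cfsg.Out (Cfsg.POmega F (DFunLike.coe Q))

theorem rf_mulVec {u : ι → F} (hu : Q u ≠ 0) (x : ι → F) :
    ((OrthRows.rf Q u hu).1 : Matrix ι ι F) *ᵥ x = x - ((Q u)⁻¹ * QuadraticMap.polar Q x u) • u := by
  rw [OrthRows.rf_val, FormsLib.reflectionMatrix_mulVec, FormsLib.reflHom_apply]

variable (S : QSetting Q) {k : ℕ} (hk : Fintype.card ι = 2 * k) (h2 : (2 : F) ≠ 0)
  {d : Cfsg.Geo.quadSimilarityGroup (F := F) ⇑Q} {g : ℕ} (D : EvenData Q S d g)

include S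

/-- Scaling a hyperbolic pair is a product of two reflections. -/
theorem pair_scale {e f : ι → F} (he : Q e = 0) (hf : Q f = 0) (hef : pB Q e f = 1) {c : F} (hc : c ≠ 0) :
    ∃ (u w : ι → F) (hu : Q u ≠ 0) (hw : Q w ≠ 0), Q u = -c ∧ Q w = -1 ∧
      ∀ x, ((OrthRows.rf Q u hu * OrthRows.rf Q w hw).1 : Matrix ι ι F) *ᵥ x =
        x + ((c - 1) * pB Q x f) • e + ((c⁻¹ - 1) * pB Q x e) • f := by
  have hq : ∀ t : F, Q (t • e + (-1 : F) • f) = -t := fun t => by
    rw [S.quad_add, S.quad_smul, S.quad_smul, he, hf, LinearMap.map_smul₂, map_smul, hef, smul_eq_mul,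
      smul_eq_mul]
    ring
  have hp : ∀ (t : F) x, QuadraticMap.polar Q x (t • e + (-1 : F) • f) = t * pB Q x e - pB Q x f := fun t x => by
    rw [← QuadraticMap.polarBilin_apply_apply, map_add, map_smul, map_smul, smul_eq_mul, smul_eq_mul]
    ring
  refine ⟨c • e + (-1 : F) • f, (1 : F) • e + (-1 : F) • f, by rw [hq]; exact neg_ne_zero.2 hc,
    by rw [hq]; exact neg_ne_zero.2 one_ne_zero, hq c, hq 1, fun x => ?_⟩
  have hee : pB Q e e = 0 := by rw [S.pB_self, he, mul_zero]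
  have hff : pB Q f f = 0 := by rw [S.pB_self, hf, mul_zero]
  have hfe : pB Q f e = 1 := by rw [S.pB_comm, hef]
  rw [Subgroup.coe_mul, Units.val_mul, ← Matrix.mulVec_mulVec, rf_mulVec, rf_mulVec, hq, hq, hp, hp]
  simp only [map_add, map_sub, map_smul, LinearMap.add_apply, LinearMap.sub_apply, LinearMap.smul_apply,
    smul_eq_mul, hee, hff, hef, hfe, inv_neg, inv_one]
  match_scalars <;> field_simp <;> ring

include hk h2 D

/-- A product of two reflections of different square classes. -/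
theorem outI_rf_mul {v : ι → F} (hv : Q v ≠ 0) (hw : Q ((d.1 : Matrix ι ι F) *ᵥ v) ≠ 0)
    (hsq : IsSquare (Q v)) (hns : ¬ IsSquare (Q ((d.1 : Matrix ι ι F) *ᵥ v)))
    {u w : ι → F} (hu : Q u ≠ 0) (hw' : Q w ≠ 0) (h : ¬ (IsSquare (Q u) ↔ IsSquare (Q w))) :
    outI (OrthRows.rf Q u hu * OrthRows.rf Q w hw') =
      outI (OrthRows.rf Q v hv) * outI (OrthRows.rf Q _ hw) := by
  rw [map_mul]
  by_cases h1 : IsSquare (Q u)
  · have h3 : ¬ IsSquare (Q w) := fun h4 => h (iff_of_true h1 h4)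
    rw [outI_rf_congr S hu hv (iff_of_true h1 hsq), outI_rf_congr S hw' hw (iff_of_false h3 hns)]
  · have h3 : IsSquare (Q w) := by_contra fun h4 => h (iff_of_false h1 h4)
    rw [outI_rf_congr S hu hw (iff_of_false h1 hns), outI_rf_congr S hw' hv (iff_of_true h3 hsq)]
    exact outI_commute _ _

/-- Scaling a family of orthogonal hyperbolic pairs by a non-square. -/
theorem pairs_scale {v : ι → F} (hv : Q v ≠ 0) (hw : Q ((d.1 : Matrix ι ι F) *ᵥ v) ≠ 0)
    (hsq : IsSquare (Q v)) (hns : ¬ IsSquare (Q ((d.1 : Matrix ι ι F) *ᵥ v)))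
    {n : ℕ} {e f : Fin n → ι → F} (he : ∀ i, Q (e i) = 0) (hf : ∀ i, Q (f i) = 0)
    (hef : ∀ i j, pB Q (e i) (f j) = if i = j then 1 else 0)
    (hee : ∀ i j, i ≠ j → pB Q (e i) (e j) = 0) (hff : ∀ i j, i ≠ j → pB Q (f i) (f j) = 0)
    {c : F} (hc : ¬ IsSquare c) (s : Finset (Fin n)) :
    ∃ h : IsoQ, outI h = (outI (OrthRows.rf Q v hv) * outI (OrthRows.rf Q _ hw)) ^ s.card ∧
      ∀ x, (h.1 : Matrix ι ι F) *ᵥ x =
        x + ∑ i ∈ s, (((c - 1) * pB Q x (f i)) • e i + ((c⁻¹ - 1) * pB Q x (e i)) • f i) := by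
  classical
  have hc0 : c ≠ 0 := fun h => hc (h ▸ IsSquare.zero)
  induction s using Finset.induction with
  | empty => exact ⟨1, by simp, fun x => by simp⟩
  | insert j s hj ih =>
    obtain ⟨h, ho, hx⟩ := ih
    obtain ⟨u, w, hu, hw', hQu, hQw, hp⟩ := pair_scale S (he j) (hf j) (by rw [hef, if_pos rfl]) hc0
    refine ⟨OrthRows.rf Q u hu * OrthRows.rf Q w hw' * h, ?_, fun x => ?_⟩
    · rw [map_mul, outI_rf_mul S hk h2 D hv hw hsq hns hu hw' ?_, ho, Finset.card_insert_of_notMem hj,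
        pow_succ']
      rw [hQu, hQw]
      intro hiff
      refine hc ?_
      have := (Spinor.isSquare_mul_iff' (neg_ne_zero.2 hc0) (neg_ne_zero.2 one_ne_zero)).2 hiff
      rwa [neg_mul_neg, mul_one] at this
    · have e1 : ∀ y : ι → F, (∀ i ∈ s, pB Q (e i) y = 0 ∧ pB Q (f i) y = 0) →
          pB Q (x + ∑ i ∈ s, (((c - 1) * pB Q x (f i)) • e i + ((c⁻¹ - 1) * pB Q x (e i)) • f i)) y =
            pB Q x y := fun y hy => by
        rw [map_add, LinearMap.add_apply, map_sum, LinearMap.sum_apply, Finset.sum_eq_zero, add_zero]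
        intro i hi
        rw [map_add, LinearMap.add_apply, LinearMap.map_smul₂, LinearMap.map_smul₂, (hy i hi).1, (hy i hi).2,
          smul_zero, smul_zero, add_zero]
      rw [Subgroup.coe_mul (Cfsg.isometryGroup F ⇑Q) _ h, Units.val_mul, ← Matrix.mulVec_mulVec, hx, hp,
        e1 (f j) fun i hi => ⟨by rw [hef, if_neg (fun hij : i = j => hj (hij ▸ hi))],
          hff i j fun hij => hj (hij ▸ hi)⟩,
        e1 (e j) fun i hi => ⟨hee i j fun hij => hj (hij ▸ hi),
          by rw [S.pB_comm, hef, if_neg (fun hij : j = i => hj (hij ▸ hi))]⟩,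
        Finset.sum_insert hj]
      module

omit D

/-- The parity of a half and its image under an isometry. -/
theorem sameParity_iff {U : Submodule F (ι → F)} (hU : ∀ x ∈ U, Q x = 0)
    (hUd : Module.finrank F U = k) (h : IsoQ) :
    Cfsg.SameParityClass U (Cfsg.imageSubmodule (h.1 : Matrix ι ι F) U) ↔
      Matrix.GeneralLinearGroup.det h.1 = 1 := by

  rw [Cfsg.SameParityClass, Cfsg.imageSubmodule, hUd,
    show Matrix.toLin' (h.1 : Matrix ι ι F) = Matrix.mulVecLin (h.1 : Matrix ι ι F) from rfl,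
    Spinor.mulVecLin_oEquiv,
    ← Spinor.dick_eq_one_iff_even S.nondeg (OrthRows.gen_top S.nondeg (hexc S))
      (by rw [Module.finrank_fintype_fun_eq_card, hk]) _ hU hUd rfl,
    Spinor.dick_eq_one_iff_det S.nondeg h2]
  constructor
  · intro e
    refine Units.ext ?_
    rw [Matrix.GeneralLinearGroup.val_det_apply, ← Spinor.det_oEquiv, e]
  · intro e
    refine Units.ext ?_
    rw [Spinor.det_oEquiv, ← Matrix.GeneralLinearGroup.val_det_apply, e]

/-- In a space with a half every maximal totally singular subspace is a half. -/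
theorem finrank_max {L : Submodule F (ι → F)} (hL : ∀ x ∈ L, Q x = 0) (hLd : Module.finrank F L = k)
    {U : Submodule F (ι → F)} (hU : Cfsg.IsMaxTotallySingular (⇑Q) U) : Module.finrank F U = k := by
  obtain ⟨X, hUX, hX, hXd⟩ := exists_half_ge S hU.1 hL (by rw [hLd, hk])
  rw [hU.2 X hX hUX] at hXd
  omega

/-- A half is a maximal totally singular subspace. -/
theorem isMax_half {L : Submodule F (ι → F)} (hL : ∀ x ∈ L, Q x = 0) (hLd : Module.finrank F L = k) :
    Cfsg.IsMaxTotallySingular (⇑Q) L :=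
  ⟨hL, fun W hW hLW => (Submodule.eq_of_le_of_finrank_le hLW (by
    have := two_finrank_le S hW
    omega)).symm⟩

end Cfsg.Agent.AutPOmega
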