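import Cfsg.Agent.Lib.AutPOmega.Frames
import Cfsg.Agent.Lib.LinearGroups.OrthSimple
import Cfsg.Agent.Lib.AutPOmega.Hyperbolic

/-!
# The rational points of a frame and their pointwise stabiliser
-/

set_option autoImplicit false
set_option linter.unusedSectionVars false
set_option maxHeartbeats 1000000

namespace Cfsg.Agent.AutPOmega

open Cfsg.Agent Cfsg.Agent.TransvMax Cfsg.Agent.QMax
open scoped Matrix

variable {ι : Type} [Fintype ι] [DecidableEq ι] {F : Type*} [Field F] [Fintype F]
  {Q : QuadraticForm F (ι → F)} (S : QSetting Q)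
  {F₀ : Type*} [Field F₀] [Fintype F₀] (j : F₀ →+* F)
  {R : QuadraticForm F₀ (ι → F₀)} (S₀ : QSetting R)
  {σ : F ≃+* F} {T : SemiT Q} (P : Frame j σ T R)

include S S₀ in
theorem frameJ_isometry (h : Cfsg.isometryGroup F₀ ⇑R) :
    (frameJ j P (incl h)).1 ∈ Cfsg.isometryGroup F ⇑Q := fun u _ => by
  show Q (((frameJ j P (incl h)).1 : Matrix ι ι F) *ᵥ u) = Q u
  rw [simMul_spec S, simMul_frameJ S j P S₀, simMul_incl S₀, Units.val_one, map_one, one_mul]

/-- Rational isometries inside. -/
noncomputable def frameIso : Cfsg.isometryGroup F₀ ⇑R →* Cfsg.isometryGroup F ⇑Q :=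
  MonoidHom.mk' (fun h => ⟨(frameJ j P (incl h)).1, frameJ_isometry S j S₀ P h⟩)
    fun g h => by
      have h' := congrArg Subtype.val
        ((congrArg (frameJ j P) (map_mul (incl (Q := R)) g h)).trans (map_mul (frameJ j P) _ _))
      exact Subtype.ext h'


theorem incl_frameIso (h : Cfsg.isometryGroup F₀ ⇑R) :
    incl (frameIso S j S₀ P h) = frameJ j P (incl h) := Subtype.ext rfl

theorem frameIso_omega {h : Cfsg.isometryGroup F₀ ⇑R} (hh : h ∈ Cfsg.Omega F₀ ⇑R) :
    frameIso S j S₀ P h ∈ Cfsg.Omega F ⇑Q := by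
  have hm := Subgroup.mem_map_of_mem (frameIso S j S₀ P) hh
  rw [Cfsg.Omega, _root_.commutator_def, Subgroup.map_commutator] at hm
  rw [Cfsg.Omega, _root_.commutator_def]
  exact Subgroup.commutator_mono le_top le_top hm

theorem frameIso_apply (h : Cfsg.isometryGroup F₀ ⇑R) (u : ι → F₀) :
    ((frameIso S j S₀ P h).1 : Matrix ι ι F) *ᵥ ((P.H).1 *ᵥ fun i => j (u i)) =
      (P.H).1 *ᵥ fun i => j (((h.1 : GL ι F₀).1 *ᵥ u) i) :=
  frameJ_apply j P (incl h) u

/-- The rational points of `PΩ`. -/
noncomputable def frameOm : Cfsg.Omega F₀ ⇑R →* Cfsg.POmega F ⇑Q :=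
  MonoidHom.mk' (fun s => QuotientGroup.mk ⟨frameIso S j S₀ P s.1, frameIso_omega S j S₀ P s.2⟩) fun s t => by
    rw [← QuotientGroup.mk_mul]
    exact congrArg QuotientGroup.mk (Subtype.ext (map_mul (frameIso S j S₀ P) s.1 t.1))

theorem conj_frameOm (s : Cfsg.Omega F₀ ⇑R) :
    MulAut.conj (frameOm S j S₀ P s) = isoAut (frameIso S j S₀ P s.1) :=
  (isoAut_omega ⟨_, frameIso_omega S j S₀ P s.2⟩).symm

theorem frameOm_center : Subgroup.center (Cfsg.Omega F₀ ⇑R) ≤ (frameOm S j S₀ P).ker := by
  intro z hz
  refine conj_injective S ?_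
  rw [conj_frameOm, map_one]
  have h1 : isoAut (z : Cfsg.isometryGroup F₀ ⇑R) = 1 := by
    rw [isoAut_omega, (QuotientGroup.eq_one_iff _).2 hz, map_one]
  obtain ⟨c, hc⟩ := (simAut_eq_one_iff S₀ (incl z.1)).1 h1
  show simAut (incl (frameIso S j S₀ P z.1)) = 1
  rw [incl_frameIso, ← hc, frameJ_scal]
  exact (simAut_eq_one_iff S _).2 ⟨_, rfl⟩

/-- The rational subgroup of `PΩ`. -/
noncomputable def framePOm : Cfsg.POmega F₀ ⇑R →* Cfsg.POmega F ⇑Q :=
  QuotientGroup.lift _ (frameOm S j S₀ P) (frameOm_center S j S₀ P)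

theorem conj_framePOm (s : Cfsg.Omega F₀ ⇑R) :
    MulAut.conj (framePOm S j S₀ P (QuotientGroup.mk s)) = isoAut (frameIso S j S₀ P s.1) :=
  conj_frameOm S j S₀ P s

variable (hj : ∀ a, σ a = a ↔ a ∈ j.range)

include hj in
theorem framePOm_fix (z : Cfsg.POmega F₀ ⇑R) : theta T (framePOm S j S₀ P z) = framePOm S j S₀ P z := by
  induction z using QuotientGroup.induction_on with
  | H s =>
    apply conj_injective S
    have h1 : Commute (MulAut.conj (framePOm S j S₀ P (QuotientGroup.mk s))) (theta T) := by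
      rw [conj_framePOm]
      show Commute (theta (ofSim (incl (frameIso S j S₀ P s.1)))) _
      rw [incl_frameIso]
      exact (frameJ_commute j hj P _).map theta
    have h3 : ∀ (d : MulAut (Cfsg.POmega F ⇑Q)) k, d * MulAut.conj k * d⁻¹ = MulAut.conj (d k) :=
      fun d k => MulEquiv.ext fun z => by simp [MulAut.mul_apply, MulAut.conj_apply]
    rw [← h3, h1.symm.eq, mul_inv_cancel_right]

include S₀ in
/-- Two rational vectors of the same norm off a line give a rotation in `Ω`. -/
theorem pair_omega {a b : ι → F₀} (ha : R a ≠ 0) (hb : R b ≠ 0) (h : R b = R a) :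
    OrthRows.rf R a ha * OrthRows.rf R b hb ∈ Cfsg.Omega F₀ ⇑R := by
  rw [OrthRows.mem_omega S₀.nondeg (hexc S₀), map_mul, map_mul, OrthRows.dk_rf, OrthRows.dk_rf,
    OrthRows.sp_rf, OrthRows.sp_rf, h]
  refine ⟨by norm_num, ?_⟩
  split_ifs <;> norm_num

include S₀ in
theorem singleton_li {a : ι → F₀} (ha : a ≠ 0) : LinearIndependent F₀ ![a] := by
  rw [Fintype.linearIndependent_iff]
  intro g hg i
  rw [Fin.sum_univ_one] at hg
  have : g 0 = 0 := (smul_eq_zero.1 hg).resolve_right ha
  rwa [Subsingleton.elim i 0]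

include S₀ in
theorem pair_li {a b : ι → F₀} (ha : a ≠ 0) (hb : b ∉ Submodule.span F₀ {a}) :
    LinearIndependent F₀ ![b, a] :=
  linearIndependent_finCons.2 ⟨singleton_li S₀ ha, by simpa using hb⟩

include S₀ in
/-- Prescribed norm and product off the line of the given vector. -/
theorem exists_indep {a : ι → F₀} (ha : a ≠ 0) (B N : F₀) :
    ∃ b, b ∉ Submodule.span F₀ {a} ∧ QuadraticMap.polar R b a = B ∧ R b = N := by
  have hd := S₀.dim
  obtain ⟨b, -, hbn, hbv⟩ := S₀.topDec.exists_values_in (v := ![a]) (fun _ => trivial)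
    (singleton_li S₀ ha) (by rw [S₀.finrank_top_eq]; omega) ![B] N
  have hba : QuadraticMap.polar R b a = B := by simpa using hbv 0
  by_cases hb : b ∈ Submodule.span F₀ {a}
  · obtain ⟨c, -, hcn, hcv, hcX⟩ := S₀.topDec.exists_norm_out ![a] (Submodule.span F₀ {a})
      (by rw [S₀.finrank_top_eq]; omega)
      (by rw [S₀.finrank_top_eq, finrank_span_singleton ha]; omega) 0
    have hca : QuadraticMap.polar R c a = 0 := by simpa using hcv 0
    refine ⟨b + c, fun h => hcX ?_, ?_, ?_⟩
    · have := Submodule.sub_mem _ h hb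
      rwa [add_sub_cancel_left] at this
    · rw [QuadraticMap.polar_add_left, hba, hca, add_zero]
    · obtain ⟨s, rfl⟩ := Submodule.mem_span_singleton.1 hb
      rw [QuadraticMap.map_add R, hbn, hcn, QuadraticMap.polar_smul_left, QuadraticMap.polar_comm, hca,
        smul_zero, add_zero, add_zero]
  · exact ⟨b, hb, hba, hbn⟩

theorem framePOm_injective : Function.Injective (framePOm S j S₀ P) := by
  haveI := OrthSimple.isSimple_POmega S₀ (f := ⇑R) rfl
  rcases IsSimpleGroup.eq_bot_or_eq_top_of_normal (framePOm S j S₀ P).ker inferInstance with h | h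
  · exact (MonoidHom.ker_eq_bot_iff _).1 h
  · exfalso
    have hd := S₀.dim
    obtain ⟨a, -, -, ha⟩ := S₀.topDec.exists_aniso (k := 0) ![] (by rw [S₀.finrank_top_eq]; omega)
    have ha0 : a ≠ 0 := fun e => ha (by rw [e, QuadraticMap.map_zero])
    obtain ⟨x, hxa, -, hx⟩ := exists_indep S₀ ha0 0 (R a)
    have hx0 : R x ≠ 0 := by rw [hx]; exact ha
    let s : Cfsg.Omega F₀ ⇑R := ⟨_, pair_omega S₀ ha hx0 hx⟩
    have h1 : isoAut (frameIso S j S₀ P s.1) = 1 := by
      rw [← conj_framePOm, show framePOm S j S₀ P (QuotientGroup.mk s) = 1 from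
        MonoidHom.mem_ker.1 (h ▸ Subgroup.mem_top _), map_one]
    obtain ⟨c, hc⟩ := (isoAut_eq_one_iff S _).1 h1
    -- apply to a vector orthogonal to both
    obtain ⟨y, -, hy, hy0⟩ := S₀.topDec.exists_aniso ![a, x] (by rw [S₀.finrank_top_eq]; omega)
    have hact : ∀ u, (s.1.1 : Matrix ι ι F₀) *ᵥ u = u - ((R x)⁻¹ * QuadraticMap.polar R u x) • x -
        ((R a)⁻¹ * QuadraticMap.polar R (u - ((R x)⁻¹ * QuadraticMap.polar R u x) • x) a) • a := fun u => by
      show ((OrthRows.rf R a ha * OrthRows.rf R x hx0).1 : Matrix ι ι F₀) *ᵥ u = _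
      rw [Subgroup.coe_mul, Units.val_mul, ← Matrix.mulVec_mulVec, rf_mulVec hx0, rf_mulVec ha]
    have hsy : (s.1.1 : Matrix ι ι F₀) *ᵥ y = y := by
      have e1 : QuadraticMap.polar R y a = 0 := by simpa using hy 0
      have e2 : QuadraticMap.polar R y x = 0 := by simpa using hy 1
      rw [hact, e2, mul_zero, zero_smul, sub_zero, e1, mul_zero, zero_smul, sub_zero]
    have e3 := frameIso_apply S j S₀ P s.1 y
    rw [hsy, hc] at e3
    have hy' : (P.H).1 *ᵥ (fun i => j (y i)) ≠ 0 := fun e => hy0 (by
      have := P.quad_eq y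
      rw [e, QuadraticMap.map_zero] at this
      exact (map_eq_zero j).1 ((mul_eq_zero.1 this.symm).resolve_left P.bb.ne_zero))
    have hc1 : c = 1 := smul_left_injective F hy' (e3.trans (one_smul F _).symm)
    obtain ⟨w, hw⟩ := S₀.exists_values (pair_li S₀ ha0 hxa) ![1, 0]
    have hwx : QuadraticMap.polar R w x = 1 := by simpa using hw 0
    have hwa : QuadraticMap.polar R w a = 0 := by simpa using hw 1
    have hsa := frameIso_apply S j S₀ P s.1 w
    rw [hc, hc1, one_smul] at hsa
    have hsa' := (glPerm P.H).injective hsa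
    have hfix : (s.1.1 : Matrix ι ι F₀) *ᵥ w = w := funext fun i => j.injective (congrFun hsa' i).symm
    rw [hact, hwx, mul_one] at hfix
    set t := (R a)⁻¹ * QuadraticMap.polar R (w - (R x)⁻¹ • x) a
    have h5 : (R x)⁻¹ • x + t • a = 0 := by linear_combination (norm := module) -hfix
    have h6 := Fintype.linearIndependent_iff.1 (pair_li S₀ ha0 hxa) ![(R x)⁻¹, t]
      (by simpa [Fin.sum_univ_two] using h5) 0
    exact inv_ne_zero hx0 (by simpa using h6)

include hj in
/-- An automorphism fixing the rational points is a field automorphism in the frame. -/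
theorem frame_stab (U : SemiT Q) (hU : ∀ z, theta U (framePOm S j S₀ P z) = framePOm S j S₀ P z) :
    ∃ l : F, l ≠ 0 ∧ (∀ t, sigT U (j t) = j t) ∧
      ∀ x, U.1 ((P.H).1 *ᵥ x) = l • ((P.H).1 *ᵥ fun i => sigT U (x i)) := by
  classical
  have hT := semi_spec U
  set τ := sigT U
  let E : (ι → F₀) → (ι → F) := fun u => (P.H).1 *ᵥ fun i => j (u i)
  have Eadd : ∀ u v, E (u + v) = E u + E v := fun u v => by
    simp only [E, ← Matrix.mulVec_add]; congr 1; funext i; simp
  have Esmul : ∀ (t : F₀) u, E (t • u) = j t • E u := fun t u => by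
    simp only [E, ← Matrix.mulVec_smul]; congr 1; funext i; simp
  have Einj : Function.Injective E := fun u v e => by
    funext i
    exact j.injective (congrFun ((glPerm P.H).injective e) i)
  have Ene : ∀ {u : ι → F₀}, R u ≠ 0 → u ≠ 0 := fun {u} hu e => hu (by rw [e, QuadraticMap.map_zero])
  -- planes of pairs of equal norm
  have hplane : ∀ (a b : ι → F₀) (ha : R a ≠ 0) (hb : R b ≠ 0), R b = R a → b ∉ Submodule.span F₀ {a} →
      ∃ α β : F, U.1 (E a) = α • E a + β • E b := by
    intro a b ha hb hab hli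
    let s : Cfsg.Omega F₀ ⇑R := ⟨_, pair_omega S₀ ha hb hab⟩
    set M := ((frameIso S j S₀ P s.1).1 : Matrix ι ι F)
    have hM : ∀ u, M *ᵥ E u = E (u - ((R b)⁻¹ * QuadraticMap.polar R u b) • b -
        ((R a)⁻¹ * QuadraticMap.polar R (u - ((R b)⁻¹ * QuadraticMap.polar R u b) • b) a) • a) := fun u => by
      show M *ᵥ ((P.H).1 *ᵥ fun i => j (u i)) = _
      rw [show M = ((frameIso S j S₀ P s.1).1 : Matrix ι ι F) from rfl, frameIso_apply]
      show E (((OrthRows.rf R a ha * OrthRows.rf R b hb).1 : Matrix ι ι F₀) *ᵥ u) = _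
      rw [Subgroup.coe_mul, Units.val_mul, ← Matrix.mulVec_mulVec, rf_mulVec hb, rf_mulVec ha]
    -- the image of `M - 1` is inside the plane
    have himg : ∀ y, M *ᵥ y - y ∈ Submodule.span F {E a, E b} := by
      intro y
      obtain ⟨x, rfl⟩ := (glPerm P.H).surjective y
      rw [glPerm_apply, pi_eq_sum_univ' x, Matrix.mulVec_sum, Matrix.mulVec_sum, ← Finset.sum_sub_distrib]
      refine Submodule.sum_mem _ fun i _ => ?_
      rw [Matrix.mulVec_smul, Matrix.mulVec_smul, ← smul_sub]
      refine Submodule.smul_mem _ _ ?_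
      rw [show (P.H).1 *ᵥ Pi.single i (1 : F) = E (Pi.single i 1) by
        show _ = (P.H).1 *ᵥ _
        congr 1; funext l; simp [Pi.single_apply, apply_ite j], hM, sub_eq_add_neg (E _),
        show -E (Pi.single i (1 : F₀)) = E (-Pi.single i 1) by
          rw [← neg_one_smul F₀ (Pi.single i (1 : F₀) : ι → F₀), Esmul, map_neg, map_one, neg_one_smul],
        ← Eadd]
      set p : ι → F₀ := Pi.single i 1
      set t := (R b)⁻¹ * QuadraticMap.polar R p b
      set t' := (R a)⁻¹ * QuadraticMap.polar R (p - t • b) a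
      rw [show p - t • b - t' • a + -p = (-t') • a + (-t) • b by module, Eadd, Esmul, Esmul]
      exact Submodule.mem_span_pair.2 ⟨_, _, rfl⟩
    -- commutation up to a scalar
    obtain ⟨c, hc0, hc⟩ : ∃ c : F, c ≠ 0 ∧ ∀ v, U.1 (M *ᵥ v) = c • (M *ᵥ U.1 v) := by
      have h3 : ∀ (d : MulAut (Cfsg.POmega F ⇑Q)) k, d * MulAut.conj k * d⁻¹ = MulAut.conj (d k) :=
        fun d k => MulEquiv.ext fun z => by simp [MulAut.mul_apply, MulAut.conj_apply]
      have h4 : theta U * isoAut (frameIso S j S₀ P s.1) = isoAut (frameIso S j S₀ P s.1) * theta U := by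
        rw [← conj_framePOm, ← mul_inv_eq_iff_eq_mul, h3, hU]
      have h1 : theta ((U * ofSim (incl (frameIso S j S₀ P s.1))) *
          (ofSim (incl (frameIso S j S₀ P s.1)) * U)⁻¹) = 1 := by
        rw [map_mul theta, map_inv, map_mul theta, map_mul theta, mul_inv_eq_one]
        exact h4
      obtain ⟨c, hc0, hc⟩ := (theta_eq_one_iff S _).1 h1
      refine ⟨c, hc0, fun v => ?_⟩
      have e : (U * ofSim (incl (frameIso S j S₀ P s.1)) * (ofSim (incl (frameIso S j S₀ P s.1)) * U)⁻¹) *
          (ofSim (incl (frameIso S j S₀ P s.1)) * U) = U * ofSim (incl (frameIso S j S₀ P s.1)) :=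
        inv_mul_cancel_right _ _
      show (U * ofSim (incl (frameIso S j S₀ P s.1))).1 v = _
      rw [← e]
      exact hc _
    -- three independent fixed vectors
    obtain ⟨y₁, -, hy₁, hy₁0⟩ := S₀.topDec.exists_aniso ![a, b]
      (by rw [S₀.finrank_top_eq]; have := S₀.dim; omega)
    have hfix : ∀ y : ι → F₀, QuadraticMap.polar R y a = 0 → QuadraticMap.polar R y b = 0 → M *ᵥ E y = E y := fun y e1 e2 => by
      rw [hM, e2, mul_zero, zero_smul, sub_zero, e1, mul_zero, zero_smul, sub_zero]
    have hc1 : c = 1 := by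
      by_contra hne
      -- all of the common orthogonal space is carried into the plane
      let L : (ι → F₀) →ₗ[F₀] (Fin 2 → F₀) := LinearMap.pi fun i => (pB R).flip (![a, b] i)
      let Up : Submodule F (ι → F) := Submodule.span F (E '' (LinearMap.ker L : Set (ι → F₀)))
      have hinto : ∀ y ∈ LinearMap.ker L, U.1 (E y) ∈ Submodule.span F {E a, E b} := fun y hy => by
        have e1 : QuadraticMap.polar R y a = 0 := congrFun hy 0
        have e2 : QuadraticMap.polar R y b = 0 := congrFun hy 1
        have h5 := hc (E y)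
        rw [hfix y e1 e2] at h5
        have h6 : M *ᵥ U.1 (E y) - U.1 (E y) = (c⁻¹ - 1) • U.1 (E y) := by
          rw [sub_smul, one_smul]
          congr 1
          conv_rhs => rw [h5, inv_smul_smul₀ hc0]
        have h7 := Submodule.smul_mem _ (c⁻¹ - 1)⁻¹ (h6 ▸ himg (U.1 (E y)))
        rwa [inv_smul_smul₀ (sub_ne_zero.2 fun e => hne (inv_eq_one.1 e))] at h7
      have h3 := LinearMap.finrank_range_add_finrank_ker L
      have h4 := Submodule.finrank_le (LinearMap.range L)
      rw [Module.finrank_fintype_fun_eq_card, Fintype.card_fin] at h4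
      rw [Module.finrank_fintype_fun_eq_card] at h3
      have hdim := S₀.dim
      let bk := Module.finBasis F₀ (LinearMap.ker L)
      have hLI : LinearIndependent F fun i => U.1 (E (bk i : ι → F₀)) := by
        rw [Fintype.linearIndependent_iff]
        intro g hg
        let A : (ι → F) →+ (ι → F) := AddMonoidHom.mk' U.1 hT.add
        have h8 : U.1 (∑ i, τ.symm (g i) • E (bk i : ι → F₀)) = 0 := by
          show A _ = 0
          rw [map_sum]
          refine Eq.trans (Finset.sum_congr rfl fun i _ => ?_) hg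
          show U.1 _ = _
          rw [hT.smul]
          show τ (τ.symm (g i)) • _ = _
          rw [RingEquiv.apply_symm_apply]
        have h9 : ∑ i, τ.symm (g i) • E (bk i : ι → F₀) = 0 := U.1.injective (h8.trans (map_zero A).symm)
        have h10 : ∑ i, τ.symm (g i) • (fun l => j ((bk i : ι → F₀) l)) = 0 := (glPerm P.H).injective (by
          rw [glPerm_apply, glPerm_apply, Matrix.mulVec_sum, Matrix.mulVec_zero]
          simpa [E, Matrix.mulVec_smul] using h9)
        have hLI0 : LinearIndependent F₀ fun i => (bk i : ι → F₀) :=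
          bk.linearIndependent.map' _ (Submodule.ker_subtype _)
        letI : Algebra F₀ F := j.toAlgebra
        have hLI1 : LinearIndependent F fun i => (fun l => j ((bk i : ι → F₀) l)) := by
          obtain ⟨L', hL'⟩ := (Fintype.linearCombination F₀ (fun i => (bk i : ι → F₀))).exists_leftInverse_of_injective
            (LinearMap.ker_eq_bot.2 hLI0.fintypeLinearCombination_injective)
          rw [Fintype.linearIndependent_iff]
          intro f hf i
          have e : ∀ (l : ι), ∑ i, f i * j ((bk i : ι → F₀) l) = 0 := fun l => by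
            have := congrFun hf l
            simpa [Finset.sum_apply] using this
          let N : Matrix (Fin (Module.finrank F₀ (LinearMap.ker L))) ι F₀ := LinearMap.toMatrix' L'
          have hNB : ∀ i i', (∑ l, N i' l * (bk i : ι → F₀) l) = if i' = i then 1 else 0 := fun i i' => by
            have := congrFun (LinearMap.congr_fun hL' (Pi.single i 1)) i'
            rw [LinearMap.comp_apply, ← LinearMap.toMatrix'_mulVec, Fintype.linearCombination_apply_single,
              one_smul] at this
            exact this.trans (Pi.single_apply i (1 : F₀) i')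
          calc f i = ∑ i', f i' * (if i = i' then 1 else 0) := by simp
            _ = ∑ i', f i' * j (∑ l, N i l * (bk i' : ι → F₀) l) := Finset.sum_congr rfl fun i' _ => by
              rw [hNB]; split_ifs <;> simp
            _ = ∑ l, j (N i l) * ∑ i', f i' * j ((bk i' : ι → F₀) l) := by
              simp only [map_sum, map_mul, Finset.mul_sum]
              rw [Finset.sum_comm]
              exact Finset.sum_congr rfl fun l _ => Finset.sum_congr rfl fun i' _ => by ring
            _ = 0 := Finset.sum_eq_zero fun l _ => by rw [e, mul_zero]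
        intro i
        have := Fintype.linearIndependent_iff.1 hLI1 _ h10 i
        simpa using this
      have hsub := Submodule.finrank_mono (Submodule.span_le.2 (by
        rintro _ ⟨i, rfl⟩; exact hinto _ (bk i).2) :
          Submodule.span F (Set.range fun i => U.1 (E (bk i : ι → F₀))) ≤ Submodule.span F {E a, E b})
      rw [finrank_span_eq_card hLI, Fintype.card_fin] at hsub
      have h11 : Module.finrank F (Submodule.span F ({E a, E b} : Set (ι → F))) ≤ 2 := by
        refine (finrank_span_le_card _).trans ?_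
        rw [Set.toFinset_insert, Set.toFinset_singleton]
        exact Finset.card_le_two
      omega
    -- the plane is preserved
    subst hc1
    have hmem : ∀ y, U.1 (M *ᵥ y - y) ∈ Submodule.span F {E a, E b} := fun y => by
      have e : U.1 (M *ᵥ y - y) = M *ᵥ U.1 y - U.1 y := by
        have h1 := hT.add (M *ᵥ y - y) y
        rw [sub_add_cancel, hc, one_smul] at h1
        rw [h1]; abel
      rw [e]; exact himg _
    have hLIab : LinearIndependent F₀ ![b, a] :=
      pair_li S₀ (Ene ha) hli
    obtain ⟨w, hw⟩ := S₀.exists_values hLIab ![0, R a]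
    have hwb : QuadraticMap.polar R w b = 0 := by simpa using hw 0
    have hwa : QuadraticMap.polar R w a = R a := by simpa using hw 1
    have h5 : M *ᵥ E w - E w = -E a := by
      rw [hM, hwb, mul_zero, zero_smul, sub_zero, hwa, inv_mul_cancel₀ ha, one_smul,
        sub_eq_add_neg w, Eadd, ← neg_one_smul F₀ a, Esmul, map_neg, map_one, neg_one_smul]
      abel
    obtain ⟨α, β, hαβ⟩ := Submodule.mem_span_pair.1 (hmem (E w))
    rw [h5, show U.1 (-E a) = -U.1 (E a) by
      rw [← neg_one_smul F (E a), hT.smul, map_neg, map_one, neg_one_smul]] at hαβ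
    exact ⟨-α, -β, by rw [← neg_neg (U.1 (E a)), ← hαβ]; module⟩
  -- lines
  have hline : ∀ a : ι → F₀, R a ≠ 0 → ∃ l : F, U.1 (E a) = l • E a := by
    intro a ha
    have hli0 : LinearIndependent F₀ ![a] := singleton_li S₀ (Ene ha)
    obtain ⟨c, -, hcn, hcv⟩ := S₀.topDec.exists_norm_out ![a] (Submodule.span F₀ {a})
      (by rw [S₀.finrank_top_eq]; have := S₀.dim; omega)
      (by rw [S₀.finrank_top_eq, finrank_span_singleton (Ene ha)]; have := S₀.dim; omega) 0
    obtain ⟨hcva, hcX⟩ := hcv
    have hca : QuadraticMap.polar R c a = 0 := by simpa using hcva 0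
    obtain ⟨d, -, hdn, hdv⟩ := S₀.topDec.exists_norm_out ![a] (Submodule.span F₀ {a, c})
      (by rw [S₀.finrank_top_eq]; have := S₀.dim; omega)
      (by
        rw [S₀.finrank_top_eq]
        have h11 : Module.finrank F₀ (Submodule.span F₀ ({a, c} : Set (ι → F₀))) ≤ 2 := by
          refine (finrank_span_le_card _).trans ?_
          rw [Set.toFinset_insert, Set.toFinset_singleton]
          exact Finset.card_le_two
        have := S₀.dim; omega) 0
    obtain ⟨hdva, hdX⟩ := hdv
    have hda : QuadraticMap.polar R d a = 0 := by simpa using hdva 0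
    have hb : ∀ u, R u = 0 → QuadraticMap.polar R u a = 0 → R (a + u) = R a := fun u h1 h3 => by
      rw [QuadraticMap.map_add R, h1, QuadraticMap.polar_comm, h3, add_zero, add_zero]
    obtain ⟨α, β, e1⟩ := hplane a (a + c) ha (by rw [hb c hcn hca]; exact ha) (hb c hcn hca) fun h => hcX (by
      have := Submodule.sub_mem _ h (Submodule.mem_span_singleton_self a)
      rwa [add_sub_cancel_left] at this)
    obtain ⟨α', β', e2⟩ := hplane a (a + d) ha (by rw [hb d hdn hda]; exact ha) (hb d hdn hda) fun h => hdX (by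
      have := Submodule.sub_mem _ (Submodule.span_mono (by simp) h) (Submodule.subset_span (Set.mem_insert a {c}))
      rwa [add_sub_cancel_left] at this)
    refine ⟨α + β, ?_⟩
    rw [Eadd] at e1 e2
    have e3 : (α + β - (α' + β')) • E a + β • E c + (-β') • E d = 0 := by
      have := e1.symm.trans e2
      linear_combination (norm := module) this
    have hLI : LinearIndependent F₀ ![d, c, a] := by
      refine linearIndependent_finCons.2 ⟨linearIndependent_finCons.2 ⟨hli0, by simpa using hcX⟩, ?_⟩
      simpa [Matrix.range_cons, Matrix.range_empty, Set.union_comm, Set.insert_comm, Set.pair_comm] using hdX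
    obtain ⟨z, hz⟩ := S₀.exists_values hLI ![0, 1, 0]
    have hz0 : QuadraticMap.polar R z d = 0 := by simpa using hz 0
    have hz1 : QuadraticMap.polar R z c = 1 := by simpa using hz 1
    have hz2 : QuadraticMap.polar R z a = 0 := by simpa using hz 2
    have pol : ∀ u v, QuadraticMap.polar Q (E u) (E v) = (P.bb : F) * j (QuadraticMap.polar R u v) := fun u v => by
      simp only [QuadraticMap.polar, map_sub, mul_sub, ← Eadd]
      simp only [E, P.quad_eq]
    have e4 := congrArg (fun w => QuadraticMap.polar Q (E z) w) e3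
    simp [QuadraticMap.polar_add_right, QuadraticMap.polar_smul_right, QuadraticMap.polar_zero_right, pol,
      hz0, hz1, hz2] at e4
    rw [e1, e4, zero_smul, add_zero, add_zero]
  choose lam hlam using hline
  have pol : ∀ u v, QuadraticMap.polar Q (E u) (E v) = (P.bb : F) * j (QuadraticMap.polar R u v) := fun u v => by
    simp only [QuadraticMap.polar, map_sub, mul_sub, ← Eadd]
    simp only [E, P.quad_eq]
  have hadd : ∀ a b (ha : R a ≠ 0) (hb : R b ≠ 0), R (a + b) ≠ 0 → b ∉ Submodule.span F₀ {a} →
      lam a ha = lam b hb := by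
    intro a b ha hb hab hli
    have e := hlam (a + b) hab
    rw [Eadd, hT.add, hlam a ha, hlam b hb, smul_add] at e
    obtain ⟨z, hz⟩ := S₀.exists_values (pair_li S₀ (Ene ha) hli) ![1, 0]
    obtain ⟨z', hz'⟩ := S₀.exists_values (pair_li S₀ (Ene ha) hli) ![0, 1]
    have h1 := congrArg (fun w => QuadraticMap.polar Q (E z) w) e
    have h3 := congrArg (fun w => QuadraticMap.polar Q (E z') w) e
    simp [QuadraticMap.polar_add_right, QuadraticMap.polar_smul_right, pol,
      show QuadraticMap.polar R z b = 1 by simpa using hz 0, show QuadraticMap.polar R z a = 0 by simpa using hz 1,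
      show QuadraticMap.polar R z' b = 0 by simpa using hz' 0,
      show QuadraticMap.polar R z' a = 1 by simpa using hz' 1] at h1 h3
    rw [h3, h1]
  have hl0 : ∀ a (ha : R a ≠ 0), lam a ha ≠ 0 := fun a ha e => by
    have h := hlam a ha
    rw [e, zero_smul] at h
    have h' : U.1 (0 : ι → F) = 0 := map_zero (AddMonoidHom.mk' U.1 hT.add)
    exact Ene ha (Einj ((U.1.injective (h.trans h'.symm)).trans (by simp [E]; exact (Matrix.mulVec_zero _).symm)))
  have hscale : ∀ (t : F₀) a (ha : R a ≠ 0) (hta : R (t • a) ≠ 0), τ (j t) * lam a ha = lam (t • a) hta * j t := by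
    intro t a ha hta
    have e := hlam (t • a) hta
    rw [Esmul, hT.smul, hlam a ha, smul_smul, smul_smul] at e
    exact smul_left_injective F (fun e' => Ene ha (Einj (e'.trans (by simp [E]; exact (Matrix.mulVec_zero _).symm)))) e
  obtain ⟨a, -, -, ha⟩ := S₀.topDec.exists_aniso (k := 0) ![]
    (by rw [S₀.finrank_top_eq]; have := S₀.dim; omega)
  have hτ : ∀ t, τ (j t) = j t := by
    intro t
    by_cases ht : t = 0
    · simp [ht]
    by_cases ht1 : t = 1
    · simp [ht1]
    classical
    obtain ⟨B, hB⟩ : ∃ B : F₀, B ∉ ({-(2 * R a), -((R a + t * t * R a) / t)} : Finset F₀) := by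
      by_contra hc
      push Not at hc
      have h3 : ({0, 1, t} : Finset F₀).card ≤ ({-(2 * R a), -((R a + t * t * R a) / t)} : Finset F₀).card :=
        Finset.card_le_card fun B _ => hc B
      rw [Finset.card_eq_three.2 ⟨0, 1, t, zero_ne_one, Ne.symm ht, Ne.symm ht1, rfl⟩] at h3
      exact absurd (h3.trans Finset.card_le_two) (by norm_num)
    obtain ⟨b, hbli, hba, hbn⟩ := exists_indep S₀ (Ene ha) B (R a)
    simp only [Finset.mem_insert, Finset.mem_singleton, not_or] at hB
    have hb : R b ≠ 0 := by rw [hbn]; exact ha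
    have htb : R (t • b) ≠ 0 := by
      rw [QuadraticMap.map_smul, smul_eq_mul]
      exact mul_ne_zero (mul_ne_zero ht ht) hb
    have hab : R (a + b) ≠ 0 := by
      rw [QuadraticMap.map_add R, hbn, QuadraticMap.polar_comm, hba]
      exact fun h => hB.1 (by linear_combination h)
    have hatb : R (a + t • b) ≠ 0 := by
      rw [QuadraticMap.map_add R, QuadraticMap.map_smul, hbn, QuadraticMap.polar_smul_right,
        QuadraticMap.polar_comm, hba, smul_eq_mul, smul_eq_mul]
      exact fun h => hB.2 (by field_simp; linear_combination h)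
    have h1 := hscale t b hb htb
    rw [← hadd a b ha hb hab hbli, ← hadd a (t • b) ha htb hatb fun h => hbli (by
      have := Submodule.smul_mem _ t⁻¹ h
      rwa [inv_smul_smul₀ ht] at this), mul_comm (lam a ha)] at h1
    exact mul_right_cancel₀ (hl0 a ha) h1
  have hsame : ∀ a b (ha : R a ≠ 0) (hb : R b ≠ 0), R (a + b) ≠ 0 → lam a ha = lam b hb := by
    intro a b ha hb hab
    by_cases hli : b ∈ Submodule.span F₀ {a}
    · obtain ⟨t, rfl⟩ := Submodule.mem_span_singleton.1 hli
      have ht : t ≠ 0 := fun e => hb (by rw [e, zero_smul, QuadraticMap.map_zero])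
      have h1 := hscale t a ha hb
      rw [hτ, mul_comm (lam _ hb)] at h1
      exact mul_left_cancel₀ ((map_ne_zero j).2 ht) h1
    · exact hadd a b ha hb hab hli
  have hall : ∀ b (hb : R b ≠ 0), lam b hb = lam a ha := by
    intro b hb
    by_cases hli : b ∈ Submodule.span F₀ {a}
    · obtain ⟨t, rfl⟩ := Submodule.mem_span_singleton.1 hli
      have ht : t ≠ 0 := fun e => hb (by rw [e, zero_smul, QuadraticMap.map_zero])
      have h1 := hscale t a ha hb
      rw [hτ, mul_comm (lam _ hb)] at h1
      exact (mul_left_cancel₀ ((map_ne_zero j).2 ht) h1).symm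
    · obtain ⟨z, -, hzn, hzv⟩ := S₀.topDec.exists_values_in (v := ![b, a]) (fun _ => trivial)
        (pair_li S₀ (Ene ha) hli) (by rw [S₀.finrank_top_eq]; have := S₀.dim; omega) ![-R b, -R a] 1
      have hzb : QuadraticMap.polar R z b = -R b := by simpa using hzv 0
      have hza : QuadraticMap.polar R z a = -R a := by simpa using hzv 1
      have hz : R z ≠ 0 := by rw [hzn]; exact one_ne_zero
      have h1 : R (z + b) ≠ 0 := by
        rw [QuadraticMap.map_add R, hzn, hzb, add_assoc, add_neg_cancel, add_zero]; exact one_ne_zero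
      have h3 : R (z + a) ≠ 0 := by
        rw [QuadraticMap.map_add R, hzn, hza, add_assoc, add_neg_cancel, add_zero]; exact one_ne_zero
      rw [← hsame z b hz hb h1, hsame z a hz ha h3]
  set l := lam a ha
  have hEl : ∀ u, U.1 (E u) = l • E u := by
    intro u
    by_cases hu : R u = 0
    · obtain ⟨d, -, hd, hd0⟩ := S₀.topDec.exists_aniso ![u] (by rw [S₀.finrank_top_eq]; have := S₀.dim; omega)
      have hdu : QuadraticMap.polar R d u = 0 := by simpa using hd 0
      have hdu0 : R (d + u) ≠ 0 := by rw [QuadraticMap.map_add R, hu, hdu, add_zero, add_zero]; exact hd0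
      have e := hlam (d + u) hdu0
      rw [Eadd, hT.add, hlam d hd0, hall d hd0, hall _ hdu0, smul_add] at e
      exact add_left_cancel e
    · rw [hlam u hu, hall u hu]
  refine ⟨l, hl0 a ha, hτ, fun x => ?_⟩
  let A : (ι → F) →+ (ι → F) := AddMonoidHom.mk' U.1 hT.add
  rw [pi_eq_sum_univ' x, Matrix.mulVec_sum, show U.1 (∑ i, (P.H).1 *ᵥ (x i • Pi.single i (1 : F))) =
    ∑ i, U.1 ((P.H).1 *ᵥ (x i • Pi.single i (1 : F))) from map_sum A _ _]
  rw [show (fun i => τ ((∑ k, x k • Pi.single k (1 : F)) i)) = ∑ k, τ (x k) • Pi.single k (1 : F) by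
    funext i; simp [Pi.single_apply, Finset.sum_apply], Matrix.mulVec_sum, Finset.smul_sum]
  refine Finset.sum_congr rfl fun i _ => ?_
  have hEi : (P.H).1 *ᵥ Pi.single i (1 : F) = E (Pi.single i 1) := by
    show _ = (P.H).1 *ᵥ _
    congr 1; funext k; simp [Pi.single_apply, apply_ite j]
  rw [Matrix.mulVec_smul, Matrix.mulVec_smul, hT.smul, hEi, hEl, smul_comm]

end Cfsg.Agent.AutPOmega
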