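import Cfsg.Agent.Lib.AutPOmega.Aut
import Cfsg.Agent.Lib.AutPSL.Counts
import Cfsg.Agent.Lib.LinearGroups.OrthForms
import Cfsg.Agent.Lib.Spinor.Rows
import Mathlib.Algebra.QuadraticAlgebra.Basic

/-!
# Multipliers and field automorphisms realised by semilinear similitudes of the standard forms
-/

set_option autoImplicit false
set_option linter.unusedSectionVars false

namespace Cfsg.Agent.AutPOmega

open scoped Matrix
open Cfsg.Agent Cfsg.Agent.TransvMax Cfsg.Agent.QMax

section Det

variable {ι : Type} [Fintype ι] [DecidableEq ι] {F : Type*} [Field F] [Finite F]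
  {Q : QuadraticForm F (ι → F)}

theorem det_polar_ne (hQ : (QuadraticMap.polarBilin Q).Nondegenerate) :
    (LinearMap.toMatrix₂' F (QuadraticMap.polarBilin Q)).det ≠ 0 := by
  rw [← Matrix.nondegenerate_iff_det_ne_zero,
    ← Matrix.nondegenerate_toLinearMap₂'_iff, Matrix.toLinearMap₂'_toMatrix']
  exact hQ

/-- The determinant of a similarity. -/
theorem det_sim_sq (hQ : (QuadraticMap.polarBilin Q).Nondegenerate) {A : Matrix ι ι F} {c : F}
    (h : ∀ v, Q (A *ᵥ v) = c * Q v) : A.det * A.det = c ^ Fintype.card ι := by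
  set M := LinearMap.toMatrix₂' F (QuadraticMap.polarBilin Q)
  have hp : (QuadraticMap.polarBilin Q).compl₁₂ (Matrix.toLin' A) (Matrix.toLin' A) =
      c • QuadraticMap.polarBilin Q := by
    refine LinearMap.ext₂ fun u v => ?_
    simp only [LinearMap.compl₁₂_apply, Matrix.toLin'_apply, QuadraticMap.polarBilin_apply_apply,
      LinearMap.smul_apply, smul_eq_mul, QuadraticMap.polar, ← Matrix.mulVec_add, h]
    ring
  have h1 := congrArg (LinearMap.toMatrix₂' F) hp
  rw [LinearMap.toMatrix₂'_compl₁₂, map_smul, LinearMap.toMatrix'_toLin'] at h1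
  have h2 := congrArg Matrix.det h1
  rw [Matrix.det_mul, Matrix.det_mul, Matrix.det_transpose, Matrix.det_smul] at h2
  exact mul_right_cancel₀ (det_polar_ne hQ) (by linear_combination h2)

end Det

theorem exists_frob (F : Type*) [Field F] [Fintype F] (p f : ℕ) [Fact p.Prime] [CharP F p]
    (hF : Fintype.card F = p ^ f) :
    ∃ σ : F ≃+* F, (∀ x, σ x = x ^ p) ∧ orderOf σ = f ∧ ∀ τ : F ≃+* F, τ ∈ Subgroup.zpowers σ := by
  letI : Algebra (ZMod p) F := ZMod.algebra F p
  let e := AutPSL.ringAutEquiv (F := F) p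
  let φ := e.symm (FiniteField.frobeniusAlgEquivOfAlgebraic (ZMod p) F)
  have hord : orderOf φ = f := by
    rw [MulEquiv.orderOf_eq, FiniteField.orderOf_frobeniusAlgEquivOfAlgebraic]
    have h := Module.card_eq_pow_finrank (K := ZMod p) (V := F)
    rw [hF, ZMod.card] at h
    exact (Nat.pow_right_injective (Fact.out : p.Prime).two_le h).symm
  refine ⟨φ, fun x => ?_, hord, fun τ => ?_⟩
  · show FiniteField.frobeniusAlgEquivOfAlgebraic (ZMod p) F x = _
    rw [FiniteField.coe_frobeniusAlgEquivOfAlgebraic, ZMod.card]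
  · have : Finite (F ≃+* F) := Nat.finite_of_card_ne_zero (by
      rw [AutPSL.card_ringAut p f hF]
      rintro rfl
      have := Fintype.one_lt_card (α := F)
      rw [hF, pow_zero] at this
      omega)
    rw [Subgroup.eq_top_of_card_eq (Subgroup.zpowers φ)
      (by rw [Nat.card_zpowers, hord, AutPSL.card_ringAut p f hF])]
    exact Subgroup.mem_top _

section Odd

variable {F : Type*} [Field F] [Fintype F] {m : ℕ}

/-- Coordinatewise field automorphisms of the odd form. -/
def fldOdd (σ : F ≃+* F) : SemiT (FormsLib.qOdd m F) :=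
  ⟨Equiv.piCongrRight fun _ => σ.toEquiv, σ, 1, one_ne_zero, fun x y => funext fun i => map_add σ _ _,
    fun t x => funext fun i => map_mul σ _ _, fun x => by
      show FormsLib.qOdd m F (fun i => σ (x i)) = 1 * σ (FormsLib.qOdd m F x)
      rw [one_mul, FormsLib.coe_qOdd]
      simp [Cfsg.quadFormOdd, map_sum]⟩

theorem fldOdd_apply (σ : F ≃+* F) (x : Unit ⊕ (Fin m ⊕ Fin m) → F) (i) :
    (fldOdd σ).1 x i = σ (x i) := rfl

theorem fldOdd_mul (σ τ : F ≃+* F) : (fldOdd (σ * τ) : SemiT (FormsLib.qOdd m F)) = fldOdd σ * fldOdd τ :=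
  Subtype.ext (Equiv.ext fun x => funext fun i => rfl)

theorem sigT_fldOdd (S : QSetting (FormsLib.qOdd m F)) (σ : F ≃+* F) :
    sigHom S (fldOdd σ) = σ := by
  obtain ⟨τ, c, h⟩ := (fldOdd (m := m) σ).2
  refine sigT_eq S (c := 1) ⟨one_ne_zero, fun x y => funext fun i => map_add σ _ _,
    fun t x => funext fun i => map_mul σ _ _, fun x => ?_⟩
  show FormsLib.qOdd m F (fun i => σ (x i)) = 1 * σ (FormsLib.qOdd m F x)
  rw [one_mul, FormsLib.coe_qOdd]
  simp [Cfsg.quadFormOdd, map_sum]

theorem sigHom_odd_range (S : QSetting (FormsLib.qOdd m F)) : (sigHom S).range = ⊤ :=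
  MonoidHom.range_eq_top.2 fun σ => ⟨fldOdd σ, sigT_fldOdd S σ⟩

/-- In odd dimension the multipliers are the squares. -/
theorem simMul_odd_range (S : QSetting (FormsLib.qOdd m F)) :
    (simMul S).range = (powMonoidHom 2 : Fˣ →* Fˣ).range := by
  refine le_antisymm ?_ ?_
  · rintro _ ⟨g, rfl⟩
    have h := det_sim_sq S.nondeg (A := (g.1 : Matrix _ _ F)) (simMul_spec S g)
    set c := simMul S g
    have hn : Fintype.card (Unit ⊕ (Fin m ⊕ Fin m)) = 2 * m + 1 := by simp [Fintype.card_sum]; omega
    refine ⟨Matrix.GeneralLinearGroup.det g.1 / c ^ m, Units.ext ?_⟩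
    rw [hn] at h
    show ((Matrix.GeneralLinearGroup.det g.1 / c ^ m) ^ 2 : Fˣ).1 = (c : F)
    rw [Units.val_pow_eq_pow_val, Units.val_div_eq_div_val, Units.val_pow_eq_pow_val,
      Matrix.GeneralLinearGroup.val_det_apply, div_pow, sq,
      h, pow_succ, ← pow_mul, mul_comm 2 m, mul_div_cancel_left₀ _ (pow_ne_zero _ c.ne_zero)]
  · rintro _ ⟨a, rfl⟩
    refine ⟨scalSim a, Units.ext (simMul_eq S fun v => ?_)⟩
    show FormsLib.qOdd m F ((ofSim (scalSim (Q := FormsLib.qOdd m F) a)).1 v) = _
    rw [scalSim_apply, QuadraticMap.map_smul, smul_eq_mul]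
    simp [powMonoidHom, sq]

end Odd

section Minus

variable {F : Type*} [Field F] {k : ℕ} {a b : F}

local notation "V" => (Fin k ⊕ Fin k) ⊕ Fin 2 → F
local notation "KK" => QuadraticAlgebra F (-b) a

theorem fact_of_aniso (hab : ∀ z₁ z₂ : F, z₁ ^ 2 + a * z₁ * z₂ + b * z₂ ^ 2 = 0 → z₁ = 0 ∧ z₂ = 0) :
    Fact (∀ r : F, r ^ 2 ≠ -b + a * r) :=
  ⟨fun r h => one_ne_zero (hab (-r) 1 (by linear_combination h)).2⟩

/-- The binary part as an element of the quadratic algebra. -/
def binPart (v : V) : KK := ⟨v (.inr 0), v (.inr 1)⟩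

theorem minus_eq (v : V) : Cfsg.quadFormMinus k F a b v =
    (∑ i : Fin k, v (.inl (.inl i)) * v (.inl (.inr i))) + (binPart (a := a) (b := b) v).norm := by
  simp [Cfsg.quadFormMinus, binPart, QuadraticAlgebra.norm_def]
  ring

/-- A semilinear map of the minus space: scaled coordinates on the hyperbolic part, a given map on
the binary part. -/
def minusMap (σ : F ≃+* F) (c : F) (M : KK → KK) (v : V) : V :=
  Sum.elim (Sum.elim (fun i => c * σ (v (.inl (.inl i)))) fun i => σ (v (.inl (.inr i))))
    ![(M (binPart v)).re, (M (binPart v)).im]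

theorem binPart_minusMap (σ : F ≃+* F) (c : F) (M : KK → KK) (v : V) :
    binPart (a := a) (b := b) (minusMap σ c M v) = M (binPart v) := rfl

theorem isSemi_minusMap {Q : QuadraticForm F V} (hQ : ⇑Q = Cfsg.quadFormMinus k F a b) {σ : F ≃+* F}
    {c : F} (hc : c ≠ 0) {M : KK → KK} (hadd : ∀ x y, M (x + y) = M x + M y)
    (hsmul : ∀ (t : F) x, M (t • x) = σ t • M x) (hnorm : ∀ x, (M x).norm = c * σ x.norm) :
    IsSemi Q (minusMap σ c M) σ c := by
  have e1 : ∀ x y : V, binPart (a := a) (b := b) (x + y) = binPart x + binPart y := fun _ _ => rfl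
  have e2 : ∀ (t : F) (x : V), binPart (a := a) (b := b) (t • x) = t • binPart x := fun _ _ => rfl
  refine ⟨hc, fun x y => funext fun i => ?_, fun t x => funext fun i => ?_, fun x => ?_⟩
  · rcases i with (i | i) | i
    · show c * σ (x (.inl (.inl i)) + y (.inl (.inl i))) =
        c * σ (x (.inl (.inl i))) + c * σ (y (.inl (.inl i)))
      rw [map_add, mul_add]
    · exact map_add σ _ _
    · fin_cases i <;> simp [minusMap, e1, hadd]
  · rcases i with (i | i) | i
    · show c * σ (t * x (.inl (.inl i))) = σ t * (c * σ (x (.inl (.inl i))))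
      rw [map_mul]; ring
    · exact map_mul σ _ _
    · fin_cases i <;> simp [minusMap, e2, hsmul]
  · rw [hQ, minus_eq, minus_eq, binPart_minusMap, hnorm, map_add, mul_add, map_sum, Finset.mul_sum]
    congr 1
    exact Finset.sum_congr rfl fun i _ => by rw [map_mul, ← mul_assoc]; rfl

variable [Fintype F] {Q : QuadraticForm F ((Fin k ⊕ Fin k) ⊕ Fin 2 → F)} (hQ : ⇑Q = Cfsg.quadFormMinus k F a b)
  (hab : ∀ z₁ z₂ : F, z₁ ^ 2 + a * z₁ * z₂ + b * z₂ ^ 2 = 0 → z₁ = 0 ∧ z₂ = 0)
  (S : QSetting Q)

include hQ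

theorem minusMap_injective (σ : F ≃+* F) {c : F} (hc : c ≠ 0) {M : KK → KK} (hM : Function.Injective M) :
    Function.Injective (minusMap (k := k) σ c M) := fun x y h => by
  funext i
  rcases i with (i | i) | i
  · exact σ.injective (mul_left_cancel₀ hc (congrFun h (.inl (.inl i))))
  · exact σ.injective (congrFun h (.inl (.inr i)))
  · have h' : binPart (a := a) (b := b) (minusMap σ c M x) = binPart (minusMap σ c M y) := by rw [h]
    rw [binPart_minusMap, binPart_minusMap] at h'
    have h2 := hM h'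
    fin_cases i
    · exact congrArg QuadraticAlgebra.re h2
    · exact congrArg QuadraticAlgebra.im h2

/-- The semilinear similitude of a map of the binary part. -/
noncomputable def minusSemi (σ : F ≃+* F) (c : F) (hc : c ≠ 0) (M : KK → KK) (hM : Function.Injective M)
    (hadd : ∀ x y, M (x + y) = M x + M y) (hsmul : ∀ (t : F) x, M (t • x) = σ t • M x)
    (hnorm : ∀ x, (M x).norm = c * σ x.norm) : SemiT Q :=
  ⟨Equiv.ofBijective _ (Finite.injective_iff_bijective.1 (minusMap_injective hQ σ hc hM)), σ, c,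
    isSemi_minusMap hQ hc hadd hsmul hnorm⟩

include hab S

/-- Every scalar is a norm from the quadratic extension. -/
theorem exists_norm_eq (c : F) (hc : c ≠ 0) : ∃ u : KK, u.norm = c := by
  obtain ⟨v, hv⟩ := OrthRows.exists_norm_all (S0288.binForm_nondeg a b hab) (by simp) hc
  exact ⟨⟨v 0, v 1⟩, by rw [← hv, S0288.binForm_apply, QuadraticAlgebra.norm_def]; ring⟩

theorem simMul_minus_range : (simMul S).range = ⊤ := by
  refine MonoidHom.range_eq_top.2 fun c => ?_
  haveI := fact_of_aniso hab
  obtain ⟨u, hu⟩ := exists_norm_eq hQ hab S (c : F) c.ne_zero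
  have hu0 : u ≠ 0 := fun h => c.ne_zero (by rw [← hu, h, QuadraticAlgebra.norm_zero])
  let T := minusSemi hQ (RingEquiv.refl F) (c : F) c.ne_zero (fun z => u * z) (mul_right_injective₀ hu0)
    (fun x y => mul_add u x y) (fun t x => mul_smul_comm t u x)
    (fun x => by rw [map_mul, hu]; rfl)
  have hT : sigHom S T = 1 := sigT_eq S (c := (c : F)) (isSemi_minusMap hQ c.ne_zero
    (fun x y => mul_add u x y) (fun t x => mul_smul_comm t u x) (fun x => by rw [map_mul, hu]; rfl))
  have hk : T ∈ (ofSim (Q := Q)).range := by rw [← ker_sigHom S]; exact hT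
  obtain ⟨g, hg⟩ := hk
  refine ⟨g, Units.ext (simMul_eq S fun v => ?_)⟩
  rw [← ofSim_apply g v, hg]
  exact (isSemi_minusMap hQ c.ne_zero (fun x y => mul_add u x y) (fun t x => mul_smul_comm t u x)
    (fun x => by rw [map_mul, hu]; rfl)).quad v

omit S hQ

/-- The `q`-th power map of the quadratic extension is conjugation. -/
theorem pow_card_eq_star (z : KK) : z ^ Fintype.card F = star z := by
  haveI := fact_of_aniso hab
  haveI : Finite KK := Module.finite_of_finite F
  haveI : Fintype KK := Fintype.ofFinite _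
  set q := Fintype.card F
  set w : KK := QuadraticAlgebra.omega
  let φ : KK →ₐ[F] KK := FiniteField.frobeniusAlgHom F KK
  have hφ : ∀ x : KK, φ x = x ^ q := fun x => rfl
  have hdec : ∀ z : KK, z = algebraMap F KK z.re + z.im • w := fun z => by
    ext <;> simp [w]
  have hroot : φ w * φ w = algebraMap F KK (-b) + a • φ w := by
    rw [← map_mul, QuadraticAlgebra.omega_mul_omega_eq_mk]
    rw [hdec (⟨-b, a⟩ : KK), map_add, AlgHom.commutes, map_smul]
  have hw : w * w = algebraMap F KK (-b) + a • w := by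
    rw [QuadraticAlgebra.omega_mul_omega_eq_mk]
    exact hdec _
  have hcases : φ w = w ∨ φ w = star w := by
    have e : star w = algebraMap F KK a - w := by ext <;> simp [w]
    have h0 : (φ w - w) * (φ w + w - algebraMap F KK a) = 0 := by
      rw [Algebra.smul_def] at hroot hw
      linear_combination hroot - hw
    rcases mul_eq_zero.1 h0 with h | h
    · exact Or.inl (sub_eq_zero.1 h)
    · exact Or.inr (by rw [e]; linear_combination h)
  have hne : φ w ≠ w := by
    intro h
    have hall : ∀ x : KK, x ^ q = x := fun x => by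
      rw [← hφ]
      conv_rhs => rw [hdec x]
      conv_lhs => rw [hdec x, map_add, AlgHom.commutes, map_smul, h]
    obtain ⟨g, hg⟩ := IsCyclic.exists_ofOrder_eq_natCard (α := KKˣ)
    have hq : 1 < q := Fintype.one_lt_card
    have h1 : g ^ (q - 1) = 1 := by
      have h2 : g ^ q = g := Units.ext (by rw [Units.val_pow_eq_pow_val]; exact hall _)
      rw [show q = q - 1 + 1 by omega, pow_succ] at h2
      exact mul_right_cancel (h2.trans (one_mul g).symm)
    have h3 := Nat.le_of_dvd (by omega) (orderOf_dvd_of_pow_eq_one h1)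
    rw [hg, Nat.card_units, Module.natCard_eq_pow_finrank (K := F),
      Nat.card_eq_fintype_card, show Module.finrank F KK = 2 from QuadraticAlgebra.finrank_eq_two _ _] at h3
    have : 2 * q ≤ q ^ 2 := by nlinarith
    rw [show Fintype.card F = q from rfl] at h3; omega
  rw [← hφ]
  conv_lhs => rw [hdec z, map_add, AlgHom.commutes, map_smul, hcases.resolve_left hne]
  ext <;> simp [w]
  ring

include hQ S

/-- A semilinear isometry lifting the Frobenius whose `f`-th power is a reflection. -/
theorem exists_lift (p f : ℕ) [Fact p.Prime] [CharP F p] (hF : Fintype.card F = p ^ f) :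
    ∃ T : SemiT Q, orderOf (sigHom S T) = f ∧ (∀ τ : F ≃+* F, τ ∈ Subgroup.zpowers (sigHom S T)) ∧
      mulT T = 1 ∧
      ∃ v : V, Q v ≠ 0 ∧ ∀ x : V,
        ((T ^ f : SemiT Q).1 : V → V) x = Cfsg.reflectionMatrix (DFunLike.coe Q) v *ᵥ x := by
  haveI := fact_of_aniso hab
  haveI : CharP KK p := charP_of_injective_algebraMap (algebraMap F KK).injective p
  obtain ⟨σ, hσ, hord, hgen⟩ := exists_frob F p f hF
  have hsm : ∀ (t : F) (x : KK), (t • x) ^ p = σ t • x ^ p := fun t x => by
    rw [smul_pow, hσ]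
  have hnm : ∀ x : KK, (x ^ p).norm = 1 * σ x.norm := fun x => by rw [map_pow, hσ, one_mul]
  let T := minusSemi hQ σ 1 one_ne_zero (fun z => z ^ p) (frobenius_inj KK p) (fun x y => add_pow_char x y p) hsm hnm
  have hspec := isSemi_minusMap hQ (one_ne_zero (α := F)) (fun x y => add_pow_char x y p) hsm hnm
  have hs : sigHom S T = σ := sigT_eq S hspec
  refine ⟨T, by rw [hs, hord], by rw [hs]; exact hgen, mulT_eq S hspec, ?_⟩
  have hiter : ∀ j : ℕ, ∀ x : V, (∀ i, ((T ^ j : SemiT Q).1 : V → V) x (.inl i) = (x (.inl i)) ^ p ^ j) ∧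
      binPart (a := a) (b := b) (((T ^ j : SemiT Q).1 : V → V) x) = binPart x ^ p ^ j := by
    intro j
    induction j with
    | zero => intro x; simp
    | succ j ih =>
      intro x
      rw [pow_succ']
      show (∀ i, minusMap σ 1 (fun z : KK => z ^ p) (((T ^ j : SemiT Q).1 : V → V) x) (.inl i) = _) ∧ _
      refine ⟨fun i => ?_, ?_⟩
      · rcases i with i | i
        · show 1 * σ _ = _
          rw [one_mul, hσ, (ih x).1, ← pow_mul, pow_succ]
        · show σ _ = _
          rw [hσ, (ih x).1, ← pow_mul, pow_succ]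
      · show (binPart (a := a) (b := b) (((T ^ j : SemiT Q).1 : V → V) x)) ^ p = _
        rw [(ih x).2, ← pow_mul, pow_succ]
  have hstar : ∀ x : V, (∀ i, ((T ^ f : SemiT Q).1 : V → V) x (.inl i) = x (.inl i)) ∧
      binPart (a := a) (b := b) (((T ^ f : SemiT Q).1 : V → V) x) = star (binPart x) := fun x => by
    obtain ⟨h1, h2⟩ := hiter f x
    exact ⟨fun i => by rw [h1, ← hF, FiniteField.pow_card], by rw [h2, ← hF, pow_card_eq_star hab]⟩
  -- the fixed hyperplane
  by_cases h2 : (2 : F) = 0
  · refine ⟨Sum.elim 0 ![1, 0], by rw [hQ]; simp [Cfsg.quadFormMinus], fun x => funext fun i => ?_⟩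
    have ha : a ≠ 0 := by
      intro ha
      obtain ⟨s, hs⟩ := FiniteField.isSquare_of_char_two (Spinor.ringChar_eq_two h2) b
      exact one_ne_zero (hab s 1 (by rw [ha, hs]; linear_combination (s * s) * h2)).2
    rw [FormsLib.reflectionMatrix_mulVec, FormsLib.reflHom_apply]
    have hp : QuadraticMap.polar Q x (Sum.elim 0 ![1, 0]) = a * x (.inr 1) + 2 * x (.inr 0) := by
      simp [QuadraticMap.polar, hQ, Cfsg.quadFormMinus]; ring
    rw [hp, hQ, h2]
    rcases i with i | i
    · rw [(hstar x).1]; simp [Cfsg.quadFormMinus]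
    · have e := (hstar x).2
      fin_cases i
      · have := congrArg QuadraticAlgebra.re e
        simp [binPart] at this
        simp [Cfsg.quadFormMinus, this]
        linear_combination (a * x (.inr 1)) * h2
      · have := congrArg QuadraticAlgebra.im e
        simp [binPart] at this
        simp [Cfsg.quadFormMinus, this]
        linear_combination -(x (.inr 1)) * h2
  · have hdisc : 4 * b - a * a ≠ 0 := fun h => by
      have := (hab (-a) 2 (by linear_combination h)).2
      exact h2 this
    have hQv : Q (Sum.elim 0 ![a, -2]) = 4 * b - a * a := by rw [hQ]; simp [Cfsg.quadFormMinus]; ring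
    refine ⟨Sum.elim 0 ![a, -2], by rw [hQv]; exact hdisc, fun x => funext fun i => ?_⟩
    rw [FormsLib.reflectionMatrix_mulVec, FormsLib.reflHom_apply]
    have hp : QuadraticMap.polar Q x (Sum.elim 0 ![a, -2]) = (a * a - 4 * b) * x (.inr 1) := by
      simp [QuadraticMap.polar, hQ, Cfsg.quadFormMinus]; ring
    have hk : (Q (Sum.elim 0 ![a, -2]))⁻¹ * QuadraticMap.polar Q x (Sum.elim 0 ![a, -2]) = -x (.inr 1) := by
      rw [hQv, hp, show a * a - 4 * b = -(4 * b - a * a) by ring, neg_mul, mul_neg,
        inv_mul_cancel_left₀ hdisc]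
    rcases i with i | i
    · rw [(hstar x).1]; simp
    · have e := (hstar x).2
      fin_cases i
      · have := congrArg QuadraticAlgebra.re e
        simp [binPart] at this
        simp [this, hk]
        ring
      · have := congrArg QuadraticAlgebra.im e
        simp [binPart] at this
        simp [this, hk]
        ring

theorem sigHom_minus_range : (sigHom S).range = ⊤ := by
  obtain ⟨p, hp⟩ := CharP.exists F
  haveI : Fact p.Prime := ⟨CharP.char_is_prime F p⟩
  obtain ⟨n, -, hn⟩ := FiniteField.card F p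
  obtain ⟨T, -, hgen, -⟩ := exists_lift hQ hab S p n hn
  refine eq_top_iff.2 fun τ _ => ?_
  exact (Subgroup.zpowers_le.2 (MonoidHom.mem_range.2 ⟨T, rfl⟩)) (hgen τ)

end Minus

end Cfsg.Agent.AutPOmega
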