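import Cfsg.Agent.Lib.AutPOmega.Out
import Cfsg.Agent.Lib.AutPOmega.Models

/-!
# Outer classes of similarities in even dimension and odd characteristic
-/

set_option autoImplicit false
set_option linter.unusedSectionVars false

namespace Cfsg.Agent.AutPOmega

open scoped Matrix
open Cfsg.Agent Cfsg.Agent.TransvMax Cfsg.Agent.QMax

variable {ι : Type} [Fintype ι] [DecidableEq ι] {F : Type*} [Field F] [Fintype F]
  {Q : QuadraticForm F (ι → F)}

local notation "V" => ι → F
local notation "SimQ" => Cfsg.Geo.quadSimilarityGroup (F := F) (DFunLike.coe Q)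
local notation "IsoQ" => Cfsg.isometryGroup F (DFunLike.coe Q)

/-- The matrix inclusion of isometries into similarities. -/
abbrev incl : Cfsg.isometryGroup F ⇑Q →* Cfsg.Geo.quadSimilarityGroup (F := F) ⇑Q :=
  Subgroup.inclusion isometry_le_sim

variable (S : QSetting Q)

include S

/-- Determinant against the multiplier: the sign telling proper similarities apart. -/
noncomputable def epsS (k : ℕ) : SimQ →* Fˣ :=
  MonoidHom.mk' (fun g => Matrix.GeneralLinearGroup.det g.1 / simMul S g ^ k) fun g h => by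
    rw [Subgroup.coe_mul, map_mul, map_mul, mul_pow]
    exact mul_div_mul_comm _ _ _ _

theorem epsS_apply (k : ℕ) (g : SimQ) :
    epsS S k g = Matrix.GeneralLinearGroup.det g.1 / simMul S g ^ k := rfl

theorem simMul_incl (h : IsoQ) : simMul S (incl h) = 1 := by
  show incl h ∈ (simMul S).ker
  rw [ker_simMul S]
  exact ⟨h, rfl⟩

theorem epsS_incl (k : ℕ) (h : IsoQ) : epsS S k (incl h) = Matrix.GeneralLinearGroup.det h.1 := by
  rw [epsS_apply, simMul_incl S, one_pow, div_one]
  rfl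

theorem simMul_scal (c : Fˣ) : simMul S (scalSim (Q := Q) c) = c * c :=
  Units.ext (simMul_eq S fun v => by
    show Q ((ofSim (scalSim (Q := Q) c)).1 v) = _
    rw [scalSim_apply, QuadraticMap.map_smul, smul_eq_mul, Units.val_mul])

variable {k : ℕ} (hk : Fintype.card ι = 2 * k)

include hk

theorem epsS_scal (c : Fˣ) : epsS S k (scalSim (Q := Q) c) = 1 := by
  rw [epsS_apply, simMul_scal S, div_eq_one]
  refine Units.ext ?_
  rw [Matrix.GeneralLinearGroup.val_det_apply, Units.val_pow_eq_pow_val, Units.val_mul, ← sq, ← pow_mul, ← hk]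
  simp [scalSim, Matrix.GeneralLinearGroup.scalar]

theorem det_omega {t : IsoQ} (ht : t ∈ Cfsg.Omega F ⇑Q) : Matrix.GeneralLinearGroup.det t.1 = 1 := by
  exact (Abelianization.commutator_subset_ker
    (Matrix.GeneralLinearGroup.det.comp (Cfsg.isometryGroup F ⇑Q).subtype)) ht

theorem epsS_eq_one_of_outS {g : SimQ} (h : outS g = 1) : epsS S k g = 1 := by
  obtain ⟨t, c, rfl⟩ := exists_of_outS_eq_one S h
  rw [map_mul, epsS_scal S hk, mul_one, show omSim t = incl (t : IsoQ) from rfl, epsS_incl S,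
    det_omega S hk t.2]

theorem epsS_sq (g : SimQ) : epsS S k g * epsS S k g = 1 := by
  rw [epsS_apply, div_mul_div_comm, div_eq_one]
  refine Units.ext ?_
  rw [Units.val_mul, Units.val_mul, Units.val_pow_eq_pow_val, Matrix.GeneralLinearGroup.val_det_apply,
    det_sim_sq S.nondeg (simMul_spec S g), ← pow_add, hk, two_mul]

variable (h2 : (2 : F) ≠ 0)

include h2

theorem neg_one_ne_one : (-1 : Fˣ) ≠ 1 := fun h => h2 (by
  have h' := congrArg Units.val h
  rw [Units.val_neg, Units.val_one] at h'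
  linear_combination -h')

theorem epsS_cases (g : SimQ) : epsS S k g = 1 ∨ epsS S k g = -1 := by
  rcases mul_self_eq_one_iff.1 (congrArg Units.val (epsS_sq S hk g) : (epsS S k g : F) * _ = 1) with h | h
  · exact Or.inl (Units.ext h)
  · exact Or.inr (Units.ext (by rw [h, Units.val_neg, Units.val_one]))

theorem epsS_rf {v : V} (hv : Q v ≠ 0) : epsS S k (incl (OrthRows.rf Q v hv)) = -1 := by
  rw [epsS_incl S, OrthRows.det_rf hv]

theorem outI_rf_ne_one {v : V} (hv : Q v ≠ 0) : outI (OrthRows.rf Q v hv) ≠ 1 := fun h =>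
  neg_one_ne_one S hk h2 ((epsS_rf S hk h2 hv).symm.trans (epsS_eq_one_of_outS S hk h))

theorem simMul_sq_cases {g : SimQ} (h : IsSquare (simMul S g : F)) :
    ∃ (c : Fˣ) (h' : IsoQ), g = scalSim c * incl h' := by
  obtain ⟨s, hs⟩ := h
  have hs0 : s ≠ 0 := fun e => (simMul S g).ne_zero (by rw [hs, e, zero_mul])
  set c : Fˣ := Units.mk0 s hs0
  have hk1 : (scalSim (Q := Q) c)⁻¹ * g ∈ (simMul S).ker := by
    rw [MonoidHom.mem_ker, map_mul, map_inv, simMul_scal S, inv_mul_eq_one]
    exact Units.ext hs.symm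
  rw [ker_simMul S] at hk1
  obtain ⟨h', he⟩ := hk1
  exact ⟨c, h', by rw [he, mul_inv_cancel_left]⟩

/-- The standing data: a similarity of non-square multiplier and the number of classes. -/
structure EvenData (Q : QuadraticForm F (ι → F)) (S : QSetting Q) (d : Cfsg.Geo.quadSimilarityGroup (F := F) ⇑Q) (g : ℕ) : Prop where
  nsq : ¬ IsSquare (simMul S d : F)
  card : Nat.card (Cfsg.isometryGroup F ⇑Q) = 2 * g * Nat.card (Cfsg.POmega F ⇑Q)

variable {d : Cfsg.Geo.quadSimilarityGroup (F := F) ⇑Q} {g : ℕ} (D : EvenData Q S d g)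

include D

theorem exists_vec : ∃ (v : V) (hv : Q v ≠ 0) (hw : Q ((d.1 : Matrix ι ι F) *ᵥ v) ≠ 0),
    IsSquare (Q v) ∧ ¬ IsSquare (Q ((d.1 : Matrix ι ι F) *ᵥ v)) := by
  obtain ⟨v, hv⟩ := OrthRows.exists_norm_all S.nondeg (by have := S.dim; omega) (one_ne_zero (α := F))
  have hdv : Q ((d.1 : Matrix ι ι F) *ᵥ v) = (simMul S d : F) := by rw [simMul_spec S, hv, mul_one]
  exact ⟨v, by rw [hv]; exact one_ne_zero, by rw [hdv]; exact (simMul S d).ne_zero,
    by rw [hv]; exact IsSquare.one, by rw [hdv]; exact D.nsq⟩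

theorem card_outI : Nat.card (outI (Q := Q)).range = g := by
  have h := card_isoAut_range S (s := 2) (by
    rw [Nat.card_eq_two_iff]
    refine ⟨⟨1, one_mul 1⟩, ⟨-1, by ring⟩, fun e => h2 ?_, Set.eq_univ_of_forall fun c => ?_⟩
    · have := congrArg Subtype.val e
      simp only at this
      linear_combination this
    · rcases mul_self_eq_one_iff.1 c.2 with h | h
      · exact Or.inl (Subtype.ext h)
      · exact Or.inr (Subtype.ext h))
  rw [← card_outI_range S, D.card] at h
  have hpos : 0 < Nat.card (Cfsg.POmega F ⇑Q) := Nat.card_pos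
  exact Nat.eq_of_mul_eq_mul_right hpos (by linarith)

theorem outI_cases' {v : V} (hv : Q v ≠ 0) (hw : Q ((d.1 : Matrix ι ι F) *ᵥ v) ≠ 0)
    (hsq : IsSquare (Q v)) (hns : ¬ IsSquare (Q ((d.1 : Matrix ι ι F) *ᵥ v))) (x : IsoQ) :
    outI x = 1 ∨ outI x = outI (OrthRows.rf Q v hv) ∨ outI x = outI (OrthRows.rf Q _ hw) ∨
      outI x = outI (OrthRows.rf Q v hv) * outI (OrthRows.rf Q _ hw) :=
  outI_cases S hv hw (fun u _ => by
    by_cases h : IsSquare (Q u)
    · exact Or.inl (iff_of_true h hsq)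
    · exact Or.inr (iff_of_false h hns)) x

theorem rf_ne_of_four (hg : g = 4) {v : V} (hv : Q v ≠ 0) (hw : Q ((d.1 : Matrix ι ι F) *ᵥ v) ≠ 0)
    (hsq : IsSquare (Q v)) (hns : ¬ IsSquare (Q ((d.1 : Matrix ι ι F) *ᵥ v))) :
    outI (OrthRows.rf Q v hv) ≠ outI (OrthRows.rf Q _ hw) := by
  intro e
  set a := outI (OrthRows.rf Q v hv)
  have hsub : ((outI (Q := Q)).range : Set _) ⊆ {1, a} := by
    rintro _ ⟨x, rfl⟩
    rcases outI_cases' S hk h2 D hv hw hsq hns x with h | h | h | h
    · exact Or.inl h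
    · exact Or.inr h
    · exact Or.inr (by rw [Set.mem_singleton_iff, h, e])
    · exact Or.inl (by rw [h, ← e]; exact outI_rf_sq S hv)
  have h1 := Set.ncard_le_ncard hsub (Set.toFinite _)
  rw [← Nat.card_coe_set_eq, SetLike.coe_sort_coe, card_outI S hk h2 D, hg] at h1
  have h3 := Set.ncard_insert_le (1 : Cfsg.Out (Cfsg.POmega F ⇑Q)) {a}
  rw [Set.ncard_singleton] at h3
  omega

theorem rf_eq_of_two (hg : g = 2) {v : V} (hv : Q v ≠ 0) (hw : Q ((d.1 : Matrix ι ι F) *ᵥ v) ≠ 0) :
    outI (OrthRows.rf Q v hv) = outI (OrthRows.rf Q _ hw) := by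
  set a := outI (OrthRows.rf Q v hv)
  set b := outI (OrthRows.rf Q _ hw)
  have ha : a ≠ 1 := outI_rf_ne_one S hk h2 hv
  have hb : b ≠ 1 := outI_rf_ne_one S hk h2 hw
  by_contra hne
  have hsub : ({1, a, b} : Set _) ⊆ (outI (Q := Q)).range := by
    rintro x (rfl | rfl | rfl)
    exacts [one_mem _, ⟨_, rfl⟩, ⟨_, rfl⟩]
  have h1 := Set.ncard_le_ncard hsub (Set.toFinite _)
  rw [Set.ncard_insert_of_notMem (by simp [Ne.symm ha, Ne.symm hb]) (Set.toFinite _),
    Set.ncard_pair hne, ← Nat.card_coe_set_eq, SetLike.coe_sort_coe, card_outI S hk h2 D, hg] at h1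
  omega

/-- An isometry of determinant one lies in one of the two proper classes. -/
theorem outI_proper {v : V} (hv : Q v ≠ 0) (hw : Q ((d.1 : Matrix ι ι F) *ᵥ v) ≠ 0)
    (hsq : IsSquare (Q v)) (hns : ¬ IsSquare (Q ((d.1 : Matrix ι ι F) *ᵥ v))) {x : IsoQ}
    (hx : Matrix.GeneralLinearGroup.det x.1 = 1) :
    outI x = 1 ∨ outI x = outI (OrthRows.rf Q v hv) * outI (OrthRows.rf Q _ hw) := by
  have key : ∀ (u : V) (hu : Q u ≠ 0), outI x ≠ outI (OrthRows.rf Q u hu) := fun u hu e => by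
    have h1 : outS (incl (x * OrthRows.rf Q u hu)) = 1 := by
      show outI (x * OrthRows.rf Q u hu) = 1
      rw [map_mul, e, outI_rf_sq S hu]
    have h3 := epsS_eq_one_of_outS S hk h1
    rw [epsS_incl S, Subgroup.coe_mul, map_mul, hx, one_mul, OrthRows.det_rf hu] at h3
    exact neg_one_ne_one S hk h2 h3
  rcases outI_cases' S hk h2 D hv hw hsq hns x with h | h | h | h
  exacts [Or.inl h, absurd h (key _ hv), absurd h (key _ hw), Or.inr h]

/-- A proper similarity of square multiplier lies in one of the two proper classes. -/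
theorem outS_proper {v : V} (hv : Q v ≠ 0) (hw : Q ((d.1 : Matrix ι ι F) *ᵥ v) ≠ 0)
    (hsq : IsSquare (Q v)) (hns : ¬ IsSquare (Q ((d.1 : Matrix ι ι F) *ᵥ v))) {x : SimQ}
    (hm : IsSquare (simMul S x : F)) (he : epsS S k x = 1) :
    outS x = 1 ∨ outS x = outI (OrthRows.rf Q v hv) * outI (OrthRows.rf Q _ hw) := by
  obtain ⟨c, h', rfl⟩ := simMul_sq_cases S hk h2 hm
  rw [map_mul, epsS_scal S hk, one_mul, epsS_incl S] at he
  rw [map_mul, outS_scal S, one_mul]
  exact outI_proper S hk h2 D hv hw hsq hns he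

/-- Every class of a similarity. -/
theorem outS_cases (x : SimQ) :
    (∃ h : IsoQ, outS x = outI h) ∨ ∃ h : IsoQ, outS x = outS d * outI h := by
  by_cases hx : IsSquare (simMul S x : F)
  · obtain ⟨c, h', rfl⟩ := simMul_sq_cases S hk h2 hx
    exact Or.inl ⟨h', by rw [map_mul, outS_scal S, one_mul]; rfl⟩
  · have h1 : IsSquare (simMul S (d⁻¹ * x) : F) := by
      rw [map_mul, map_inv, Units.val_mul,
        Spinor.isSquare_mul_iff' (Units.ne_zero _) (Units.ne_zero _)]
      refine iff_of_false ?_ hx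
      rw [Units.val_inv_eq_inv_val, isSquare_inv]
      exact D.nsq
    obtain ⟨c, h', he⟩ := simMul_sq_cases S hk h2 h1
    refine Or.inr ⟨h', ?_⟩
    have h3 := congrArg outS he
    rw [map_mul, map_inv, map_mul, outS_scal S, one_mul, inv_mul_eq_iff_eq_mul] at h3
    exact h3

theorem outS_d_notMem_outI (x : IsoQ) : outS d ≠ outI x := fun e => by
  have h1 : outS ((incl x)⁻¹ * d) = 1 := by
    rw [map_mul, map_inv]; exact inv_mul_eq_one.2 e.symm
  obtain ⟨t, c, h⟩ := exists_of_outS_eq_one S h1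
  have h3 := congrArg (simMul S) h
  rw [map_mul, map_inv, simMul_incl S, inv_one, one_mul, map_mul,
    show omSim t = incl (t : IsoQ) from rfl, simMul_incl S, one_mul, simMul_scal S] at h3
  exact D.nsq ⟨c, by rw [h3, Units.val_mul]⟩

end Cfsg.Agent.AutPOmega
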