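import Cfsg.Agent.Lib.AutPOmega.MinusChi
import Cfsg.Agent.Lib.AutPOmega.Descent
import Cfsg.Agent.Lib.AutPOmega.OutEven
import Cfsg.Agent.Lib.AutPSL.TwistedClasses

/-!
# Rational frames of semilinear similitudes
-/

set_option autoImplicit false
set_option linter.unusedSectionVars false
set_option maxHeartbeats 2000000

namespace Cfsg.Agent.AutPOmega

open Cfsg.Agent Cfsg.Agent.TransvMax Cfsg.Agent.QMax
open scoped Matrix
open Cfsg.Agent.AutPSL (cyc uMap)

section Generic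

variable {ι : Type} [Fintype ι] [DecidableEq ι] {F : Type*} [Field F] [Fintype F]
  {Q : QuadraticForm F (ι → F)} {F₀ : Type*} [Field F₀] (j : F₀ →+* F)

/-- A semilinear similitude commutes with the reflection in a fixed vector. -/
theorem commute_refl_fixed (T : SemiT Q) {w : ι → F} (hw : Q w ≠ 0) (h : T.1 w = w) :
    Commute T (ofSim (incl (OrthRows.rf Q w hw))) := by
  have hTw : Q (T.1 w) ≠ 0 := by rw [h]; exact hw
  refine mul_inv_eq_iff_eq_mul.1 ((semi_conj_refl T hw hTw).trans ?_)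
  congr 2
  refine Subtype.ext (Units.ext ?_)
  rw [OrthRows.rf_val, OrthRows.rf_val, h]

/-- A matrix sent to a multiple of itself is rational up to a scalar. -/
theorem exists_scale_rational (σ : F ≃+* F) (hj : ∀ a, σ a = a ↔ a ∈ j.range) (hr0 : 0 < orderOf σ)
    {M : Matrix ι ι F} {c : F} (hc0 : c ≠ 0) (hM : ∀ i k, σ (M i k) = c * M i k) :
    ∃ d : Fˣ, ∀ i k, (d : F) * M i k ∈ j.range := by
  by_cases hall : ∀ i k, M i k = 0
  · exact ⟨1, fun i k => ⟨0, by rw [hall, mul_zero, map_zero]⟩⟩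
  push Not at hall
  obtain ⟨i₁, k₁, hne⟩ := hall
  set cu := Units.mk0 c hc0
  have hit : ∀ n : ℕ, (σ ^ n) (M i₁ k₁) = ((cyc (uMap σ) cu n : Fˣ) : F) * M i₁ k₁ := by
    intro n
    induction n with
    | zero => simp [cyc]
    | succ n ih =>
      rw [pow_succ', cyc, Units.val_mul]
      show σ ((σ ^ n) _) = _
      rw [ih, map_mul, hM]
      show σ _ * (c * _) = c * σ _ * _
      ring
  have hcr : cyc (uMap σ) cu (orderOf σ) = 1 := by
    have h2 := hit (orderOf σ)
    rw [pow_orderOf_eq_one] at h2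
    refine Units.ext (mul_right_cancel₀ hne ?_)
    rw [Units.val_one, one_mul]
    exact h2.symm
  obtain ⟨b, hb⟩ := AutPSL.exists_hilbert90 σ hr0 cu hcr
  refine ⟨b, fun i k => (hj _).1 ?_⟩
  have hb' : c * σ (b : F) = b := by
    have := congrArg Units.val hb
    rw [Units.val_mul, Units.val_inv_eq_inv_val] at this
    rw [show c = (b : F) * (σ b)⁻¹ from this, inv_mul_cancel_right₀ ((map_ne_zero σ).2 b.ne_zero)]
  rw [map_mul, hM, ← mul_assoc, mul_comm (σ _) c, hb']

variable (S : QSetting Q)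

include S

theorem theta_pow_sig' {T : SemiT Q} {r : ℕ} (h : theta T ^ r = 1) : sigHom S T ^ r = 1 := by
  rw [← map_pow]
  exact outT_eq_one_sig S (by rw [← map_pow] at h; show QuotientGroup.mk' _ (theta _) = 1; rw [h, map_one])

/-- The classes of similarities have exponent dividing four. -/
theorem outS_pow_four (g : Cfsg.Geo.quadSimilarityGroup (F := F) ⇑Q) : outS g ^ 4 = 1 := by
  set s := simMul S g
  have hk : (scalSim (Q := Q) s)⁻¹ * (g * g) ∈ (simMul S).ker := by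
    rw [MonoidHom.mem_ker, map_mul, map_inv, simMul_scal S, map_mul, inv_mul_cancel]
  rw [ker_simMul S] at hk
  obtain ⟨h, hh⟩ := hk
  have h1 : outS g * outS g = outI h := by
    show _ = outS (incl h)
    rw [show incl h = _ from hh, map_mul, map_inv, map_mul, outS_scal S, inv_one, one_mul]
  have hsq : ∀ x : Cfsg.isometryGroup F ⇑Q, outI x * outI x = 1 := fun x => by
    induction (show x ∈ Subgroup.closure _ by
      rw [OrthRows.closure_rf S.nondeg (hexc S)]; exact Subgroup.mem_top x) using Subgroup.closure_induction with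
    | mem y hy =>
      obtain ⟨w, hw, hx⟩ := hy
      rw [OrthRows.eq_rf hw hx]
      exact outI_rf_sq S hw
    | one => rw [map_one, one_mul]
    | mul y z _ _ ihy ihz =>
      rw [map_mul, (outI_commute z y).mul_mul_mul_comm, ihy, ihz, one_mul]
    | inv y _ ihy => rw [map_inv, ← mul_inv_rev, ihy, inv_one]
  rw [show 4 = 2 * 2 from rfl, pow_mul, sq, sq, h1, hsq]

omit S
include S

/-- In characteristic two a similarity is a scalar times an isometry. -/
theorem sim_two_gen (h2 : (2 : F) = 0) (g : Cfsg.Geo.quadSimilarityGroup (F := F) ⇑Q) :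
    ∃ (c : Fˣ) (h : Cfsg.isometryGroup F ⇑Q), g = scalSim c * incl h := by
  obtain ⟨s, hs⟩ := FiniteField.isSquare_of_char_two (Spinor.ringChar_eq_two h2) (simMul S g : F)
  have hs0 : s ≠ 0 := fun e => Units.ne_zero (simMul S g) (by rw [hs, e, zero_mul])
  have hk1 : (scalSim (Q := Q) (Units.mk0 s hs0))⁻¹ * g ∈ (simMul S).ker := by
    rw [MonoidHom.mem_ker, map_mul, map_inv, simMul_scal S, inv_mul_eq_one]
    exact Units.ext hs.symm
  rw [ker_simMul S] at hk1
  obtain ⟨h, he⟩ := hk1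
  exact ⟨_, h, by rw [show incl h = _ from he, mul_inv_cancel_left]⟩

end Generic

section Frame

variable {ι : Type} [Fintype ι] [DecidableEq ι] {F : Type*} [Field F] [Fintype F]
  {Q : QuadraticForm F (ι → F)} (S : QSetting Q)
  {F₀ : Type*} [Field F₀] [Fintype F₀] (j : F₀ →+* F)
  {R : QuadraticForm F₀ (ι → F₀)} (S₀ : QSetting R)

/-- A rational frame for a semilinear similitude. -/
structure Frame (σ : F ≃+* F) (T : SemiT Q) (R : QuadraticForm F₀ (ι → F₀)) where
  /-- The change of basis. -/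
  H : GL ι F
  /-- The scalar. -/
  bb : Fˣ
  apply_eq : ∀ x : ι → F, T.1 (((H : GL ι F) : Matrix ι ι F) *ᵥ x) = ((H : GL ι F) : Matrix ι ι F) *ᵥ fun i => σ (x i)
  quad_eq : ∀ u : ι → F₀,
    Q (((H : GL ι F) : Matrix ι ι F) *ᵥ fun i => j (u i)) = (bb : F) * j (R u)

variable {σ : F ≃+* F} (hj : ∀ a, σ a = a ↔ a ∈ j.range)

include hj S₀ S

/-- Two framed similitudes are conjugate by a class-preserving similarity. -/
theorem exists_conj_frame {χ : Cfsg.Geo.quadSimilarityGroup (F := F) ⇑Q →* ℤˣ}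
    (hdk : ∀ h, χ (incl h) = OrthRows.dk S.nondeg (hexc S) h)
    {T T' : SemiT Q} (P : Frame j σ T R) (P' : Frame j σ T' R) :
    ∃ K : Cfsg.Geo.quadSimilarityGroup (F := F) ⇑Q, χ K = 1 ∧
      theta T' = simAut K * theta T * (simAut K)⁻¹ := by
  let μ : Fˣ := P'.bb * P.bb⁻¹
  let M : GL ι F := P'.H * P.H⁻¹
  have hMH : ∀ x, (M).1 *ᵥ ((P.H).1 *ᵥ x) = (P'.H).1 *ᵥ x := fun x => by
    rw [Matrix.mulVec_mulVec, ← Units.val_mul, inv_mul_cancel_right]
  have hq : ∀ y, Q ((M).1 *ᵥ y) = (μ : F) * Q y := fun y => by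
    obtain ⟨x, rfl⟩ := (glPerm P.H).surjective y
    rw [glPerm_apply, hMH]
    refine quad_ext_j j (A := Q.comp (Matrix.mulVecLin (P'.H).1))
      (B := (μ : F) • Q.comp (Matrix.mulVecLin (P.H).1)) (fun u => ?_) x
    rw [QuadraticMap.comp_apply, Matrix.mulVecLin_apply, P'.quad_eq, QuadraticMap.smul_apply,
      QuadraticMap.comp_apply, Matrix.mulVecLin_apply, P.quad_eq, smul_eq_mul, Units.val_mul,
      Units.val_inv_eq_inv_val]
    field_simp
  let K : Cfsg.Geo.quadSimilarityGroup (F := F) ⇑Q := ⟨M, μ, hq⟩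
  have hKT : T' * ofSim K = ofSim K * T := by
    refine Subtype.ext (Equiv.ext fun y => ?_)
    obtain ⟨x, rfl⟩ := (glPerm P.H).surjective y
    show T'.1 ((M).1 *ᵥ ((P.H).1 *ᵥ x)) =
      (M).1 *ᵥ T.1 ((P.H).1 *ᵥ x)
    rw [hMH, P'.apply_eq, P.apply_eq, hMH]
  have fin : ∀ L, T' * ofSim L = ofSim L * T → χ L = 1 → ∃ K : Cfsg.Geo.quadSimilarityGroup (F := F) ⇑Q,
      χ K = 1 ∧ theta T' = simAut K * theta T * (simAut K)⁻¹ := fun L hL h1 => ⟨L, h1, by
    rw [eq_mul_inv_iff_mul_eq]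
    show theta T' * theta (ofSim L) = theta (ofSim L) * theta T
    rw [← map_mul, ← map_mul, hL]⟩
  rcases Int.units_eq_one_or (χ K) with h | h
  · exact fin K hKT h
  · obtain ⟨u₀, hu₀⟩ := exists_quad_one_ne S₀
    set w := (P.H).1 *ᵥ fun i => j (u₀ i)
    have hw : Q w ≠ 0 := by rw [P.quad_eq]; exact mul_ne_zero P.bb.ne_zero ((map_ne_zero j).2 hu₀)
    have hfix : T.1 w = w := by
      rw [P.apply_eq]
      congr 1
      funext i
      exact (hj _).2 ⟨_, rfl⟩
    refine fin (K * incl (OrthRows.rf Q w hw)) ?_ (by rw [map_mul, h, hdk, OrthRows.dk_rf]; rfl)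
    rw [map_mul, ← mul_assoc, hKT, mul_assoc, (commute_refl_fixed T hw hfix).eq, ← mul_assoc]

omit S₀ hj S

variable {T : SemiT Q} (P : Frame j σ T R)

/-- Rational similarities inside. -/
noncomputable def frameJ : Cfsg.Geo.quadSimilarityGroup (F := F₀) ⇑R →* Cfsg.Geo.quadSimilarityGroup (F := F) ⇑Q :=
  MonoidHom.mk' (fun g => ⟨P.H * Matrix.GeneralLinearGroup.map j g.1 * P.H⁻¹, Units.map j.toMonoidHom g.2.choose,
    fun y => by
      obtain ⟨x, rfl⟩ := (glPerm P.H).surjective y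
      rw [glPerm_apply, Matrix.mulVec_mulVec, ← Units.val_mul, inv_mul_cancel_right, Units.val_mul,
        ← Matrix.mulVec_mulVec]
      refine quad_ext_j j (A := (Q.comp (Matrix.mulVecLin (P.H).1)).comp
        (Matrix.mulVecLin ((Matrix.GeneralLinearGroup.map j g.1 : GL ι F)).1))
        (B := ((Units.map j.toMonoidHom g.2.choose : Fˣ) : F) • Q.comp (Matrix.mulVecLin (P.H).1))
        (fun u => ?_) x
      rw [QuadraticMap.comp_apply, QuadraticMap.comp_apply, Matrix.mulVecLin_apply, Matrix.mulVecLin_apply,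
        show ((Matrix.GeneralLinearGroup.map j g.1 : GL ι F)).1 *ᵥ (fun i => j (u i)) =
          fun i => j ((((g.1 : GL ι F₀)).1 *ᵥ u) i) from
          funext fun i => (RingHom.map_mulVec j _ u i).symm,
        P.quad_eq, QuadraticMap.smul_apply, QuadraticMap.comp_apply, Matrix.mulVecLin_apply, P.quad_eq,
        g.2.choose_spec u, map_mul, smul_eq_mul]
      show _ = j (g.2.choose : F₀) * _
      ring⟩)
    fun g h => Subtype.ext (by
      show P.H * Matrix.GeneralLinearGroup.map j (g.1 * h.1) * P.H⁻¹ = _ * _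
      rw [map_mul]
      group)

theorem frameJ_val (g : Cfsg.Geo.quadSimilarityGroup (F := F₀) ⇑R) :
    (frameJ j P g).1 = P.H * Matrix.GeneralLinearGroup.map j g.1 * P.H⁻¹ := rfl

theorem frameJ_apply (g : Cfsg.Geo.quadSimilarityGroup (F := F₀) ⇑R) (u : ι → F₀) :
    ((frameJ j P g).1).1 *ᵥ ((P.H).1 *ᵥ fun i => j (u i)) =
      (P.H).1 *ᵥ fun i => j ((((g.1 : GL ι F₀)).1 *ᵥ u) i) := by
  rw [frameJ_val, Matrix.mulVec_mulVec, ← Units.val_mul, inv_mul_cancel_right, Units.val_mul,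
    ← Matrix.mulVec_mulVec]
  congr 1
  exact funext fun i => (RingHom.map_mulVec j _ u i).symm

include hj in
theorem frameJ_commute (g : Cfsg.Geo.quadSimilarityGroup (F := F₀) ⇑R) :
    Commute (ofSim (frameJ j P g)) T := by
  refine Subtype.ext (Equiv.ext fun y => ?_)
  obtain ⟨x, rfl⟩ := (glPerm P.H).surjective y
  show ((frameJ j P g).1).1 *ᵥ T.1 ((P.H).1 *ᵥ x) =
    T.1 (((frameJ j P g).1).1 *ᵥ ((P.H).1 *ᵥ x))
  rw [P.apply_eq, frameJ_val, Matrix.mulVec_mulVec, Matrix.mulVec_mulVec, ← Units.val_mul,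
    inv_mul_cancel_right, Units.val_mul, ← Matrix.mulVec_mulVec, ← Matrix.mulVec_mulVec, P.apply_eq]
  congr 1
  funext i
  simp only [Matrix.mulVec, dotProduct, map_sum, map_mul]
  refine Finset.sum_congr rfl fun l _ => ?_
  congr 1
  exact ((hj _).2 ⟨_, rfl⟩).symm

theorem frameJ_scal (c : F₀ˣ) :
    frameJ j P (scalSim c) = scalSim (Units.map j.toMonoidHom c) := by
  refine Subtype.ext (Units.ext ?_)
  have h1 : (Matrix.GeneralLinearGroup.map j (scalSim (Q := R) c).1 : GL ι F) =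
      Matrix.GeneralLinearGroup.scalar _ (Units.map j.toMonoidHom c) := Units.ext (Matrix.ext fun i l => by
    simp [scalSim, Matrix.GeneralLinearGroup.scalar, Matrix.diagonal_apply, apply_ite j])
  rw [frameJ_val, h1, Units.val_mul, Units.val_mul]
  show (P.H).1 * _ * _ =
    ((Matrix.GeneralLinearGroup.scalar _ (Units.map j.toMonoidHom c) : GL ι F)).1
  simp [Matrix.GeneralLinearGroup.scalar, ← Matrix.smul_one_eq_diagonal]

theorem frameJ_rf {v : ι → F₀} (hv : R v ≠ 0)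
    (hw : Q ((P.H).1 *ᵥ fun i => j (v i)) ≠ 0) :
    frameJ j P (incl (OrthRows.rf R v hv)) = incl (OrthRows.rf Q _ hw) := by
  refine Subtype.ext (glPerm_injective (Equiv.ext fun y => ?_))
  obtain ⟨x, rfl⟩ := (glPerm P.H).surjective y
  show ((frameJ j P (incl (OrthRows.rf R v hv))).1).1 *ᵥ ((P.H).1 *ᵥ x) =
    ((OrthRows.rf Q _ hw).1).1 *ᵥ ((P.H).1 *ᵥ x)
  let A := ((frameJ j P (incl (OrthRows.rf R v hv))).1).1 * (P.H).1
  let B := ((OrthRows.rf Q _ hw).1).1 * (P.H).1
  rw [Matrix.mulVec_mulVec, Matrix.mulVec_mulVec]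
  show A *ᵥ x = B *ᵥ x
  congr 1
  refine Matrix.toLin'.injective ((Pi.basisFun F _).ext fun i => ?_)
  rw [Matrix.toLin'_apply, Matrix.toLin'_apply,
    show (Pi.basisFun F ι i : _ → F) =
      fun l => j ((Pi.single i (1 : F₀) : ι → F₀) l) by
      funext l; simp [Pi.single_apply, apply_ite j]]
  set e : ι → F₀ := Pi.single i 1
  show (_ * _) *ᵥ _ = (_ * _) *ᵥ _
  rw [← Matrix.mulVec_mulVec, ← Matrix.mulVec_mulVec, frameJ_apply, rf_mulVec]
  show _ *ᵥ (fun l => j (((((OrthRows.rf R v hv).1 : GL ι F₀)).1 *ᵥ e) l)) = _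
  rw [rf_mulVec]
  have hp : QuadraticMap.polar Q ((P.H).1 *ᵥ fun l => j (e l))
      ((P.H).1 *ᵥ fun l => j (v l)) = (P.bb : F) * j (QuadraticMap.polar R e v) := by
    simp only [QuadraticMap.polar, map_sub, mul_sub, ← P.quad_eq, ← Matrix.mulVec_add]
    congr 4
    funext l; simp
  rw [hp, P.quad_eq, show (fun l => j ((e - ((R v)⁻¹ * QuadraticMap.polar R e v) • v) l)) =
    (fun l => j (e l)) - (j ((R v)⁻¹ * QuadraticMap.polar R e v)) • fun l => j (v l) by funext l; simp,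
    Matrix.mulVec_sub, Matrix.mulVec_smul, map_mul, map_inv₀]
  congr 2
  have := Units.ne_zero P.bb
  field_simp

include S in
theorem simMul_frameJ (S₀ : QSetting R) (g : Cfsg.Geo.quadSimilarityGroup (F := F₀) ⇑R) :
    (simMul S (frameJ j P g) : F) = j (simMul S₀ g : F₀) := by
  have h := (frameJ j P g).2.choose_spec
  obtain ⟨u, hu⟩ := exists_quad_one_ne S₀
  have h1 := simMul_spec S (frameJ j P g) ((P.H).1 *ᵥ fun i => j (u i))
  rw [frameJ_apply, P.quad_eq, P.quad_eq, simMul_spec S₀, map_mul] at h1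
  exact mul_right_cancel₀ (mul_ne_zero P.bb.ne_zero ((map_ne_zero j).2 hu)) (by linear_combination -h1)

include hj S₀ S

/-- A similarity commuting with a framed similitude is rational up to a scalar. -/
theorem exists_frameJ (hr0 : 0 < orderOf σ) (g : Cfsg.Geo.quadSimilarityGroup (F := F) ⇑Q)
    (h : Commute (simAut g) (theta T)) :
    ∃ (g₀ : Cfsg.Geo.quadSimilarityGroup (F := F₀) ⇑R) (d : Fˣ), scalSim d * g = frameJ j P g₀ := by
  have h1 : theta ((T * ofSim g) * (ofSim g * T)⁻¹) = 1 := by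
    rw [map_mul, map_inv, map_mul, map_mul, mul_inv_eq_one]
    exact h.eq.symm
  obtain ⟨c, hc0, hc⟩ := (theta_eq_one_iff S _).1 h1
  have hTg : ∀ y, T.1 ((g.1).1 *ᵥ y) = c • ((g.1).1 *ᵥ T.1 y) := fun y => by
    refine Eq.trans ?_ (hc ((ofSim g * T).1 y))
    show (T * ofSim g).1 y = ((T * ofSim g) * (ofSim g * T)⁻¹ * (ofSim g * T)).1 y
    rw [inv_mul_cancel_right]
  set M : Matrix ι ι F :=
    (P.H⁻¹ * g.1 * P.H : GL ι F).1
  have hHM : ∀ x, (P.H).1 *ᵥ (M *ᵥ x) = (g.1).1 *ᵥ ((P.H).1 *ᵥ x) := fun x => by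
    rw [Matrix.mulVec_mulVec, Matrix.mulVec_mulVec, ← Units.val_mul, ← Units.val_mul, mul_assoc,
      mul_inv_cancel_left]
  have hM : ∀ i l, σ (M i l) = c * M i l := fun i l => by
    have e := hTg ((P.H).1 *ᵥ Pi.single l 1)
    rw [← hHM, P.apply_eq, P.apply_eq, show (fun t => σ ((Pi.single l (1 : F) : ι → F) t)) =
      Pi.single l 1 by funext t; simp [Pi.single_apply, apply_ite σ], ← hHM, ← Matrix.mulVec_smul] at e
    have e2 := congrFun ((glPerm P.H).injective e) i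
    simpa [Matrix.mulVec_single] using e2
  obtain ⟨d, hd⟩ := exists_scale_rational j σ hj hr0 hc0 hM
  choose N hN using hd
  have hNm : (Matrix.of N).map j = (d : F) • M := Matrix.ext hN
  have hdet : (Matrix.of N).det ≠ 0 := fun h0 => by
    have h2 := RingHom.map_det j (Matrix.of N)
    rw [h0, map_zero, RingHom.mapMatrix_apply, hNm, Matrix.det_smul] at h2
    exact mul_ne_zero (pow_ne_zero _ d.ne_zero)
      ((Matrix.isUnit_iff_isUnit_det _).1 (P.H⁻¹ * g.1 * P.H : GL _ F).isUnit).ne_zero h2.symm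
  have hq : ∀ u : ι → F₀,
      (P.bb : F) * j (R ((Matrix.of N) *ᵥ u)) = (d : F) * d * (simMul S g : F) * ((P.bb : F) * j (R u)) := fun u => by
    rw [← P.quad_eq, ← P.quad_eq, show (fun i => j (((Matrix.of N) *ᵥ u) i)) = ((d : F) • M) *ᵥ fun i => j (u i) by
      rw [← hNm]; exact funext fun i => RingHom.map_mulVec j _ u i]
    rw [Matrix.smul_mulVec, Matrix.mulVec_smul, hHM, QuadraticMap.map_smul, simMul_spec S g, smul_eq_mul]
    ring
  obtain ⟨u₀, hu₀⟩ := exists_quad_one_ne S₀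
  set ν := R ((Matrix.of N) *ᵥ u₀) / R u₀
  have hν : j ν = (d : F) * d * (simMul S g : F) := by
    rw [map_div₀, div_eq_iff ((map_ne_zero j).2 hu₀)]
    exact mul_left_cancel₀ P.bb.ne_zero (by rw [hq]; ring)
  have hν0 : ν ≠ 0 := fun e => by
    rw [e, map_zero] at hν
    exact mul_ne_zero (mul_ne_zero d.ne_zero d.ne_zero) (Units.ne_zero (simMul S g)) hν.symm
  refine ⟨⟨Matrix.GeneralLinearGroup.mkOfDetNeZero (Matrix.of N) hdet, Units.mk0 ν hν0, fun u =>
    j.injective (mul_left_cancel₀ P.bb.ne_zero (by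
      show _ * j (R ((Matrix.of N) *ᵥ u)) = _
      rw [map_mul, Units.val_mk0, hν, hq]; ring))⟩, d, ?_⟩
  refine Subtype.ext (Units.ext ?_)
  rw [frameJ_val, Units.val_mul, Units.val_mul]
  show ((Matrix.GeneralLinearGroup.scalar _ d : GL ι F)).1 * (g.1).1 =
    (P.H).1 * (Matrix.of N).map j * ((P.H⁻¹ : GL _ F)).1
  rw [hNm, Matrix.mul_smul, Matrix.smul_mul, show (P.H).1 * M * (P.H⁻¹).1 = (g.1).1 by
    show ((P.H * (P.H⁻¹ * g.1 * P.H) * P.H⁻¹ : GL _ F)).1 = _
    rw [show P.H * (P.H⁻¹ * g.1 * P.H) * P.H⁻¹ = g.1 by group]]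
  simp [Matrix.GeneralLinearGroup.scalar, ← Matrix.smul_one_eq_diagonal]

omit hj

/-- The characters agree along a frame. -/
theorem chi_frame {n : ℕ}
    {χ : Cfsg.Geo.quadSimilarityGroup (F := F) ⇑Q →* ℤˣ}
    (hχ : (2 : F) ≠ 0 → ∀ g : Cfsg.Geo.quadSimilarityGroup (F := F) ⇑Q, χ g = 1 ↔ epsS S n g = 1)
    (hdk : ∀ h, χ (incl h) = OrthRows.dk S.nondeg (hexc S) h) (hsc : ∀ c, χ (scalSim c) = 1)
    {χ₀ : Cfsg.Geo.quadSimilarityGroup (F := F₀) ⇑R →* ℤˣ}
    (hχ₀ : (2 : F₀) ≠ 0 → ∀ g : Cfsg.Geo.quadSimilarityGroup (F := F₀) ⇑R, χ₀ g = 1 ↔ epsS S₀ n g = 1)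
    (hdk₀ : ∀ h, χ₀ (incl h) = OrthRows.dk S₀.nondeg (hexc S₀) h) (hsc₀ : ∀ c, χ₀ (scalSim c) = 1)
    (g : Cfsg.Geo.quadSimilarityGroup (F := F₀) ⇑R) :
    χ (frameJ j P g) = χ₀ g := by
  by_cases h2 : (2 : F₀) = 0
  · obtain ⟨c, h, rfl⟩ := sim_two_gen S₀ h2 g
    rw [map_mul, map_mul, map_mul, frameJ_scal, hsc, hsc₀, one_mul, one_mul, hdk₀]
    refine DFunLike.congr_fun (MonoidHom.eq_of_eqOn_dense (OrthRows.closure_rf S₀.nondeg (hexc S₀))
      (f := χ.comp ((frameJ j P).comp incl)) (g := OrthRows.dk S₀.nondeg (hexc S₀)) ?_) h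
    rintro x ⟨v, hv, hx⟩
    rw [OrthRows.eq_rf hv hx]
    show χ (frameJ j P (incl (OrthRows.rf R v hv))) = _
    rw [frameJ_rf j P hv (by rw [P.quad_eq]; exact mul_ne_zero P.bb.ne_zero ((map_ne_zero j).2 hv)),
      hdk, OrthRows.dk_rf, OrthRows.dk_rf]
  · have h2F : (2 : F) ≠ 0 := fun e => h2 (j.injective (by rw [map_ofNat, e, map_zero]))
    have he : (epsS S n (frameJ j P g) : F) = j (epsS S₀ n g : F₀) := by
      rw [epsS_apply, epsS_apply, Units.val_div_eq_div_val, Units.val_div_eq_div_val, map_div₀,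
        Units.val_pow_eq_pow_val, Units.val_pow_eq_pow_val, map_pow, simMul_frameJ S j P S₀,
        Matrix.GeneralLinearGroup.val_det_apply, Matrix.GeneralLinearGroup.val_det_apply, frameJ_val]
      congr 1
      rw [Units.val_mul, Units.val_mul, Matrix.det_mul, Matrix.det_mul, mul_right_comm, ← Matrix.det_mul,
        ← Units.val_mul, mul_inv_cancel, Units.val_one, Matrix.det_one, one_mul]
      exact (RingHom.map_det j _).symm
    have hiff : χ (frameJ j P g) = 1 ↔ χ₀ g = 1 := by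
      rw [hχ h2F, hχ₀ h2]
      constructor
      · intro e
        rw [e, Units.val_one] at he
        exact Units.ext (j.injective (by rw [← he, Units.val_one, map_one]))
      · intro e
        exact Units.ext (by rw [he, e, Units.val_one, map_one, Units.val_one])
    rcases Int.units_eq_one_or (χ (frameJ j P g)) with e | e
    · rw [e, hiff.1 e]
    · rcases Int.units_eq_one_or (χ₀ g) with e' | e'
      · rw [hiff.2 e', e']
      · rw [e, e']


end Frame

end Cfsg.Agent.AutPOmega
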