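import Cfsg.Agent.Lib.AutPOmega.GraphSplitting
import Cfsg.Agent.Lib.AutPOmega.OddCore
import Cfsg.Agent.Lib.OddCoreForms.Orth
import Cfsg.Agent.Lib.LocalEvenB.Basic

/-!
# The odd core of the centraliser of an involutory graph automorphism
-/

set_option autoImplicit false
set_option linter.unusedSectionVars false
set_option maxHeartbeats 1000000

namespace Cfsg.Agent.AutPOmega

open scoped Matrix
open Cfsg.Agent Cfsg.Agent.TransvMax Cfsg.Agent.QMax

section General

variable {F V : Type*} [Field F] [AddCommGroup V] [Module F V] [FiniteDimensional F V]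

theorem trace_reflHom (Q : QuadraticForm F V) {v : V} (hv : Q v ≠ 0) :
    LinearMap.trace F V (FormsLib.reflHom Q v) = (Module.finrank F V : F) - 2 := by
  rw [FormsLib.reflHom, map_sub, LinearMap.trace_id, LinearMap.trace_smulRight, LinearMap.smul_apply,
    LinearMap.flip_apply, QuadraticMap.polarBilin_apply_apply, QuadraticMap.polar_self, smul_eq_mul,
    nsmul_eq_mul, Nat.cast_ofNat]
  field_simp

/-- The trace of a product of two reflections. -/
theorem trace_two_refl (Q : QuadraticForm F V) {a b : V} (ha : Q a ≠ 0) (hb : Q b ≠ 0) :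
    LinearMap.trace F V (FormsLib.reflHom Q a ∘ₗ FormsLib.reflHom Q b) =
      (Module.finrank F V : F) - 4 + QuadraticMap.polar Q a b * QuadraticMap.polar Q a b / (Q a * Q b) := by
  have e : FormsLib.reflHom Q a ∘ₗ FormsLib.reflHom Q b = FormsLib.reflHom Q a + FormsLib.reflHom Q b -
      LinearMap.id + ((Q a)⁻¹ * (Q b)⁻¹ * QuadraticMap.polar Q b a) •
        ((QuadraticMap.polarBilin Q).flip b).smulRight a := by
    refine LinearMap.ext fun x => ?_
    simp only [LinearMap.comp_apply, FormsLib.reflHom_apply, LinearMap.add_apply, LinearMap.sub_apply,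
      LinearMap.id_apply, LinearMap.smul_apply, LinearMap.smulRight_apply, LinearMap.flip_apply,
      QuadraticMap.polarBilin_apply_apply, QuadraticMap.polar_sub_left, QuadraticMap.polar_smul_left, smul_eq_mul]
    match_scalars <;> ring
  rw [e, map_add, map_sub, map_add, trace_reflHom Q ha, trace_reflHom Q hb, LinearMap.trace_id, map_smul,
    LinearMap.trace_smulRight, LinearMap.flip_apply, QuadraticMap.polarBilin_apply_apply,
    QuadraticMap.polar_comm Q b a, smul_eq_mul]
  field_simp
  ring

/-- The trace of a product of two maps moving orthogonal parts. -/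
theorem trace_comp_disjoint {A B : V →ₗ[F] V} (h : ∀ x, A (B x) = A x + B x - x) :
    LinearMap.trace F V (A ∘ₗ B) = LinearMap.trace F V A + LinearMap.trace F V B - (Module.finrank F V : F) := by
  rw [show A ∘ₗ B = A + B - LinearMap.id from LinearMap.ext fun x => by simp [h], map_sub, map_add,
    LinearMap.trace_id]

/-- A hyperplane section of a non-degenerate subspace. -/
theorem nondeg_inf_perp {Q : QuadraticForm F V} (h2 : (2 : F) ≠ 0) {W : Submodule F V}
    (hW : W ⊓ LinearMap.BilinForm.orthogonal (QuadraticMap.polarBilin Q) W = ⊥) {a : V} (ha : a ∈ W)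
    (hQa : Q a ≠ 0) :
    (W ⊓ LinearMap.ker ((QuadraticMap.polarBilin Q).flip a)) ⊓
        LinearMap.BilinForm.orthogonal (QuadraticMap.polarBilin Q)
          (W ⊓ LinearMap.ker ((QuadraticMap.polarBilin Q).flip a)) = ⊥ ∧
      Module.finrank F ↥(W ⊓ LinearMap.ker ((QuadraticMap.polarBilin Q).flip a)) + 1 = Module.finrank F W := by
  refine ⟨(Submodule.eq_bot_iff _).2 fun x ⟨⟨hxW, hxa⟩, hperp⟩ => ?_, Spinor.finrank_inf_ker fun hle => ?_⟩
  · have : x ∈ W ⊓ LinearMap.BilinForm.orthogonal (QuadraticMap.polarBilin Q) W := ⟨hxW, fun y hy => by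
      show QuadraticMap.polar Q y x = 0
      set t := QuadraticMap.polar Q y a / (2 * Q a)
      have hmem : y - t • a ∈ W ⊓ LinearMap.ker ((QuadraticMap.polarBilin Q).flip a) :=
        ⟨W.sub_mem hy (W.smul_mem _ ha), Spinor.mem_ker_polar.2 (by
          rw [QuadraticMap.polar_sub_left, QuadraticMap.polar_smul_left, FormsLib.polar_self', smul_eq_mul]
          simp only [t]
          field_simp
          ring)⟩
      rw [← sub_add_cancel y (t • a), QuadraticMap.polar_add_left,
        show QuadraticMap.polar Q (y - t • a) x = 0 from hperp _ hmem, QuadraticMap.polar_smul_left,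
        QuadraticMap.polar_comm Q a x, Spinor.mem_ker_polar.1 hxa, smul_zero, add_zero]⟩
    rwa [hW, Submodule.mem_bot] at this
  · have := Spinor.mem_ker_polar.1 (hle ha)
    rw [FormsLib.polar_self'] at this
    exact mul_ne_zero h2 hQa this

/-- A field automorphism of odd order fixing a value up to sign fixes it. -/
theorem fix_of_sign (h2 : (2 : F) ≠ 0) {σ : F ≃+* F} {j : ℕ} (hσ : σ ^ j = 1) (hj : Odd j) {t : F}
    (ht : σ t = t ∨ σ t = -t) : σ t = t := by
  rcases ht with ht | ht
  · exact ht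
  · have hi : ∀ i : ℕ, (σ ^ i) t = (-1) ^ i * t := by
      intro i
      induction i with
      | zero => simp
      | succ i ih => rw [pow_succ', RingAut.mul_apply, ih, map_mul, map_pow, map_neg, map_one, ht, pow_succ]; ring
    have h1 := hi j
    rw [hσ, hj.neg_one_pow, RingAut.one_apply] at h1
    have : t = 0 := by
      have h3 : (2 : F) * t = 0 := by linear_combination h1
      exact (mul_eq_zero.1 h3).resolve_left h2
    rw [this, map_zero]

/-- A field automorphism fixing all squares is trivial. -/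
theorem ringAut_eq_one_of_sq (h2 : (2 : F) ≠ 0) {σ : F ≃+* F} (h : ∀ b, σ (b * b) = b * b) : σ = 1 := by
  refine RingEquiv.ext fun t => ?_
  have e : t = ((t + 1) / 2) * ((t + 1) / 2) - ((t - 1) / 2) * ((t - 1) / 2) := by field_simp; ring
  rw [RingAut.one_apply]
  conv_lhs => rw [e]
  rw [map_sub, h, h, ← e]

end General

variable {ι : Type} [Fintype ι] [DecidableEq ι] {F : Type*} [Field F] [Fintype F]
  {Q : QuadraticForm F (ι → F)}

local notation "V" => ι → F
local notation "IsoQ" => Cfsg.isometryGroup F (DFunLike.coe Q)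
local notation "SimQ" => Cfsg.Geo.quadSimilarityGroup (F := F) (DFunLike.coe Q)
local notation "AutQ" => MulAut (Cfsg.POmega F (DFunLike.coe Q))

variable (S : QSetting Q) {k : ℕ} (hk : Fintype.card ι = 2 * k) (h2 : (2 : F) ≠ 0)

include S hk h2

/-- Commuting in the automorphism group means commuting up to a sign. -/
theorem commute_sign {gγ : SimQ} {h : IsoQ} (hc : Commute (isoAut h) (simAut gγ)) :
    ∃ c : F, c * c = 1 ∧ ∀ v, (h.1 : Matrix ι ι F) *ᵥ ((gγ.1 : Matrix ι ι F) *ᵥ v) =
      c • ((gγ.1 : Matrix ι ι F) *ᵥ ((h.1 : Matrix ι ι F) *ᵥ v)) := by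
  obtain ⟨c, hcc⟩ := (simAut_eq_one_iff S ((gγ * incl h)⁻¹ * (incl h * gγ))).1 (by
    rw [map_mul, map_inv, map_mul, map_mul,
      show simAut (incl h) = isoAut h from rfl, hc.eq, inv_mul_cancel])
  have e : incl h * gγ = gγ * incl h * scalSim c := by rw [hcc, mul_inv_cancel_left]
  refine ⟨c, ?_, fun v => ?_⟩
  · have e' := congrArg (simMul S) e
    rw [map_mul, map_mul, map_mul, simMul_incl S, one_mul, mul_one, simMul_scal S] at e'
    exact congrArg Units.val (left_eq_mul.1 e')
  · rw [Matrix.mulVec_mulVec, show (h.1 : Matrix ι ι F) * (gγ.1 : Matrix ι ι F) =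
        (gγ.1 : Matrix ι ι F) * (h.1 : Matrix ι ι F) * ((scalSim (Q := Q) c).1 : Matrix ι ι F) from
      congrArg (fun z : SimQ => (z.1 : Matrix ι ι F)) e, ← Matrix.mulVec_mulVec,
      show ((scalSim (Q := Q) c).1 : Matrix ι ι F) *ᵥ v = (c : F) • v from scalSim_apply c v,
      Matrix.mulVec_smul, Matrix.mulVec_mulVec]

/-- An element of odd order commutes exactly. -/
theorem commute_exact {gγ : SimQ} {h : IsoQ} (hc : Commute (isoAut h) (simAut gγ)) {j : ℕ} (hj : Odd j)
    (hh : h ^ j = 1) (v : V) :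
    (h.1 : Matrix ι ι F) *ᵥ ((gγ.1 : Matrix ι ι F) *ᵥ v) = (gγ.1 : Matrix ι ι F) *ᵥ ((h.1 : Matrix ι ι F) *ᵥ v) := by
  obtain ⟨c, hc2, he⟩ := commute_sign S hk h2 hc
  rcases mul_self_eq_one_iff.1 hc2 with hc1 | hc1
  · rw [he, hc1, one_smul]
  · exfalso
    have hi : ∀ (i : ℕ) v, ((h ^ i).1 : Matrix ι ι F) *ᵥ ((gγ.1 : Matrix ι ι F) *ᵥ v) =
        c ^ i • ((gγ.1 : Matrix ι ι F) *ᵥ (((h ^ i).1 : Matrix ι ι F) *ᵥ v)) := by
      intro i
      induction i with
      | zero => intro v; simp
      | succ i ih =>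
        intro v
        rw [pow_succ, Subgroup.coe_mul, Units.val_mul, ← Matrix.mulVec_mulVec, he, Matrix.mulVec_smul, ih,
          smul_smul, pow_succ, mul_comm c, ← Matrix.mulVec_mulVec]
    obtain ⟨x, hx⟩ := exists_quad_one_ne S
    have h1 := congrArg Q (hi j x)
    have h3 := hi j x
    rw [hh, hc1, hj.neg_one_pow, neg_one_smul, OneMemClass.coe_one, Units.val_one, Matrix.one_mulVec,
      Matrix.one_mulVec, eq_neg_iff_add_eq_zero, ← two_smul F] at h3
    have h4 := congrArg Q ((smul_eq_zero.1 h3).resolve_left h2)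
    rw [simMul_spec S, QuadraticMap.map_zero] at h4
    exact (mul_ne_zero (Units.ne_zero _) hx) h4

/-- An isometry of the vector space as a group element. -/
noncomputable def toIso (g : FormsLib.oGroup Q) : IsoQ := (FormsLib.oEquiv Q).symm g

omit S hk h2 in
theorem toIso_apply (g : FormsLib.oGroup Q) (v : V) : ((toIso g).1 : Matrix ι ι F) *ᵥ v = g.1 v := by
  rw [← FormsLib.oEquiv_apply, toIso, MulEquiv.apply_symm_apply]

omit hk in
/-- An isometry commuting with the similitude commutes in the automorphism group. -/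
theorem commute_of_exact {gγ : SimQ} {e : IsoQ}
    (he : ∀ v, (e.1 : Matrix ι ι F) *ᵥ ((gγ.1 : Matrix ι ι F) *ᵥ v) =
      (gγ.1 : Matrix ι ι F) *ᵥ ((e.1 : Matrix ι ι F) *ᵥ v)) : Commute (isoAut e) (simAut gγ) := by
  have h : Commute (ofSim (incl e)) (ofSim gγ) := by
    refine Subtype.ext (Equiv.ext fun v => ?_)
    show (e.1 : Matrix ι ι F) *ᵥ ((gγ.1 : Matrix ι ι F) *ᵥ v) =
      (gγ.1 : Matrix ι ι F) *ᵥ ((e.1 : Matrix ι ι F) *ᵥ v)
    exact he v
  exact h.map theta

variable (gγ : Cfsg.Geo.quadSimilarityGroup (F := F) ⇑Q) (hε : epsS S k gγ ≠ 1) (hγ : simAut gγ * simAut gγ = 1)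

include hε hγ

/-- An odd group of isometries commuting with the graph automorphism and normalised by all of them. -/
theorem graph_iso_trivial (N : Subgroup IsoQ) (hodd : Odd (Nat.card N))
    (hcomm : ∀ h ∈ N, ∀ v, (h.1 : Matrix ι ι F) *ᵥ ((gγ.1 : Matrix ι ι F) *ᵥ v) =
      (gγ.1 : Matrix ι ι F) *ᵥ ((h.1 : Matrix ι ι F) *ᵥ v))
    (hnorm : ∀ e : IsoQ, (∀ v, (e.1 : Matrix ι ι F) *ᵥ ((gγ.1 : Matrix ι ι F) *ᵥ v) =
      (gγ.1 : Matrix ι ι F) *ᵥ ((e.1 : Matrix ι ι F) *ᵥ v)) → ∀ h ∈ N, e * h * e⁻¹ ∈ N) : N = ⊥ := by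
  classical
  obtain ⟨hf, -, -⟩ := graph_sq S hk h2 gγ hε hγ
  have hμ0 := Units.ne_zero (simMul S gγ)
  have hQh : ∀ (h : IsoQ) v, Q ((h.1 : Matrix ι ι F) *ᵥ v) = Q v := fun h v => h.2 v v
  have hfix1 : ∀ h ∈ N, ∀ u, ((h.1 : Matrix ι ι F) *ᵥ ((h.1 : Matrix ι ι F) *ᵥ u)) = u →
      (h.1 : Matrix ι ι F) *ᵥ u = u := fun h hh u hu => by
    have hmem : (FormsLib.oEquiv Q h).1 ∈ (N.map ((FormsLib.oGroup Q).subtype.comp (FormsLib.oEquiv Q).toMonoidHom)) :=
      ⟨h, hh, rfl⟩
    exact OddCoreForms.fix_of_two (hodd.of_dvd_nat (Subgroup.card_map_dvd N _)) hmem (u := u) hu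
  by_cases hsμ : IsSquare (simMul S gγ : F)
  · obtain ⟨r, hr⟩ := hsμ
    have hr0 : r ≠ 0 := fun e => hμ0 (by rw [hr, e, mul_zero])
    obtain ⟨hQ, hJ, ho, ho'⟩ := graph_invol S hk h2 gγ hε hγ hr
    set J := r⁻¹ • Matrix.toLin' (gγ.1 : Matrix ι ι F) with hJdef
    have hJapp : ∀ v, J v = r⁻¹ • ((gγ.1 : Matrix ι ι F) *ᵥ v) := fun v => by
      rw [hJdef, LinearMap.smul_apply, Matrix.toLin'_apply]
    have hJh : ∀ h : IsoQ, (∀ v, (h.1 : Matrix ι ι F) *ᵥ ((gγ.1 : Matrix ι ι F) *ᵥ v) =
        (gγ.1 : Matrix ι ι F) *ᵥ ((h.1 : Matrix ι ι F) *ᵥ v)) → ∀ v,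
        J ((h.1 : Matrix ι ι F) *ᵥ v) = (h.1 : Matrix ι ι F) *ᵥ (J v) := fun h hh v => by
      rw [hJapp, hJapp, Matrix.mulVec_smul, hh]
    have key : ∀ e : F, (e = 1 ∨ e = -1) → Odd (Module.finrank F (eig J e)) →
        ∀ h ∈ N, ∀ x ∈ eig J e, (h.1 : Matrix ι ι F) *ᵥ x = x := by
      intro e he hoe
      have hnd := eig_nondeg S h2 hQ hJ he
      have hmaps : ∀ h ∈ N, ∀ x ∈ eig J e, (h.1 : Matrix ι ι F) *ᵥ x ∈ eig J e := fun h hh x hx => by
        rw [mem_eig, hJh h (hcomm h hh), mem_eig.1 hx, Matrix.mulVec_smul]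
      rcases Nat.lt_or_ge (Module.finrank F (eig J e)) 3 with hlt | hge
      · intro h hh x hx
        have h1 : Module.finrank F (eig J e) = 1 := by obtain ⟨j, hj⟩ := hoe; omega
        by_cases hx0 : x = 0
        · rw [hx0, Matrix.mulVec_zero]
        refine hfix1 h hh x ?_
        obtain ⟨c, hc⟩ := exists_smul_eq_of_finrank_eq_one h1 (x := (⟨x, hx⟩ : eig J e))
          (fun e' => hx0 (congrArg Subtype.val e')) ⟨_, hmaps h hh x hx⟩
        have hc' : c • x = (h.1 : Matrix ι ι F) *ᵥ x := congrArg Subtype.val hc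
        rw [← hc', Matrix.mulVec_smul, ← hc', smul_smul]
        have hQx : Q x ≠ 0 := fun hz => by
          have : x ∈ eig J e ⊓ LinearMap.BilinForm.orthogonal (QuadraticMap.polarBilin Q) (eig J e) :=
            ⟨hx, fun y hy => by
              obtain ⟨t, ht⟩ := exists_smul_eq_of_finrank_eq_one h1 (x := (⟨x, hx⟩ : eig J e))
                (fun e' => hx0 (congrArg Subtype.val e')) ⟨y, hy⟩
              show QuadraticMap.polar Q y x = 0
              rw [show y = t • x from (congrArg Subtype.val ht).symm, QuadraticMap.polar_smul_left,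
                FormsLib.polar_self', hz, mul_zero, smul_zero]⟩
          rw [hnd, Submodule.mem_bot] at this
          exact hx0 this
        have hcc : c * c = 1 := by
          have := hQh h x
          rw [← hc', QuadraticMap.map_smul, smul_eq_mul] at this
          exact mul_right_cancel₀ hQx (this.trans (one_mul _).symm)
        rw [hcc, one_smul]
      · let W := eig J e
        have hmaps' : ∀ (h : N) x, x ∈ W ↔ (FormsLib.oEquiv Q h.1).1 x ∈ W := fun h x => by
          refine ⟨fun hx => hmaps h.1 h.2 x hx, fun hx => ?_⟩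
          have := hmaps _ (inv_mem h.2) _ hx
          rwa [FormsLib.oEquiv_apply, Matrix.mulVec_mulVec, Subgroup.coe_inv, ← Units.val_mul, inv_mul_cancel,
            Units.val_one, Matrix.one_mulVec] at this
        let ρ : N →* (W ≃ₗ[F] W) :=
          { toFun := fun h => LinearEquiv.ofSubmodules (FormsLib.oEquiv Q h.1).1 W W (le_antisymm
              (by rintro _ ⟨x, hx, rfl⟩; exact (hmaps' h x).1 hx)
              (fun x hx => ⟨(FormsLib.oEquiv Q h.1).1.symm x,
                (hmaps' h _).2 (by rw [LinearEquiv.apply_symm_apply]; exact hx), LinearEquiv.apply_symm_apply _ x⟩))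
            map_one' := LinearEquiv.ext fun x => Subtype.ext (by
              show ((1 : N).1.1 : Matrix ι ι F) *ᵥ (x : V) = x
              simp)
            map_mul' := fun g g' => LinearEquiv.ext fun x => Subtype.ext (by
              show ((g * g').1.1 : Matrix ι ι F) *ᵥ (x : V) =
                (g.1.1 : Matrix ι ι F) *ᵥ ((g'.1.1 : Matrix ι ι F) *ᵥ (x : V))
              simp [Matrix.mulVec_mulVec]) }
        have hρ : ∀ (h : N) (x : W), ((ρ h x : W) : V) = (h.1.1 : Matrix ι ι F) *ᵥ (x : V) := fun h x => rfl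
        have hp : ∀ x y : W, QuadraticMap.polar (Q.comp W.subtype) x y = QuadraticMap.polar Q (x : V) (y : V) :=
          fun x y => by simp only [QuadraticMap.polar]; rfl
        have hndW : (QuadraticMap.polarBilin (Q.comp W.subtype)).Nondegenerate := by
          have hz : ∀ x : W, (∀ y : W, QuadraticMap.polar Q (y : V) (x : V) = 0) → x = 0 := fun x hx => by
            have : (x : V) ∈ W ⊓ LinearMap.BilinForm.orthogonal (QuadraticMap.polarBilin Q) W :=
              ⟨x.2, fun y hy => hx ⟨y, hy⟩⟩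
            rw [hnd, Submodule.mem_bot] at this
            exact Subtype.ext this
          refine ⟨fun x hx => hz x fun y => ?_, fun x hx => hz x fun y => ?_⟩
          · have := hx y; rwa [QuadraticMap.polarBilin_apply_apply, hp, QuadraticMap.polar_comm] at this
          · have := hx y; rwa [QuadraticMap.polarBilin_apply_apply, hp] at this
        have hbot := OddCoreForms.odd_core_orth h2 _ hndW rfl hge ρ.range
          (by rintro _ ⟨h, rfl⟩ x; exact hQh h.1 x)
          (hodd.of_dvd_nat (Subgroup.card_range_dvd ρ))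
          (by
            rintro v hv _ ⟨h, rfl⟩
            have hv' : Q (v : V) ≠ 0 := hv
            have hrc : ∀ z, ((OrthRows.rf Q (v : V) hv').1 : Matrix ι ι F) *ᵥ ((gγ.1 : Matrix ι ι F) *ᵥ z) =
                (gγ.1 : Matrix ι ι F) *ᵥ (((OrthRows.rf Q (v : V) hv').1 : Matrix ι ι F) *ᵥ z) := fun z => by
              have hgv : (gγ.1 : Matrix ι ι F) *ᵥ (v : V) = (r * e) • (v : V) := by
                have h5 := mem_eig.1 v.2
                rw [hJapp, inv_smul_eq_iff₀ hr0, smul_smul] at h5
                exact h5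
              have hpol : QuadraticMap.polar Q ((gγ.1 : Matrix ι ι F) *ᵥ z) ((gγ.1 : Matrix ι ι F) *ᵥ (v : V)) =
                  (simMul S gγ : F) * QuadraticMap.polar Q z (v : V) := by
                simp only [QuadraticMap.polar, ← Matrix.mulVec_add, simMul_spec S]; ring
              rw [hgv, QuadraticMap.polar_smul_right, smul_eq_mul, hr] at hpol
              have he0 : e * e = 1 := by rcases he with rfl | rfl <;> simp
              simp only [OrthRows.rf_val, FormsLib.reflectionMatrix_mulVec, FormsLib.reflHom_apply,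
                Matrix.mulVec_sub, Matrix.mulVec_smul, hgv, smul_smul]
              congr 2
              have e3 : QuadraticMap.polar Q ((gγ.1 : Matrix ι ι F) *ᵥ z) (v : V) =
                  r * e * QuadraticMap.polar Q z (v : V) := by
                refine mul_left_cancel₀ (mul_ne_zero hr0 (show e ≠ 0 by rcases he with rfl | rfl <;> simp)) ?_
                linear_combination hpol - (r * r * QuadraticMap.polar Q z (v : V)) * he0
              rw [e3]; ring
            refine ⟨⟨_, hnorm _ hrc _ h.2⟩, LinearEquiv.ext fun x => Subtype.ext ?_⟩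
            rw [hρ]
            simp only [LinearEquiv.mul_apply, FormsLib.refl_apply, Submodule.coe_sub, Submodule.coe_smul, hρ,
              Subgroup.coe_mul, OrthRows.rf_inv, Units.val_mul, ← Matrix.mulVec_mulVec, OrthRows.rf_val,
              FormsLib.reflectionMatrix_mulVec, FormsLib.reflHom_apply, hp]
            rfl)
        intro h hh x hx
        have := (Subgroup.eq_bot_iff_forall _).1 hbot _ ⟨⟨h, hh⟩, rfl⟩
        have h3 := congrArg Subtype.val (LinearEquiv.congr_fun this ⟨x, hx⟩)
        rw [hρ] at h3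
        exact h3
    refine (Subgroup.eq_bot_iff_forall _).2 fun h hh => Subtype.ext (Units.ext ?_)
    refine Matrix.toLin'.injective (LinearMap.ext fun x => ?_)
    obtain ⟨u, hu, w, hw, rfl⟩ := Submodule.mem_sup.1
      (show x ∈ eig J 1 ⊔ eig J (-1) by rw [(isCompl_eig h2 hJ).sup_eq_top]; exact Submodule.mem_top)
    rw [Matrix.toLin'_apply, Matrix.toLin'_apply, Matrix.mulVec_add, key 1 (Or.inl rfl) ho' h hh u hu,
      key (-1) (Or.inr rfl) ho h hh w hw]
    simp
  · set f := Matrix.toLin' (gγ.1 : Matrix ι ι F) with hfdef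
    set μ := (simMul S gγ : F) with hμdef
    have hfapp : ∀ v, f v = (gγ.1 : Matrix ι ι F) *ᵥ v := fun v => Matrix.toLin'_apply _ v
    haveI : Fact (∀ r : F, r ^ 2 ≠ μ + 0 * r) := ⟨fun r h => hsμ ⟨r, by linear_combination -h⟩⟩
    let φ : QuadraticAlgebra F μ 0 →ₐ[F] Module.End F V := QuadraticAlgebra.lift ⟨f, by
      refine LinearMap.ext fun x => ?_
      show f (f x) = _
      rw [hfapp, hfapp, hf]
      simp⟩
    letI : Module (QuadraticAlgebra F μ 0) V := Module.compHom V φ.toRingHom
    haveI : IsScalarTower F (QuadraticAlgebra F μ 0) V := ⟨fun r z x => by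
      show φ (r • z) x = r • φ z x
      rw [map_smul]; rfl⟩
    haveI : Module.Finite (QuadraticAlgebra F μ 0) V :=
      Module.Finite.of_restrictScalars_finite F (QuadraticAlgebra F μ 0) V
    haveI : Finite (QuadraticAlgebra F μ 0) := Finite.of_equiv _ (QuadraticAlgebra.equivProd μ 0).symm
    have hsmul : ∀ (z : QuadraticAlgebra F μ 0) x, z • x = z.re • x + z.im • f x := fun z x => rfl
    have hP : ∀ x y, QuadraticMap.polar Q (f x) (f y) = μ * QuadraticMap.polar Q x y := fun x y => by
      simp only [QuadraticMap.polar, ← map_add, hfapp, simMul_spec S, ← Matrix.mulVec_add, ← hμdef]; ring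
    have hsym : ∀ x y, QuadraticMap.polar Q (f x) y = QuadraticMap.polar Q x (f y) := fun x y => by
      refine mul_left_cancel₀ hμ0 ?_
      rw [← hP x (f y), show f (f y) = μ • y by rw [hfapp, hfapp, hf], QuadraticMap.polar_smul_right, smul_eq_mul]
    have h20 : (2 : QuadraticAlgebra F μ 0) ≠ 0 := fun e => h2 (by
      have h' := congrArg QuadraticAlgebra.re e
      rw [QuadraticAlgebra.re_zero] at h'
      exact h')
    let Φ : V →ₗ[QuadraticAlgebra F μ 0] V →ₗ[QuadraticAlgebra F μ 0] QuadraticAlgebra F μ 0 :=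
      LinearMap.mk₂ (QuadraticAlgebra F μ 0)
        (fun x y => ⟨QuadraticMap.polar Q x y / 2, QuadraticMap.polar Q x (f y) / (2 * μ)⟩)
        (fun x x' y => by ext <;> simp [QuadraticMap.polar_add_left] <;> ring)
        (fun z x y => by
          ext <;> simp only [hsmul, smul_eq_mul, QuadraticAlgebra.re_mul, QuadraticAlgebra.im_mul,
            QuadraticMap.polar_add_left, QuadraticMap.polar_smul_left, hsym, hP,
            show ∀ y, f (f y) = μ • y from fun y => by rw [hfapp, hfapp, hf],
            QuadraticMap.polar_smul_right] <;>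
          field_simp <;> ring)
        (fun x y y' => by ext <;> simp [QuadraticMap.polar_add_right] <;> ring)
        (fun z x y => by
          ext <;> simp only [hsmul, smul_eq_mul, QuadraticAlgebra.re_mul, QuadraticAlgebra.im_mul, map_add,
            map_smul, QuadraticMap.polar_add_right, QuadraticMap.polar_smul_right,
            show ∀ y, f (f y) = μ • y from fun y => by rw [hfapp, hfapp, hf]] <;>
          field_simp <;> ring)
    let Z : QuadraticForm (QuadraticAlgebra F μ 0) V := LinearMap.BilinMap.toQuadraticMap Φ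
    have hZ : ∀ v, Z v = ⟨Q v, QuadraticMap.polar Q v (f v) / (2 * μ)⟩ := fun v => by
      show Φ v v = _
      ext
      · show QuadraticMap.polar Q v v / 2 = Q v
        rw [FormsLib.polar_self']; field_simp
      · rfl
    have hZp : ∀ x y, QuadraticMap.polar Z x y = Φ x y + Φ y x := fun x y =>
      LinearMap.BilinMap.polar_toQuadraticMap x y
    have hZnd : (QuadraticMap.polarBilin Z).Nondegenerate := by
      have key : ∀ x, (∀ y, QuadraticMap.polar Z x y = 0) → x = 0 := fun x hx => by
        refine OrthOrder.nondegenerate_iff.1 S.nondeg x fun y => ?_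
        have h1 := congrArg QuadraticAlgebra.re (hx y)
        rw [hZp] at h1
        have h3 : QuadraticMap.polar Q x y / 2 + QuadraticMap.polar Q y x / 2 = 0 := h1
        rw [QuadraticMap.polar_comm Q y x] at h3
        field_simp at h3
        exact (mul_eq_zero.1 (show (2 : F) * QuadraticMap.polar Q x y = 0 by linear_combination h3)).resolve_left h2
      exact ⟨fun x hx => key x hx, fun x hx => key x fun y => by
        have := hx y
        rwa [QuadraticMap.polarBilin_apply_apply, QuadraticMap.polar_comm] at this⟩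
    have hZQ : ∀ v, Q v = (Z v).re := fun v => by rw [hZ]
    have hd : Module.finrank (QuadraticAlgebra F μ 0) V = k := by
      have h := Module.finrank_mul_finrank F (QuadraticAlgebra F μ 0) V
      rw [QuadraticAlgebra.finrank_eq_two, Module.finrank_pi, hk] at h
      omega
    let ρ : N →* (V ≃ₗ[QuadraticAlgebra F μ 0] V) :=
      { toFun := fun h =>
          { (FormsLib.oEquiv Q h.1).1.toAddEquiv with
            map_smul' := fun z x => by
              show (h.1.1 : Matrix ι ι F) *ᵥ (z • x) = z • ((h.1.1 : Matrix ι ι F) *ᵥ x)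
              rw [hsmul, hsmul, Matrix.mulVec_add, Matrix.mulVec_smul, Matrix.mulVec_smul, hfapp, hfapp,
                hcomm h.1 h.2] }
        map_one' := LinearEquiv.ext fun x => by
          show ((1 : N).1.1 : Matrix ι ι F) *ᵥ x = x
          simp
        map_mul' := fun g g' => LinearEquiv.ext fun x => by
          show ((g * g').1.1 : Matrix ι ι F) *ᵥ x =
            (g.1.1 : Matrix ι ι F) *ᵥ ((g'.1.1 : Matrix ι ι F) *ᵥ x)
          simp [Matrix.mulVec_mulVec] }
    have hρ : ∀ (h : N) x, ρ h x = (h.1.1 : Matrix ι ι F) *ᵥ x := fun h x => rfl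
    have hbot := OddCoreForms.odd_core_orth h20 _ hZnd rfl (by rw [hd]; have := S.dim; omega) ρ.range
      (by
        rintro _ ⟨h, rfl⟩ x
        rw [hZ, hZ, hρ]
        ext
        · exact hQh h.1 x
        · show QuadraticMap.polar Q ((h.1.1 : Matrix ι ι F) *ᵥ x) (f ((h.1.1 : Matrix ι ι F) *ᵥ x)) / (2 * μ) = _
          rw [hfapp, ← hcomm h.1 h.2, hfapp]
          congr 1
          simp only [QuadraticMap.polar, ← Matrix.mulVec_add, hQh])
      (hodd.of_dvd_nat (Subgroup.card_range_dvd ρ))
      (by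
        rintro v hv _ ⟨h, rfl⟩
        let R := (FormsLib.refl Z v hv).restrictScalars F
        have hR : ∀ x, R x = FormsLib.refl Z v hv x := fun x => rfl
        let e := toIso ⟨R, fun x => by rw [hZQ, hZQ x, hR, FormsLib.refl_mem Z hv x]⟩
        have he : ∀ x, (e.1 : Matrix ι ι F) *ᵥ x = FormsLib.refl Z v hv x := fun x => toIso_apply _ x
        have hinv : ∀ x, ((e⁻¹).1 : Matrix ι ι F) *ᵥ x = FormsLib.refl Z v hv x := fun x => by
          have h1 : (e.1 : Matrix ι ι F) *ᵥ (FormsLib.refl Z v hv x) = x := by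
            rw [he, ← LinearEquiv.mul_apply, FormsLib.refl_mul_self]; rfl
          conv_lhs => rw [← h1, Matrix.mulVec_mulVec, ← Units.val_mul, ← Subgroup.coe_mul, inv_mul_cancel,
            Subgroup.coe_one, Units.val_one, Matrix.one_mulVec]
        have hec : ∀ z, (e.1 : Matrix ι ι F) *ᵥ ((gγ.1 : Matrix ι ι F) *ᵥ z) =
            (gγ.1 : Matrix ι ι F) *ᵥ ((e.1 : Matrix ι ι F) *ᵥ z) := fun z => by
          have hω : ∀ y, (gγ.1 : Matrix ι ι F) *ᵥ y = (QuadraticAlgebra.omega : QuadraticAlgebra F μ 0) • y :=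
            fun y => by rw [hsmul]; simp [hfapp]
          rw [he, he, hω, hω, map_smul]
        refine ⟨⟨_, hnorm e hec _ h.2⟩, LinearEquiv.ext fun x => ?_⟩
        rw [hρ]
        simp only [LinearEquiv.mul_apply, hρ, Subgroup.coe_mul, Units.val_mul, ← Matrix.mulVec_mulVec, he, hinv])
    refine (Subgroup.eq_bot_iff_forall _).2 fun h hh => Subtype.ext (Units.ext ?_)
    refine Matrix.toLin'.injective (LinearMap.ext fun x => ?_)
    have := LinearEquiv.congr_fun ((Subgroup.eq_bot_iff_forall _).1 hbot _ ⟨⟨h, hh⟩, rfl⟩) x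
    rw [hρ] at this
    rw [Matrix.toLin'_apply, Matrix.toLin'_apply, this]
    simp

end Cfsg.Agent.AutPOmega
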