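import Cfsg.Agent.Lib.AutPOmega.OutEven
import Mathlib.Algebra.QuadraticAlgebra.NormDeterminant
import Mathlib.RingTheory.Norm.Transitivity

/-!
# Similitudes squaring to a scalar
-/

set_option autoImplicit false
set_option linter.unusedSectionVars false

namespace Cfsg.Agent.AutPOmega

open scoped Matrix
open Cfsg.Agent Cfsg.Agent.TransvMax Cfsg.Agent.QMax

section Det

variable {F V : Type*} [Field F] [AddCommGroup V] [Module F V] [FiniteDimensional F V]

/-- The eigenspace of the sign `e`. -/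
def eig (J : V →ₗ[F] V) (e : F) : Submodule F V := LinearMap.ker (J - e • LinearMap.id)

theorem mem_eig {J : V →ₗ[F] V} {e : F} {x : V} : x ∈ eig J e ↔ J x = e • x := by
  simp [eig, sub_eq_zero]

theorem isCompl_eig (h2 : (2 : F) ≠ 0) {J : V →ₗ[F] V} (hJ : ∀ x, J (J x) = x) :
    IsCompl (eig J 1) (eig J (-1)) := by
  refine ⟨Submodule.disjoint_def.2 fun x h1 h3 => ?_, codisjoint_iff.2 (eq_top_iff.2 fun x _ => ?_)⟩
  · rw [mem_eig, one_smul] at h1
    rw [mem_eig, h1, neg_one_smul, eq_neg_iff_add_eq_zero, ← two_smul F x] at h3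
    exact (smul_eq_zero.1 h3).resolve_left h2
  · refine Submodule.mem_sup.2 ⟨(2 : F)⁻¹ • (x + J x), ?_, (2 : F)⁻¹ • (x - J x), ?_, ?_⟩
    · rw [mem_eig, map_smul, map_add, hJ, one_smul, add_comm]
    · rw [mem_eig, map_smul, map_sub, hJ, neg_one_smul, ← smul_neg, neg_sub]
    · rw [← smul_add, add_add_sub_cancel, ← two_smul F x, inv_smul_smul₀ h2]

theorem finrank_eig_add (h2 : (2 : F) ≠ 0) {J : V →ₗ[F] V} (hJ : ∀ x, J (J x) = x) :
    Module.finrank F (eig J 1) + Module.finrank F (eig J (-1)) = Module.finrank F V :=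
  Submodule.finrank_add_eq_of_isCompl (isCompl_eig h2 hJ)

/-- The determinant of an involution. -/
theorem det_invol (h2 : (2 : F) ≠ 0) {J : V →ₗ[F] V} (hJ : ∀ x, J (J x) = x) :
    LinearMap.det J = (-1) ^ Module.finrank F (eig J (-1)) := by
  let e := Submodule.prodEquivOfIsCompl _ _ (isCompl_eig h2 hJ)
  have h : J = (e : (eig J 1 × eig J (-1)) →ₗ[F] V) ∘ₗ
      (LinearMap.prodMap LinearMap.id ((-1 : F) • LinearMap.id)) ∘ₗ (e.symm : V →ₗ[F] eig J 1 × eig J (-1)) := by
    refine LinearMap.ext fun x => ?_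
    obtain ⟨⟨u, w⟩, rfl⟩ := e.surjective x
    simp only [LinearMap.coe_comp, LinearEquiv.coe_coe, Function.comp_apply, LinearEquiv.symm_apply_apply,
      LinearMap.prodMap_apply, LinearMap.id_coe, id_eq, LinearMap.smul_apply]
    simp only [e, Submodule.coe_prodEquivOfIsCompl', map_add, Submodule.coe_smul]
    rw [mem_eig.1 u.2, mem_eig.1 w.2, one_smul]
  conv_lhs => rw [h]
  rw [LinearMap.det_conj, LinearMap.det_prodMap, LinearMap.det_smul, LinearMap.det_id, LinearMap.det_id,
    one_mul, mul_one]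

/-- The determinant of a map squaring to a non-square scalar. -/
theorem det_sq_nonsq {f : V →ₗ[F] V} {s : F} (hf : ∀ x, f (f x) = s • x) (hs : ¬ IsSquare s)
    {k : ℕ} (hk : Module.finrank F V = 2 * k) : LinearMap.det f = (-s) ^ k := by
  haveI : Fact (∀ r : F, r ^ 2 ≠ s + 0 * r) := ⟨fun r h => hs ⟨r, by linear_combination -h⟩⟩
  let φ : QuadraticAlgebra F s 0 →ₐ[F] Module.End F V := QuadraticAlgebra.lift ⟨f, by
    refine LinearMap.ext fun x => ?_
    simp [hf]⟩
  letI : Module (QuadraticAlgebra F s 0) V := Module.compHom V φ.toRingHom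
  haveI : IsScalarTower F (QuadraticAlgebra F s 0) V := ⟨fun r z x => by
    show φ (r • z) x = r • φ z x
    rw [map_smul]; rfl⟩
  haveI : Module.Finite (QuadraticAlgebra F s 0) V :=
    Module.Finite.of_restrictScalars_finite F (QuadraticAlgebra F s 0) V
  have he : f = ((QuadraticAlgebra.omega : QuadraticAlgebra F s 0) •
      (LinearMap.id : V →ₗ[QuadraticAlgebra F s 0] V)).restrictScalars F := by
    refine LinearMap.ext fun x => ?_
    show f x = φ QuadraticAlgebra.omega x
    simp [φ]
  have hn : Algebra.norm F (QuadraticAlgebra.omega : QuadraticAlgebra F s 0) = -s := by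
    rw [Algebra.norm_apply]
    refine (QuadraticAlgebra.det_toLinearMap_eq_norm _).trans ?_
    simp [QuadraticAlgebra.norm_def]
  have hd : Module.finrank (QuadraticAlgebra F s 0) V = k := by
    have h := Module.finrank_mul_finrank F (QuadraticAlgebra F s 0) V
    rw [QuadraticAlgebra.finrank_eq_two, hk] at h
    omega
  rw [he, LinearMap.det_restrictScalars, LinearMap.det_smul, LinearMap.det_id, mul_one, map_pow, hn, hd]

end Det

variable {ι : Type} [Fintype ι] [DecidableEq ι] {F : Type*} [Field F] [Fintype F]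
  {Q : QuadraticForm F (ι → F)} (S : QSetting Q) {k : ℕ} (hk : Fintype.card ι = 2 * k) (h2 : (2 : F) ≠ 0)

include S hk h2

/-- Totally singular subspaces have at most half the dimension. -/
theorem ts_le_half {W : Submodule F (ι → F)} (hW : ∀ x ∈ W, Q x = 0) : Module.finrank F W ≤ k := by
  have h1 : W ≤ LinearMap.BilinForm.orthogonal (QuadraticMap.polarBilin Q) W := fun x hx y hy =>
    Spinor.polar_of_singular hW hy hx
  have h3 := Submodule.finrank_mono h1
  rw [LinearMap.BilinForm.finrank_orthogonal S.nondeg, Module.finrank_pi, hk] at h3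
  omega

/-- A skew similitude squaring to a scalar is proper. -/
theorem det_skew {f : (ι → F) →ₗ[F] (ι → F)} {c : F} (hQ : ∀ v, Q (f v) = c * Q v)
    (hf : ∀ v, f (f v) = (-c) • v) (hc : c ≠ 0) : LinearMap.det f = c ^ k := by
  have hn : Module.finrank F (ι → F) = 2 * k := by rw [Module.finrank_pi, hk]
  by_cases hs : IsSquare (-c)
  · obtain ⟨t, ht⟩ := hs
    have ht0 : t ≠ 0 := fun e => hc (by rw [e, mul_zero, neg_eq_zero] at ht; exact ht)
    have hJ : ∀ x, (t⁻¹ • f) ((t⁻¹ • f) x) = x := fun x => by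
      rw [LinearMap.smul_apply, LinearMap.smul_apply, map_smul, hf, ht, smul_smul, smul_smul]
      rw [show t⁻¹ * t⁻¹ * (t * t) = 1 by field_simp, one_smul]
    have hz : ∀ e : F, e * e = 1 → ∀ x ∈ eig (t⁻¹ • f) e, Q x = 0 := fun e he x hx => by
      rw [mem_eig, LinearMap.smul_apply] at hx
      have h1 := congrArg Q hx
      rw [QuadraticMap.map_smul, QuadraticMap.map_smul, hQ, smul_eq_mul, smul_eq_mul, he, one_mul] at h1
      have h3 : t⁻¹ * t⁻¹ * c = -1 := by
        rw [show c = -(t * t) by rw [← ht, neg_neg]]; field_simp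
      rw [← mul_assoc, h3] at h1
      exact (mul_eq_zero.1 (show (2 : F) * Q x = 0 by linear_combination -h1)).resolve_left h2
    have h3 := ts_le_half S hk h2 (hz 1 (one_mul 1))
    have h4 := ts_le_half S hk h2 (hz (-1) (by rw [neg_mul_neg, one_mul]))
    have h5 := finrank_eig_add h2 hJ
    rw [hn] at h5
    have h6 := det_invol h2 hJ
    rw [LinearMap.det_smul, hn, show Module.finrank F (eig (t⁻¹ • f) (-1)) = k by omega, pow_mul, inv_pow,
      inv_pow, inv_mul_eq_iff_eq_mul₀ (pow_ne_zero _ (pow_ne_zero _ ht0)), ← mul_pow] at h6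
    rw [h6, sq, ← ht, mul_neg_one, neg_neg]
  · rw [det_sq_nonsq hf hs hn, neg_neg]

omit h2 in
/-- The square of a similitude squaring to a scalar. -/
theorem sq_scalar_cases {f : (ι → F) →ₗ[F] (ι → F)} {c s : F} (hQ : ∀ v, Q (f v) = c * Q v)
    (hf : ∀ v, f (f v) = s • v) : s = c ∨ s = -c := by
  obtain ⟨x, hx⟩ := exists_quad_one_ne S
  have h := congrArg Q (hf x)
  rw [hQ, hQ, QuadraticMap.map_smul, smul_eq_mul, ← mul_assoc] at h
  exact mul_self_eq_mul_self_iff.1 (mul_right_cancel₀ hx h).symm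

omit hk in
/-- The eigenspaces of an isometric involution are non-degenerate. -/
theorem eig_nondeg {J : (ι → F) →ₗ[F] (ι → F)} (hQ : ∀ v, Q (J v) = Q v) (hJ : ∀ x, J (J x) = x)
    {e : F} (he : e = 1 ∨ e = -1) :
    eig J e ⊓ LinearMap.BilinForm.orthogonal (QuadraticMap.polarBilin Q) (eig J e) = ⊥ := by
  refine (Submodule.eq_bot_iff _).2 fun x ⟨hx, hperp⟩ => ?_
  have hp : ∀ y ∈ eig J e, QuadraticMap.polar Q y x = 0 := fun y hy => hperp y hy
  have he0 : e * e = 1 := by rcases he with rfl | rfl <;> simp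
  have hq : ∀ y ∈ eig J (-e), QuadraticMap.polar Q y x = 0 := fun y hy => by
    have h1 : QuadraticMap.polar Q (J y) (J x) = QuadraticMap.polar Q y x := by
      simp only [QuadraticMap.polar, ← map_add, hQ]
    rw [mem_eig.1 hy, mem_eig.1 hx, QuadraticMap.polar_smul_left, QuadraticMap.polar_smul_right,
      smul_eq_mul, smul_eq_mul, ← mul_assoc, neg_mul, he0, neg_one_mul] at h1
    exact (mul_eq_zero.1 (show (2 : F) * QuadraticMap.polar Q y x = 0 by linear_combination -h1)).resolve_left h2
  refine OrthOrder.nondegenerate_iff.1 S.nondeg x fun y => ?_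
  rw [QuadraticMap.polar_comm]
  have hmem : y ∈ eig J 1 ⊔ eig J (-1) := by rw [(isCompl_eig h2 hJ).sup_eq_top]; exact Submodule.mem_top
  obtain ⟨u, hu, w, hw, rfl⟩ := Submodule.mem_sup.1 hmem
  rw [QuadraticMap.polar_add_left]
  rcases he with rfl | rfl
  · rw [hp u hu, hq w hw, add_zero]
  · rw [neg_neg] at hq
    rw [hq u hu, hp w hw, add_zero]

omit hk h2 in
/-- A similitude of a non-degenerate subspace of odd dimension has square multiplier. -/
theorem isSquare_of_odd {H : (ι → F) →ₗ[F] (ι → F)} {c : F} (hc : c ≠ 0) (hQ : ∀ v, Q (H v) = c * Q v)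
    {W : Submodule F (ι → F)} (hW : W ⊓ LinearMap.BilinForm.orthogonal (QuadraticMap.polarBilin Q) W = ⊥)
    (hH : ∀ x ∈ W, H x ∈ W) (hodd : Odd (Module.finrank F W)) : IsSquare c := by
  obtain ⟨j, hj⟩ := hodd
  let b := (Module.finBasis F W).equivFun
  let L : (Fin (Module.finrank F W) → F) →ₗ[F] (ι → F) := W.subtype ∘ₗ b.symm.toLinearMap
  have hL : ∀ v, L v ∈ W := fun v => (b.symm v).2
  have hnd : (QuadraticMap.polarBilin (Q.comp L)).Nondegenerate := OrthOrder.nondegenerate_iff.2 fun v hv => by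
    have h1 : L v ∈ W ⊓ LinearMap.BilinForm.orthogonal (QuadraticMap.polarBilin Q) W := ⟨hL v, fun y hy => by
      have h3 := hv (b ⟨y, hy⟩)
      simp only [QuadraticMap.polar, QuadraticMap.comp_apply, map_add] at h3
      have h4 : L (b ⟨y, hy⟩) = y := congrArg Subtype.val (b.symm_apply_apply ⟨y, hy⟩)
      rw [h4] at h3
      show QuadraticMap.polar Q y (L v) = 0
      rw [QuadraticMap.polar_comm]
      exact h3⟩
    rw [hW, Submodule.mem_bot] at h1
    exact b.symm.injective (by rw [map_zero]; exact Subtype.ext h1)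
  let A := LinearMap.toMatrix' (b.toLinearMap ∘ₗ (H.restrict hH) ∘ₗ b.symm.toLinearMap)
  have h := det_sim_sq hnd (A := A) (c := c) fun v => by
    rw [QuadraticMap.comp_apply, QuadraticMap.comp_apply, LinearMap.toMatrix'_mulVec, ← hQ]
    simp [L]
  rw [Fintype.card_fin, show c ^ Module.finrank F W = (c ^ j * c ^ j) * c by rw [hj, pow_succ, two_mul, pow_add]] at h
  refine ⟨A.det / c ^ j, ?_⟩
  rw [div_mul_div_comm, h, mul_div_cancel_left₀ _ (mul_ne_zero (pow_ne_zero _ hc) (pow_ne_zero _ hc))]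

/-- A vector of norm one orthogonal to its image, for a symmetric similitude with non-square square. -/
theorem exists_norm_one_perp {f : (ι → F) →ₗ[F] (ι → F)} {c : F} (hQ : ∀ v, Q (f v) = c * Q v)
    (hf : ∀ v, f (f v) = c • v) (hc : ¬ IsSquare c) :
    ∃ v, Q v = 1 ∧ QuadraticMap.polar Q v (f v) = 0 := by
  classical
  haveI : Fact (∀ r : F, r ^ 2 ≠ c + 0 * r) := ⟨fun r h => hc ⟨r, by linear_combination -h⟩⟩
  have hc0 : c ≠ 0 := fun e => hc (e ▸ IsSquare.zero)
  have hP : ∀ x y, QuadraticMap.polar Q (f x) (f y) = c * QuadraticMap.polar Q x y := fun x y => by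
    simp only [QuadraticMap.polar, ← map_add, hQ]; ring
  have hsym : ∀ x y, QuadraticMap.polar Q (f x) y = QuadraticMap.polar Q x (f y) := fun x y => by
    refine mul_left_cancel₀ hc0 ?_
    rw [← hP x (f y), hf, QuadraticMap.polar_smul_right, smul_eq_mul]
  obtain ⟨v₁, hv₁⟩ := OrthRows.exists_norm_all S.nondeg (by have := S.dim; omega) (one_ne_zero (α := F))
  set W := (LinearMap.ker ((QuadraticMap.polarBilin Q).flip v₁)) ⊓
    LinearMap.ker ((QuadraticMap.polarBilin Q).flip (f v₁))
  have hdim : 2 * k ≤ Module.finrank F W + 2 := by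
    have e1 := Submodule.finrank_sup_add_finrank_inf_eq (LinearMap.ker ((QuadraticMap.polarBilin Q).flip v₁))
      (LinearMap.ker ((QuadraticMap.polarBilin Q).flip (f v₁)))
    have e2 := Submodule.finrank_le (LinearMap.ker ((QuadraticMap.polarBilin Q).flip v₁) ⊔
      LinearMap.ker ((QuadraticMap.polarBilin Q).flip (f v₁)))
    have e3 : ∀ φ : (ι → F) →ₗ[F] F, 2 * k ≤ Module.finrank F (LinearMap.ker φ) + 1 := fun φ => by
      have := LinearMap.finrank_range_add_finrank_ker φ
      have := (LinearMap.range φ).finrank_le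
      rw [Module.finrank_self] at this
      rw [Module.finrank_pi, hk] at *
      omega
    have := e3 ((QuadraticMap.polarBilin Q).flip v₁)
    have := e3 ((QuadraticMap.polarBilin Q).flip (f v₁))
    rw [Module.finrank_pi, hk] at e2
    show 2 * k ≤ Module.finrank F W + 2
    simp only [W]
    omega
  obtain ⟨v₂, ⟨h21, h2f⟩, hv₂⟩ : ∃ x ∈ W, Q x ≠ 0 := by
    by_contra h
    push Not at h
    have := ts_le_half S hk h2 h
    have := S.dim
    omega
  have h21' := Spinor.mem_ker_polar.1 h21
  have h2f' := Spinor.mem_ker_polar.1 h2f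
  -- the value map into the quadratic extension
  let Z : (ι → F) → QuadraticAlgebra F c 0 := fun v => ⟨2 * Q v, QuadraticMap.polar Q v (f v) / c⟩
  have hZ0 : ∀ v, Q v ≠ 0 → Z v ≠ 0 := fun v hv e => by
    have := congrArg QuadraticAlgebra.re e
    simp [Z, h2, hv] at this
  let z₁ := Z v₁
  let z₂ := Z v₂
  haveI : Fintype (QuadraticAlgebra F c 0) := Fintype.ofEquiv _ (QuadraticAlgebra.equivProd c 0).symm
  obtain ⟨α, β, hαβ⟩ := FiniteField.exists_root_sum_quadratic
    (f := Polynomial.C z₁ * Polynomial.X ^ 2 + Polynomial.C 0 * Polynomial.X + Polynomial.C 0)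
    (g := Polynomial.C z₂ * Polynomial.X ^ 2 + Polynomial.C 0 * Polynomial.X + Polynomial.C (-2))
    (Polynomial.degree_quadratic (hZ0 _ (by rw [hv₁]; exact one_ne_zero)))
    (Polynomial.degree_quadratic (hZ0 _ hv₂)) (by
      rw [Fintype.card_congr (QuadraticAlgebra.equivProd c 0), Fintype.card_prod, Nat.mul_mod,
        FiniteField.odd_card_of_char_ne_two (Spinor.ringChar_ne_two h2)])
  simp only [Polynomial.eval_add, Polynomial.eval_mul, Polynomial.eval_C, Polynomial.eval_pow,
    Polynomial.eval_X, zero_mul, add_zero] at hαβ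
  have hre := congrArg QuadraticAlgebra.re hαβ
  have him := congrArg QuadraticAlgebra.im hαβ
  simp only [z₁, z₂, Z, sq, QuadraticAlgebra.re_add, QuadraticAlgebra.im_add, QuadraticAlgebra.re_mul,
    QuadraticAlgebra.im_mul, QuadraticAlgebra.re_neg, QuadraticAlgebra.im_neg, QuadraticAlgebra.re_zero,
    QuadraticAlgebra.im_zero, QuadraticAlgebra.re_ofNat, QuadraticAlgebra.im_ofNat] at hre him
  refine ⟨(α.re • v₁ + α.im • f v₁) + (β.re • v₂ + β.im • f v₂), ?_, ?_⟩
  · have e : ∀ (x y : F) v, Q (x • v + y • f v) =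
        x * x * Q v + x * y * QuadraticMap.polar Q v (f v) + y * y * (c * Q v) := fun x y v => by
      rw [QuadraticMap.map_add Q, QuadraticMap.map_smul, QuadraticMap.map_smul, hQ, QuadraticMap.polar_smul_left,
        QuadraticMap.polar_smul_right]
      simp only [smul_eq_mul]; ring
    rw [QuadraticMap.map_add Q, e, e]
    simp only [QuadraticMap.polar_add_left, QuadraticMap.polar_add_right, QuadraticMap.polar_smul_left,
      QuadraticMap.polar_smul_right, smul_eq_mul, hP, hsym, hf, QuadraticMap.polar_comm _ v₁ v₂,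
      QuadraticMap.polar_comm _ v₁ (f v₂), h21', show QuadraticMap.polar Q v₂ (f v₁) = 0 from h2f']
    field_simp at hre
    refine mul_left_cancel₀ h2 ?_
    linear_combination hre
  · simp only [map_add, map_smul, QuadraticMap.polar_add_left, QuadraticMap.polar_add_right,
      QuadraticMap.polar_smul_left, QuadraticMap.polar_smul_right, smul_eq_mul, hP, hsym, hf,
      QuadraticMap.polar_self]
    have k1 : QuadraticMap.polar Q v₁ v₂ = 0 := by rw [QuadraticMap.polar_comm]; exact h21'
    have k2 : QuadraticMap.polar Q v₁ (f v₂) = 0 := by rw [← hsym, QuadraticMap.polar_comm]; exact h2f'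
    simp only [k1, k2, h21', show QuadraticMap.polar Q v₂ (f v₁) = 0 from h2f']
    field_simp at him
    linear_combination him

end Cfsg.Agent.AutPOmega
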