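import Cfsg.Agent.Lib.AutPOmega.GraphCore
import Cfsg.Agent.Lib.AutPOmega.Frames

/-!
# No odd core in the centraliser of an involutory graph automorphism
-/

set_option autoImplicit false
set_option linter.unusedSectionVars false
set_option maxHeartbeats 1000000

namespace Cfsg.Agent.AutPOmega

open scoped Matrix
open Cfsg.Agent Cfsg.Agent.TransvMax Cfsg.Agent.QMax

variable {ι : Type} [Fintype ι] [DecidableEq ι] {F : Type*} [Field F] [Fintype F]
  {Q : QuadraticForm F (ι → F)}

local notation "V" => ι → F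
local notation "IsoQ" => Cfsg.isometryGroup F (DFunLike.coe Q)
local notation "SimQ" => Cfsg.Geo.quadSimilarityGroup (F := F) (DFunLike.coe Q)
local notation "AutQ" => MulAut (Cfsg.POmega F (DFunLike.coe Q))

variable (S : QSetting Q)

include S

theorem pair_mem_inn {a b : V} (ha : Q a ≠ 0) (hb : Q b ≠ 0) (h : Q b = Q a) :
    isoAut (OrthRows.rf Q a ha * OrthRows.rf Q b hb) ∈ Cfsg.Inn (Cfsg.POmega F ⇑Q) := by
  refine (QuotientGroup.eq_one_iff _).1 ?_
  show outI (OrthRows.rf Q a ha * OrthRows.rf Q b hb) = 1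
  rw [map_mul, outI_rf_congr S hb ha (by rw [h]), outI_rf_sq S ha]

variable {k : ℕ} (hk : Fintype.card ι = 2 * k) (h2 : (2 : F) ≠ 0)

include hk h2

variable (gγ : Cfsg.Geo.quadSimilarityGroup (F := F) ⇑Q) (hε : epsS S k gγ ≠ 1) (hγ : simAut gγ * simAut gγ = 1)

include hε hγ

/-- Inner automorphisms centralising the graph automorphism with enough traces. -/
theorem graph_witness :
    ∃ C N : F, N ≠ 0 ∧ ∀ β : F, ∃ s : IsoQ, isoAut s ∈ Cfsg.Inn (Cfsg.POmega F ⇑Q) ∧
      Commute (isoAut s) (simAut gγ) ∧ (s.1 : Matrix ι ι F).trace = C + N * (β * β) := by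
  classical
  obtain ⟨hf, -, hkodd⟩ := graph_sq S hk h2 gγ hε hγ
  have hμ0 := Units.ne_zero (simMul S gγ)
  have hV : (Module.finrank F V : F) = (Fintype.card ι : F) := by rw [Module.finrank_pi]
  have htr : ∀ (s : IsoQ) (L : V →ₗ[F] V), (∀ v, (s.1 : Matrix ι ι F) *ᵥ v = L v) →
      (s.1 : Matrix ι ι F).trace = LinearMap.trace F V L := fun s L h => by
    rw [← Matrix.trace_toLin'_eq, show Matrix.toLin' (s.1 : Matrix ι ι F) = L from LinearMap.ext fun v => by
      rw [Matrix.toLin'_apply, h]]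
  have hrfapp : ∀ (a : V) (ha : Q a ≠ 0) v,
      ((OrthRows.rf Q a ha).1 : Matrix ι ι F) *ᵥ v = FormsLib.reflHom Q a v := fun a ha v => by
    rw [OrthRows.rf_val, FormsLib.reflectionMatrix_mulVec]
  by_cases hsμ : IsSquare (simMul S gγ : F)
  · obtain ⟨r, hr⟩ := hsμ
    have hr0 : r ≠ 0 := fun e => hμ0 (by rw [hr, e, mul_zero])
    obtain ⟨hQ, hJ, -, -⟩ := graph_invol S hk h2 gγ hε hγ hr
    set J := r⁻¹ • Matrix.toLin' (gγ.1 : Matrix ι ι F)
    obtain ⟨e, he, hdim⟩ : ∃ e : F, (e = 1 ∨ e = -1) ∧ 3 ≤ Module.finrank F (eig J e) := by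
      have h4 := finrank_eig_add h2 hJ
      rw [Module.finrank_pi, hk] at h4
      have := S.dim
      by_contra h
      push Not at h
      have := h 1 (Or.inl rfl)
      have := h (-1) (Or.inr rfl)
      omega
    have he0 : e ≠ 0 := by rcases he with rfl | rfl <;> simp
    have hnd := eig_nondeg S h2 hQ hJ he
    obtain ⟨a, ha, hQa⟩ := Spinor.exists_norm (Q := Q) hnd (Or.inl (by omega)) (one_ne_zero (α := F))
    obtain ⟨hndW, hdW⟩ := nondeg_inf_perp (Q := Q) h2 hnd ha (by rw [hQa]; exact one_ne_zero)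
    refine ⟨(Fintype.card ι : F) - 4, 1, one_ne_zero, fun β => ?_⟩
    obtain ⟨p, ⟨hpW, hpa⟩, hQp⟩ : ∃ p ∈ eig J e ⊓ LinearMap.ker ((QuadraticMap.polarBilin Q).flip a),
        Q p = 1 - β / 2 * (β / 2) := by
      by_cases h0 : 1 - β / 2 * (β / 2) = 0
      · exact ⟨0, Submodule.zero_mem _, by rw [h0, QuadraticMap.map_zero]⟩
      · exact Spinor.exists_norm (Q := Q) hndW (Or.inl (by omega)) h0
    have hpa' := Spinor.mem_ker_polar.1 hpa
    set b := (β / 2) • a + p with hb
    have hap : QuadraticMap.polar Q a p = 0 := by rw [QuadraticMap.polar_comm]; exact hpa'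
    have hQb : Q b = 1 := by
      rw [hb, QuadraticMap.map_add Q, QuadraticMap.map_smul, QuadraticMap.polar_smul_left, hap, hQa, hQp,
        smul_eq_mul, smul_zero]
      ring
    have hab : QuadraticMap.polar Q a b = β := by
      rw [hb, QuadraticMap.polar_add_right, QuadraticMap.polar_smul_right, FormsLib.polar_self', hap, hQa,
        smul_eq_mul]
      field_simp
      ring
    have ha0 : Q a ≠ 0 := by rw [hQa]; exact one_ne_zero
    have hb0 : Q b ≠ 0 := by rw [hQb]; exact one_ne_zero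
    refine ⟨OrthRows.rf Q a ha0 * OrthRows.rf Q b hb0, pair_mem_inn S ha0 hb0 (by rw [hQa, hQb]), ?_, ?_⟩
    · have hcomm : ∀ x ∈ eig J e, ∀ hx : Q x ≠ 0,
          Commute (isoAut (OrthRows.rf Q x hx)) (simAut gγ) := fun x hxJ hx => by
        have hgx : (gγ.1 : Matrix ι ι F) *ᵥ x = (r * e) • x := by
          have h5 := mem_eig.1 hxJ
          rw [LinearMap.smul_apply, Matrix.toLin'_apply, inv_smul_eq_iff₀ hr0, smul_smul] at h5
          exact h5
        have hgx0 : Q ((gγ.1 : Matrix ι ι F) *ᵥ x) ≠ 0 := by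
          rw [simMul_spec S]; exact mul_ne_zero hμ0 hx
        have h6 := simAut_conj_rf gγ hx hgx0
        simp only [hgx] at h6
        rw [rf_smul hx (mul_ne_zero hr0 he0)] at h6
        exact (mul_inv_eq_iff_eq_mul.1 h6).symm
      rw [map_mul]
      exact (hcomm a ha ha0).mul_left (hcomm b ((eig J e).add_mem ((eig J e).smul_mem _ ha) hpW) hb0)
    · rw [htr _ (FormsLib.reflHom Q a ∘ₗ FormsLib.reflHom Q b) fun v => by
          rw [Subgroup.coe_mul, Units.val_mul, ← Matrix.mulVec_mulVec, hrfapp, hrfapp]; rfl,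
        trace_two_refl Q ha0 hb0, hab, hQa, hQb, hV]
      ring
  · have hk5 : 5 ≤ k := by
      obtain ⟨j, hj⟩ := hkodd hsμ
      have := S.dim
      omega
    set μ := (simMul S gγ : F) with hμ
    set f := Matrix.toLin' (gγ.1 : Matrix ι ι F) with hfdef
    have hfapp : ∀ v, f v = (gγ.1 : Matrix ι ι F) *ᵥ v := fun v => Matrix.toLin'_apply _ v
    have hff : ∀ v, f (f v) = μ • v := fun v => by rw [hfapp, hfapp, hf]
    have hQf : ∀ v, Q (f v) = μ * Q v := fun v => by rw [hfapp, simMul_spec S]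
    have hP : ∀ x y, QuadraticMap.polar Q (f x) (f y) = μ * QuadraticMap.polar Q x y := fun x y => by
      simp only [QuadraticMap.polar, ← map_add, hQf]; ring
    have hsym : ∀ x y, QuadraticMap.polar Q (f x) y = QuadraticMap.polar Q x (f y) := fun x y => by
      refine mul_left_cancel₀ hμ0 ?_
      rw [← hP x (f y), hff, QuadraticMap.polar_smul_right, smul_eq_mul]
    obtain ⟨a, hQa, haf⟩ := exists_norm_one_perp S hk h2 hQf hff hsμ
    let kA : Submodule F V := LinearMap.ker ((QuadraticMap.polarBilin Q).flip a) ⊓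
      LinearMap.ker ((QuadraticMap.polarBilin Q).flip (f a))
    have hcut : ∀ (W : Submodule F V) (φ : V →ₗ[F] F),
        Module.finrank F W ≤ Module.finrank F ↥(W ⊓ LinearMap.ker φ) + 1 := fun W φ => by
      by_cases hle : W ≤ LinearMap.ker φ
      · rw [inf_eq_left.2 hle]; omega
      · rw [Spinor.finrank_inf_ker hle]
    have haniso : ∀ W : Submodule F V, k < Module.finrank F W → ∃ x ∈ W, Q x ≠ 0 := fun W hW => by
      by_contra h
      push Not at h
      have := ts_le_half S hk h2 h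
      omega
    have hA : 2 * k ≤ Module.finrank F kA + 2 := by
      have h1 := hcut ⊤ ((QuadraticMap.polarBilin Q).flip a)
      have h3 := hcut (LinearMap.ker ((QuadraticMap.polarBilin Q).flip a)) ((QuadraticMap.polarBilin Q).flip (f a))
      rw [top_inf_eq, finrank_top, Module.finrank_pi, hk] at h1
      show 2 * k ≤ Module.finrank F ↥(LinearMap.ker _ ⊓ LinearMap.ker _) + 2
      omega
    obtain ⟨v₁, hv₁W, hv₁⟩ := haniso kA (by omega)
    obtain ⟨v₂, ⟨⟨hv₂W, h21⟩, h2f⟩, hv₂⟩ := haniso ((kA ⊓ LinearMap.ker ((QuadraticMap.polarBilin Q).flip v₁)) ⊓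
        LinearMap.ker ((QuadraticMap.polarBilin Q).flip (f v₁))) (by
      have h1 := hcut kA ((QuadraticMap.polarBilin Q).flip v₁)
      have h3 := hcut (kA ⊓ LinearMap.ker ((QuadraticMap.polarBilin Q).flip v₁)) ((QuadraticMap.polarBilin Q).flip (f v₁))
      omega)
    have h21' := Spinor.mem_ker_polar.1 h21
    have h2f' := Spinor.mem_ker_polar.1 h2f
    refine ⟨2 * (Fintype.card ι : F) - 8 - (Fintype.card ι : F), 2, h2, fun β => ?_⟩
    obtain ⟨p, hpA, hQp, hpf⟩ : ∃ p ∈ kA, Q p = 1 - β / 2 * (β / 2) ∧ QuadraticMap.polar Q p (f p) = 0 := by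
      set c := 1 - β / 2 * (β / 2)
      haveI : Fact (∀ r : F, r ^ 2 ≠ μ + 0 * r) := ⟨fun r h => hsμ ⟨r, by linear_combination -h⟩⟩
      let Z : V → QuadraticAlgebra F μ 0 := fun v => ⟨2 * Q v, QuadraticMap.polar Q v (f v) / μ⟩
      have hZ0 : ∀ v, Q v ≠ 0 → Z v ≠ 0 := fun v hv e => by
        have := congrArg QuadraticAlgebra.re e
        simp [Z, h2, hv] at this
      haveI : Fintype (QuadraticAlgebra F μ 0) := Fintype.ofEquiv _ (QuadraticAlgebra.equivProd μ 0).symm
      obtain ⟨α, γ, hαγ⟩ := FiniteField.exists_root_sum_quadratic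
        (f := Polynomial.C (Z v₁) * Polynomial.X ^ 2 + Polynomial.C 0 * Polynomial.X + Polynomial.C 0)
        (g := Polynomial.C (Z v₂) * Polynomial.X ^ 2 + Polynomial.C 0 * Polynomial.X +
          Polynomial.C (⟨-(2 * c), 0⟩ : QuadraticAlgebra F μ 0))
        (Polynomial.degree_quadratic (hZ0 _ hv₁))
        (Polynomial.degree_quadratic (hZ0 _ hv₂)) (by
          rw [Fintype.card_congr (QuadraticAlgebra.equivProd μ 0), Fintype.card_prod, Nat.mul_mod,
            FiniteField.odd_card_of_char_ne_two (Spinor.ringChar_ne_two h2)])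
      simp only [Polynomial.eval_add, Polynomial.eval_mul, Polynomial.eval_C, Polynomial.eval_pow,
        Polynomial.eval_X, zero_mul, add_zero] at hαγ
      have hre := congrArg QuadraticAlgebra.re hαγ
      have him := congrArg QuadraticAlgebra.im hαγ
      simp only [Z, sq, QuadraticAlgebra.re_add, QuadraticAlgebra.im_add, QuadraticAlgebra.re_mul,
        QuadraticAlgebra.im_mul, QuadraticAlgebra.re_zero, QuadraticAlgebra.im_zero] at hre him
      have hfk : ∀ x ∈ kA, f x ∈ kA := fun x hx => by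
        refine ⟨Spinor.mem_ker_polar.2 ?_, Spinor.mem_ker_polar.2 ?_⟩
        · rw [hsym]; exact Spinor.mem_ker_polar.1 hx.2
        · rw [hP, Spinor.mem_ker_polar.1 hx.1, mul_zero]
      refine ⟨(α.re • v₁ + α.im • f v₁) + (γ.re • v₂ + γ.im • f v₂),
        kA.add_mem (kA.add_mem (kA.smul_mem _ hv₁W) (kA.smul_mem _ (hfk _ hv₁W)))
          (kA.add_mem (kA.smul_mem _ hv₂W) (kA.smul_mem _ (hfk _ hv₂W))), ?_, ?_⟩
      · have e : ∀ (x y : F) v, Q (x • v + y • f v) =
            x * x * Q v + x * y * QuadraticMap.polar Q v (f v) + y * y * (μ * Q v) := fun x y v => by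
          rw [QuadraticMap.map_add Q, QuadraticMap.map_smul, QuadraticMap.map_smul, hQf,
            QuadraticMap.polar_smul_left, QuadraticMap.polar_smul_right]
          simp only [smul_eq_mul]; ring
        rw [QuadraticMap.map_add Q, e, e]
        simp only [QuadraticMap.polar_add_left, QuadraticMap.polar_add_right, QuadraticMap.polar_smul_left,
          QuadraticMap.polar_smul_right, smul_eq_mul, hP, hsym, hff, QuadraticMap.polar_comm _ v₁ v₂,
          QuadraticMap.polar_comm _ v₁ (f v₂), h21', h2f']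
        field_simp at hre
        refine mul_left_cancel₀ h2 ?_
        linear_combination hre
      · have k1 : QuadraticMap.polar Q v₁ v₂ = 0 := by rw [QuadraticMap.polar_comm]; exact h21'
        have k2 : QuadraticMap.polar Q v₁ (f v₂) = 0 := by rw [← hsym, QuadraticMap.polar_comm]; exact h2f'
        simp only [map_add, map_smul, QuadraticMap.polar_add_left, QuadraticMap.polar_add_right,
          QuadraticMap.polar_smul_left, QuadraticMap.polar_smul_right, smul_eq_mul, hP, hsym, hff,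
          QuadraticMap.polar_self, k1, k2, h21', h2f']
        field_simp at him
        linear_combination him
    have hpa := Spinor.mem_ker_polar.1 hpA.1
    have hpfa := Spinor.mem_ker_polar.1 hpA.2
    set b := (β / 2) • a + p with hb
    have hap : QuadraticMap.polar Q a p = 0 := by rw [QuadraticMap.polar_comm]; exact hpa
    have hafp : QuadraticMap.polar Q a (f p) = 0 := by rw [← hsym, QuadraticMap.polar_comm]; exact hpfa
    have hQb : Q b = 1 := by
      rw [hb, QuadraticMap.map_add Q, QuadraticMap.map_smul, QuadraticMap.polar_smul_left, hap, hQa, hQp,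
        smul_eq_mul, smul_zero]
      ring
    have hab : QuadraticMap.polar Q a b = β := by
      rw [hb, QuadraticMap.polar_add_right, QuadraticMap.polar_smul_right, FormsLib.polar_self', hap, hQa,
        smul_eq_mul]
      field_simp
      ring
    have hafb : QuadraticMap.polar Q a (f b) = 0 := by
      rw [hb, map_add, map_smul, QuadraticMap.polar_add_right, QuadraticMap.polar_smul_right, haf, hafp,
        smul_zero, add_zero]
    have hbfa : QuadraticMap.polar Q b (f a) = 0 := by rw [← hsym, QuadraticMap.polar_comm]; exact hafb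
    have hbfb : QuadraticMap.polar Q b (f b) = 0 := by
      conv_lhs => rw [hb]; arg 3; rw [map_add, map_smul]
      simp only [QuadraticMap.polar_add_left, QuadraticMap.polar_add_right, QuadraticMap.polar_smul_left,
        QuadraticMap.polar_smul_right, haf, hafp, hpfa, hpf, smul_zero, add_zero]
    have ha0 : Q a ≠ 0 := by rw [hQa]; exact one_ne_zero
    have hb0 : Q b ≠ 0 := by rw [hQb]; exact one_ne_zero
    have hfa0 : Q (f a) ≠ 0 := by rw [hQf, hQa, mul_one]; exact hμ0
    have hfb0 : Q (f b) ≠ 0 := by rw [hQf, hQb, mul_one]; exact hμ0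
    refine ⟨(OrthRows.rf Q a ha0 * OrthRows.rf Q b hb0) * (OrthRows.rf Q (f a) hfa0 * OrthRows.rf Q (f b) hfb0),
      ?_, ?_, ?_⟩
    · rw [map_mul]
      exact mul_mem (pair_mem_inn S ha0 hb0 (by rw [hQa, hQb]))
        (pair_mem_inn S hfa0 hfb0 (by rw [hQf, hQf, hQa, hQb]))
    · refine commute_of_exact S h2 fun v => ?_
      have hG : ∀ x y, QuadraticMap.polar Q (f x) y = QuadraticMap.polar Q x (f y) := hsym
      simp only [Subgroup.coe_mul, Units.val_mul, ← Matrix.mulVec_mulVec, hrfapp, ← hfapp, FormsLib.reflHom_apply,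
        map_sub, map_smul, QuadraticMap.polar_sub_left, QuadraticMap.polar_smul_left, hP, hsym, hff,
        QuadraticMap.polar_smul_right, smul_eq_mul, hQf, hQa, hQb, haf, hbfb, hafb, hbfa, smul_sub, smul_smul,
        QuadraticMap.polar_comm Q b a, hab]
      match_scalars <;> field_simp <;> ring
    · have hdis : ∀ x, (FormsLib.reflHom Q a ∘ₗ FormsLib.reflHom Q b)
          ((FormsLib.reflHom Q (f a) ∘ₗ FormsLib.reflHom Q (f b)) x) =
          (FormsLib.reflHom Q a ∘ₗ FormsLib.reflHom Q b) x +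
            (FormsLib.reflHom Q (f a) ∘ₗ FormsLib.reflHom Q (f b)) x - x := fun x => by
        simp only [LinearMap.comp_apply, FormsLib.reflHom_apply, QuadraticMap.polar_sub_left,
          QuadraticMap.polar_smul_left, hsym, hafb, hbfa, haf, hbfb, hP, smul_eq_mul, QuadraticMap.polar_comm Q b a, hab]
        match_scalars <;> ring
      rw [htr _ ((FormsLib.reflHom Q a ∘ₗ FormsLib.reflHom Q b) ∘ₗ
          (FormsLib.reflHom Q (f a) ∘ₗ FormsLib.reflHom Q (f b))) fun v => by
          simp only [Subgroup.coe_mul, Units.val_mul, ← Matrix.mulVec_mulVec, hrfapp]; rfl,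
        trace_comp_disjoint hdis, trace_two_refl Q ha0 hb0, trace_two_refl Q hfa0 hfb0, hab, hP, hQf, hQf, hab, hQa,
        hQb, hV]
      field_simp
      ring

/-- An odd subgroup of isometry classes centralising the graph automorphism and normalised by all of them. -/
theorem graph_range_trivial (M : Subgroup AutQ) (hM : M ≤ (isoAut (Q := Q)).range) (hodd : Odd (Nat.card M))
    (hc : ∀ z ∈ M, Commute z (simAut gγ))
    (hnorm : ∀ e : IsoQ, Commute (isoAut e) (simAut gγ) → ∀ z ∈ M, isoAut e * z * (isoAut e)⁻¹ ∈ M) : M = ⊥ := by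
  classical
  let P0 : Subgroup IsoQ := M.comap isoAut
  let ψ : P0 →* M := ((isoAut (Q := Q)).comp P0.subtype).codRestrict M fun x => x.2
  have hψ : Function.Surjective ψ := fun z => by
    obtain ⟨h, hh⟩ := hM z.2
    exact ⟨⟨h, show isoAut h ∈ M by rw [hh]; exact z.2⟩, Subtype.ext hh⟩
  have hidx : ψ.ker.index = Nat.card M := by
    rw [Subgroup.index_ker, MonoidHom.range_eq_top.2 hψ, Subgroup.card_top]
  have hker : Nat.card ψ.ker = 2 := by
    have hneg : (-1 : GL ι F) ∈ IsoQ := fun u _ => by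
      show Q (((-1 : GL ι F) : Matrix ι ι F) *ᵥ u) = Q u
      rw [Units.val_neg, Units.val_one, Matrix.neg_mulVec, Matrix.one_mulVec, QuadraticMap.map_neg]
    have hone : isoAut (⟨-1, hneg⟩ : IsoQ) = 1 := (isoAut_eq_one_iff S _).2 ⟨-1, fun x => by
      show ((-1 : GL ι F) : Matrix ι ι F) *ᵥ x = _
      rw [Units.val_neg, Units.val_one, Matrix.neg_mulVec, Matrix.one_mulVec, neg_one_smul]⟩
    let n1 : ψ.ker := ⟨⟨⟨-1, hneg⟩, show isoAut (⟨-1, hneg⟩ : IsoQ) ∈ M by rw [hone]; exact one_mem M⟩,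
      Subtype.ext hone⟩
    obtain ⟨x, hx⟩ := exists_quad_one_ne S
    have hx0 : x ≠ 0 := fun e => hx (by rw [e, QuadraticMap.map_zero])
    refine Nat.card_eq_two_iff.2 ⟨1, n1, fun e => ?_, Set.eq_univ_of_forall fun ⟨⟨h, hh⟩, hk'⟩ => ?_⟩
    · have h1 := congrArg (fun z : ψ.ker => (z.1.1.1 : Matrix ι ι F) *ᵥ x) e
      simp only [n1, OneMemClass.coe_one, Units.val_one, Units.val_neg, Matrix.neg_mulVec, Matrix.one_mulVec] at h1
      exact hx0 ((smul_eq_zero.1 (show (2 : F) • x = 0 by
        rw [two_smul]; nth_rw 1 [h1]; rw [neg_add_cancel])).resolve_left h2)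
    · obtain ⟨c, hc'⟩ := (isoAut_eq_one_iff S h).1 (congrArg Subtype.val hk')
      have hcc : c * c = 1 := by
        have : Q ((h.1 : Matrix ι ι F) *ᵥ x) = Q x := h.2 x x
        rw [hc', QuadraticMap.map_smul, smul_eq_mul] at this
        exact mul_right_cancel₀ hx (this.trans (one_mul _).symm)
      rcases mul_self_eq_one_iff.1 hcc with rfl | rfl
      · refine Or.inl (Subtype.ext (Subtype.ext (Subtype.ext (Units.ext (Matrix.toLin'.injective
          (LinearMap.ext fun v => ?_))))))
        rw [Matrix.toLin'_apply, hc', one_smul]; simp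
      · refine Or.inr (Subtype.ext (Subtype.ext (Subtype.ext (Units.ext (Matrix.toLin'.injective
          (LinearMap.ext fun v => ?_))))))
        rw [Matrix.toLin'_apply, hc', Matrix.toLin'_apply]
        simp [n1, Units.val_neg, Matrix.neg_mulVec]
  obtain ⟨H1, hH1⟩ := Subgroup.exists_right_complement'_of_coprime (N := ψ.ker) (by
    rw [hker, hidx]; exact Nat.coprime_two_left.2 hodd)
  have hH1idx : H1.index = 2 := by rw [hH1.index_eq_card, hker]
  have hH1card : Nat.card H1 = Nat.card M := by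
    rw [← hidx, hH1.symm.index_eq_card]
  set N := H1.map P0.subtype
  have hNcard : Nat.card N = Nat.card M := by
    rw [Subgroup.card_map_of_injective P0.subtype_injective, hH1card]
  have hpow : ∀ h ∈ N, h ^ Nat.card M = 1 := fun h hh => by
    rw [← hNcard]; exact congrArg Subtype.val (pow_card_eq_one' (x := (⟨h, hh⟩ : N)))
  have hin : ∀ h : IsoQ, isoAut h ∈ M → h ^ Nat.card M = 1 → h ∈ N := fun h hh hp => by
    refine ⟨⟨h, hh⟩, ?_, rfl⟩
    obtain ⟨j, hj⟩ := hodd
    have e : (⟨h, hh⟩ : P0) = (⟨h, hh⟩ * ⟨h, hh⟩) ^ (j + 1) := Subtype.ext (by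
      rw [Subgroup.coe_pow, Subgroup.coe_mul, ← sq, ← pow_mul, show 2 * (j + 1) = Nat.card M + 1 by omega,
        pow_succ, hp, one_mul])
    rw [e]
    exact pow_mem (Subgroup.mul_self_mem_of_index_two hH1idx _) _
  have hNM : ∀ h ∈ N, isoAut h ∈ M := by rintro _ ⟨y, -, rfl⟩; exact y.2
  have hbot := graph_iso_trivial S hk h2 gγ hε hγ N (hNcard ▸ hodd)
    (fun h hh v => commute_exact S hk h2 (hc _ (hNM h hh)) hodd (hpow h hh) v)
    (fun e he h hh => hin _ (by
      rw [map_mul, map_mul, map_inv]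
      exact hnorm e (commute_of_exact S h2 he) _ (hNM h hh)) (by rw [conj_pow, hpow h hh, mul_one, mul_inv_cancel]))
  rw [Subgroup.eq_bot_iff_card] at hbot ⊢
  rw [← hNcard, hbot]

/-- The centraliser of an involutory graph automorphism has trivial odd core. -/
theorem graph_pcore
    (h8 : Fintype.card ι = 8 → ∀ W : Submodule F (ι → F), (∀ x ∈ W, Q x = 0) → Module.finrank F W ≤ 3)
    (A : Subgroup AutQ) (hinn : ∀ z, MulAut.conj z ∈ A) :
    Cfsg.pPrimeCore 2 ↥(A ⊓ Subgroup.centralizer {simAut gγ}) = ⊥ := by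
  classical
  set x := simAut gγ with hx
  set C := A ⊓ Subgroup.centralizer {x}
  set R := (isoAut (Q := Q)).range
  have hconj : ∀ (d : AutQ) (z : Cfsg.POmega F ⇑Q), d * MulAut.conj z * d⁻¹ = MulAut.conj (d z) :=
    fun d z => MulEquiv.ext fun w => by simp [MulAut.mul_apply, MulAut.conj_apply]
  have hInnA : Cfsg.Inn (Cfsg.POmega F ⇑Q) ≤ A := by rintro _ ⟨z, rfl⟩; exact hinn z
  have hInnN : ∀ (d : AutQ), ∀ y ∈ Cfsg.Inn (Cfsg.POmega F ⇑Q), d * y * d⁻¹ ∈ Cfsg.Inn (Cfsg.POmega F ⇑Q) := by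
    rintro d _ ⟨z, rfl⟩
    exact ⟨d z, (hconj d z).symm⟩
  have hab : ∀ a b : IsoQ, isoAut a * isoAut b * (isoAut a)⁻¹ * (isoAut b)⁻¹ ∈ Cfsg.Inn (Cfsg.POmega F ⇑Q) := fun a b => by
    refine (QuotientGroup.eq_one_iff _).1 ?_
    rw [← map_inv, ← map_inv, ← map_mul, ← map_mul, ← map_mul]
    show outI (a * b * a⁻¹ * b⁻¹) = 1
    rw [map_mul, map_mul, map_mul, map_inv, map_inv, (outI_commute a b).eq, mul_inv_cancel_right, mul_inv_cancel]
  -- the isometry part of the centraliser
  set H := C ⊓ R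
  haveI : Finite H := inferInstance
  set M := (Cfsg.pPrimeCore 2 H).map H.subtype with hMdef
  obtain ⟨hMn, hMc⟩ := LocalEvenB.pPrimeCore_spec (G := H) 2
  have hM : M = ⊥ := by
    refine graph_range_trivial S hk h2 gγ hε hγ M ((Subgroup.map_subtype_le _).trans inf_le_right) ?_ ?_ ?_
    · rw [hMdef, Subgroup.card_map_of_injective H.subtype_injective]
      exact Nat.coprime_two_right.1 hMc
    · rintro z ⟨z', -, rfl⟩
      exact Subgroup.mem_centralizer_singleton_iff.1 z'.2.1.2
    · intro e he z hz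
      have hH : ∀ (e' : IsoQ), Commute (isoAut e') x → ∀ y ∈ H, isoAut e' * y * (isoAut e')⁻¹ ∈ H := by
        rintro e' he' y ⟨⟨hyA, hyc⟩, hyR⟩
        obtain ⟨b, rfl⟩ := hyR
        refine ⟨⟨?_, ?_⟩, R.mul_mem (R.mul_mem (show isoAut e' ∈ R from ⟨e', rfl⟩) (show isoAut b ∈ R from ⟨b, rfl⟩))
          (R.inv_mem (show isoAut e' ∈ R from ⟨e', rfl⟩))⟩
        · rw [← inv_mul_cancel_right (isoAut e' * isoAut b * (isoAut e')⁻¹) (isoAut b)]
          exact mul_mem (hInnA (hab e' b)) hyA
        · refine Subgroup.mem_centralizer_singleton_iff.2 ?_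
          exact ((he'.mul_left (Subgroup.mem_centralizer_singleton_iff.1 hyc)).mul_left he'.inv_left).eq
      let θ : H →* H :=
        { toFun := fun y => ⟨_, hH e he y.1 y.2⟩
          map_one' := Subtype.ext (by simp)
          map_mul' := fun y y' => Subtype.ext (by simp [mul_assoc]) }
      have hθ : Function.Surjective θ := fun y => ⟨⟨_, hH e⁻¹ (by rw [map_inv]; exact he.inv_left) y.1 y.2⟩,
        Subtype.ext (by simp [θ, mul_assoc])⟩
      have hle : (Cfsg.pPrimeCore 2 H).map θ ≤ Cfsg.pPrimeCore 2 H :=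
        LocalEvenB.le_pPrimeCore (Subgroup.Normal.map hMn θ hθ)
          (hMc.coprime_dvd_left (Subgroup.card_map_dvd _ θ))
      obtain ⟨z', hz', rfl⟩ := hz
      exact ⟨θ z', hle ⟨z', hz', rfl⟩, rfl⟩
  obtain ⟨hDn, hDc⟩ := LocalEvenB.pPrimeCore_spec (G := C) 2
  set D := Cfsg.pPrimeCore 2 C
  have hodd : Odd (Nat.card D) := Nat.coprime_two_right.1 hDc
  have hR : ∀ d : C, d ∈ D → d.1 ∈ R → d = 1 := by
    intro d hd hdR
    have hle : D.comap (Subgroup.inclusion (inf_le_left : H ≤ C)) ≤ Cfsg.pPrimeCore 2 H :=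
      LocalEvenB.le_pPrimeCore inferInstance (hDc.coprime_dvd_left (by
        rw [← Subgroup.card_map_of_injective (Subgroup.inclusion_injective (inf_le_left : H ≤ C))]
        exact Subgroup.card_dvd_of_le (Subgroup.map_comap_le _ _)))
    have hm : d.1 ∈ M := ⟨⟨d.1, d.2, hdR⟩, hle hd, rfl⟩
    rw [hM, Subgroup.mem_bot] at hm
    exact Subtype.ext hm
  refine (Subgroup.eq_bot_iff_forall _).2 fun d hd => ?_
  have hdj : d.1 ^ Nat.card D = 1 :=
    congrArg (fun z : D => (z : C).1) (pow_card_eq_one' (x := (⟨d, hd⟩ : D)))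
  obtain ⟨T, hT⟩ := theta_surjective S h8 d.1
  -- it commutes with the inner automorphisms of the centraliser
  have hds : ∀ s : IsoQ, isoAut s ∈ Cfsg.Inn (Cfsg.POmega F ⇑Q) → Commute (isoAut s) x →
      d.1 * isoAut s = isoAut s * d.1 := fun s hs hsx => by
    let sC : C := ⟨isoAut s, hInnA hs, Subgroup.mem_centralizer_singleton_iff.2 hsx.eq⟩
    have h1 : d * sC * d⁻¹ * sC⁻¹ ∈ D := by
      rw [mul_assoc d, mul_assoc d]
      exact mul_mem hd (hDn.conj_mem _ (inv_mem hd) sC)
    have h3 := hR _ h1 (by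
      show d.1 * isoAut s * d.1⁻¹ * (isoAut s)⁻¹ ∈ R
      have := mul_mem (hInnN d.1 _ hs) (inv_mem hs)
      rw [inn_eq] at this
      exact Subgroup.map_le_range _ _ this)
    have h4 : d.1 * isoAut s * d.1⁻¹ * (isoAut s)⁻¹ = 1 := congrArg Subtype.val h3
    rw [mul_inv_eq_one, mul_inv_eq_iff_eq_mul] at h4
    exact h4
  have hσ : sigHom S T = 1 := by
    obtain ⟨C0, N0, hN0, hw⟩ := graph_witness S hk h2 gγ hε hγ
    have hsj : sigT T ^ Nat.card D = 1 := by
      rw [← sigHom_apply S]
      exact theta_pow_sig' S (by rw [hT, hdj])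
    obtain ⟨g, hg, hgT⟩ := exists_pair_of_semi T
    have hfix : ∀ s : IsoQ, isoAut s ∈ Cfsg.Inn (Cfsg.POmega F ⇑Q) → Commute (isoAut s) x →
        sigT T (s.1 : Matrix ι ι F).trace = (s.1 : Matrix ι ι F).trace := fun s hs hsx => by
      have h1 : theta ((T * ofSim (incl s)) * (ofSim (incl s) * T)⁻¹) = 1 := by
        rw [map_mul, map_inv, map_mul, map_mul, hT, show theta (ofSim (incl s)) = isoAut s from rfl,
          hds s hs hsx, mul_inv_cancel]
      obtain ⟨c, hc0, hc⟩ := (theta_eq_one_iff S _).1 h1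
      have hT' := semi_spec T
      have hcomm : ∀ v, T.1 ((s.1 : Matrix ι ι F) *ᵥ v) = c • ((s.1 : Matrix ι ι F) *ᵥ T.1 v) := fun v => by
        have h3 := hc ((ofSim (incl s) * T).1 v)
        have h4 : (T * ofSim (incl s)).1 v = c • ((ofSim (incl s) * T).1 v) := by
          have e : (T * ofSim (incl s) * (ofSim (incl s) * T)⁻¹) * (ofSim (incl s) * T) = T * ofSim (incl s) :=
            inv_mul_cancel_right _ _
          rw [← e]
          exact h3
        exact h4
      have hc2 : c * c = 1 := by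
        obtain ⟨v, hv⟩ := exists_quad_one_ne S
        have e1 := congrArg Q (hcomm v)
        rw [hT'.quad, show Q ((s.1 : Matrix ι ι F) *ᵥ v) = Q v from s.2 v v, QuadraticMap.map_smul, smul_eq_mul,
          show Q ((s.1 : Matrix ι ι F) *ᵥ T.1 v) = Q (T.1 v) from s.2 (T.1 v) v, hT'.quad] at e1
        exact (mul_eq_right₀ (mul_ne_zero hT'.ne ((map_ne_zero (sigT T)).2 hv))).1 e1.symm
      have happ : ∀ v, T.1 v = (g : Matrix ι ι F) *ᵥ fun i => sigT T (v i) := fun v => by
        rw [← ofPair_apply hg, hgT]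
      have hmat : (g : Matrix ι ι F) * (s.1 : Matrix ι ι F).map (sigT T) =
          c • ((s.1 : Matrix ι ι F) * (g : Matrix ι ι F)) := by
        refine Matrix.toLin'.injective (LinearMap.ext fun w => ?_)
        obtain ⟨v, rfl⟩ : ∃ v : V, w = fun i => sigT T (v i) :=
          ⟨fun i => (sigT T).symm (w i), funext fun i => ((sigT T).apply_symm_apply _).symm⟩
        have := hcomm v
        rw [happ, happ] at this
        rw [Matrix.toLin'_apply, Matrix.toLin'_apply, Matrix.smul_mulVec, ← Matrix.mulVec_mulVec,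
          ← Matrix.mulVec_mulVec]
        refine Eq.trans ?_ this
        congr 1
        funext i
        exact (RingHom.map_mulVec (sigT T : F →+* F) _ v i).symm
      have htr : sigT T (s.1 : Matrix ι ι F).trace = c * (s.1 : Matrix ι ι F).trace := by
        have e : (s.1 : Matrix ι ι F).map (sigT T) =
            c • ((g⁻¹ : GL ι F).1 * ((s.1 : Matrix ι ι F) * (g : Matrix ι ι F))) := by
          rw [← Matrix.mul_smul, ← hmat, ← mul_assoc, ← Units.val_mul, inv_mul_cancel, Units.val_one, one_mul]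
        have e1 := congrArg Matrix.trace e
        rw [Matrix.trace_smul, Matrix.trace_mul_comm, mul_assoc, ← Units.val_mul, mul_inv_cancel, Units.val_one,
          mul_one, smul_eq_mul] at e1
        rw [← e1]
        simp [Matrix.trace, map_sum]
      rcases mul_self_eq_one_iff.1 hc2 with rfl | rfl
      · exact fix_of_sign h2 hsj hodd (Or.inl (by rw [htr, one_mul]))
      · exact fix_of_sign h2 hsj hodd (Or.inr (by rw [htr, neg_one_mul]))
    rw [sigHom_apply S]
    have h0 : sigT T C0 = C0 := by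
      obtain ⟨s, hs, hsx, htr⟩ := hw 0
      rw [mul_zero, mul_zero, add_zero] at htr
      exact htr ▸ hfix s hs hsx
    have hsqs : ∀ b, sigT T (N0 * (b * b)) = N0 * (b * b) := fun b => by
      obtain ⟨s, hs, hsx, htr⟩ := hw b
      have := hfix s hs hsx
      rw [htr, map_add, h0] at this
      exact add_left_cancel this
    have hN : sigT T N0 = N0 := by have := hsqs 1; rwa [mul_one, mul_one] at this
    exact ringAut_eq_one_of_sq h2 fun b => by
      have := hsqs b
      rw [map_mul, hN] at this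
      exact mul_left_cancel₀ hN0 this
  obtain ⟨h, rfl⟩ := (sig_eq_one_iff S).1 hσ
  refine hR d hd ?_
  have hTd : simAut h = d.1 := hT
  obtain ⟨c, hc⟩ := (simAut_eq_one_iff S (h ^ Nat.card D)).1 (by rw [map_pow, hTd, hdj])
  have hsq : IsSquare (simMul S h : F) := by
    have h1 := congrArg (fun z => ((simMul S z : Fˣ) : F)) hc
    simp only [simMul_scal S, map_pow, Units.val_mul, Units.val_pow_eq_pow_val] at h1
    obtain ⟨j, hj⟩ := hodd
    rw [hj, pow_succ, pow_mul, sq, mul_pow] at h1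
    refine ⟨(c : F) / (simMul S h : F) ^ j, ?_⟩
    rw [div_mul_div_comm, h1, mul_div_cancel_left₀ _ (mul_ne_zero (pow_ne_zero _ (Units.ne_zero _)) (pow_ne_zero _ (Units.ne_zero _)))]
  obtain ⟨c', h', hh⟩ := simMul_sq_cases S hk h2 hsq
  refine ⟨h', ?_⟩
  rw [← hTd, hh, map_mul, (simAut_eq_one_iff S (scalSim c')).2 ⟨c', rfl⟩, one_mul]
  rfl

end Cfsg.Agent.AutPOmega
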