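import Cfsg.Agent.Lib.AutPOmega.Groups

/-!
# The layers of the group of outer classes of similarities
-/

set_option autoImplicit false
set_option linter.unusedSectionVars false

namespace Cfsg.Agent.AutPOmega

open Cfsg.Agent Cfsg.Agent.TransvMax Cfsg.Agent.QMax
open scoped Matrix

variable {ι : Type} [Fintype ι] [DecidableEq ι] {F : Type*} [Field F] [Fintype F]
  {Q : QuadraticForm F (ι → F)}

local notation "SimQ" => Cfsg.Geo.quadSimilarityGroup (F := F) (DFunLike.coe Q)
local notation "IsoQ" => Cfsg.isometryGroup F (DFunLike.coe Q)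
local notation "OutQ" => Cfsg.Out (Cfsg.POmega F (DFunLike.coe Q))

variable (S : QSetting Q) {k : ℕ} (hk : Fintype.card ι = 2 * k) (h2 : (2 : F) ≠ 0)
  {d : Cfsg.Geo.quadSimilarityGroup (F := F) ⇑Q} {g : ℕ} (D : EvenData Q S d g)

include S hk h2 D

theorem pso_map {v : ι → F} (hv : Q v ≠ 0) (hw : Q ((d.1 : Matrix ι ι F) *ᵥ v) ≠ 0)
    (hsq : IsSquare (Q v)) (hns : ¬ IsSquare (Q ((d.1 : Matrix ι ι F) *ᵥ v))) :
    (((Cfsg.psoAut F ⇑Q).map (QuotientGroup.mk' (Cfsg.Inn (Cfsg.POmega F ⇑Q)))) : Set OutQ) =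
      {1, outI (OrthRows.rf Q v hv) * outI (OrthRows.rf Q _ hw)} := by
  rw [psoAut_eq]
  ext y
  constructor
  · rintro ⟨_, ⟨x, hx, rfl⟩, rfl⟩
    exact (outI_proper S hk h2 D hv hw hsq hns hx)
  · rintro (rfl | rfl)
    · exact one_mem _
    · refine ⟨_, ⟨OrthRows.rf Q v hv * OrthRows.rf Q _ hw, ?_, rfl⟩, ?_⟩
      · show Matrix.GeneralLinearGroup.det ((OrthRows.rf Q v hv).1 * (OrthRows.rf Q _ hw).1) = 1
        rw [map_mul, OrthRows.det_rf, OrthRows.det_rf, neg_one_mul, neg_neg]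
      · rw [map_mul, map_mul]
        rfl

theorem relIndex_pso :
    (g = 2 → (Cfsg.Inn (Cfsg.POmega F ⇑Q)).relIndex (Cfsg.psoAut F ⇑Q) = 1) ∧
      (g = 4 → (Cfsg.Inn (Cfsg.POmega F ⇑Q)).relIndex (Cfsg.psoAut F ⇑Q) = 2) := by
  obtain ⟨v, hv, hw, hsq, hns⟩ := exists_vec S hk h2 D
  let ψ := (QuotientGroup.mk' (Cfsg.Inn (Cfsg.POmega F ⇑Q))).comp (Cfsg.psoAut F ⇑Q).subtype
  have hk' : ψ.ker = (Cfsg.Inn (Cfsg.POmega F ⇑Q)).subgroupOf (Cfsg.psoAut F ⇑Q) := by
    ext x
    exact QuotientGroup.eq_one_iff (x.1)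
  have hr : ψ.range = (Cfsg.psoAut F ⇑Q).map (QuotientGroup.mk' (Cfsg.Inn (Cfsg.POmega F ⇑Q))) := by
    rw [MonoidHom.range_comp, Subgroup.range_subtype]
  have key : (Cfsg.Inn (Cfsg.POmega F ⇑Q)).relIndex (Cfsg.psoAut F ⇑Q) =
      ({1, outI (OrthRows.rf Q v hv) * outI (OrthRows.rf Q _ hw)} : Set OutQ).ncard := by
    rw [Subgroup.relIndex, ← hk', Subgroup.index_ker, hr, ← pso_map S hk h2 D hv hw hsq hns,
      ← Nat.card_coe_set_eq]
    rfl
  refine ⟨fun hg => ?_, fun hg => ?_⟩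
  · rw [key, ← rf_eq_of_two S hk h2 D hg hv hw, outI_rf_sq S hv, Set.pair_eq_singleton,
      Set.ncard_singleton]
  · rw [key, Set.ncard_pair]
    intro h
    exact rf_ne_of_four S hk h2 D hg hv hw hsq hns ((inv_eq_of_mul_eq_one_right (outI_rf_sq S hv)).symm.trans
      (inv_eq_of_mul_eq_one_right h.symm))

set_option maxHeartbeats 2000000 in
/-- Modulo the special orthogonal part the similarities form a four-group. -/
theorem pgo_mod_pso :
    ∃ φ : ↥(Cfsg.pgoAut F ⇑Q) →* Multiplicative (ZMod 2 × ZMod 2), Function.Surjective φ ∧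
      φ.ker = (Cfsg.psoAut F ⇑Q).subgroupOf (Cfsg.pgoAut F ⇑Q) := by
  classical
  have hd := S.dim
  let sgn : SimQ →* ℤˣ := MonoidHom.mk' (fun x => if epsS S k x = 1 then 1 else -1) fun x y => by
    have hne := neg_one_ne_one S hk h2
    rw [map_mul]
    rcases epsS_cases S hk h2 x with h | h <;> rcases epsS_cases S hk h2 y with h' | h' <;>
      simp [h, h', hne]
  let χ : SimQ →* ℤˣ := ((quadraticChar F).toUnitHom).comp (simMul S)
  have hχ : ∀ x, χ x = 1 ↔ IsSquare (simMul S x : F) := fun x => by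
    rw [← quadraticChar_one_iff_isSquare (Units.ne_zero (simMul S x)), Units.ext_iff]
    rfl
  have hsgn : ∀ x, sgn x = 1 ↔ epsS S k x = 1 := fun x => by
    show (if epsS S k x = 1 then (1 : ℤˣ) else -1) = 1 ↔ _
    split_ifs with h <;> simp [h]
  have e2 : ℤˣ ≃* Multiplicative (ZMod 2) := mulEquivOfPrimeCardEq (p := 2) (by simp) (by simp)
  let f : SimQ →* Multiplicative (ZMod 2 × ZMod 2) :=
    ((MulEquiv.prodMultiplicative (ZMod 2) (ZMod 2)).symm.toMonoidHom.comp
      ((e2.prodCongr e2).toMonoidHom)).comp (χ.prod sgn)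
  have hf : ∀ x, f x = 1 ↔ IsSquare (simMul S x : F) ∧ epsS S k x = 1 := fun x => by
    rw [MonoidHom.comp_apply, MonoidHom.comp_apply, MulEquiv.toMonoidHom_eq_coe, MonoidHom.coe_coe,
      MulEquiv.map_eq_one_iff, MulEquiv.toMonoidHom_eq_coe, MonoidHom.coe_coe, MulEquiv.map_eq_one_iff,
      MonoidHom.prod_apply, Prod.mk_eq_one, hχ, hsgn]
  obtain ⟨v, hv⟩ := OrthRows.exists_norm_all S.nondeg (by omega) (one_ne_zero (α := F))
  have hv0 : Q v ≠ 0 := by rw [hv]; exact one_ne_zero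
  have hfsurj : Function.Surjective f := by
    have h1 : Function.Surjective (χ.prod sgn) := by
      have hd' : χ d = -1 := (Int.units_eq_one_or _).resolve_left fun h => D.nsq ((hχ d).1 h)
      have hr : χ.prod sgn (incl (OrthRows.rf Q v hv0)) = (1, -1) := by
        refine Prod.ext ((hχ _).2 ?_) ((Int.units_eq_one_or _).resolve_left fun h => ?_)
        · rw [simMul_incl S, Units.val_one]; exact IsSquare.one
        · exact neg_one_ne_one S hk h2 ((epsS_rf S hk h2 hv0).symm.trans ((hsgn _).1 h))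
      have hdr : χ.prod sgn (d * incl (OrthRows.rf Q v hv0)) = (-1, -sgn d) := by
        rw [map_mul, hr, MonoidHom.prod_apply, hd']
        simp
      rintro ⟨s, t⟩
      rcases Int.units_eq_one_or s with rfl | rfl
      · rcases Int.units_eq_one_or t with rfl | rfl
        · exact ⟨1, map_one _⟩
        · exact ⟨_, hr⟩
      · by_cases ht : t = sgn d
        · exact ⟨d, by rw [MonoidHom.prod_apply, hd', ht]⟩
        · refine ⟨_, hdr.trans ?_⟩
          rcases Int.units_eq_one_or t with rfl | rfl <;> rcases Int.units_eq_one_or (sgn d) with hs | hs <;>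
            rw [hs] at ht ⊢ <;> simp_all
    intro z
    obtain ⟨y, rfl⟩ := (MulEquiv.prodMultiplicative (ZMod 2) (ZMod 2)).symm.surjective z
    obtain ⟨w, rfl⟩ := (e2.prodCongr e2).surjective y
    obtain ⟨x, rfl⟩ := h1 w
    exact ⟨x, rfl⟩
  have hle : (simAut (Q := Q)).rangeRestrict.ker ≤ f.ker := fun x hx => by
    rw [MonoidHom.ker_rangeRestrict, MonoidHom.mem_ker, simAut_eq_one_iff S] at hx
    obtain ⟨c, rfl⟩ := hx
    refine (hf _).2 ⟨?_, epsS_scal S hk c⟩
    rw [simMul_scal S, Units.val_mul]; exact ⟨_, rfl⟩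
  let e := MulEquiv.subgroupCongr (pgoAut_eq (Q := Q))
  let φ₀ := (simAut (Q := Q)).rangeRestrict.liftOfSurjective (MonoidHom.rangeRestrict_surjective _) ⟨f, hle⟩
  have hφ : ∀ x, φ₀ ((simAut (Q := Q)).rangeRestrict x) = f x := fun x =>
    MonoidHom.liftOfRightInverse_comp_apply _ _ _ _ x
  refine ⟨φ₀.comp e.toMonoidHom, fun z => ?_, ?_⟩
  · obtain ⟨x, rfl⟩ := hfsurj z
    exact ⟨e.symm ((simAut (Q := Q)).rangeRestrict x), by
      rw [MonoidHom.comp_apply, MulEquiv.toMonoidHom_eq_coe, MonoidHom.coe_coe, MulEquiv.apply_symm_apply,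
        hφ]⟩
  · ext y
    obtain ⟨x, hx⟩ := MonoidHom.rangeRestrict_surjective (simAut (Q := Q)) (e y)
    have h1 : (φ₀.comp e.toMonoidHom) y = f x := by show φ₀ (e y) = f x; rw [← hx, hφ]
    have h2' : (y : MulAut (Cfsg.POmega F ⇑Q)) = simAut x := (congrArg Subtype.val hx).symm
    rw [MonoidHom.mem_ker, h1, hf, Subgroup.mem_subgroupOf, h2', psoAut_eq]
    constructor
    · rintro ⟨h1, h3⟩
      obtain ⟨c, h', rfl⟩ := simMul_sq_cases S hk h2 h1
      rw [map_mul, epsS_scal S hk, one_mul, epsS_incl S] at h3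
      exact ⟨h', h3, by rw [map_mul, (simAut_eq_one_iff S _).2 ⟨c, rfl⟩, one_mul]; rfl⟩
    · rintro ⟨h', h3, he⟩
      have h4 : simAut ((incl h')⁻¹ * x) = 1 := by rw [map_mul, map_inv, ← he]; exact inv_mul_cancel _
      obtain ⟨c, hc⟩ := (simAut_eq_one_iff S _).1 h4
      have hx : x = incl h' * scalSim c := by rw [hc, mul_inv_cancel_left]
      rw [hx, map_mul, map_mul, simMul_incl S, one_mul, epsS_scal S hk, mul_one, epsS_incl S, simMul_scal S,
        Units.val_mul]
      exact ⟨⟨_, rfl⟩, h3⟩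

/-- The image in `Out` of the proper similarities. -/
theorem proper_map (hd1 : epsS S k d = 1) {v : ι → F} (hv : Q v ≠ 0)
    (hw : Q ((d.1 : Matrix ι ι F) *ᵥ v) ≠ 0) (hsq : IsSquare (Q v))
    (hns : ¬ IsSquare (Q ((d.1 : Matrix ι ι F) *ᵥ v))) {y : OutQ}
    (hy : y ∈ ((epsS S k).ker.map (outS (Q := Q)))) :
    y = 1 ∨ y = outI (OrthRows.rf Q v hv) * outI (OrthRows.rf Q _ hw) ∨ y = outS d ∨
      y = outS d * (outI (OrthRows.rf Q v hv) * outI (OrthRows.rf Q _ hw)) := by
  obtain ⟨x, hx, rfl⟩ := hy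
  by_cases h : IsSquare (simMul S x : F)
  · exact (outS_proper S hk h2 D hv hw hsq hns h hx).imp_right Or.inl
  · have h1 : IsSquare (simMul S (d⁻¹ * x) : F) := by
      rw [map_mul, map_inv, Units.val_mul,
        Spinor.isSquare_mul_iff' (Units.ne_zero _) (Units.ne_zero _)]
      refine iff_of_false ?_ h
      rw [Units.val_inv_eq_inv_val, isSquare_inv]
      exact D.nsq
    have he : epsS S k (d⁻¹ * x) = 1 := by rw [map_mul, map_inv, hd1, inv_one, one_mul]; exact hx
    rcases outS_proper S hk h2 D hv hw hsq hns h1 he with e | e <;>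
      rw [map_mul, map_inv, inv_mul_eq_iff_eq_mul] at e
    · exact Or.inr (Or.inr (Or.inl (by rw [e, mul_one])))
    · exact Or.inr (Or.inr (Or.inr e))

set_option maxHeartbeats 2000000 in
/-- The proper similarities modulo inner automorphisms. -/
theorem proper_groups (hd1 : epsS S k d = 1) {v : ι → F} (hv : Q v ≠ 0)
    (hw : Q ((d.1 : Matrix ι ι F) *ᵥ v) ≠ 0) (hsq : IsSquare (Q v))
    (hns : ¬ IsSquare (Q ((d.1 : Matrix ι ι F) *ᵥ v))) :
    (g = 2 → Nonempty ((epsS S k).ker.map (outS (Q := Q)) ≃* Multiplicative (ZMod 2))) ∧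
    (g = 4 → outS d * outS d = outI (OrthRows.rf Q v hv) * outI (OrthRows.rf Q _ hw) →
      Nonempty ((epsS S k).ker.map (outS (Q := Q)) ≃* Multiplicative (ZMod 4))) ∧
    (g = 4 → outS d * outS d = 1 →
      Nonempty ((epsS S k).ker.map (outS (Q := Q)) ≃* Multiplicative (ZMod 2 × ZMod 2))) := by
  set K := (epsS S k).ker.map (outS (Q := Q))
  set z := outI (OrthRows.rf Q v hv) * outI (OrthRows.rf Q ((d.1 : Matrix ι ι F) *ᵥ v) hw) with hz
  have hdK : outS d ∈ K := ⟨d, hd1, rfl⟩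
  have hzK : z ∈ K := ⟨incl (OrthRows.rf Q v hv * OrthRows.rf Q _ hw), by
    show epsS S k (incl _) = 1
    rw [map_mul, map_mul, epsS_rf S hk h2, epsS_rf S hk h2, neg_one_mul, neg_neg], by
    rw [map_mul, map_mul]; rfl⟩
  have hcases : ∀ y ∈ K, y = 1 ∨ y = z ∨ y = outS d ∨ y = outS d * z :=
    fun y hy => proper_map S hk h2 D hd1 hv hw hsq hns hy
  have hdne : ∀ x, outS d ≠ outI x := outS_d_notMem_outI S hk h2 D
  have hd0 : outS d ≠ 1 := by rw [← map_one (outI (Q := Q))]; exact hdne 1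
  have mk : ∀ (H : Type) [Group H] (φ : H →* OutQ), Function.Injective φ → φ.range = K →
      Nonempty (K ≃* H) := fun H _ φ hi he =>
    ⟨((MonoidHom.ofInjective hi).trans (MulEquiv.subgroupCongr he)).symm⟩
  have hzz : z * z = 1 := by
    rw [hz, (outI_commute _ _).mul_mul_mul_comm, outI_rf_sq S, outI_rf_sq S, one_mul]
  refine ⟨fun hg => ?_, fun hg hdd => ?_, fun hg hdd => ?_⟩
  · have hz1 : z = 1 := by rw [hz, ← rf_eq_of_two S hk h2 D hg hv hw, outI_rf_sq S hv]
    have hdd : outS d * outS d = 1 := by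
      rcases outS_sq_mem S hk h2 D hv hw hsq hns d with h | h
      · exact h
      · rw [h]; exact hz1
    have hord := order_two_of_ne hdd hd0
    refine mk _ (cycHom 2 (outS d) (hord ▸ pow_orderOf_eq_one _)) (cycHom_injective 2 _ hord)
      (le_antisymm ?_ fun y hy => ?_)
    · rintro _ ⟨u, rfl⟩
      obtain ⟨i, rfl⟩ := Multiplicative.ofAdd.surjective u
      rw [cycHom_apply]
      exact pow_mem hdK _
    · rcases hcases y hy with h | h | h | h
      · rw [h]; exact one_mem _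
      · rw [h, hz1]; exact one_mem _
      · exact ⟨Multiplicative.ofAdd 1, by rw [cycHom_apply, h, show (1 : ZMod 2).val = 1 from rfl, pow_one]⟩
      · exact ⟨Multiplicative.ofAdd 1, by
          rw [cycHom_apply, h, hz1, mul_one, show (1 : ZMod 2).val = 1 from rfl, pow_one]⟩
  · have hz1 : z ≠ 1 := fun h => rf_ne_of_four S hk h2 D hg hv hw hsq hns
      ((inv_eq_of_mul_eq_one_right (outI_rf_sq S hv)).symm.trans (inv_eq_of_mul_eq_one_right h))
    have hord : orderOf (outS d) = 4 := order_four (by rw [hdd]; exact hz1) (by rw [hdd]; exact hzz)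
    refine mk _ (cycHom 4 (outS d) (hord ▸ pow_orderOf_eq_one _)) (cycHom_injective 4 _ hord)
      (le_antisymm ?_ fun y hy => ?_)
    · rintro _ ⟨u, rfl⟩
      obtain ⟨i, rfl⟩ := Multiplicative.ofAdd.surjective u
      rw [cycHom_apply]
      exact pow_mem hdK _
    · have hp : ∀ i : ℕ, outS d ^ i ∈ (cycHom 4 (outS d) (hord ▸ pow_orderOf_eq_one _)).range :=
        fun i => ⟨_, cycHom_cast 4 (outS d) _ i⟩
      rcases hcases y hy with h | h | h | h <;> subst h
      · exact one_mem _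
      · rw [← hdd, ← sq]; exact hp 2
      · have := hp 1; rwa [pow_one] at this
      · rw [← hdd, ← mul_assoc, show outS d * outS d * outS d = outS d ^ 3 by rw [pow_succ, sq]]; exact hp 3
  · have hz1 : z ≠ 1 := fun h => rf_ne_of_four S hk h2 D hg hv hw hsq hns
      ((inv_eq_of_mul_eq_one_right (outI_rf_sq S hv)).symm.trans (inv_eq_of_mul_eq_one_right h))
    have hc : Commute (outS d) z := by
      have h1 : outS d * z ∈ K := mul_mem hdK hzK
      have h3 : z * outS d ∈ K := mul_mem hzK hdK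
      show outS d * z = z * outS d
      rcases hcases _ h3 with h | h | h | h
      · exact absurd ((eq_inv_of_mul_eq_one_right h).trans (inv_eq_of_mul_eq_one_right hzz)) (by
          rw [hz, ← map_mul]; exact hdne _)
      · exact absurd (mul_eq_left.1 h) hd0
      · exact absurd (mul_eq_right.1 h) hz1
      · exact h.symm
    refine mk _ (pairHom 2 2 (outS d) z _ _ hc) (pairHom_injective 2 2 (order_two_of_ne hdd hd0)
      (order_two_of_ne hzz hz1) hc fun i hi => ?_) (le_antisymm ?_ fun y hy => ?_)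
    · by_contra hne
      rcases Nat.even_or_odd i with ⟨j, rfl⟩ | ⟨j, rfl⟩
      · exact hne (by rw [← two_mul, pow_mul, sq, hzz, one_pow])
      · rw [pow_succ, pow_mul, sq, hzz, one_pow, one_mul] at hi
        obtain ⟨n, hn⟩ := hi
        rcases Int.even_or_odd n with ⟨j, rfl⟩ | ⟨j, rfl⟩
        · exact hz1 (by rw [← hn]; show outS d ^ (j + j) = 1; rw [← two_mul, zpow_mul, zpow_two, hdd, one_zpow])
        · refine hdne (OrthRows.rf Q v hv * OrthRows.rf Q ((d.1 : Matrix ι ι F) *ᵥ v) hw) ?_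
          rw [map_mul, ← hz, ← hn]
          show outS d = outS d ^ (2 * j + 1)
          rw [zpow_add, zpow_mul, zpow_two, hdd, one_zpow, one_mul, zpow_one]
    · rintro _ ⟨u, rfl⟩
      obtain ⟨⟨i, j⟩, rfl⟩ := Multiplicative.ofAdd.surjective u
      rw [pairHom_apply]
      exact mul_mem (pow_mem hdK _) (pow_mem hzK _)
    · have hp : ∀ i j : ZMod 2, outS d ^ i.val * z ^ j.val ∈
          (pairHom 2 2 (outS d) z (by rw [sq]; exact hdd) (by rw [sq]; exact hzz) hc).range :=
        fun i j => ⟨_, pairHom_apply 2 2 _ _ _ _ _ i j⟩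
      rcases hcases y hy with h | h | h | h <;> subst h
      · exact one_mem _
      · simpa [show (1 : ZMod 2).val = 1 from rfl] using hp 0 1
      · simpa [show (1 : ZMod 2).val = 1 from rfl] using hp 1 0
      · simpa [show (1 : ZMod 2).val = 1 from rfl] using hp 1 1

end Cfsg.Agent.AutPOmega
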