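import Cfsg.Agent.Lib.AutPOmega.GraphInvol
import Cfsg.Agent.Lib.AutPOmega.Layers
import Cfsg.Agent.Lib.AutPSp.Twisted

/-!
# Splitting of the classes of involutory graph automorphisms
-/

set_option autoImplicit false
set_option linter.unusedSectionVars false
set_option maxHeartbeats 1000000

namespace Cfsg.Agent.AutPOmega

open scoped Matrix
open Cfsg.Agent Cfsg.Agent.TransvMax Cfsg.Agent.QMax

variable {ι : Type} [Fintype ι] [DecidableEq ι] {F : Type*} [Field F] [Fintype F]
  {Q : QuadraticForm F (ι → F)}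

local notation "IsoQ" => Cfsg.isometryGroup F (DFunLike.coe Q)
local notation "SimQ" => Cfsg.Geo.quadSimilarityGroup (F := F) (DFunLike.coe Q)

/-- Reflections depend on the line only. -/
theorem rf_smul {v : ι → F} (hv : Q v ≠ 0) {t : F} (ht : t ≠ 0) (h' : Q (t • v) ≠ 0) :
    OrthRows.rf Q (t • v) h' = OrthRows.rf Q v hv := by
  refine Subtype.ext (Units.ext (Matrix.toLin'.injective (LinearMap.ext fun x => ?_)))
  rw [Matrix.toLin'_apply, Matrix.toLin'_apply, OrthRows.rf_val, OrthRows.rf_val,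
    FormsLib.reflectionMatrix_mulVec, FormsLib.reflectionMatrix_mulVec, FormsLib.reflHom_apply,
    FormsLib.reflHom_apply, QuadraticMap.polar_smul_right, QuadraticMap.map_smul, smul_eq_mul, smul_eq_mul,
    smul_smul]
  congr 2
  field_simp

/-- Conjugating a reflection by a similitude. -/
theorem simAut_conj_rf (g : SimQ) {v : ι → F} (hv : Q v ≠ 0) (hgv : Q ((g.1 : Matrix ι ι F) *ᵥ v) ≠ 0) :
    simAut g * simAut (incl (OrthRows.rf Q v hv)) * (simAut g)⁻¹ =
      simAut (incl (OrthRows.rf Q _ hgv)) := by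
  show theta (ofSim g) * theta (ofSim (incl (OrthRows.rf Q v hv))) * (theta (ofSim g))⁻¹ =
    theta (ofSim (incl (OrthRows.rf Q _ hgv)))
  rw [← map_inv, ← map_mul, ← map_mul]
  exact congrArg theta (semi_conj_refl (ofSim g) hv hgv)

variable (S : QSetting Q) {k : ℕ} (hk : Fintype.card ι = 2 * k) (h2 : (2 : F) ≠ 0)

include S hk h2

/-- An improper similitude with scalar square: the scalar is the multiplier. -/
theorem graph_sq (gγ : SimQ) (hε : epsS S k gγ ≠ 1) (hγ : simAut gγ * simAut gγ = 1) :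
    (∀ v, (gγ.1 : Matrix ι ι F) *ᵥ ((gγ.1 : Matrix ι ι F) *ᵥ v) = (simMul S gγ : F) • v) ∧
      LinearMap.det (Matrix.toLin' (gγ.1 : Matrix ι ι F)) = -(simMul S gγ : F) ^ k ∧
      (¬ IsSquare (simMul S gγ : F) → Odd k) := by
  have hdet : LinearMap.det (Matrix.toLin' (gγ.1 : Matrix ι ι F)) = -(simMul S gγ : F) ^ k := by
    have h1 := (epsS_cases S hk h2 gγ).resolve_left hε
    rw [epsS_apply, div_eq_iff_eq_mul, neg_one_mul] at h1
    have h3 := congrArg Units.val h1
    rw [Matrix.GeneralLinearGroup.val_det_apply, Units.val_neg, Units.val_pow_eq_pow_val] at h3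
    rw [LinearMap.det_toLin', h3]
  rw [← map_mul] at hγ
  obtain ⟨c, hc⟩ := (simAut_eq_one_iff S _).1 hγ
  have hf : ∀ v, Matrix.toLin' (gγ.1 : Matrix ι ι F) (Matrix.toLin' (gγ.1 : Matrix ι ι F) v) = (c : F) • v := fun v => by
    rw [Matrix.toLin'_apply, Matrix.toLin'_apply, ← scalSim_apply (Q := Q) c v, hc, Matrix.mulVec_mulVec]
    rfl
  have hQ : ∀ v, Q (Matrix.toLin' (gγ.1 : Matrix ι ι F) v) = (simMul S gγ : F) * Q v := fun v => by
    rw [Matrix.toLin'_apply]; exact simMul_spec S gγ v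
  have hne : (2 : F) * (simMul S gγ : F) ^ k ≠ 0 := mul_ne_zero h2 (pow_ne_zero _ (Units.ne_zero _))
  rcases sq_scalar_cases S hk hQ hf with h | h
  · refine ⟨fun v => ?_, hdet, fun hns => ?_⟩
    · rw [← h, ← hf v, Matrix.toLin'_apply, Matrix.toLin'_apply]
    · rcases Nat.even_or_odd k with he | ho
      · exfalso
        have h1 := det_sq_nonsq hf (h ▸ hns) (k := k) (by rw [Module.finrank_pi, hk])
        rw [hdet, h, he.neg_pow] at h1
        exact hne (by linear_combination -h1)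
      · exact ho
  · exfalso
    rw [h] at hf
    have h1 := det_skew S hk h2 hQ hf (Units.ne_zero _)
    rw [hdet] at h1
    exact hne (by linear_combination -h1)

/-- A square multiplier gives an isometric involution of determinant `-1`. -/
theorem graph_invol (gγ : SimQ) (hε : epsS S k gγ ≠ 1) (hγ : simAut gγ * simAut gγ = 1)
    {r : F} (hr : (simMul S gγ : F) = r * r) :
    let J := r⁻¹ • Matrix.toLin' (gγ.1 : Matrix ι ι F)
    (∀ v, Q (J v) = Q v) ∧ (∀ v, J (J v) = v) ∧ Odd (Module.finrank F (eig J (-1))) ∧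
      Odd (Module.finrank F (eig J 1)) := by
  intro J
  obtain ⟨hf, hdet, -⟩ := graph_sq S hk h2 gγ hε hγ
  have hr0 : r ≠ 0 := fun e => Units.ne_zero (simMul S gγ) (by rw [hr, e, mul_zero])
  have hQ : ∀ v, Q (J v) = Q v := fun v => by
    show Q (r⁻¹ • Matrix.toLin' (gγ.1 : Matrix ι ι F) v) = Q v
    rw [QuadraticMap.map_smul, Matrix.toLin'_apply, simMul_spec S, hr, smul_eq_mul]
    field_simp
  have hJ : ∀ v, J (J v) = v := fun v => by
    show r⁻¹ • Matrix.toLin' (gγ.1 : Matrix ι ι F) (r⁻¹ • Matrix.toLin' (gγ.1 : Matrix ι ι F) v) = v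
    rw [map_smul, Matrix.toLin'_apply, Matrix.toLin'_apply, hf, hr, smul_smul, smul_smul,
      show r⁻¹ * r⁻¹ * (r * r) = 1 by field_simp, one_smul]
  have h1 := det_invol h2 hJ
  rw [show LinearMap.det J = -1 by
    show LinearMap.det (r⁻¹ • Matrix.toLin' (gγ.1 : Matrix ι ι F)) = -1
    rw [LinearMap.det_smul, hdet, Module.finrank_pi, hk, hr, ← sq, ← pow_mul, inv_pow, mul_neg,
      inv_mul_cancel₀ (pow_ne_zero _ hr0)]] at h1
  have ho : Odd (Module.finrank F (eig J (-1))) := by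
    rcases Nat.even_or_odd (Module.finrank F (eig J (-1))) with he | ho
    · rw [he.neg_one_pow] at h1
      exact absurd (show (2 : F) = 0 by linear_combination -h1) h2
    · exact ho
  refine ⟨hQ, hJ, ho, ?_⟩
  have h3 := finrank_eig_add h2 hJ
  rw [Module.finrank_pi, hk] at h3
  obtain ⟨j, hj⟩ := ho
  exact ⟨k - j - 1, by omega⟩

/-- In dimension divisible by four the centraliser has only square multipliers. -/
theorem graph_centralizer_square (gγ : SimQ) (hε : epsS S k gγ ≠ 1) (hγ : simAut gγ * simAut gγ = 1)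
    (he : Even k) {h : SimQ} (hc : Commute (simAut h) (simAut gγ)) : IsSquare (simMul S h : F) := by
  obtain ⟨hf, -, hodd⟩ := graph_sq S hk h2 gγ hε hγ
  obtain ⟨r, hr⟩ : IsSquare (simMul S gγ : F) := by
    by_contra hns
    exact (Nat.not_odd_iff_even.2 he) (hodd hns)
  obtain ⟨hQ, hJ, ho, ho'⟩ := graph_invol S hk h2 gγ hε hγ hr
  set J := r⁻¹ • Matrix.toLin' (gγ.1 : Matrix ι ι F)
  obtain ⟨c, hcc⟩ := (simAut_eq_one_iff S ((gγ * h)⁻¹ * (h * gγ))).1 (by
    rw [map_mul, map_inv, map_mul, map_mul, hc.eq, inv_mul_cancel])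
  have hcomm : ∀ v, (h.1 : Matrix ι ι F) *ᵥ ((gγ.1 : Matrix ι ι F) *ᵥ v) =
      (c : F) • ((gγ.1 : Matrix ι ι F) *ᵥ ((h.1 : Matrix ι ι F) *ᵥ v)) := fun v => by
    have e : h * gγ = gγ * h * scalSim c := by rw [hcc, mul_inv_cancel_left]
    rw [Matrix.mulVec_mulVec, show (h.1 : Matrix ι ι F) * (gγ.1 : Matrix ι ι F) =
        (gγ.1 : Matrix ι ι F) * (h.1 : Matrix ι ι F) * ((scalSim (Q := Q) c).1 : Matrix ι ι F) from
      congrArg (fun z : SimQ => (z.1 : Matrix ι ι F)) e, ← Matrix.mulVec_mulVec,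
      show ((scalSim (Q := Q) c).1 : Matrix ι ι F) *ᵥ v = (c : F) • v from scalSim_apply c v,
      Matrix.mulVec_smul, Matrix.mulVec_mulVec]
  set H := Matrix.toLin' (h.1 : Matrix ι ι F)
  have hHJ : ∀ v, H (J v) = (c : F) • J (H v) := fun v => by
    simp only [H, J, LinearMap.smul_apply, Matrix.toLin'_apply, Matrix.mulVec_smul, hcomm]
    rw [smul_comm]
  have hHQ : ∀ v, Q (H v) = (simMul S h : F) * Q v := fun v => by
    rw [Matrix.toLin'_apply]; exact simMul_spec S h v
  have hinj : Function.Injective H := fun x y e => by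
    simp only [H, Matrix.toLin'_apply] at e
    exact (glPerm h.1).injective e
  have hc2 : (c : F) * c = 1 := by
    obtain ⟨x, hx⟩ := exists_quad_one_ne S
    have h1 := hHJ (J x)
    rw [hJ, hHJ, map_smul, hJ, smul_smul] at h1
    have hx0 : H x ≠ 0 := fun e => hx (by
      have h3 := hHQ x
      rw [e, map_zero] at h3
      exact (mul_eq_zero.1 h3.symm).resolve_left (Units.ne_zero _))
    exact smul_left_injective F hx0 (h1.symm.trans (one_smul F _).symm)
  have hmap : ∀ (e : F) x, x ∈ eig J e → H x ∈ eig J ((c : F) * e) := fun e x hx => by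
    rw [mem_eig] at hx ⊢
    have h1 := hHJ x
    rw [hx, map_smul] at h1
    have h3 := congrArg (fun z => (c : F) • z) h1
    simp only [smul_smul, hc2, one_smul] at h3
    exact h3.symm
  rcases mul_self_eq_one_iff.1 hc2 with hc1 | hc1
  · refine isSquare_of_odd S (Units.ne_zero _) hHQ (eig_nondeg S h2 hQ hJ (Or.inl rfl)) (fun x hx => ?_) ho'
    simpa [hc1] using hmap 1 x hx
  · exfalso
    have hle : ∀ e e' : F, (c : F) * e = e' → Module.finrank F (eig J e) ≤ Module.finrank F (eig J e') := by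
      intro e e' hee
      refine ((Submodule.equivMapOfInjective H hinj (eig J e)).finrank_eq).trans_le (Submodule.finrank_mono ?_)
      rintro _ ⟨x, hx, rfl⟩
      exact hee ▸ hmap e x hx
    have h1 := hle 1 (-1) (by rw [hc1, mul_one])
    have h3 := hle (-1) 1 (by rw [hc1, neg_mul_neg, one_mul])
    have h4 := finrank_eig_add h2 hJ
    rw [Module.finrank_pi, hk] at h4
    exact (Nat.not_odd_iff_even.2 he) (by rwa [show Module.finrank F (eig J 1) = k by omega] at ho')

variable {d : Cfsg.Geo.quadSimilarityGroup (F := F) ⇑Q} {g : ℕ} (D : EvenData Q S d g) (hd1 : epsS S k d = 1)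

include D

/-- A rotation centralising the graph automorphism and outside the commutator classes. -/
theorem graph_rotation (gγ : SimQ) (hε : epsS S k gγ ≠ 1) (hγ : simAut gγ * simAut gγ = 1)
    {v : ι → F} (hv : Q v ≠ 0) (hw : Q ((d.1 : Matrix ι ι F) *ᵥ v) ≠ 0)
    (hsq : IsSquare (Q v)) (hns : ¬ IsSquare (Q ((d.1 : Matrix ι ι F) *ᵥ v))) :
    ∃ h : SimQ, epsS S k h = 1 ∧ Commute (simAut h) (simAut gγ) ∧
      outS h = outI (OrthRows.rf Q v hv) * outI (OrthRows.rf Q _ hw) := by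
  obtain ⟨hf, -, -⟩ := graph_sq S hk h2 gγ hε hγ
  have key : ∀ (u w : ι → F) (hu : Q u ≠ 0) (hw' : Q w ≠ 0), IsSquare (Q u) → ¬ IsSquare (Q w) →
      epsS S k (incl (OrthRows.rf Q u hu * OrthRows.rf Q w hw')) = 1 ∧
      outS (incl (OrthRows.rf Q u hu * OrthRows.rf Q w hw')) =
        outI (OrthRows.rf Q v hv) * outI (OrthRows.rf Q _ hw) := fun u w hu hw' hus hwn => by
    constructor
    · rw [map_mul, map_mul, epsS_rf S hk h2, epsS_rf S hk h2, neg_one_mul, neg_neg]
    · rw [← outI_rf_congr S hu hv (iff_of_true hus hsq), ← outI_rf_congr S hw' hw (iff_of_false hwn hns),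
        map_mul, map_mul]
      rfl
  have hμ0 := Units.ne_zero (simMul S gγ)
  by_cases hsμ : IsSquare (simMul S gγ : F)
  · obtain ⟨r, hr⟩ := hsμ
    have hr0 : r ≠ 0 := fun e => hμ0 (by rw [hr, e, mul_zero])
    obtain ⟨hQ, hJ, -, -⟩ := graph_invol S hk h2 gγ hε hγ hr
    set J := r⁻¹ • Matrix.toLin' (gγ.1 : Matrix ι ι F)
    obtain ⟨e, he, hdim⟩ : ∃ e : F, (e = 1 ∨ e = -1) ∧ 2 ≤ Module.finrank F (eig J e) := by
      have h4 := finrank_eig_add h2 hJ
      rw [Module.finrank_pi, hk] at h4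
      have := S.dim
      by_contra h
      push Not at h
      have := h 1 (Or.inl rfl)
      have := h (-1) (Or.inr rfl)
      omega
    have he0 : e ≠ 0 := by rcases he with rfl | rfl <;> simp
    obtain ⟨c, hc⟩ := FiniteField.exists_nonsquare (Spinor.ringChar_ne_two h2)
    have hc0 : c ≠ 0 := fun e' => hc (e' ▸ IsSquare.zero)
    have hnd := eig_nondeg S h2 hQ hJ he
    obtain ⟨u, hu, hQu⟩ := Spinor.exists_norm (Q := Q) hnd (Or.inl hdim) (one_ne_zero (α := F))
    obtain ⟨w, hw', hQw⟩ := Spinor.exists_norm (Q := Q) hnd (Or.inl hdim) hc0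
    have hu0 : Q u ≠ 0 := by rw [hQu]; exact one_ne_zero
    have hw0 : Q w ≠ 0 := by rw [hQw]; exact hc0
    obtain ⟨h1, h3⟩ := key u w hu0 hw0 (by rw [hQu]; exact IsSquare.one) (by rw [hQw]; exact hc)
    refine ⟨_, h1, ?_, h3⟩
    have hcomm : ∀ x ∈ eig J e, ∀ hx : Q x ≠ 0,
        Commute (simAut (incl (OrthRows.rf Q x hx))) (simAut gγ) := fun x hxJ hx => by
      have hgx : (gγ.1 : Matrix ι ι F) *ᵥ x = (r * e) • x := by
        have h5 := mem_eig.1 hxJ
        rw [LinearMap.smul_apply, Matrix.toLin'_apply, inv_smul_eq_iff₀ hr0, smul_smul] at h5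
        exact h5
      have hgx0 : Q ((gγ.1 : Matrix ι ι F) *ᵥ x) ≠ 0 := by
        rw [simMul_spec S]; exact mul_ne_zero hμ0 hx
      have h6 := simAut_conj_rf gγ hx hgx0
      simp only [hgx] at h6
      rw [rf_smul hx (mul_ne_zero hr0 he0)] at h6
      exact (mul_inv_eq_iff_eq_mul.1 h6).symm
    rw [map_mul, map_mul]
    exact (hcomm u hu hu0).mul_left (hcomm w hw' hw0)
  · obtain ⟨u, hQu, hperp⟩ := exists_norm_one_perp S hk h2 (f := Matrix.toLin' (gγ.1 : Matrix ι ι F))
      (fun x => by rw [Matrix.toLin'_apply]; exact simMul_spec S gγ x)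
      (fun x => by rw [Matrix.toLin'_apply, Matrix.toLin'_apply]; exact hf x) hsμ
    rw [Matrix.toLin'_apply] at hperp
    have hu0 : Q u ≠ 0 := by rw [hQu]; exact one_ne_zero
    set w := (gγ.1 : Matrix ι ι F) *ᵥ u with hwdef
    have hQw : Q w = (simMul S gγ : F) := by rw [hwdef, simMul_spec S, hQu, mul_one]
    have hw0 : Q w ≠ 0 := by rw [hQw]; exact hμ0
    obtain ⟨h1, h3⟩ := key u w hu0 hw0 (by rw [hQu]; exact IsSquare.one) (by rw [hQw]; exact hsμ)
    refine ⟨_, h1, ?_, h3⟩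
    rw [map_mul, map_mul]
    set A := simAut (incl (OrthRows.rf Q u hu0)) with hA
    set B := simAut (incl (OrthRows.rf Q w hw0)) with hB
    have hab : simAut gγ * A * (simAut gγ)⁻¹ = B := simAut_conj_rf gγ hu0 hw0
    have hgw : Q ((gγ.1 : Matrix ι ι F) *ᵥ w) ≠ 0 := by rw [simMul_spec S]; exact mul_ne_zero hμ0 hw0
    have hba : simAut gγ * B * (simAut gγ)⁻¹ = A := by
      rw [hB, simAut_conj_rf gγ hw0 hgw, hA]
      congr 1
      congr 1
      simp only [hwdef, hf]
      exact rf_smul hu0 hμ0 _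
    have hfix : ((incl (OrthRows.rf Q u hu0)).1 : Matrix ι ι F) *ᵥ w = w := by
      show ((OrthRows.rf Q u hu0).1 : Matrix ι ι F) *ᵥ w = w
      rw [OrthRows.rf_val, FormsLib.reflectionMatrix_mulVec, FormsLib.reflHom_apply, QuadraticMap.polar_comm,
        hperp, mul_zero, zero_smul, sub_zero]
    have hAB : A * B * A⁻¹ = B := by
      have hfx : Q (((incl (OrthRows.rf Q u hu0)).1 : Matrix ι ι F) *ᵥ w) ≠ 0 := by rw [hfix]; exact hw0
      rw [hA, hB, simAut_conj_rf _ hw0 hfx]
      simp only [hfix]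
    have hAB' : A * B = B * A := mul_inv_eq_iff_eq_mul.1 hAB
    show A * B * simAut gγ = simAut gγ * (A * B)
    rw [← mul_inv_eq_iff_eq_mul.1 (show simAut gγ * (A * B) * (simAut gγ)⁻¹ = A * B by
      rw [← mul_assoc, show simAut gγ * A * B * (simAut gγ)⁻¹ =
        simAut gγ * A * (simAut gγ)⁻¹ * (simAut gγ * B * (simAut gγ)⁻¹) by group, hab, hba, hAB'])]

include hd1

omit hd1 in
/-- The inner automorphisms lie under the proper similitudes. -/
theorem inn_le_proper : Cfsg.Inn (Cfsg.POmega F ⇑Q) ≤ (epsS S k).ker.map (simAut (Q := Q)) := by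
  rw [inn_eq]
  rintro _ ⟨t, ht, rfl⟩
  exact ⟨incl t, show epsS S k (incl t) = 1 by rw [epsS_incl S, det_omega S hk ht], rfl⟩

/-- The number of classes of the proper similitudes modulo inner automorphisms. -/
theorem card_proper (hg : g = 2 ∨ g = 4) :
    Nat.card ((epsS S k).ker.map (outS (Q := Q))) = g ∧
      ∀ x y, x ∈ (epsS S k).ker.map (outS (Q := Q)) → y ∈ (epsS S k).ker.map (outS (Q := Q)) →
        Commute x y := by
  obtain ⟨v, hv, hw, hsq, hns⟩ := exists_vec S hk h2 D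
  obtain ⟨hA, hB, hC⟩ := proper_groups S hk h2 D hd1 hv hw hsq hns
  have fin : ∀ (H : Type) [CommGroup H], Nat.card H = g → ((epsS S k).ker.map (outS (Q := Q)) ≃* H) →
      Nat.card ((epsS S k).ker.map (outS (Q := Q))) = g ∧
      ∀ x y, x ∈ (epsS S k).ker.map (outS (Q := Q)) → y ∈ (epsS S k).ker.map (outS (Q := Q)) →
        Commute x y := fun H _ hH e =>
    ⟨(Nat.card_congr e.toEquiv).trans hH, fun x y hx hy => show x * y = y * x from
      congrArg Subtype.val (e.injective (a₁ := ⟨x, hx⟩ * ⟨y, hy⟩) (a₂ := ⟨y, hy⟩ * ⟨x, hx⟩) (by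
      show e (⟨x, hx⟩ * ⟨y, hy⟩) = e (⟨y, hy⟩ * ⟨x, hx⟩)
      rw [map_mul, map_mul, mul_comm]))⟩
  rcases hg with rfl | rfl
  · obtain ⟨e⟩ := hA rfl
    exact fin _ (by simp) e
  · rcases outS_sq_mem S hk h2 D hv hw hsq hns d with h | h
    · obtain ⟨e⟩ := hC rfl h
      exact fin _ (by simp) e
    · obtain ⟨e⟩ := hB rfl h
      exact fin _ (by simp) e

/-- The splitting as an index in the group of proper outer classes. -/
theorem split_index (gγ : SimQ) :
    ∃ X : Subgroup ((epsS S k).ker.map (outS (Q := Q))),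
      Cfsg.splitClassCount ((epsS S k).ker.map (simAut (Q := Q))) (Cfsg.Inn (Cfsg.POmega F ⇑Q)) (simAut gγ) =
        X.index ∧
      ∀ y, y ∈ X ↔ ∃ h : SimQ, epsS S k h = 1 ∧ Commute (simAut h) (simAut gγ) ∧ outS h = y.1 := by
  let φ := (simAut (Q := Q)).comp (epsS S k).ker.subtype
  let χ : (epsS S k).ker →* (epsS S k).ker.map (outS (Q := Q)) := (outS (Q := Q)).subgroupMap _
  have hφ : φ.range = (epsS S k).ker.map (simAut (Q := Q)) := by
    rw [MonoidHom.range_comp, Subgroup.range_subtype]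
  have hker : χ.ker = (Cfsg.Inn (Cfsg.POmega F ⇑Q)).comap φ := by
    ext x
    rw [MonoidHom.mem_ker, Subgroup.mem_comap, Subtype.ext_iff]
    exact QuotientGroup.eq_one_iff (simAut x.1)
  haveI : ((Cfsg.Inn (Cfsg.POmega F ⇑Q)).comap φ).Normal := by rw [← hker]; infer_instance
  refine ⟨(AutPSp.commSub φ (simAut gγ)).map χ, ?_, fun y => ⟨?_, ?_⟩⟩
  · rw [← AutPSp.index_ker_sup χ ((outS (Q := Q)).subgroupMap_surjective _), hker,
      ← AutPSp.splitClassCount_eq_index, Subgroup.map_comap_eq_self (hφ ▸ inn_le_proper S hk h2 D), hφ]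
  · rintro ⟨x, hx, rfl⟩
    exact ⟨x.1, x.2, AutPSp.mem_commSub.1 hx, rfl⟩
  · rintro ⟨h, h1, h3, h4⟩
    exact ⟨⟨h, h1⟩, AutPSp.mem_commSub.2 h3, Subtype.ext h4⟩

theorem graph_count_le (hg : g = 2) (gγ : SimQ) :
    Cfsg.splitClassCount ((epsS S k).ker.map (simAut (Q := Q))) (Cfsg.Inn (Cfsg.POmega F ⇑Q)) (simAut gγ) = 1 ∨
    Cfsg.splitClassCount ((epsS S k).ker.map (simAut (Q := Q))) (Cfsg.Inn (Cfsg.POmega F ⇑Q)) (simAut gγ) = 2 := by
  obtain ⟨X, hX, -⟩ := split_index S hk h2 D hd1 gγ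
  rw [hX]
  have h := X.index_dvd_card
  rw [(card_proper S hk h2 D hd1 (Or.inl hg)).1, hg] at h
  exact (Nat.dvd_prime Nat.prime_two).1 h

/-- In dimension divisible by four the class splits. -/
theorem graph_count_even (hg : g = 2) (gγ : SimQ) (hε : epsS S k gγ ≠ 1) (hγ : simAut gγ * simAut gγ = 1)
    (he : Even k) :
    Cfsg.splitClassCount ((epsS S k).ker.map (simAut (Q := Q))) (Cfsg.Inn (Cfsg.POmega F ⇑Q)) (simAut gγ) = 2 := by
  obtain ⟨X, hX, hmem⟩ := split_index S hk h2 D hd1 gγ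
  obtain ⟨v, hv, hw, hsq, hns⟩ := exists_vec S hk h2 D
  have hbot : X = ⊥ := (Subgroup.eq_bot_iff_forall X).2 fun y hy => by
    obtain ⟨h, h1, h3, h4⟩ := (hmem y).1 hy
    rcases outS_proper S hk h2 D hv hw hsq hns (graph_centralizer_square S hk h2 gγ hε hγ he h3) h1 with e | e
    · exact Subtype.ext (h4.symm.trans e)
    · refine Subtype.ext (h4.symm.trans (e.trans ?_))
      rw [← rf_eq_of_two S hk h2 D hg hv hw]
      exact outI_rf_sq S hv
  rw [hX, hbot, Subgroup.index_bot, (card_proper S hk h2 D hd1 (Or.inl hg)).1, hg]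

/-- With four classes the class splits into two. -/
theorem graph_count_four (hg : g = 4) (gγ : SimQ) (hε : epsS S k gγ ≠ 1) (hγ : simAut gγ * simAut gγ = 1) :
    Cfsg.splitClassCount ((epsS S k).ker.map (simAut (Q := Q))) (Cfsg.Inn (Cfsg.POmega F ⇑Q)) (simAut gγ) = 2 := by
  obtain ⟨X, hX, hmem⟩ := split_index S hk h2 D hd1 gγ
  obtain ⟨v, hv, hw, hsq, hns⟩ := exists_vec S hk h2 D
  obtain ⟨hcard, hcomm⟩ := card_proper S hk h2 D hd1 (Or.inr hg)
  set a := outI (OrthRows.rf Q v hv) with ha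
  set b := outI (OrthRows.rf Q ((d.1 : Matrix ι ι F) *ᵥ v) hw) with hb
  have haa : a * a = 1 := outI_rf_sq S hv
  have hne : a ≠ b := rf_ne_of_four S hk h2 D hg hv hw hsq hns
  have hdad : outS d * a * (outS d)⁻¹ = b := range_outS_conj_refl d hv hw
  have hdK : outS d ∈ (epsS S k).ker.map (outS (Q := Q)) := ⟨d, hd1, rfl⟩
  obtain ⟨h, h1, h3, h4⟩ := graph_rotation S hk h2 D gγ hε hγ hv hw hsq hns
  let z : (epsS S k).ker.map (outS (Q := Q)) := ⟨a * b, h, h1, h4⟩
  have hz : z ∈ X := (hmem z).2 ⟨h, h1, h3, h4⟩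
  have hz1 : z ≠ 1 := fun e => hne (by
    have e' : a * b = 1 := congrArg Subtype.val e
    rw [← inv_eq_of_mul_eq_one_right haa, inv_eq_of_mul_eq_one_right e'])
  have hca : Commute a (a * b) := (Commute.refl a).mul_right (outI_commute _ _)
  -- the graph class is a proper class times a reflection
  set κ := outS (gγ * incl (OrthRows.rf Q v hv)) with hκ
  have hκK : κ ∈ (epsS S k).ker.map (outS (Q := Q)) := ⟨_, by
    show epsS S k (gγ * incl (OrthRows.rf Q v hv)) = 1
    rw [map_mul, epsS_rf S hk h2, (epsS_cases S hk h2 gγ).resolve_left hε, neg_one_mul, neg_neg], rfl⟩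
  have hgs : outS gγ = κ * a := by
    rw [hκ, map_mul]
    show outS gγ = outS gγ * outI _ * a
    rw [← ha, mul_assoc, haa, mul_one]
  have hX2 : Nat.card X = 2 := Nat.card_eq_two_iff.2 ⟨1, ⟨z, hz⟩, fun e => hz1 (congrArg Subtype.val e).symm,
    Set.eq_univ_of_forall fun ⟨y, hy⟩ => by
      obtain ⟨h', h1', h3', h4'⟩ := (hmem y).1 hy
      have hc1 : Commute y.1 (κ * a) := by
        rw [← h4', ← hgs]
        show Commute (QuotientGroup.mk' _ (simAut h')) (QuotientGroup.mk' _ (simAut gγ))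
        exact h3'.map _
      have hc2 : Commute y.1 a := by
        have hh := ((hcomm _ _ y.2 hκK).inv_right).mul_right hc1
        rwa [inv_mul_cancel_left] at hh
      rcases proper_map S hk h2 D hd1 hv hw hsq hns y.2 with e | e | e | e
      · exact Or.inl (Subtype.ext (Subtype.ext e))
      · exact Or.inr (Subtype.ext (Subtype.ext e))
      · exfalso
        rw [e] at hc2
        exact hne (by rw [← hdad, hc2.eq, mul_inv_cancel_right])
      · exfalso
        rw [e] at hc2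
        have hh := hc2.mul_left (hca.symm.inv_left)
        rw [mul_inv_cancel_right] at hh
        exact hne (by rw [← hdad, hh.eq, mul_inv_cancel_right])⟩
  rw [hX]
  have hm := X.index_mul_card
  rw [hX2, hcard, hg] at hm
  omega

end Cfsg.Agent.AutPOmega
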