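import Cfsg.Agent.Lib.AutPOmega.OutEven
import Mathlib.GroupTheory.SpecificGroups.Dihedral

/-!
# Small groups of outer classes

Homomorphisms out of small cyclic, dihedral and product groups, and the groups of outer classes of
similarities in even dimension.
-/

set_option autoImplicit false
set_option linter.unusedSectionVars false

namespace Cfsg.Agent.AutPOmega

section Lifts

variable {G : Type*} [Group G]

/-- The homomorphism out of `ZMod n` given by an element of order dividing `n`. -/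
def cycHom (n : ℕ) (x : G) (hx : x ^ n = 1) : Multiplicative (ZMod n) →* G :=
  AddMonoidHom.toMultiplicativeLeft (ZMod.lift n
    ⟨zmultiplesHom (Additive G) (Additive.ofMul x), by
      rw [zmultiplesHom_apply, natCast_zsmul, ← ofMul_pow, hx, ofMul_one]⟩)

theorem cycHom_cast (n : ℕ) (x : G) (hx : x ^ n = 1) (i : ℕ) :
    cycHom n x hx (Multiplicative.ofAdd (i : ZMod n)) = x ^ i := by
  show Additive.toMul (ZMod.lift n _ (i : ZMod n)) = _
  rw [← Int.cast_natCast (R := ZMod n) i, ZMod.lift_coe, zmultiplesHom_apply, natCast_zsmul]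
  rfl

theorem cycHom_apply (n : ℕ) [NeZero n] (x : G) (hx : x ^ n = 1) (i : ZMod n) :
    cycHom n x hx (Multiplicative.ofAdd i) = x ^ i.val := by
  conv_lhs => rw [← ZMod.natCast_zmod_val i]
  exact cycHom_cast n x hx i.val

theorem cycHom_injective (n : ℕ) [NeZero n] (x : G) (hx : orderOf x = n) :
    Function.Injective (cycHom n x (hx ▸ pow_orderOf_eq_one x)) := by
  rintro u v h
  obtain ⟨i, rfl⟩ := Multiplicative.ofAdd.surjective u
  obtain ⟨j, rfl⟩ := Multiplicative.ofAdd.surjective v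
  rw [cycHom_apply, cycHom_apply] at h
  exact congrArg Multiplicative.ofAdd (ZMod.val_injective n (pow_injOn_Iio_orderOf
    (by simpa [hx] using ZMod.val_lt i) (by simpa [hx] using ZMod.val_lt j) h))

/-- The homomorphism out of a product of two cyclic groups. -/
def pairHom (m n : ℕ) (x y : G) (hx : x ^ m = 1) (hy : y ^ n = 1) (hc : Commute x y) [NeZero m] [NeZero n] :
    Multiplicative (ZMod m × ZMod n) →* G :=
  ((cycHom m x hx).noncommCoprod (cycHom n y hy) fun u v => by
      obtain ⟨i, rfl⟩ := Multiplicative.ofAdd.surjective u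
      obtain ⟨j, rfl⟩ := Multiplicative.ofAdd.surjective v
      rw [cycHom_apply, cycHom_apply]
      exact hc.pow_pow _ _).comp (MulEquiv.prodMultiplicative (ZMod m) (ZMod n)).toMonoidHom

theorem pairHom_apply (m n : ℕ) [NeZero m] [NeZero n] (x y : G) (hx : x ^ m = 1) (hy : y ^ n = 1)
    (hc : Commute x y) (i : ZMod m) (j : ZMod n) :
    pairHom m n x y hx hy hc (Multiplicative.ofAdd (i, j)) = x ^ i.val * y ^ j.val := by
  show cycHom m x hx (Multiplicative.ofAdd i) * cycHom n y hy (Multiplicative.ofAdd j) = _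
  rw [cycHom_apply, cycHom_apply]

theorem pairHom_injective (m n : ℕ) [NeZero m] [NeZero n] {x y : G} (hx : orderOf x = m) (hy : orderOf y = n)
    (hc : Commute x y) (h : ∀ i : ℕ, y ^ i ∈ Subgroup.zpowers x → y ^ i = 1) :
    Function.Injective (pairHom m n x y (hx ▸ pow_orderOf_eq_one x) (hy ▸ pow_orderOf_eq_one y) hc) := by
  rw [injective_iff_map_eq_one]
  intro u hu
  obtain ⟨⟨i, j⟩, rfl⟩ := Multiplicative.ofAdd.surjective u
  rw [pairHom_apply] at hu
  have hyj : y ^ j.val = 1 := h _ (by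
    rw [← inv_eq_of_mul_eq_one_right hu]
    exact inv_mem (pow_mem (Subgroup.mem_zpowers x) _))
  rw [hyj, mul_one] at hu
  have e1 : j.val = 0 := pow_injOn_Iio_orderOf (by simpa [hy] using ZMod.val_lt j)
    (by simp [hy, Nat.pos_of_neZero]) (hyj.trans (pow_zero y).symm)
  have e2 : i.val = 0 := pow_injOn_Iio_orderOf (by simpa [hx] using ZMod.val_lt i)
    (by simp [hx, Nat.pos_of_neZero]) (hu.trans (pow_zero x).symm)
  rw [ZMod.val_eq_zero] at e1 e2
  rw [e1, e2]
  rfl

/-- The homomorphism out of a dihedral group. -/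
def dihHom (n : ℕ) [NeZero n] (x y : G) (hx : x ^ n = 1) (hy : y * y = 1) (hxy : y * x * y = x⁻¹) :
    DihedralGroup n →* G where
  toFun g := match g with
    | .r i => x ^ i.val
    | .sr i => y * x ^ i.val
  map_one' := by show x ^ (0 : ZMod n).val = 1; simp
  map_mul' := by
    have hc := cycHom_apply n x hx
    have hadd : ∀ i j : ZMod n, x ^ (i + j).val = x ^ i.val * x ^ j.val := fun i j => by
      rw [← hc, ← hc, ← hc, ofAdd_add, map_mul]
    have hsub : ∀ i j : ZMod n, x ^ (j - i).val = (x ^ i.val)⁻¹ * x ^ j.val := fun i j => by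
      rw [eq_inv_mul_iff_mul_eq, ← hadd, add_sub_cancel]
    have hflip : ∀ i : ℕ, x ^ i * y = y * (x ^ i)⁻¹ := by
      intro i
      induction i with
      | zero => simp
      | succ i ih =>
        have h1 : x * y = y * x⁻¹ := by rw [← hxy, ← mul_assoc, ← mul_assoc, hy, one_mul]
        rw [pow_succ, mul_assoc, h1, ← mul_assoc, ih, mul_assoc, mul_inv_rev]
        congr 1
        rw [← inv_pow, ← pow_succ, ← pow_succ']
    rintro (i | i) (j | j)
    · exact hadd i j
    · show y * x ^ (j - i).val = x ^ i.val * (y * x ^ j.val)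
      rw [hsub, ← mul_assoc, ← mul_assoc, hflip]
    · show y * x ^ (i + j).val = y * x ^ i.val * x ^ j.val
      rw [hadd, mul_assoc]
    · show x ^ (j - i).val = y * x ^ i.val * (y * x ^ j.val)
      rw [hsub, ← mul_assoc, mul_assoc y, hflip, ← mul_assoc, hy, one_mul]

theorem dihHom_injective (n : ℕ) [NeZero n] {x y : G} (hx : orderOf x = n) (hy : y * y = 1)
    (hxy : y * x * y = x⁻¹) (h : y ∉ Subgroup.zpowers x) :
    Function.Injective (dihHom n x y (hx ▸ pow_orderOf_eq_one x) hy hxy) := by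
  rw [injective_iff_map_eq_one]
  rintro (i | i) hu
  · have hu' : x ^ i.val = 1 := hu
    have e : i.val = 0 := pow_injOn_Iio_orderOf (by simpa [hx] using ZMod.val_lt i)
      (by simp [hx, Nat.pos_of_neZero]) (hu'.trans (pow_zero x).symm)
    rw [ZMod.val_eq_zero] at e
    rw [e]; rfl
  · have hu' : y * x ^ i.val = 1 := hu
    exact absurd (by rw [eq_inv_of_mul_eq_one_left hu']; exact inv_mem (pow_mem (Subgroup.mem_zpowers x) _)) h

/-- An injective homomorphism into a subgroup of the same order. -/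
theorem mulEquiv_of_card {H : Type*} [Group H] [Finite G] (K : Subgroup G) (φ : H →* G)
    (hinj : Function.Injective φ) (hle : φ.range ≤ K) (hcard : Nat.card H = Nat.card K) :
    Nonempty (K ≃* H) := by
  have e : φ.range = K := Subgroup.eq_of_le_of_card_ge hle (le_of_eq (by
    rw [← hcard, Nat.card_congr (MonoidHom.ofInjective hinj).toEquiv]))
  exact ⟨((MonoidHom.ofInjective hinj).trans (MulEquiv.subgroupCongr e)).symm⟩

/-- Surjections from a subgroup of automorphisms with kernel the inner ones. -/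
theorem exists_hom_ker {H : Type*} [Group H] {X : Subgroup G} {N : Subgroup G} [N.Normal]
    (e : Subgroup.map (QuotientGroup.mk' N) X ≃* H) :
    ∃ φ : X →* H, Function.Surjective φ ∧ φ.ker = N.subgroupOf X := by
  refine ⟨e.toMonoidHom.comp ((QuotientGroup.mk' N).subgroupMap X), e.surjective.comp
    ((QuotientGroup.mk' N).subgroupMap_surjective X), ?_⟩
  ext x
  rw [MonoidHom.mem_ker, Subgroup.mem_subgroupOf, MonoidHom.comp_apply, MulEquiv.toMonoidHom_eq_coe,
    MonoidHom.coe_coe, MulEquiv.map_eq_one_iff]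
  rw [Subtype.ext_iff]
  exact QuotientGroup.eq_one_iff (x : G)

theorem order_two_of_ne {x : G} (h : x * x = 1) (h1 : x ≠ 1) : orderOf x = 2 :=
  orderOf_eq_prime (by rw [sq]; exact h) h1

theorem order_four {x : G} (h : x * x ≠ 1) (h4 : (x * x) * (x * x) = 1) : orderOf x = 4 :=
  orderOf_eq_prime_pow (p := 2) (n := 1) (by rw [pow_one, sq]; exact h)
    (by rw [show (2 : ℕ) ^ (1 + 1) = 2 + 2 from rfl, pow_add, sq]; exact h4)

theorem zpowers_four_cases {x z : G} (hx : orderOf x = 4) (hz : z ∈ Subgroup.zpowers x) :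
    z = 1 ∨ z = x ∨ z = x * x ∨ z = x * x * x := by
  classical
  obtain ⟨i, hi⟩ := (IsOfFinOrder.mem_zpowers_iff_mem_range_orderOf
    (orderOf_pos_iff.1 (by omega))).1 hz |> Finset.mem_image.1
  obtain ⟨hi, rfl⟩ := hi
  rw [hx, Finset.mem_range] at hi
  interval_cases i <;> simp [pow_succ]

end Lifts

open Cfsg.Agent Cfsg.Agent.TransvMax Cfsg.Agent.QMax
open scoped Matrix

variable {ι : Type} [Fintype ι] [DecidableEq ι] {F : Type*} [Field F] [Fintype F]
  {Q : QuadraticForm F (ι → F)}

local notation "SimQ" => Cfsg.Geo.quadSimilarityGroup (F := F) (DFunLike.coe Q)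
local notation "IsoQ" => Cfsg.isometryGroup F (DFunLike.coe Q)

theorem map_pgo :
    (Cfsg.pgoAut F ⇑Q).map (QuotientGroup.mk' (Cfsg.Inn (Cfsg.POmega F ⇑Q))) = (outS (Q := Q)).range := by
  rw [pgoAut_eq, MonoidHom.map_range]
  rfl

variable (S : QSetting Q) {k : ℕ} (hk : Fintype.card ι = 2 * k) (h2 : (2 : F) ≠ 0)
  {d : Cfsg.Geo.quadSimilarityGroup (F := F) ⇑Q} {g : ℕ} (D : EvenData Q S d g)

include S hk h2 D

theorem outS_sq_mem {v : ι → F} (hv : Q v ≠ 0) (hw : Q ((d.1 : Matrix ι ι F) *ᵥ v) ≠ 0)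
    (hsq : IsSquare (Q v)) (hns : ¬ IsSquare (Q ((d.1 : Matrix ι ι F) *ᵥ v))) (x : SimQ) :
    outS x * outS x = 1 ∨ outS x * outS x = outI (OrthRows.rf Q v hv) * outI (OrthRows.rf Q _ hw) := by
  rw [← map_mul]
  refine outS_proper S hk h2 D hv hw hsq hns ?_ ?_
  · rw [map_mul, Units.val_mul]; exact ⟨_, rfl⟩
  · rw [map_mul]; exact epsS_sq S hk x

/-- The classes of similarities number twice those of isometries. -/
theorem card_outS : Nat.card (outS (Q := Q)).range = 2 * g := by
  classical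
  have hset : ((outS (Q := Q)).range : Set (Cfsg.Out (Cfsg.POmega F ⇑Q))) =
      ((outI (Q := Q)).range : Set _) ∪ (fun y => outS d * y) '' ((outI (Q := Q)).range : Set _) := by
    ext y
    constructor
    · rintro ⟨x, rfl⟩
      rcases outS_cases S hk h2 D x with ⟨h, e⟩ | ⟨h, e⟩
      · exact Or.inl ⟨h, e.symm⟩
      · exact Or.inr ⟨_, ⟨h, rfl⟩, e.symm⟩
    · rintro (⟨h, rfl⟩ | ⟨_, ⟨h, rfl⟩, rfl⟩)
      · exact ⟨incl h, rfl⟩
      · exact ⟨d * incl h, map_mul _ _ _⟩
  have hdis : Disjoint ((outI (Q := Q)).range : Set (Cfsg.Out (Cfsg.POmega F ⇑Q)))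
      ((fun y => outS d * y) '' ((outI (Q := Q)).range : Set _)) := by
    refine Set.disjoint_left.2 fun y hy hy' => ?_
    obtain ⟨_, ⟨h, rfl⟩, e⟩ := hy'
    obtain ⟨h', rfl⟩ := hy
    exact outS_d_notMem_outI S hk h2 D (h' * h⁻¹) (by rw [map_mul, map_inv, eq_mul_inv_iff_mul_eq]; exact e)
  rw [← SetLike.coe_sort_coe, Nat.card_coe_set_eq, hset, Set.ncard_union_eq hdis (Set.toFinite _) (Set.toFinite _),
    Set.ncard_image_of_injective _ (mul_right_injective _), ← Nat.card_coe_set_eq, SetLike.coe_sort_coe,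
    card_outI S hk h2 D]
  ring

/-- Four classes of similarities: a four-group. -/
theorem outS_range_two (hg : g = 2) :
    Nonempty ((outS (Q := Q)).range ≃* Multiplicative (ZMod 2 × ZMod 2)) := by
  obtain ⟨v, hv, hw, hsq, hns⟩ := exists_vec S hk h2 D
  set a := outI (OrthRows.rf Q v hv) with ha
  have hab := rf_eq_of_two S hk h2 D hg hv hw
  have haa : a * a = 1 := outI_rf_sq S hv
  have hdd : outS d * outS d = 1 := by
    rcases outS_sq_mem S hk h2 D hv hw hsq hns d with h | h
    · exact h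
    · rw [h, ← hab]; exact haa
  have hc : Commute (outS d) a := by
    have h := range_outS_conj_refl d hv hw
    rw [← hab] at h
    exact mul_inv_eq_iff_eq_mul.1 h
  have hd1 : outS d ≠ 1 := by rw [← map_one (outI (Q := Q))]; exact outS_d_notMem_outI S hk h2 D 1
  refine mulEquiv_of_card _ (pairHom 2 2 (outS d) a _ _ hc) (pairHom_injective 2 2
    (order_two_of_ne hdd hd1) (order_two_of_ne haa (outI_rf_ne_one S hk h2 hv)) hc fun i hi => ?_) ?_ ?_
  · by_contra hne
    have hi2 : a ^ i = a := by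
      rcases Nat.even_or_odd i with ⟨j, rfl⟩ | ⟨j, rfl⟩
      · exact absurd (by rw [← two_mul, pow_mul, sq, haa, one_pow]) hne
      · rw [pow_succ, pow_mul, sq, haa, one_pow, one_mul]
    rw [hi2] at hi
    obtain ⟨z, hz⟩ := hi
    rcases Int.even_or_odd z with ⟨j, rfl⟩ | ⟨j, rfl⟩
    · exact outI_rf_ne_one S hk h2 hv (by
        rw [← ha, ← hz]; show outS d ^ (j + j) = 1; rw [← two_mul, zpow_mul, zpow_two, hdd, one_zpow])
    · refine outS_d_notMem_outI S hk h2 D (OrthRows.rf Q v hv) ?_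
      rw [← ha, ← hz]
      show outS d = outS d ^ (2 * j + 1)
      rw [zpow_add, zpow_mul, zpow_two, hdd, one_zpow, one_mul, zpow_one]
  · rintro _ ⟨u, rfl⟩
    obtain ⟨⟨i, j⟩, rfl⟩ := Multiplicative.ofAdd.surjective u
    rw [pairHom_apply]
    exact mul_mem (pow_mem (MonoidHom.mem_range.2 ⟨d, rfl⟩) _)
      (pow_mem (MonoidHom.mem_range.2 ⟨_, rfl⟩) _)
  · rw [card_outS S hk h2 D, hg]
    simp

/-- Eight classes of similarities: a dihedral group. -/
theorem outS_range_four (hg : g = 4) : Nonempty ((outS (Q := Q)).range ≃* DihedralGroup 4) := by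
  obtain ⟨v, hv, hw, hsq, hns⟩ := exists_vec S hk h2 D
  set a := outI (OrthRows.rf Q v hv)
  set b := outI (OrthRows.rf Q ((d.1 : Matrix ι ι F) *ᵥ v) hw)
  have hne : a ≠ b := rf_ne_of_four S hk h2 D hg hv hw hsq hns
  have haa : a * a = 1 := outI_rf_sq S hv
  have hbb : b * b = 1 := outI_rf_sq S hw
  have hab : a * b = b * a := outI_commute _ _
  have hdad : outS d * a = b * outS d := mul_inv_eq_iff_eq_mul.1 (range_outS_conj_refl d hv hw)
  have hab1 : a * b ≠ 1 := fun h => hne (by
    rw [← inv_eq_of_mul_eq_one_right haa, inv_eq_of_mul_eq_one_right h])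
  have hab2 : (a * b) * (a * b) = 1 := by
    rw [mul_assoc, ← mul_assoc b, ← hab, mul_assoc a b b, hbb, mul_one, haa]
  have finish : ∀ x : Cfsg.Out (Cfsg.POmega F ⇑Q), x ∈ (outS (Q := Q)).range → x * x = a * b →
      (∀ h, x ≠ outI h) → a * x * a = x⁻¹ → Nonempty ((outS (Q := Q)).range ≃* DihedralGroup 4) := by
    intro x hxr hxx hxn hxa
    have hord : orderOf x = 4 := order_four (by rw [hxx]; exact hab1) (by rw [hxx]; exact hab2)
    refine mulEquiv_of_card _ (dihHom 4 x a _ haa hxa) (dihHom_injective 4 hord haa hxa fun hmem => ?_) ?_ ?_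
    · rcases zpowers_four_cases hord hmem with h | h | h | h
      · exact outI_rf_ne_one S hk h2 hv h
      · exact hxn _ h.symm
      · rw [hxx, left_eq_mul] at h
        exact outI_rf_ne_one S hk h2 hw h
      · refine hxn (OrthRows.rf Q ((d.1 : Matrix ι ι F) *ᵥ v) hw) ?_
        rw [hxx, mul_assoc, left_eq_mul] at h
        rw [eq_inv_of_mul_eq_one_right h, inv_eq_of_mul_eq_one_right hbb]
    · rintro _ ⟨u | u, rfl⟩
      · exact pow_mem hxr _
      · exact mul_mem (MonoidHom.mem_range.2 ⟨_, rfl⟩) (pow_mem hxr _)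
    · rw [card_outS S hk h2 D, hg, DihedralGroup.nat_card]
  have hq : outS d * a * (outS d * a) = b * (outS d * outS d) * a := by
    nth_rw 1 [hdad]
    simp only [mul_assoc]
  rcases outS_sq_mem S hk h2 D hv hw hsq hns d with h | h
  · refine finish (outS d * a) (mul_mem (MonoidHom.mem_range.2 ⟨d, rfl⟩) (MonoidHom.mem_range.2 ⟨_, rfl⟩))
      ?_ (fun h' e => ?_) ?_
    · rw [hq, h, mul_one, hab]
    · refine outS_d_notMem_outI S hk h2 D (h' * (OrthRows.rf Q v hv)⁻¹) ?_
      rw [map_mul, map_inv, eq_mul_inv_iff_mul_eq]; exact e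
    · rw [mul_inv_rev, inv_eq_of_mul_eq_one_right haa, inv_eq_of_mul_eq_one_right h, mul_assoc, mul_assoc,
        haa, mul_one]
  · refine finish (outS d) (MonoidHom.mem_range.2 ⟨d, rfl⟩) h (outS_d_notMem_outI S hk h2 D) ?_
    refine eq_inv_of_mul_eq_one_right ?_
    calc outS d * (a * outS d * a) = (outS d * a) * (outS d * a) := by simp only [mul_assoc]
      _ = b * (outS d * outS d) * a := hq
      _ = 1 := by rw [h, hab, ← mul_assoc, hbb, one_mul, haa]

end Cfsg.Agent.AutPOmega
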