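import Cfsg.Agent.Lib.AutPOmega.Centre

/-!
# The action of an automorphism on singular points

An automorphism of `PΩ` permutes the totally singular lines respecting incidence, hence gives a
map of singular points preserving orthogonality (outside the hyperbolic space of dimension eight).
-/

set_option autoImplicit false
set_option linter.unusedSectionVars false

namespace Cfsg.Agent.AutPOmega

open scoped commutatorElement
open Cfsg.Agent Cfsg.Agent.TransvMax Cfsg.Agent.QMax
open Cfsg.Agent.OrthSimple (Om sg)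

variable {ι : Type} [Fintype ι] [DecidableEq ι] {F : Type*} [Field F] [Finite F]
  {Q : QuadraticForm F (ι → F)}

local notation "V" => ι → F
local notation "B" => pB Q
local notation "OmQ" => Om (Q := Q)
local notation "PO" => Om (Q := Q) ⧸ Subgroup.center (Om (Q := Q))
local notation "pr" => QuotientGroup.mk' (Subgroup.center (Om (Q := Q)))

/-- Totally singular lines. -/
def LineT (Q : QuadraticForm F V) : Type _ := {L : Submodule F V // TS2 Q L}

/-- Meeting lines. -/
def MeetL (L M : Submodule F V) : Prop := L ≠ M ∧ L ⊓ M ≠ ⊥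

/-- Coplanar with two given lines. -/
def CommonP1 (Q : QuadraticForm F V) (L M X : Submodule F V) : Prop := P1 Q X L ∧ P1 Q X M

/-- Two common neighbours with exactly two common neighbours among the common neighbours. -/
def Grid (Q : QuadraticForm F V) (L M : LineT Q) : Prop :=
  ∃ N N' X₁ X₂ : LineT Q, N ≠ N' ∧ ¬ P1 Q N.1 N'.1 ∧ CommonP1 Q L.1 M.1 N.1 ∧
    CommonP1 Q L.1 M.1 N'.1 ∧ X₁ ≠ X₂ ∧
    ∀ X : LineT Q, (CommonP1 Q L.1 M.1 X.1 ∧ P1 Q X.1 N.1 ∧ P1 Q X.1 N'.1) ↔ (X = X₁ ∨ X = X₂)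

/-- A map of singular points preserving orthogonality. -/
structure PolarMap (Q : QuadraticForm F V) (f : V → V) : Prop where
  sing : ∀ a, a ≠ 0 → Q a = 0 → f a ≠ 0 ∧ Q (f a) = 0
  prop : ∀ a b, a ≠ 0 → Q a = 0 → b ≠ 0 → Q b = 0 →
    (b ∈ Submodule.span F {a} ↔ f b ∈ Submodule.span F {f a})
  orth : ∀ a b, a ≠ 0 → Q a = 0 → b ≠ 0 → Q b = 0 → (pB Q a b = 0 ↔ pB Q (f a) (f b) = 0)
  line : ∀ a b c, a ≠ 0 → Q a = 0 → b ≠ 0 → Q b = 0 → c ≠ 0 → Q c = 0 → pB Q a c = 0 →
    b ∈ Submodule.span F (Set.range ![a, c]) → f b ∈ Submodule.span F (Set.range ![f a, f c])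
  surj : ∀ b, b ≠ 0 → Q b = 0 → ∃ a, a ≠ 0 ∧ Q a = 0 ∧ f a ∈ Submodule.span F {b}

variable (S : QSetting Q) (p : ℕ) [Fact p.Prime] [CharP F p]

include S

omit p

theorem p1_symm {L M : Submodule F V} (h : P1 Q L M) : P1 Q M L :=
  ⟨h.1.symm, by rw [inf_comm]; exact h.2.1, orth_symm S h.2.2⟩

theorem eq_span_of_mem {L : Submodule F V} (hL : TS2 Q L) {a b : V}
    (hli : LinearIndependent F ![a, b]) (ha : a ∈ L) (hb : b ∈ L) :
    L = Submodule.span F (Set.range ![a, b]) := by
  refine (Submodule.eq_of_le_of_finrank_eq ?_ ?_).symm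
  · rw [Submodule.span_le]
    rintro _ ⟨i, rfl⟩
    fin_cases i <;> assumption
  · rw [hL.1, finrank_span_eq_card hli, Fintype.card_fin]

/-- The line of a pair. -/
noncomputable def lineOf {a b : V} (h : Pair Q a b) : LineT Q :=
  ⟨Submodule.span F (Set.range ![a, b]), pair_ts2 S h⟩

theorem inf_ne_bot {L M : Submodule F V} {a : V} (ha : a ≠ 0) (h1 : a ∈ L) (h2 : a ∈ M) :
    L ⊓ M ≠ ⊥ := fun h => ha ((Submodule.mem_bot F).1 (h ▸ ⟨h1, h2⟩))

theorem exists_ker_not_mem {k : ℕ} (v : Fin k → V) (X : Submodule F V)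
    (h : Module.finrank F X + k < Fintype.card ι) : ∃ z, (∀ i, B z (v i) = 0) ∧ z ∉ X := by
  by_contra hc
  push Not at hc
  have h1 := Submodule.finrank_mono (show (⊤ : Submodule F V) ⊓ LinearMap.ker (LinearMap.pi fun i =>
      (pB Q).flip (v i)) ≤ X from fun z hz => hc z fun i => congrFun hz.2 i)
  have h2 := S.topDec.finrank_ker v
  rw [S.finrank_top_eq] at h2
  omega

/-- A line not commuting with `M` through a point outside `M`. -/
theorem exists_noncomm {L M : Submodule F V} (hL : TS2 Q L) (hM : TS2 Q M) (hne : L ≠ M) :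
    ∃ N : LineT Q, (CommL Q N.1 L ∧ ¬ CommL Q N.1 M) ∨ (CommL Q N.1 M ∧ ¬ CommL Q N.1 L) := by
  have hd := S.dim
  have hLL : CommL Q L L := Or.inr (ts2_orth_self S hL)
  by_cases hc : CommL Q L M
  swap
  · exact ⟨⟨L, hL⟩, Or.inl ⟨hLL, hc⟩⟩
  obtain ⟨a, haL, haM⟩ : ∃ a ∈ L, a ∉ M := by
    by_contra h
    push Not at h
    exact hne (Submodule.eq_of_le_of_finrank_eq h (hL.1.trans hM.1.symm))
  have ha0 : a ≠ 0 := fun e => haM (e ▸ zero_mem _)
  have hQa := hL.2 a haL
  by_cases hp : ∀ m ∈ M, B a m = 0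
  · obtain ⟨m, hm, hm0⟩ : ∃ m ∈ M, m ≠ 0 := by
      refine Submodule.exists_mem_ne_zero_of_ne_bot fun h => ?_
      have := hM.1
      rw [h, finrank_bot] at this
      omega
    have hma : m ∉ Submodule.span F {a} := fun h => by
      obtain ⟨c, rfl⟩ := Submodule.mem_span_singleton.1 h
      exact haM ((M.smul_mem_iff (fun hc => hm0 (by rw [hc, zero_smul]))).1 hm)
    obtain ⟨d, -, hQd, hdv⟩ := S.topDec.exists_values_in (v := ![m, a]) (fun i => Submodule.mem_top)
      (S.sing_indep_pair ha0 hma) (by rw [S.finrank_top_eq]; omega) ![1, 0] 0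
    have hdm : B d m = 1 := hdv 0
    have hda : B d a = 0 := hdv 1
    have hpair : Pair Q a d := ⟨hQa, hQd, by rw [S.pB_comm, hda],
      (LinearIndependent.pair_iff' ha0).2 fun c hc => one_ne_zero (α := F) (by
        rw [← hdm, ← hc, LinearMap.map_smul₂, hp m hm, smul_zero])⟩
    refine ⟨lineOf S hpair, Or.inl ⟨Or.inl (inf_ne_bot S ha0 (mem_left S a d) haL), ?_⟩⟩
    rintro (h | h)
    · obtain ⟨x, ⟨hxN, hxM⟩, hx0⟩ := Submodule.exists_mem_ne_zero_of_ne_bot h
      obtain ⟨α, β, rfl⟩ := mem_span_pair' S hxN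
      have h2 := isotropic_of_singular S hM.2 hxM hm
      rw [map_add, LinearMap.add_apply, LinearMap.map_smul₂, LinearMap.map_smul₂, hp m hm, hdm,
        smul_zero, zero_add, smul_eq_mul, mul_one] at h2
      rw [h2, zero_smul, add_zero] at hxM hx0
      exact haM ((M.smul_mem_iff (fun hc => hx0 (by rw [hc, zero_smul]))).1 hxM)
    · exact one_ne_zero (α := F) (hdm.symm.trans (h d (mem_right S a d) m hm))
  · push Not at hp
    obtain ⟨m, hm, ham⟩ := hp
    obtain ⟨m₀, hm₀, hm₀a, hm₀s⟩ : ∃ m₀ ∈ M, B a m₀ = 0 ∧ ∀ x ∈ M, B a x = 0 → x ∈ Submodule.span F {m₀} := by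
      have hm0 : m ≠ 0 := fun e => ham (by rw [e, map_zero])
      obtain ⟨m', hp', hMeq⟩ := exists_basis_at S hM hm hm0
      refine ⟨m' - (B a m' / B a m) • m, ?_, ?_, fun x hx hax => ?_⟩
      · rw [hMeq]
        exact sub_mem (mem_right S m m') (Submodule.smul_mem _ _ (mem_left S m m'))
      · rw [map_sub, map_smul, smul_eq_mul, div_mul_cancel₀ _ ham, sub_self]
      · rw [hMeq] at hx
        obtain ⟨α, β, rfl⟩ := mem_span_pair' S hx
        rw [map_add, map_smul, map_smul, smul_eq_mul, smul_eq_mul] at hax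
        refine Submodule.mem_span_singleton.2 ⟨β, ?_⟩
        have hα : α = -(β * (B a m' / B a m)) := by field_simp; linear_combination hax
        rw [hα]; module
    obtain ⟨d, -, hQd, hdv, hdX⟩ := S.topDec.exists_norm_out (k := 1) ![a]
      (Submodule.span F (Set.range ![a, m₀])) (by rw [S.finrank_top_eq]; omega) (by
        have : Module.finrank F (Submodule.span F (Set.range ![a, m₀])) ≤ 2 :=
          (finrank_range_le_card ![a, m₀]).trans (by simp)
        rw [S.finrank_top_eq]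
        omega) 0
    have hda : B d a = 0 := hdv 0
    have hpair : Pair Q a d := ⟨hQa, hQd, by rw [S.pB_comm, hda],
      (LinearIndependent.pair_iff' ha0).2 fun c hc => hdX (hc ▸ Submodule.smul_mem _ c (mem_left S a m₀))⟩
    refine ⟨lineOf S hpair, Or.inl ⟨Or.inl (inf_ne_bot S ha0 (mem_left S a d) haL), ?_⟩⟩
    rintro (h | h)
    · obtain ⟨x, ⟨hxN, hxM⟩, hx0⟩ := Submodule.exists_mem_ne_zero_of_ne_bot h
      obtain ⟨α, β, rfl⟩ := mem_span_pair' S hxN
      have haa : B a a = 0 := by rw [S.pB_self, hQa, mul_zero]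
      obtain ⟨t, ht⟩ := Submodule.mem_span_singleton.1 (hm₀s _ hxM (by
        rw [map_add, map_smul, map_smul, haa, hpair.ab, smul_zero, smul_zero, add_zero]))
      rcases eq_or_ne β 0 with hβ | hβ
      · rw [hβ, zero_smul, add_zero] at hxM hx0
        exact haM ((M.smul_mem_iff (fun hc => hx0 (by rw [hc, zero_smul]))).1 hxM)
      · refine hdX ?_
        have e : d = (-(β⁻¹ * α)) • a + (β⁻¹ * t) • m₀ := by
          have h' := congrArg (fun v => β⁻¹ • v) ht
          simp only [smul_add, smul_smul, inv_mul_cancel₀ hβ, one_smul] at h'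
          linear_combination (norm := module) -h'
        rw [e]
        exact add_mem (Submodule.smul_mem _ _ (mem_left S a m₀)) (Submodule.smul_mem _ _ (mem_right S a m₀))
    · exact ham (h a (mem_left S a d) m hm)

/-- A line through `a`, orthogonal to `b` and `c`, is coplanar with `⟨a, b⟩`. -/
theorem star_p1 {a b c x : V} (hp : Pair Q a b) (hq : Pair Q a x) (hbc : B b c ≠ 0) (hac : B a c = 0)
    (hxb : B x b = 0) (hxc : B x c = 0) :
    P1 Q (Submodule.span F (Set.range ![a, x])) (Submodule.span F (Set.range ![a, b])) := by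
  refine ⟨fun h => hbc ?_, inf_ne_bot S hp.ne (mem_left S a x) (mem_left S a b),
    orth_span S (by rw [S.pB_self, hp.qa, mul_zero]) hp.ab (by rw [S.pB_comm, hq.ab]) hxb⟩
  obtain ⟨α, β, rfl⟩ := mem_span_pair' S (h.symm ▸ mem_right S a b)
  rw [map_add, LinearMap.add_apply, LinearMap.map_smul₂, LinearMap.map_smul₂, hac, hxc, smul_zero,
    smul_zero, add_zero]

/-- Common neighbours of two crossing lines pass through their common point. -/
theorem mem_of_meet_meet {a b c : V} (hp : Pair Q a b) (hp' : Pair Q a c) (hbc : B b c ≠ 0)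
    {X : Submodule F V} (hX : TS2 Q X) (h1 : X ⊓ Submodule.span F (Set.range ![a, b]) ≠ ⊥)
    (h2 : X ⊓ Submodule.span F (Set.range ![a, c]) ≠ ⊥) : a ∈ X := by
  obtain ⟨u, ⟨huX, hu⟩, hu0⟩ := Submodule.exists_mem_ne_zero_of_ne_bot h1
  obtain ⟨w, ⟨hwX, hw⟩, hw0⟩ := Submodule.exists_mem_ne_zero_of_ne_bot h2
  obtain ⟨α, β, rfl⟩ := mem_span_pair' S hu
  obtain ⟨γ, δ, rfl⟩ := mem_span_pair' S hw
  rcases eq_or_ne β 0 with hβ | hβ
  · rw [hβ, zero_smul, add_zero] at huX hu0
    exact (X.smul_mem_iff (fun hc => hu0 (by rw [hc, zero_smul]))).1 huX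
  rcases eq_or_ne δ 0 with hδ | hδ
  · rw [hδ, zero_smul, add_zero] at hwX hw0
    exact (X.smul_mem_iff (fun hc => hw0 (by rw [hc, zero_smul]))).1 hwX
  exfalso
  have h := isotropic_of_singular S hX.2 huX hwX
  simp only [map_add, LinearMap.add_apply, LinearMap.map_smul₂, map_smul, LinearMap.smul_apply,
    smul_eq_mul, hp'.ab, S.pB_comm b a, hp.ab, S.pB_self a, hp.qa, mul_zero, zero_add, add_zero] at h
  exact mul_ne_zero hβ (mul_ne_zero hδ hbc) (by linear_combination h)

theorem mem_line_iff_star {L M X : LineT Q} {a : V} (ha : a ≠ 0) (haL : a ∈ L.1) (haM : a ∈ M.1)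
    (hno : ¬ Orth Q L.1 M.1) :
    a ∈ X.1 ↔ (X.1 = L.1 ∨ MeetL X.1 L.1) ∧ (X.1 = M.1 ∨ MeetL X.1 M.1) := by
  refine ⟨fun h => ⟨?_, ?_⟩, fun h => ?_⟩
  · exact (em _).imp_right fun hne => ⟨hne, inf_ne_bot S ha h haL⟩
  · exact (em _).imp_right fun hne => ⟨hne, inf_ne_bot S ha h haM⟩
  · obtain ⟨b, hp, hL⟩ := exists_basis_at S L.2 haL ha
    obtain ⟨c, hp', hM⟩ := exists_basis_at S M.2 haM ha
    have hbc : B b c ≠ 0 := fun h0 => hno (by
      rw [hL, hM]
      exact orth_span S (by rw [S.pB_self, hp.qa, mul_zero]) hp'.ab (by rw [S.pB_comm, hp.ab]) h0)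
    refine mem_of_meet_meet S hp hp' hbc X.2 ?_ ?_
    · rw [← hL]
      rcases h.1 with e | e
      · rw [e, inf_idem]; exact fun e' => ha ((Submodule.mem_bot F).1 (e' ▸ haL))
      · exact e.2
    · rw [← hM]
      rcases h.2 with e | e
      · rw [e, inf_idem]; exact fun e' => ha ((Submodule.mem_bot F).1 (e' ▸ haM))
      · exact e.2

theorem grid_of_disjoint {L M : LineT Q} (hd : L.1 ⊓ M.1 = ⊥) (ho : Orth Q L.1 M.1) : Grid Q L M := by
  obtain ⟨a, b, hp, hL⟩ := exists_basis S L.2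
  obtain ⟨c, d, hp', hM⟩ := exists_basis S M.2
  rw [hL, hM] at ho hd
  have hac := ho a (mem_left S a b) c (mem_left S c d)
  have had := ho a (mem_left S a b) d (mem_right S c d)
  have hbc := ho b (mem_right S a b) c (mem_left S c d)
  have hbd := ho b (mem_right S a b) d (mem_right S c d)
  have ind : ∀ α β γ δ : F, α • a + β • b + (γ • c + δ • d) = 0 → α = 0 ∧ β = 0 ∧ γ = 0 ∧ δ = 0 := by
    intro α β γ δ h
    have h1 : α • a + β • b = 0 := (Submodule.mem_bot F).1 (hd ▸ ⟨add_mem (Submodule.smul_mem _ _ (mem_left S a b))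
      (Submodule.smul_mem _ _ (mem_right S a b)), by
        rw [eq_neg_of_add_eq_zero_left h]
        exact neg_mem (add_mem (Submodule.smul_mem _ _ (mem_left S c d)) (Submodule.smul_mem _ _ (mem_right S c d)))⟩)
    rw [h1, zero_add] at h
    exact ⟨(LinearIndependent.pair_iff.1 hp.li α β h1).1, (LinearIndependent.pair_iff.1 hp.li α β h1).2,
      (LinearIndependent.pair_iff.1 hp'.li γ δ h).1, (LinearIndependent.pair_iff.1 hp'.li γ δ h).2⟩
  have mk : ∀ x y : V, Q x = 0 → Q y = 0 → B x y = 0 → x ≠ 0 → (∀ t : F, t • x ≠ y) → Pair Q x y :=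
    fun x y h1 h2 h3 h4 h5 => ⟨h1, h2, h3, (LinearIndependent.pair_iff' h4).2 h5⟩
  have pac : Pair Q a c := mk a c hp.qa hp'.qa hac hp.ne fun t ht => by
    have := (ind t 0 (-1) 0 (by rw [ht]; module)).2.2.1
    simp at this
  have pbd : Pair Q b d := mk b d hp.qb hp'.qb hbd hp.ne' fun t ht => by
    have := (ind 0 t 0 (-1) (by rw [ht]; module)).2.2.2
    simp at this
  have pad : Pair Q a d := mk a d hp.qa hp'.qb had hp.ne fun t ht => by
    have := (ind t 0 0 (-1) (by rw [ht]; module)).2.2.2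
    simp at this
  have pbc : Pair Q b c := mk b c hp.qb hp'.qa hbc hp.ne' fun t ht => by
    have := (ind 0 t (-1) 0 (by rw [ht]; module)).2.2.1
    simp at this
  have haa : B a a = 0 := by rw [S.pB_self, hp.qa, mul_zero]
  have hbb : B b b = 0 := by rw [S.pB_self, hp.qb, mul_zero]
  have hcc : B c c = 0 := by rw [S.pB_self, hp'.qa, mul_zero]
  have hdd : B d d = 0 := by rw [S.pB_self, hp'.qb, mul_zero]
  have hba : B b a = 0 := by rw [S.pB_comm, hp.ab]
  have hdc : B d c = 0 := by rw [S.pB_comm, hp'.ab]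
  have hca : B c a = 0 := by rw [S.pB_comm, hac]
  have hda : B d a = 0 := by rw [S.pB_comm, had]
  have hcb : B c b = 0 := by rw [S.pB_comm, hbc]
  have hdb : B d b = 0 := by rw [S.pB_comm, hbd]
  have coef : ∀ {x y z : V}, z ∈ Submodule.span F (Set.range ![x, y]) → ∃ s t : F, z = s • x + t • y :=
    fun h => mem_span_pair' S h
  refine ⟨lineOf S pac, lineOf S pbd, lineOf S pad, lineOf S pbc, ?_, ?_, ⟨?_, ?_⟩, ⟨?_, ?_⟩, ?_, fun X => ⟨?_, ?_⟩⟩
  · intro e
    obtain ⟨s, t, h⟩ := coef (show a ∈ Submodule.span F (Set.range ![b, d]) from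
      (show Submodule.span F (Set.range ![a, c]) = Submodule.span F (Set.range ![b, d]) from congrArg Subtype.val e) ▸ mem_left S a c)
    simpa using (ind (-1) s 0 t (by linear_combination (norm := module) -h)).1
  · rintro ⟨-, h, -⟩
    obtain ⟨x, ⟨hx, hx'⟩, hx0⟩ := Submodule.exists_mem_ne_zero_of_ne_bot h
    obtain ⟨s, t, rfl⟩ := coef hx
    obtain ⟨s', t', e⟩ := coef hx'
    obtain ⟨h1, -, h3, -⟩ := ind s (-s') t (-t') (by linear_combination (norm := module) e)
    exact hx0 (by rw [h1, h3]; simp)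
  · refine ⟨fun e => ?_, inf_ne_bot S hp.ne (mem_left S a c) (hL ▸ mem_left S a b), ?_⟩
    · obtain ⟨s, t, h⟩ := coef (show c ∈ Submodule.span F (Set.range ![a, b]) from hL ▸ e ▸ mem_right S a c)
      simpa using (ind s t (-1) 0 (by linear_combination (norm := module) -h)).2.2.1
    · rw [hL]; exact orth_span S haa hp.ab hca hcb
  · refine ⟨fun e => ?_, inf_ne_bot S hp'.ne (mem_right S a c) (hM ▸ mem_left S c d), ?_⟩
    · obtain ⟨s, t, h⟩ := coef (show a ∈ Submodule.span F (Set.range ![c, d]) from hM ▸ e ▸ mem_left S a c)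
      simpa using (ind (-1) 0 s t (by linear_combination (norm := module) -h)).1
    · rw [hM]; exact orth_span S hac had hcc hp'.ab
  · refine ⟨fun e => ?_, inf_ne_bot S hp.ne' (mem_left S b d) (hL ▸ mem_right S a b), ?_⟩
    · obtain ⟨s, t, h⟩ := coef (show d ∈ Submodule.span F (Set.range ![a, b]) from hL ▸ e ▸ mem_right S b d)
      simpa using (ind s t 0 (-1) (by linear_combination (norm := module) -h)).2.2.2
    · rw [hL]; exact orth_span S hba hbb hda hdb
  · refine ⟨fun e => ?_, inf_ne_bot S hp'.ne' (mem_right S b d) (hM ▸ mem_right S c d), ?_⟩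
    · obtain ⟨s, t, h⟩ := coef (show b ∈ Submodule.span F (Set.range ![c, d]) from hM ▸ e ▸ mem_left S b d)
      simpa using (ind 0 (-1) s t (by linear_combination (norm := module) -h)).2.1
    · rw [hM]; exact orth_span S hbc hbd hdc hdd
  · intro e
    obtain ⟨s, t, h⟩ := coef (show a ∈ Submodule.span F (Set.range ![b, c]) from
      (show Submodule.span F (Set.range ![a, d]) = Submodule.span F (Set.range ![b, c]) from congrArg Subtype.val e) ▸ mem_left S a d)
    simpa using (ind (-1) s t 0 (by linear_combination (norm := module) -h)).1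
  · rintro ⟨⟨h1, h2⟩, h3, h4⟩
    obtain ⟨l, ⟨hlX, hlL⟩, hl0⟩ := Submodule.exists_mem_ne_zero_of_ne_bot h1.2.1
    obtain ⟨m, ⟨hmX, hmM⟩, hm0⟩ := Submodule.exists_mem_ne_zero_of_ne_bot h2.2.1
    rw [hL] at hlL
    rw [hM] at hmM
    obtain ⟨α, β, rfl⟩ := coef hlL
    obtain ⟨γ, δ, rfl⟩ := coef hmM
    have hlm : LinearIndependent F ![α • a + β • b, γ • c + δ • d] := by
      refine LinearIndependent.pair_iff.2 fun s t h => ?_
      obtain ⟨e1, e2, e3, e4⟩ := ind (s * α) (s * β) (t * γ) (t * δ) (by linear_combination (norm := module) h)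
      refine ⟨by_contra fun hs => hl0 ?_, by_contra fun ht => hm0 ?_⟩
      · rw [(mul_eq_zero.1 e1).resolve_left hs, (mul_eq_zero.1 e2).resolve_left hs]; simp
      · rw [(mul_eq_zero.1 e3).resolve_left ht, (mul_eq_zero.1 e4).resolve_left ht]; simp
    have hX := eq_span_of_mem S X.2 hlm hlX hmX
    obtain ⟨x, ⟨hxX, hxN⟩, hx0⟩ := Submodule.exists_mem_ne_zero_of_ne_bot h3.2.1
    obtain ⟨y, ⟨hyX, hyN⟩, hy0⟩ := Submodule.exists_mem_ne_zero_of_ne_bot h4.2.1
    obtain ⟨s, t, rfl⟩ := coef (hX ▸ hxX)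
    obtain ⟨s', t', rfl⟩ := coef (hX ▸ hyX)
    obtain ⟨u, v, hxe⟩ := coef hxN
    obtain ⟨u', v', hye⟩ := coef hyN
    obtain ⟨-, e1, -, e2⟩ := ind (s * α - u) (s * β) (t * γ - v) (t * δ)
      (by linear_combination (norm := module) hxe)
    obtain ⟨e3, -, e4, -⟩ := ind (s' * α) (s' * β - u') (t' * γ) (t' * δ - v')
      (by linear_combination (norm := module) hye)
    by_cases hβ : β = 0
    · have hα : α ≠ 0 := fun h => hl0 (by rw [h, hβ]; simp)
      have hs' : s' = 0 := (mul_eq_zero.1 e3).resolve_right hα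
      have ht' : t' ≠ 0 := fun h => hy0 (by rw [h, hs']; simp)
      have hγ : γ = 0 := (mul_eq_zero.1 e4).resolve_left ht'
      have hδ : δ ≠ 0 := fun h => hm0 (by rw [h, hγ]; simp)
      refine Or.inl (Subtype.ext (eq_span_of_mem S X.2 pad.li ?_ ?_))
      · rw [hβ, zero_smul, add_zero] at hlX
        exact (X.1.smul_mem_iff hα).1 hlX
      · rw [hγ, zero_smul, zero_add] at hmX
        exact (X.1.smul_mem_iff hδ).1 hmX
    · have hs : s = 0 := (mul_eq_zero.1 e1).resolve_right hβ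
      have ht : t ≠ 0 := fun h => hx0 (by rw [h, hs]; simp)
      have hδ : δ = 0 := (mul_eq_zero.1 e2).resolve_left ht
      have hγ : γ ≠ 0 := fun h => hm0 (by rw [h, hδ]; simp)
      have ht' : t' = 0 := (mul_eq_zero.1 e4).resolve_right hγ
      have hs' : s' ≠ 0 := fun h => hy0 (by rw [h, ht']; simp)
      have hα : α = 0 := (mul_eq_zero.1 e3).resolve_left hs'
      refine Or.inr (Subtype.ext (eq_span_of_mem S X.2 pbc.li ?_ ?_))
      · rw [hα, zero_smul, zero_add] at hlX
        exact (X.1.smul_mem_iff hβ).1 hlX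
      · rw [hδ, zero_smul, add_zero] at hmX
        exact (X.1.smul_mem_iff hγ).1 hmX
  · rintro (rfl | rfl)
    · refine ⟨⟨⟨fun e => ?_, inf_ne_bot S hp.ne (mem_left S a d) (hL ▸ mem_left S a b), ?_⟩,
        ⟨fun e => ?_, inf_ne_bot S hp'.ne' (mem_right S a d) (hM ▸ mem_right S c d), ?_⟩⟩,
        ⟨fun e => ?_, inf_ne_bot S hp.ne (mem_left S a d) (mem_left S a c),
          orth_span S haa hac hda hdc⟩,
        ⟨fun e => ?_, inf_ne_bot S hp'.ne' (mem_right S a d) (mem_right S b d),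
          orth_span S hp.ab had hdb hdd⟩⟩
      · obtain ⟨s, t, h⟩ := coef (show d ∈ Submodule.span F (Set.range ![a, b]) from hL ▸ e ▸ mem_right S a d)
        simpa using (ind s t 0 (-1) (by linear_combination (norm := module) -h)).2.2.2
      · rw [hL]; exact orth_span S haa hp.ab hda hdb
      · obtain ⟨s, t, h⟩ := coef (show a ∈ Submodule.span F (Set.range ![c, d]) from hM ▸ e ▸ mem_left S a d)
        simpa using (ind (-1) 0 s t (by linear_combination (norm := module) -h)).1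
      · rw [hM]; exact orth_span S hac had hdc hdd
      · obtain ⟨s, t, h⟩ := coef (show d ∈ Submodule.span F (Set.range ![a, c]) from
      (show Submodule.span F (Set.range ![a, d]) = Submodule.span F (Set.range ![a, c]) from e) ▸ mem_right S a d)
        simpa using (ind s 0 t (-1) (by linear_combination (norm := module) -h)).2.2.2
      · obtain ⟨s, t, h⟩ := coef (show a ∈ Submodule.span F (Set.range ![b, d]) from
      (show Submodule.span F (Set.range ![a, d]) = Submodule.span F (Set.range ![b, d]) from e) ▸ mem_left S a d)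
        simpa using (ind (-1) s 0 t (by linear_combination (norm := module) -h)).1
    · refine ⟨⟨⟨fun e => ?_, inf_ne_bot S hp.ne' (mem_left S b c) (hL ▸ mem_right S a b), ?_⟩,
        ⟨fun e => ?_, inf_ne_bot S hp'.ne (mem_right S b c) (hM ▸ mem_left S c d), ?_⟩⟩,
        ⟨fun e => ?_, inf_ne_bot S hp'.ne (mem_right S b c) (mem_right S a c),
          orth_span S hba hbc hca hcc⟩,
        ⟨fun e => ?_, inf_ne_bot S hp.ne' (mem_left S b c) (mem_left S b d),
          orth_span S hbb hbd hcb hp'.ab⟩⟩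
      · obtain ⟨s, t, h⟩ := coef (show c ∈ Submodule.span F (Set.range ![a, b]) from hL ▸ e ▸ mem_right S b c)
        simpa using (ind s t (-1) 0 (by linear_combination (norm := module) -h)).2.2.1
      · rw [hL]; exact orth_span S hba hbb hca hcb
      · obtain ⟨s, t, h⟩ := coef (show b ∈ Submodule.span F (Set.range ![c, d]) from hM ▸ e ▸ mem_left S b c)
        simpa using (ind 0 (-1) s t (by linear_combination (norm := module) -h)).2.1
      · rw [hM]; exact orth_span S hbc hbd hcc hp'.ab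
      · obtain ⟨s, t, h⟩ := coef (show b ∈ Submodule.span F (Set.range ![a, c]) from
      (show Submodule.span F (Set.range ![b, c]) = Submodule.span F (Set.range ![a, c]) from e) ▸ mem_left S b c)
        simpa using (ind s (-1) t 0 (by linear_combination (norm := module) -h)).2.1
      · obtain ⟨s, t, h⟩ := coef (show c ∈ Submodule.span F (Set.range ![b, d]) from
      (show Submodule.span F (Set.range ![b, c]) = Submodule.span F (Set.range ![b, d]) from e) ▸ mem_right S b c)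
        simpa using (ind 0 s (-1) t (by linear_combination (norm := module) -h)).2.2.1

variable (h8 : Fintype.card ι = 8 → ∀ W : Submodule F (ι → F), (∀ x ∈ W, Q x = 0) → Module.finrank F W ≤ 3)

include h8

theorem not_grid_of_cross {L M : LineT Q} (hmeet : L.1 ⊓ M.1 ≠ ⊥) (hno : ¬ Orth Q L.1 M.1) :
    ¬ Grid Q L M := by
  rintro ⟨N, N', X₁, X₂, hNN, hnp, hN, hN', hX, hall⟩
  have hd := S.dim
  obtain ⟨a, ⟨haL, haM⟩, ha⟩ := Submodule.exists_mem_ne_zero_of_ne_bot hmeet
  obtain ⟨b, hp, hL⟩ := exists_basis_at S L.2 haL ha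
  obtain ⟨c, hp', hM⟩ := exists_basis_at S M.2 haM ha
  have haa : B a a = 0 := by rw [S.pB_self, hp.qa, mul_zero]
  have hbc : B b c ≠ 0 := fun h0 => hno (by
    rw [hL, hM]; exact orth_span S haa hp'.ab (by rw [S.pB_comm, hp.ab]) h0)
  have key : ∀ X : LineT Q, CommonP1 Q L.1 M.1 X.1 → ∃ x, Pair Q a x ∧
      X.1 = Submodule.span F (Set.range ![a, x]) ∧ B x b = 0 ∧ B x c = 0 := fun X hX => by
    have haX := mem_of_meet_meet S hp hp' hbc X.2 (hL ▸ hX.1.2.1) (hM ▸ hX.2.2.1)
    obtain ⟨x, hq, hXe⟩ := exists_basis_at S X.2 haX ha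
    exact ⟨x, hq, hXe, hX.1.2.2 x (hXe ▸ mem_right S a x) b (hL ▸ mem_right S a b),
      hX.2.2.2 x (hXe ▸ mem_right S a x) c (hM ▸ mem_right S a c)⟩
  obtain ⟨d, hqd, hNe, hdb, hdc⟩ := key N hN
  obtain ⟨d', hqd', hNe', hd'b, hd'c⟩ := key N' hN'
  have hdd' : B d d' ≠ 0 := fun h0 => hnp ⟨fun e => hNN (Subtype.ext e),
    inf_ne_bot S ha (hNe ▸ mem_left S a d) (hNe' ▸ mem_left S a d'),
    by rw [hNe, hNe']; exact orth_span S haa hqd'.ab (by rw [S.pB_comm, hqd.ab]) h0⟩
  obtain ⟨hc₁, hn₁, hn₁'⟩ := (hall X₁).2 (Or.inl rfl)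
  obtain ⟨hc₂, hn₂, hn₂'⟩ := (hall X₂).2 (Or.inr rfl)
  obtain ⟨x₁, hq₁, he₁, hx₁b, hx₁c⟩ := key X₁ hc₁
  obtain ⟨x₂, hq₂, he₂, hx₂b, hx₂c⟩ := key X₂ hc₂
  have hx₁d : B x₁ d = 0 := hn₁.2.2 x₁ (he₁ ▸ mem_right S a x₁) d (hNe ▸ mem_right S a d)
  have hx₁d' : B x₁ d' = 0 := hn₁'.2.2 x₁ (he₁ ▸ mem_right S a x₁) d' (hNe' ▸ mem_right S a d')
  have hx₂d : B x₂ d = 0 := hn₂.2.2 x₂ (he₂ ▸ mem_right S a x₂) d (hNe ▸ mem_right S a d)
  have hx₂d' : B x₂ d' = 0 := hn₂'.2.2 x₂ (he₂ ▸ mem_right S a x₂) d' (hNe' ▸ mem_right S a d')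
  have hind : ∀ α β γ : F, α • a + β • x₁ + γ • x₂ = 0 → γ = 0 := fun α β γ h => by
    by_contra hγ
    refine hX (Subtype.ext ((eq_span_of_mem S X₁.2 hq₂.li (he₁ ▸ mem_left S a x₁) ?_).trans he₂.symm))
    have e : x₂ = (-(γ⁻¹ * α)) • a + (-(γ⁻¹ * β)) • x₁ := by
      have h' := congrArg (fun v => γ⁻¹ • v) h
      simp only [smul_add, smul_smul, inv_mul_cancel₀ hγ, one_smul, smul_zero] at h'
      linear_combination (norm := module) h'
    rw [e, he₁]
    exact add_mem (Submodule.smul_mem _ _ (mem_left S a x₁)) (Submodule.smul_mem _ _ (mem_right S a x₁))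
  have third : ∀ x, Pair Q a x → B x b = 0 → B x c = 0 → B x d = 0 → B x d' = 0 →
      x ∈ X₁.1 ∨ x ∈ X₂.1 := by
    intro x hq hxb hxc hxd hxd'
    have hcb : B c b ≠ 0 := by rwa [S.pB_comm]
    have hd'd : B d' d ≠ 0 := by rwa [S.pB_comm]
    rcases (hall (lineOf S hq)).1 ⟨⟨by rw [hL]; exact star_p1 S hp hq hbc hp'.ab hxb hxc,
      by rw [hM]; exact star_p1 S hp' hq hcb hp.ab hxc hxb⟩,
      by rw [hNe]; exact star_p1 S hqd hq hdd' hqd'.ab hxd hxd',
      by rw [hNe']; exact star_p1 S hqd' hq hd'd hqd.ab hxd' hxd⟩ with e | e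
    · exact Or.inl (e ▸ mem_right S a x)
    · exact Or.inr (e ▸ mem_right S a x)
  have finish : ∀ α β : F, ∀ z : V, Pair Q a (α • x₁ + z + β • x₂) →
      B (α • x₁ + z + β • x₂) b = 0 → B (α • x₁ + z + β • x₂) c = 0 →
      B (α • x₁ + z + β • x₂) d = 0 → B (α • x₁ + z + β • x₂) d' = 0 →
      (∃ s t : F, α • x₁ + z + β • x₂ = s • a + t • x₁) ∨ (∃ s t : F, α • x₁ + z + β • x₂ = s • a + t • x₂) := by
    intro α β z hq h1 h2 h3 h4
    rcases third _ hq h1 h2 h3 h4 with h | h
    · rw [he₁] at h; exact Or.inl (mem_span_pair' S h)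
    · rw [he₂] at h; exact Or.inr (mem_span_pair' S h)
  by_cases h12 : B x₁ x₂ = 0
  · have hq : Pair Q a ((1 : F) • x₁ + 0 + (1 : F) • x₂) := by
      refine ⟨hp.qa, ?_, ?_, (LinearIndependent.pair_iff' ha).2 fun t ht => ?_⟩
      · rw [add_zero, quad_comb S, hq₁.qb, hq₂.qb, h12]; ring
      · rw [map_add, map_add, map_smul, map_smul, hq₁.ab, hq₂.ab, map_zero]; simp
      · exact one_ne_zero (neg_eq_zero.1 (hind t (-1) (-1) (by rw [ht]; module)))
    rcases finish 1 1 0 hq (by simp [hx₁b, hx₂b]) (by simp [hx₁c, hx₂c]) (by simp [hx₁d, hx₂d])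
      (by simp [hx₁d', hx₂d']) with ⟨s, t, h⟩ | ⟨s, t, h⟩
    · exact one_ne_zero (hind (-s) (1 - t) 1 (by linear_combination (norm := module) h))
    · have := hind (-s) 1 (1 - t) (by linear_combination (norm := module) h)
      refine hq₁.not_mem (Submodule.mem_span_singleton.2 ⟨s, ?_⟩)
      rw [sub_eq_zero] at this
      rw [← this] at h
      linear_combination (norm := module) -h
  · have hli4 : LinearIndependent F ![a, b, d, x₁] := by
      rw [Fintype.linearIndependent_iff]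
      intro g hg
      rw [Fin.sum_univ_four] at hg
      change g 0 • a + g 1 • b + g 2 • d + g 3 • x₁ = 0 at hg
      have h1 := congrArg (fun v => B v c) hg
      have h2 := congrArg (fun v => B v d') hg
      have h3 := congrArg (fun v => B v x₂) hg
      have hbd' : B b d' = 0 := by rw [S.pB_comm, hd'b]
      have hbx₂ : B b x₂ = 0 := by rw [S.pB_comm, hx₂b]
      have hdx₂ : B d x₂ = 0 := by rw [S.pB_comm, hx₂d]
      simp only [map_add, LinearMap.add_apply, LinearMap.map_smul₂, map_zero, LinearMap.zero_apply,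
        smul_eq_mul, hp'.ab, hdc, hx₁c, hqd'.ab, hbd', hx₁d', hq₂.ab, hbx₂, hdx₂, mul_zero, zero_add,
        add_zero] at h1 h2 h3
      have g1 := (mul_eq_zero.1 h1).resolve_right hbc
      have g2 := (mul_eq_zero.1 h2).resolve_right hdd'
      have g3 := (mul_eq_zero.1 h3).resolve_right h12
      rw [g1, g2, g3] at hg
      have g0 : g 0 = 0 := by
        simpa [ha] using hg
      intro i
      fin_cases i <;> assumption
    have hW : ∀ x ∈ Submodule.span F (Set.range ![a, b, d, x₁]), Q x = 0 := by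
      intro x hx
      rw [Submodule.mem_span_range_iff_exists_fun] at hx
      obtain ⟨g, rfl⟩ := hx
      rw [Fin.sum_univ_four]
      show Q (g 0 • a + g 1 • b + g 2 • d + g 3 • x₁) = 0
      have hbd : B b d = 0 := by rw [S.pB_comm, hdb]
      have hbx : B b x₁ = 0 := by rw [S.pB_comm, hx₁b]
      have hdx : B d x₁ = 0 := by rw [S.pB_comm, hx₁d]
      simp only [S.quad_add, S.quad_smul, map_add, map_smul, LinearMap.add_apply, LinearMap.smul_apply,
        smul_eq_mul, hp.qa, hp.qb, hqd.qb, hq₁.qb, hp.ab, hqd.ab, hq₁.ab, hbd, hbx, hdx, mul_zero, add_zero]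
    have h4 := two_finrank_le S hW
    rw [finrank_span_eq_card hli4, Fintype.card_fin] at h4
    have h9 : 9 ≤ Fintype.card ι := by
      rcases (Nat.lt_or_ge (Fintype.card ι) 9) with h | h
      · have := h8 (by omega) _ hW
        rw [finrank_span_eq_card hli4, Fintype.card_fin] at this
        omega
      · exact h
    obtain ⟨z, hz, hza⟩ := exists_ker_not_mem S ![a, b, c, d, d', x₁, x₂] (Submodule.span F {a})
      (by rw [finrank_span_singleton ha]; omega)
    have za : B z a = 0 := hz 0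
    have zb : B z b = 0 := hz 1
    have zc : B z c = 0 := hz 2
    have zd : B z d = 0 := hz 3
    have zd' : B z d' = 0 := hz 4
    have zx₁ : B z x₁ = 0 := hz 5
    have zx₂ : B z x₂ = 0 := hz 6
    set β := -(Q z / B x₁ x₂) with hβ
    have hq : Pair Q a ((1 : F) • x₁ + z + β • x₂) := by
      refine ⟨hp.qa, ?_, ?_, (LinearIndependent.pair_iff' ha).2 fun t ht => ?_⟩
      · simp only [S.quad_add, S.quad_smul, map_add, map_smul, LinearMap.add_apply, LinearMap.smul_apply,
          smul_eq_mul, hq₁.qb, hq₂.qb, S.pB_comm x₁ z, zx₁, zx₂, hβ, mul_zero, add_zero, zero_add,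
          one_mul]
        field_simp
        ring
      · simp only [map_add, map_smul, smul_eq_mul, hq₁.ab, hq₂.ab, S.pB_comm a z, za, mul_zero, add_zero]
      · have h1 := congrArg (fun v => B v x₂) ht
        simp only [map_add, LinearMap.add_apply, LinearMap.map_smul₂, smul_eq_mul, hq₂.ab, zx₂,
          S.pB_self x₂, hq₂.qb, mul_zero, add_zero, one_mul] at h1
        exact h12 h1.symm
    have h0 : ∀ y : V, B x₁ y = 0 → B z y = 0 → B x₂ y = 0 → B ((1 : F) • x₁ + z + β • x₂) y = 0 :=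
      fun y u v w => by
        simp only [map_add, LinearMap.add_apply, LinearMap.map_smul₂, u, v, w, smul_zero, add_zero]
    rcases finish 1 β z hq (h0 b hx₁b zb hx₂b) (h0 c hx₁c zc hx₂c) (h0 d hx₁d zd hx₂d)
      (h0 d' hx₁d' zd' hx₂d') with ⟨s, t, h⟩ | ⟨s, t, h⟩
    · have h2 := congrArg (fun v => B v x₁) h
      have h3 := congrArg (fun v => B v x₂) h
      simp only [map_add, LinearMap.add_apply, LinearMap.map_smul₂, smul_eq_mul, hq₁.ab, hq₂.ab, zx₁, zx₂,
        S.pB_self x₁, S.pB_self x₂, hq₁.qb, hq₂.qb, S.pB_comm x₂ x₁, mul_zero, add_zero, one_mul,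
        zero_add] at h2 h3
      have ht : t = 1 := mul_right_cancel₀ h12 (by rw [one_mul]; exact h3.symm)
      have hb0 : β = 0 := (mul_eq_zero.1 h2).resolve_right h12
      rw [ht, hb0] at h
      exact hza (Submodule.mem_span_singleton.2 ⟨s, by linear_combination (norm := module) -h⟩)
    · have h3 := congrArg (fun v => B v x₂) h
      simp only [map_add, LinearMap.add_apply, LinearMap.map_smul₂, smul_eq_mul, hq₂.ab, zx₂,
        S.pB_self x₂, hq₂.qb, mul_zero, add_zero, one_mul] at h3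
      exact h12 h3

theorem meet_iff (L M : LineT Q) :
    MeetL L.1 M.1 ↔ L ≠ M ∧ CommL Q L.1 M.1 ∧ (P1 Q L.1 M.1 ∨ ¬ Grid Q L M) := by
  have hne : L ≠ M ↔ L.1 ≠ M.1 := ⟨fun h e => h (Subtype.ext e), fun h e => h (congrArg Subtype.val e)⟩
  constructor
  · intro h
    refine ⟨hne.2 h.1, Or.inl h.2, ?_⟩
    by_cases ho : Orth Q L.1 M.1
    · exact Or.inl ⟨h.1, h.2, ho⟩
    · exact Or.inr (not_grid_of_cross S h8 h.2 ho)
  · rintro ⟨h1, h2, h3⟩
    refine ⟨hne.1 h1, fun hd => ?_⟩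
    rcases h3 with h3 | h3
    · exact h3.2.1 hd
    · exact h3 (grid_of_disjoint S hd (h2.resolve_left fun h => h hd))

omit h8

include p

theorem exists_lineMap (φ : MulAut PO) (L : LineT Q) :
    ∃ M : LineT Q, ∀ r : OmQ, IsRoot r → mv r = L.1 →
      ∀ s : OmQ, IsRoot s → φ (pr r) = pr s → mv s = M.1 := by
  obtain ⟨r₀, hr₀, hL⟩ := exists_root_of_ts2 S L.2
  obtain ⟨s₀, hs₀, e₀⟩ := isRootG_map S p φ ⟨r₀, hr₀, rfl⟩
  refine ⟨⟨mv s₀, hs₀.ts2 S⟩, fun r hr hrL s hs e => by_contra fun hne => ?_⟩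
  have key : ∀ N : LineT Q, CommL Q N.1 (mv s) ↔ CommL Q N.1 (mv s₀) := by
    intro N
    obtain ⟨t, ht, htN⟩ := exists_root_of_ts2 S N.2
    obtain ⟨t', ht', et⟩ := isRootG_map S p φ.symm ⟨t, ht, rfl⟩
    have hlift : ∀ {x y : OmQ}, IsRoot x → IsRoot y → (CommL Q (mv x) (mv y) ↔ Commute (pr x) (pr y)) :=
      fun {x y} hx hy => (commute_iff S hx hy).symm.trans
        ⟨fun h => h.map pr, commute_of_pr S p (hy.pow_char S p)⟩
    have tr : ∀ {x y : OmQ}, IsRoot x → IsRoot y → φ (pr x) = pr y →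
        (CommL Q (mv t) (mv y) ↔ CommL Q (mv t') (mv x)) := by
      intro x y hx hy hxy
      rw [hlift ht hy, hlift ht' hx, et, ← hxy]
      refine ⟨fun h => ?_, fun h => ?_⟩
      · have := h.map φ.symm.toMonoidHom
        simpa using this
      · have := h.map φ.toMonoidHom
        simpa using this
    rw [← htN, tr hr hs e, tr hr₀ hs₀ e₀.symm, hrL, hL]
  obtain ⟨N, h | h⟩ := exists_noncomm S (hs.ts2 S) (hs₀.ts2 S) hne
  · exact h.2 ((key N).1 h.1)
  · exact h.2 ((key N).2 h.1)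

/-- The permutation of lines of an automorphism. -/
noncomputable def lineMap (φ : MulAut PO) : LineT Q ≃ LineT Q where
  toFun L := (exists_lineMap S p φ L).choose
  invFun L := (exists_lineMap S p φ.symm L).choose
  left_inv L := by
    obtain ⟨r, hr, hL⟩ := exists_root_of_ts2 S L.2
    obtain ⟨s, hs, e⟩ := isRootG_map S p φ ⟨r, hr, rfl⟩
    have h1 := (exists_lineMap S p φ L).choose_spec r hr hL s hs e.symm
    exact Subtype.ext (((exists_lineMap S p φ.symm _).choose_spec s hs h1 r hr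
      (by rw [e]; exact φ.symm_apply_apply _)).symm.trans hL)
  right_inv L := by
    obtain ⟨r, hr, hL⟩ := exists_root_of_ts2 S L.2
    obtain ⟨s, hs, e⟩ := isRootG_map S p φ.symm ⟨r, hr, rfl⟩
    have h1 := (exists_lineMap S p φ.symm L).choose_spec r hr hL s hs e.symm
    exact Subtype.ext (((exists_lineMap S p φ _).choose_spec s hs h1 r hr
      (by rw [e]; exact φ.apply_symm_apply _)).symm.trans hL)

theorem lineMap_spec (φ : MulAut PO) (L : LineT Q) {r : OmQ} (hr : IsRoot r) (hL : mv r = L.1) :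
    ∃ s : OmQ, IsRoot s ∧ φ (pr r) = pr s ∧ mv s = (lineMap S p φ L).1 := by
  obtain ⟨s, hs, e⟩ := isRootG_map S p φ ⟨r, hr, rfl⟩
  exact ⟨s, hs, e.symm, (exists_lineMap S p φ L).choose_spec r hr hL s hs e.symm⟩

theorem lineMap_comm (φ : MulAut PO) (L M : LineT Q) :
    CommL Q (lineMap S p φ L).1 (lineMap S p φ M).1 ↔ CommL Q L.1 M.1 := by
  obtain ⟨r, hr, hL⟩ := exists_root_of_ts2 S L.2
  obtain ⟨t, ht, hM⟩ := exists_root_of_ts2 S M.2
  obtain ⟨r', hr', er, hL'⟩ := lineMap_spec S p φ L hr hL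
  obtain ⟨t', ht', et, hM'⟩ := lineMap_spec S p φ M ht hM
  rw [← hL', ← hM', ← hL, ← hM, ← commute_iff S hr' ht', ← commute_iff S hr ht]
  refine ⟨fun h => commute_of_pr S p (ht.pow_char S p) ?_, fun h => commute_of_pr S p (ht'.pow_char S p) ?_⟩
  · have := h.map pr
    rw [← er, ← et] at this
    simpa using this.map φ.symm.toMonoidHom
  · rw [← er, ← et]
    exact (h.map pr).map φ.toMonoidHom

theorem lineMap_p1 (φ : MulAut PO) (L M : LineT Q) :
    P1 Q (lineMap S p φ L).1 (lineMap S p φ M).1 ↔ P1 Q L.1 M.1 := by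
  by_cases hne : L = M
  · subst hne
    exact iff_of_false (fun h => h.1 rfl) fun h => h.1 rfl
  by_cases hc : CommL Q L.1 M.1
  swap
  · exact iff_of_false (fun h => hc ((lineMap_comm S p φ L M).1 (Or.inl h.2.1))) fun h => hc (Or.inl h.2.1)
  obtain ⟨r, hr, hL⟩ := exists_root_of_ts2 S L.2
  obtain ⟨t, ht, hM⟩ := exists_root_of_ts2 S M.2
  obtain ⟨r', hr', er, hL'⟩ := lineMap_spec S p φ L hr hL
  obtain ⟨t', ht', et, hM'⟩ := lineMap_spec S p φ M ht hM
  have hc1 : Commute r t := (commute_iff S hr ht).2 (by rwa [hL, hM])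
  have hc2 : Commute r' t' := (commute_iff S hr' ht').2 (by rw [hL', hM']; exact (lineMap_comm S p φ L M).2 hc)
  have n1 : mv r ≠ mv t := by rw [hL, hM]; exact fun e => hne (Subtype.ext e)
  have n2 : mv r' ≠ mv t' := by
    rw [hL', hM']; exact fun e => hne ((lineMap S p φ).injective (Subtype.ext e))
  rw [← hL', ← hM', ← prod_root_iff S hr' ht' n2 hc2, ← hL, ← hM, ← prod_root_iff S hr ht n1 hc1,
    ← isRootG_prod S p hr' ht' hc2, ← isRootG_prod S p hr ht hc1, ← er, ← et, ← map_mul φ]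
  exact ⟨fun h => by simpa using isRootG_map S p φ.symm h, isRootG_map S p φ⟩

theorem lineMap_grid (φ : MulAut PO) (L M : LineT Q) :
    Grid Q (lineMap S p φ L) (lineMap S p φ M) ↔ Grid Q L M := by
  have key : ∀ ψ : MulAut PO, ∀ A C : LineT Q, Grid Q A C → Grid Q (lineMap S p ψ A) (lineMap S p ψ C) := by
    rintro ψ A C ⟨N, N', X₁, X₂, h1, h2, h3, h4, h5, h6⟩
    refine ⟨lineMap S p ψ N, lineMap S p ψ N', lineMap S p ψ X₁, lineMap S p ψ X₂,
      (lineMap S p ψ).injective.ne h1, fun h => h2 ((lineMap_p1 S p ψ N N').1 h),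
      ⟨(lineMap_p1 S p ψ N A).2 h3.1, (lineMap_p1 S p ψ N C).2 h3.2⟩,
      ⟨(lineMap_p1 S p ψ N' A).2 h4.1, (lineMap_p1 S p ψ N' C).2 h4.2⟩,
      (lineMap S p ψ).injective.ne h5, fun Y => ?_⟩
    obtain ⟨X, rfl⟩ := (lineMap S p ψ).surjective Y
    simp only [CommonP1, lineMap_p1 S p ψ, EmbeddingLike.apply_eq_iff_eq]
    exact h6 X
  refine ⟨fun h => ?_, key φ L M⟩
  have h' := key φ.symm _ _ h
  have e : ∀ X, lineMap S p φ.symm (lineMap S p φ X) = X := (lineMap S p φ).symm_apply_apply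
  rwa [e, e] at h'

include h8

theorem lineMap_meet (φ : MulAut PO) (L M : LineT Q) :
    MeetL (lineMap S p φ L).1 (lineMap S p φ M).1 ↔ MeetL L.1 M.1 := by
  rw [meet_iff S h8, meet_iff S h8, lineMap_comm, lineMap_p1, lineMap_grid,
    (lineMap S p φ).injective.ne_iff]

omit h8 p

theorem exists_cross {a : V} (ha : a ≠ 0) (hQa : Q a = 0) :
    ∃ L M : LineT Q, a ∈ L.1 ∧ a ∈ M.1 ∧ ¬ Orth Q L.1 M.1 := by
  have hd := S.dim
  obtain ⟨b, -, hQb, hbv, hb⟩ := S.topDec.exists_norm_out (k := 1) ![a] (Submodule.span F {a})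
    (by rw [S.finrank_top_eq]; omega) (by rw [S.finrank_top_eq, finrank_span_singleton ha]; omega) 0
  have hba : B b a = 0 := hbv 0
  obtain ⟨c, -, hQc, hcv⟩ := S.topDec.exists_values_in (v := ![b, a]) (fun i => Submodule.mem_top)
    (S.sing_indep_pair ha hb) (by rw [S.finrank_top_eq]; omega) ![1, 0] 0
  have hcb : B c b = 1 := hcv 0
  have hca : B c a = 0 := hcv 1
  have hp : Pair Q a b := ⟨hQa, hQb, by rw [S.pB_comm, hba],
    (LinearIndependent.pair_iff' ha).2 fun t ht => hb (ht ▸ Submodule.smul_mem _ t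
      (Submodule.mem_span_singleton_self a))⟩
  have hq : Pair Q a c := ⟨hQa, hQc, by rw [S.pB_comm, hca],
    (LinearIndependent.pair_iff' ha).2 fun t ht => one_ne_zero (α := F) (by
      rw [← hcb, ← ht, LinearMap.map_smul₂, hp.ab, smul_zero])⟩
  exact ⟨lineOf S hp, lineOf S hq, mem_left S a b, mem_left S a c, fun h => one_ne_zero (α := F) (by
    rw [← hcb, S.pB_comm]; exact h b (mem_right S a b) c (mem_right S a c))⟩

theorem point_ext {a b : V} (ha : a ≠ 0) (hQa : Q a = 0)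
    (h : ∀ X : LineT Q, a ∈ X.1 → b ∈ X.1) : b ∈ Submodule.span F {a} := by
  obtain ⟨L, M, haL, haM, hno⟩ := exists_cross S ha hQa
  obtain ⟨u, hp, hL⟩ := exists_basis_at S L.2 haL ha
  obtain ⟨w, hq, hM⟩ := exists_basis_at S M.2 haM ha
  have hbL := h L haL
  have hbM := h M haM
  rw [hL] at hbL
  obtain ⟨α, β, rfl⟩ := mem_span_pair' S hbL
  rcases eq_or_ne β 0 with hβ | hβ
  · rw [hβ, zero_smul, add_zero]; exact Submodule.smul_mem _ _ (Submodule.mem_span_singleton_self a)
  · refine absurd ?_ hno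
    have hu : u ∈ M.1 := (M.1.smul_mem_iff hβ).1 ((M.1.add_mem_iff_right (M.1.smul_mem α haM)).1 hbM)
    rw [show M.1 = L.1 from (eq_span_of_mem S M.2 hp.li haM hu).trans hL.symm]
    exact ts2_orth_self S L.2

include h8 p

theorem exists_point (φ : MulAut PO) {a : V} (ha : a ≠ 0) (hQa : Q a = 0) :
    ∃ a' : V, (a' ≠ 0 ∧ Q a' = 0) ∧ ∀ X : LineT Q, a ∈ X.1 ↔ a' ∈ (lineMap S p φ X).1 := by
  obtain ⟨L, M, haL, haM, hno⟩ := exists_cross S ha hQa
  have hne : L.1 ≠ M.1 := fun e => hno (e ▸ ts2_orth_self S L.2)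
  have hm : MeetL L.1 M.1 := ⟨hne, inf_ne_bot S ha haL haM⟩
  have hno' : ¬ Orth Q (lineMap S p φ L).1 (lineMap S p φ M).1 := fun h =>
    hno ((lineMap_p1 S p φ L M).1 ⟨((lineMap_meet S p h8 φ L M).2 hm).1,
      ((lineMap_meet S p h8 φ L M).2 hm).2, h⟩).2.2
  obtain ⟨a', ⟨h1, h2⟩, ha'⟩ := Submodule.exists_mem_ne_zero_of_ne_bot ((lineMap_meet S p h8 φ L M).2 hm).2
  refine ⟨a', ⟨ha', (lineMap S p φ L).2.2 a' h1⟩, fun X => ?_⟩
  have e : ∀ A C : LineT Q, (lineMap S p φ A).1 = (lineMap S p φ C).1 ↔ A.1 = C.1 := fun A C =>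
    ⟨fun h => congrArg Subtype.val ((lineMap S p φ).injective (Subtype.ext h)),
      fun h => by rw [Subtype.ext h]⟩
  rw [mem_line_iff_star S ha haL haM hno, mem_line_iff_star S ha' h1 h2 hno', lineMap_meet S p h8,
    lineMap_meet S p h8, e, e]

/-- The point map of an automorphism. -/
noncomputable def pointMap (φ : MulAut PO) (a : V) : V := by
  classical
  exact if h : a ≠ 0 ∧ Q a = 0 then (exists_point S p h8 φ h.1 h.2).choose else 0

theorem pointMap_spec (φ : MulAut PO) {a : V} (ha : a ≠ 0) (hQa : Q a = 0) :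
    (pointMap S p h8 φ a ≠ 0 ∧ Q (pointMap S p h8 φ a) = 0) ∧
      ∀ X : LineT Q, a ∈ X.1 ↔ pointMap S p h8 φ a ∈ (lineMap S p φ X).1 := by
  classical
  rw [pointMap, dif_pos ⟨ha, hQa⟩]
  exact (exists_point S p h8 φ ha hQa).choose_spec

theorem polarMap_pointMap (φ : MulAut PO) : PolarMap Q (pointMap S p h8 φ) := by
  have spec := fun {a : V} (ha : a ≠ 0) (hQa : Q a = 0) => pointMap_spec S p h8 φ ha hQa
  set f := pointMap S p h8 φ
  have hsmul : ∀ {a b : V}, b ≠ 0 → b ∈ Submodule.span F {a} →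
      ∀ W : Submodule F V, a ∈ W ↔ b ∈ W := by
    intro a b hb hab W
    obtain ⟨t, rfl⟩ := Submodule.mem_span_singleton.1 hab
    exact (W.smul_mem_iff (fun ht => hb (by rw [ht, zero_smul]))).symm
  have hprop : ∀ a b : V, a ≠ 0 → Q a = 0 → b ≠ 0 → Q b = 0 →
      (b ∈ Submodule.span F {a} ↔ f b ∈ Submodule.span F {f a}) := by
    intro a b ha hQa hb hQb
    constructor
    · intro h
      refine point_ext S (spec ha hQa).1.1 (spec ha hQa).1.2 fun Y hY => ?_
      obtain ⟨X, rfl⟩ := (lineMap S p φ).surjective Y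
      exact ((spec hb hQb).2 X).1 ((hsmul hb h _).1 (((spec ha hQa).2 X).2 hY))
    · intro h
      refine point_ext S ha hQa fun X hX => ((spec hb hQb).2 X).2 ?_
      exact (hsmul (spec hb hQb).1.1 h _).1 (((spec ha hQa).2 X).1 hX)
  refine ⟨fun a ha hQa => (spec ha hQa).1, hprop, ?_, ?_, ?_⟩
  · intro a b ha hQa hb hQb
    by_cases hab : b ∈ Submodule.span F {a}
    · obtain ⟨t, ht⟩ := Submodule.mem_span_singleton.1 hab
      obtain ⟨t', ht'⟩ := Submodule.mem_span_singleton.1 ((hprop a b ha hQa hb hQb).1 hab)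
      rw [← ht', ← ht, map_smul, map_smul, S.pB_self, S.pB_self, hQa, (spec ha hQa).1.2]
      simp
    have hab' := fun h => hab ((hprop a b ha hQa hb hQb).2 h)
    refine ⟨fun h => ?_, fun h => ?_⟩
    · have hp : Pair Q a b := ⟨hQa, hQb, h, (LinearIndependent.pair_iff' ha).2 fun t ht =>
        hab (ht ▸ Submodule.smul_mem _ t (Submodule.mem_span_singleton_self a))⟩
      exact isotropic_of_singular S (lineMap S p φ (lineOf S hp)).2.2
        (((spec ha hQa).2 (lineOf S hp)).1 (mem_left S a b)) (((spec hb hQb).2 (lineOf S hp)).1 (mem_right S a b))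
    · have hp : Pair Q (f a) (f b) := ⟨(spec ha hQa).1.2, (spec hb hQb).1.2, h,
        (LinearIndependent.pair_iff' (spec ha hQa).1.1).2 fun t ht =>
          hab' (ht ▸ Submodule.smul_mem _ t (Submodule.mem_span_singleton_self _))⟩
      obtain ⟨X, hX⟩ := (lineMap S p φ).surjective (lineOf S hp)
      exact isotropic_of_singular S X.2.2 (((spec ha hQa).2 X).2 (hX ▸ mem_left S _ _))
        (((spec hb hQb).2 X).2 (hX ▸ mem_right S _ _))
  · intro a b c ha hQa hb hQb hc hQc hac hbs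
    by_cases hca : c ∈ Submodule.span F {a}
    · have hba : b ∈ Submodule.span F {a} := by
        obtain ⟨α, β, rfl⟩ := mem_span_pair' S hbs
        exact add_mem (Submodule.smul_mem _ _ (Submodule.mem_span_singleton_self a)) (Submodule.smul_mem _ _ hca)
      exact Submodule.span_mono (by simp) ((hprop a b ha hQa hb hQb).1 hba)
    have hp : Pair Q a c := ⟨hQa, hQc, hac, (LinearIndependent.pair_iff' ha).2 fun t ht =>
      hca (ht ▸ Submodule.smul_mem _ t (Submodule.mem_span_singleton_self a))⟩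
    have hli : LinearIndependent F ![f a, f c] := (LinearIndependent.pair_iff' (spec ha hQa).1.1).2
      fun t ht => hca ((hprop a c ha hQa hc hQc).2 (ht ▸ Submodule.smul_mem _ t
        (Submodule.mem_span_singleton_self _)))
    rw [← eq_span_of_mem S (lineMap S p φ (lineOf S hp)).2 hli
      (((spec ha hQa).2 (lineOf S hp)).1 (mem_left S a c)) (((spec hc hQc).2 (lineOf S hp)).1 (mem_right S a c))]
    exact ((spec hb hQb).2 (lineOf S hp)).1 hbs
  · intro b hb hQb
    obtain ⟨⟨ha, hQa⟩, hstar⟩ := pointMap_spec S p h8 φ.symm hb hQb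
    refine ⟨_, ha, hQa, point_ext S hb hQb fun Y hY => ?_⟩
    obtain ⟨X, rfl⟩ := (lineMap S p φ).surjective Y
    refine ((spec ha hQa).2 X).1 ?_
    have hinv : lineMap S p φ.symm (lineMap S p φ X) = X := (lineMap S p φ).symm_apply_apply X
    have h1 := (hstar (lineMap S p φ X)).1 hY
    rwa [hinv] at h1

end Cfsg.Agent.AutPOmega
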