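import Cfsg.Agent.Lib.AutPOmega.Hyperbolic
import Cfsg.Agent.Lib.AutPOmega.Models
import Cfsg.Agent.S0288
import Cfsg.Agent.S0294
import Cfsg.Agent.Lib.Spinor.F2Forms

/-!
# Outer classes of similarities of the elliptic form
-/

set_option autoImplicit false
set_option linter.unusedSectionVars false

namespace Cfsg.Agent.AutPOmega

open Cfsg.Agent Cfsg.Agent.TransvMax Cfsg.Agent.QMax
open scoped Matrix

variable {F : Type*} [Field F] {k : ℕ} {a b : F}

/-- A similarity of multiplier `u₀² + a u₀ u₁ + b u₁²`: scale the first half, multiply the binary part. -/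
def minusMat (a b u₀ u₁ : F) : Matrix ((Fin k ⊕ Fin k) ⊕ Fin 2) ((Fin k ⊕ Fin k) ⊕ Fin 2) F :=
  Matrix.fromBlocks
    (Matrix.diagonal (Sum.elim (fun _ => u₀ ^ 2 + a * u₀ * u₁ + b * u₁ ^ 2) fun _ => 1)) 0 0
    !![u₀, -(b * u₁); u₁, u₀ + a * u₁]

theorem minusMat_mulVec (u₀ u₁ : F) (v : (Fin k ⊕ Fin k) ⊕ Fin 2 → F) :
    (∀ i, (minusMat a b u₀ u₁ *ᵥ v) (.inl (.inl i)) =
      (u₀ ^ 2 + a * u₀ * u₁ + b * u₁ ^ 2) * v (.inl (.inl i))) ∧
    (∀ i, (minusMat a b u₀ u₁ *ᵥ v) (.inl (.inr i)) = v (.inl (.inr i))) ∧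
    (minusMat a b u₀ u₁ *ᵥ v) (.inr 0) = u₀ * v (.inr 0) - b * u₁ * v (.inr 1) ∧
    (minusMat a b u₀ u₁ *ᵥ v) (.inr 1) = u₁ * v (.inr 0) + (u₀ + a * u₁) * v (.inr 1) := by
  refine ⟨fun i => ?_, fun i => ?_, ?_, ?_⟩ <;>
    simp [minusMat, Matrix.fromBlocks_mulVec, Matrix.mulVec_diagonal, Matrix.mulVec, dotProduct,
      Matrix.vecHead, Matrix.vecTail, Fin.sum_univ_two, Matrix.diagonal_apply] <;> ring

theorem det_minusMat (u₀ u₁ : F) :
    (minusMat (k := k) a b u₀ u₁).det = (u₀ ^ 2 + a * u₀ * u₁ + b * u₁ ^ 2) ^ (k + 1) := by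
  rw [minusMat, Matrix.det_fromBlocks_zero₂₁, Matrix.det_diagonal, Matrix.det_fin_two_of,
    Fintype.prod_sum_type]
  simp only [Sum.elim_inl, Sum.elim_inr, Finset.prod_const, Finset.card_univ, Fintype.card_fin, one_pow]
  ring

theorem minusMat_quad (u₀ u₁ : F) (v : (Fin k ⊕ Fin k) ⊕ Fin 2 → F) :
    Cfsg.quadFormMinus k F a b (minusMat a b u₀ u₁ *ᵥ v) =
      (u₀ ^ 2 + a * u₀ * u₁ + b * u₁ ^ 2) * Cfsg.quadFormMinus k F a b v := by
  obtain ⟨h1, h2, h3, h4⟩ := minusMat_mulVec (a := a) (b := b) u₀ u₁ v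
  simp only [Cfsg.quadFormMinus, h1, h2, h3, h4, mul_assoc, ← Finset.mul_sum]
  ring

theorem exists_minusForm {K : Type*} [Field K] (k : ℕ) (a b : K) (hD : 4 * b - a * a ≠ 0) :
    ∃ Q : QuadraticForm K ((Fin k ⊕ Fin k) ⊕ Fin 2 → K),
      ⇑Q = Cfsg.quadFormMinus k K a b ∧ (QuadraticMap.polarBilin Q).Nondegenerate := by
  let L := LinearEquiv.sumArrowLequivProdArrow (Fin k ⊕ Fin k) (Fin 2) K K
  have hbin : (QuadraticMap.polarBilin (S0288.binForm a b)).Nondegenerate := by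
    refine OrthOrder.nondegenerate_iff.2 fun x hx => ?_
    have h0 : 2 * x 0 + a * x 1 = 0 := by
      have := hx (Pi.single 0 1)
      simp [QuadraticMap.polar, S0288.binForm_apply, Pi.single_apply] at this
      linear_combination this
    have h1 : a * x 0 + 2 * b * x 1 = 0 := by
      have := hx (Pi.single 1 1)
      simp [QuadraticMap.polar, S0288.binForm_apply, Pi.single_apply] at this
      linear_combination this
    funext i
    fin_cases i
    · exact (mul_eq_zero.1 (show (4 * b - a * a) * x 0 = 0 by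
        linear_combination 2 * b * h0 - a * h1)).resolve_left hD
    · exact (mul_eq_zero.1 (show (4 * b - a * a) * x 1 = 0 by
        linear_combination 2 * h1 - a * h0)).resolve_left hD
  refine ⟨(OrthOrder.qSum k (S0288.binForm a b)).comp L.toLinearMap, funext fun v => ?_,
    OrthOrder.nondegenerate_congr L (fun v => rfl) (OrthOrder.qSum_nondeg hbin k)⟩
  simp [L, OrthOrder.qSum_apply, S0288.binForm_apply, Cfsg.quadFormMinus, Cfsg.quadFormPlus]

section Fixed

variable [Fintype F] {Q : QuadraticForm F ((Fin k ⊕ Fin k) ⊕ Fin 2 → F)}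
  (hQ : ⇑Q = Cfsg.quadFormMinus k F a b)
  (hab : ∀ z₁ z₂ : F, z₁ ^ 2 + a * z₁ * z₂ + b * z₂ ^ 2 = 0 → z₁ = 0 ∧ z₂ = 0)
  (S : QSetting Q)

include hQ

/-- The similarity as a group element. -/
noncomputable def minusD (u₀ u₁ : F) (h : u₀ ^ 2 + a * u₀ * u₁ + b * u₁ ^ 2 ≠ 0) :
    Cfsg.Geo.quadSimilarityGroup (F := F) ⇑Q :=
  ⟨Matrix.GeneralLinearGroup.mkOfDetNeZero (minusMat a b u₀ u₁) (by rw [det_minusMat]; exact pow_ne_zero _ h),
    Units.mk0 _ h, fun v => (congrFun hQ _).trans ((minusMat_quad u₀ u₁ v).trans (by rw [← congrFun hQ v]; rfl))⟩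

theorem card_minus : Fintype.card ((Fin k ⊕ Fin k) ⊕ Fin 2) = 2 * (k + 1) := by
  simp [Fintype.card_sum]; omega

include S

theorem simMul_minusD {u₀ u₁ : F} (h : u₀ ^ 2 + a * u₀ * u₁ + b * u₁ ^ 2 ≠ 0) :
    (simMul S (minusD hQ u₀ u₁ h) : F) = u₀ ^ 2 + a * u₀ * u₁ + b * u₁ ^ 2 :=
  simMul_eq S fun v => (congrFun hQ _).trans ((minusMat_quad u₀ u₁ v).trans (by rw [congrFun hQ v]))

theorem epsS_minusD {u₀ u₁ : F} (h : u₀ ^ 2 + a * u₀ * u₁ + b * u₁ ^ 2 ≠ 0) :
    epsS S (k + 1) (minusD hQ u₀ u₁ h) = 1 := by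
  rw [epsS_apply, div_eq_one]
  refine Units.ext ?_
  rw [Units.val_pow_eq_pow_val, simMul_minusD hQ S, Matrix.GeneralLinearGroup.val_det_apply]
  exact det_minusMat u₀ u₁

include hab

theorem exists_minusData (h2 : (2 : F) ≠ 0) (hk : 3 ≤ k) :
    ∃ (u₀ u₁ : F) (h : u₀ ^ 2 + a * u₀ * u₁ + b * u₁ ^ 2 ≠ 0),
      ¬ IsSquare (u₀ ^ 2 + a * u₀ * u₁ + b * u₁ ^ 2) ∧
      EvenData Q S (minusD hQ u₀ u₁ h) (Nat.gcd 4 (Fintype.card F ^ (k + 1) + 1)) := by
  obtain ⟨c, hc⟩ := FiniteField.exists_nonsquare (Spinor.ringChar_ne_two h2)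
  have hc0 : c ≠ 0 := fun e => hc (e ▸ IsSquare.zero)
  obtain ⟨v, hv⟩ := OrthRows.exists_norm_all (S0288.binForm_nondeg a b hab) (by simp) hc0
  rw [S0288.binForm_apply] at hv
  refine ⟨v 0, v 1, hv ▸ hc0, hv ▸ hc, ⟨by rw [simMul_minusD hQ S]; exact hv ▸ hc, ?_⟩⟩
  have hO := S0288.result (F := F) rfl (k + 1) (by omega) a b hab
  have hP := S0294.result (F := F) rfl (k + 1) (by omega) a b hab
  rw [Nat.add_sub_cancel] at hO hP
  rw [mul_assoc 2, mul_assoc 2, ← hP, ← mul_assoc] at hO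
  rw [hQ]
  exact hO

set_option maxHeartbeats 1000000 in
theorem minusD_sq {u₀ u₁ : F} (h0 : u₀ ^ 2 + a * u₀ * u₁ + b * u₁ ^ 2 ≠ 0)
    (hc : ¬ IsSquare (u₀ ^ 2 + a * u₀ * u₁ + b * u₁ ^ 2)) {g : ℕ} (h2 : (2 : F) ≠ 0)
    (D : EvenData Q S (minusD hQ u₀ u₁ h0) g) {v : (Fin k ⊕ Fin k) ⊕ Fin 2 → F}
    (hv : Q v ≠ 0) (hw : Q ((minusD hQ u₀ u₁ h0).1.1 *ᵥ v) ≠ 0)
    (hsq : IsSquare (Q v)) (hns : ¬ IsSquare (Q ((minusD hQ u₀ u₁ h0).1.1 *ᵥ v))) :
    outS (minusD hQ u₀ u₁ h0) * outS (minusD hQ u₀ u₁ h0) =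
      (outI (OrthRows.rf Q v hv) * outI (OrthRows.rf Q _ hw)) ^ (k + 1) := by
  classical
  set c := u₀ ^ 2 + a * u₀ * u₁ + b * u₁ ^ 2 with hcdef
  let e : Fin k → (Fin k ⊕ Fin k) ⊕ Fin 2 → F := fun i => Pi.single (Sum.inl (Sum.inl i)) 1
  let f : Fin k → (Fin k ⊕ Fin k) ⊕ Fin 2 → F := fun i => Pi.single (Sum.inl (Sum.inr i)) 1
  have hB : ∀ x y, pB Q x y =
      (∑ j, (x (.inl (.inl j)) * y (.inl (.inr j)) + y (.inl (.inl j)) * x (.inl (.inr j)))) +
        (2 * x (.inr 0) * y (.inr 0) + a * (x (.inr 0) * y (.inr 1) + x (.inr 1) * y (.inr 0)) +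
          2 * b * x (.inr 1) * y (.inr 1)) := fun x y => by
    rw [QuadraticMap.polarBilin_apply_apply, QuadraticMap.polar, hQ]
    simp only [Cfsg.quadFormMinus, Pi.add_apply, add_mul, mul_add, Finset.sum_add_distrib]
    rw [show (∑ j : Fin k, y (.inl (.inl j)) * x (.inl (.inr j))) =
      ∑ j : Fin k, y (.inl (.inl j)) * x (.inl (.inr j)) from rfl]
    ring
  obtain ⟨h, ho, hx⟩ := pairs_scale S (card_minus hQ) h2 D hv hw hsq hns (e := e) (f := f)
    (fun i => by rw [hQ]; simp [e, Cfsg.quadFormMinus])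
    (fun i => by rw [hQ]; simp [f, Cfsg.quadFormMinus])
    (fun i j => by rw [hB]; simp [e, f, Pi.single_apply, eq_comm])
    (fun i j _ => by rw [hB]; simp [e, Pi.single_apply])
    (fun i j _ => by rw [hB]; simp [f, Pi.single_apply]) hc Finset.univ
  rw [Finset.card_univ, Fintype.card_fin] at ho
  let U : (Fin k ⊕ Fin k) ⊕ Fin 2 → F := Sum.elim 0 ![u₀, u₁]
  let O : (Fin k ⊕ Fin k) ⊕ Fin 2 → F := Sum.elim 0 ![1, 0]
  have hQU : Q U = c := by rw [hQ]; simp [U, Cfsg.quadFormMinus, hcdef]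
  have hQO : Q O = 1 := by rw [hQ]; simp [O, Cfsg.quadFormMinus]
  have hU : Q U ≠ 0 := by rw [hQU]; exact h0
  have hO : Q O ≠ 0 := by rw [hQO]; exact one_ne_zero
  set r := OrthRows.rf Q U hU * OrthRows.rf Q O hO
  have hr : outI r = outI (OrthRows.rf Q v hv) * outI (OrthRows.rf Q _ hw) :=
    outI_rf_mul S (card_minus hQ) h2 D hv hw hsq hns hU hO (by
      rw [hQU, hQO]; exact fun hiff => hc (hiff.2 IsSquare.one))
  have hd : minusD hQ u₀ u₁ h0 * minusD hQ u₀ u₁ h0 = scalSim (Units.mk0 c h0) * incl (r * h) := by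
    refine ofSim_injective (Subtype.ext (Equiv.ext fun x => ?_))
    rw [map_mul, map_mul]
    show minusMat a b u₀ u₁ *ᵥ (minusMat a b u₀ u₁ *ᵥ x) =
      (ofSim (scalSim (Units.mk0 c h0))).1 (((r * h).1 : Matrix _ _ F) *ᵥ x)
    rw [scalSim_apply, Subgroup.coe_mul, Units.val_mul, ← Matrix.mulVec_mulVec, hx, Subgroup.coe_mul,
      Units.val_mul, ← Matrix.mulVec_mulVec, rf_mulVec, rf_mulVec]
    obtain ⟨a1, a2, a3, a4⟩ := minusMat_mulVec (a := a) (b := b) u₀ u₁ (minusMat a b u₀ u₁ *ᵥ x)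
    obtain ⟨b1, b2, b3, b4⟩ := minusMat_mulVec (a := a) (b := b) u₀ u₁ x
    have hp : ∀ y : (Fin k ⊕ Fin k) ⊕ Fin 2 → F,
        QuadraticMap.polar Q y U = 2 * y (.inr 0) * u₀ + a * (y (.inr 0) * u₁ + y (.inr 1) * u₀) +
          2 * b * y (.inr 1) * u₁ ∧
        QuadraticMap.polar Q y O = 2 * y (.inr 0) + a * y (.inr 1) := fun y => by
      rw [← QuadraticMap.polarBilin_apply_apply, ← QuadraticMap.polarBilin_apply_apply, hB, hB]
      simp [U, O] <;> ring
    have hfx : ∀ j, pB Q x (f j) = x (.inl (.inl j)) := fun j => by rw [hB]; simp [f, Pi.single_apply]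
    have hex : ∀ j, pB Q x (e j) = x (.inl (.inr j)) := fun j => by rw [hB]; simp [e, Pi.single_apply]
    funext i
    simp only [hex, hfx, hQU, hQO, (hp _).1, (hp _).2]
    rcases i with (i | i) | i
    · rw [a1, b1]
      simp [U, O, e, f, Pi.single_apply, hcdef]
      rw [← hcdef]
      field_simp
      left; ring
    · rw [a2, b2]
      simp [U, O, e, f, Pi.single_apply]
      field_simp
      ring
    · fin_cases i
      · simp only [Fin.zero_eta, a3, b3, b4]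
        simp [U, O, e, f, Pi.single_apply]
        field_simp
        rw [hcdef]
        ring
      · simp only [Fin.mk_one, a4, b3, b4]
        simp [U, O, e, f, Pi.single_apply]
        field_simp
        rw [hcdef]
        ring
  rw [← map_mul, hd, map_mul, outS_scal S, one_mul, show outS (incl (r * h)) = outI (r * h) from rfl,
    map_mul, hr, ho, pow_succ']

omit hab

set_option maxHeartbeats 1000000 in
theorem preserves_minus_iff (h2 : (2 : F) ≠ 0) (hk : 3 ≤ k) (hab : ∀ z₁ z₂ : F, z₁ ^ 2 + a * z₁ * z₂ + b * z₂ ^ 2 = 0 → z₁ = 0 ∧ z₂ = 0)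
    (g : Cfsg.Geo.quadSimilarityGroup (F := F) ⇑Q) :
    Cfsg.PreservesSingularClassesMinus k a b (g.1 : Matrix _ _ F) ↔ epsS S (k + 1) g = 1 := by
  have hdisc : 4 * b - a * a ≠ 0 := fun h => h2 (hab (-a) 2 (by linear_combination h)).2
  haveI := fact_of_aniso hab
  have key : ∀ (K : Type _) (_ : Field K) (_ : Algebra F K), Module.finrank F K = 2 →
      (Cfsg.PreservesSingularClasses (Cfsg.quadFormMinus k K (algebraMap F K a) (algebraMap F K b))
        ((g.1 : Matrix _ _ F).map (algebraMap F K)) ↔ epsS S (k + 1) g = 1) := by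
    intro K _ _ hK
    haveI : Module.Finite F K := Module.finite_of_finrank_eq_succ hK
    haveI : Finite K := Module.finite_of_finite F
    letI : Fintype K := Fintype.ofFinite K
    set φ := algebraMap F K
    have hh2 : (2 : K) ≠ 0 := by
      rw [show (2 : K) = φ 2 from (map_ofNat φ 2).symm]
      exact (map_ne_zero φ).2 h2
    obtain ⟨QK, hQK, hnd⟩ := exists_minusForm k (φ a) (φ b) (by
      rw [show 4 * φ b - φ a * φ a = φ (4 * b - a * a) by simp [map_ofNat]]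
      exact (map_ne_zero φ).2 hdisc)
    have SK : QSetting QK := ⟨hnd, by simp [Fintype.card_sum]; omega⟩
    have hn : Fintype.card ((Fin k ⊕ Fin k) ⊕ Fin 2) = 2 * (k + 1) := by simp [Fintype.card_sum]; omega
    obtain ⟨ρ⟩ := FiniteField.nonempty_algHom_of_finrank_dvd (F := F) (K := QuadraticAlgebra F (-b) a) (L := K)
      (by rw [hK, show Module.finrank F (QuadraticAlgebra F (-b) a) = 2 from
        QuadraticAlgebra.finrank_eq_two _ _])
    set w : K := ρ QuadraticAlgebra.omega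
    have hw : w * w = -φ b + φ a * w := by
      rw [← map_mul, QuadraticAlgebra.omega_mul_omega_eq_add, map_add, map_smul, map_smul, map_one,
        Algebra.smul_def, Algebra.smul_def, mul_one, map_neg]
    -- a half
    let T : (Fin k → K) × K →ₗ[K] ((Fin k ⊕ Fin k) ⊕ Fin 2 → K) :=
      { toFun := fun p => Sum.elim (Sum.elim p.1 0) ![-(w * p.2), p.2]
        map_add' := fun p q => by
          funext i
          rcases i with (i | i) | i
          · rfl
          · simp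
          · fin_cases i <;> simp [mul_add, add_comm]
        map_smul' := fun t p => by
          funext i
          rcases i with (i | i) | i
          · rfl
          · simp
          · fin_cases i <;> simp <;> ring }
    have hTi : Function.Injective T := fun p q h => by
      refine Prod.ext (funext fun i => congrFun h (.inl (.inl i))) ?_
      exact congrFun h (.inr 1)
    have hL : ∀ x ∈ LinearMap.range T, QK x = 0 := by
      rintro _ ⟨p, rfl⟩
      rw [hQK]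
      simp [T, Cfsg.quadFormMinus]
      linear_combination (p.2 * p.2) * hw
    have hLd : Module.finrank K (LinearMap.range T) = k + 1 := by
      rw [LinearMap.finrank_range_of_inj hTi]; simp
    -- the multiplier is a square in `K`
    obtain ⟨s, hs⟩ : IsSquare (φ (simMul S g : F)) := by
      rw [FiniteField.isSquare_iff (Spinor.ringChar_ne_two hh2) ((map_ne_zero φ).2 (Units.ne_zero _)),
        ← map_pow, ← map_one φ]
      congr 1
      rw [← Nat.card_eq_fintype_card, Module.natCard_eq_pow_finrank (K := F), hK, Nat.card_eq_fintype_card]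
      have hodd : Fintype.card F % 2 = 1 := FiniteField.odd_card_of_char_ne_two (Spinor.ringChar_ne_two h2)
      obtain ⟨t, ht⟩ := Nat.odd_iff.2 hodd
      rw [show Fintype.card F ^ 2 / 2 = (Fintype.card F - 1) * (t + 1) by
        rw [ht, Nat.add_sub_cancel, show (2 * t + 1) ^ 2 = 2 * (2 * t * (t + 1)) + 1 by ring,
          Nat.mul_add_div two_pos]
        simp,
        pow_mul, FiniteField.pow_card_sub_one_eq_one _ (Units.ne_zero _), one_pow]
    have hs0 : s ≠ 0 := fun e => Units.ne_zero (simMul S g) ((map_eq_zero φ).1 (by rw [hs, e, mul_zero]))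
    let G : GL ((Fin k ⊕ Fin k) ⊕ Fin 2) K := Matrix.GeneralLinearGroup.map φ g.1
    have hG : ∀ x, QK ((G : Matrix _ _ K) *ᵥ x) = φ (simMul S g) * QK x := by
      have hφQ : ∀ y : (Fin k ⊕ Fin k) ⊕ Fin 2 → F, QK (fun i => φ (y i)) = φ (Q y) := fun y => by
        rw [hQK, hQ]; simp [Cfsg.quadFormMinus, map_sum]
      have hφG : ∀ y : (Fin k ⊕ Fin k) ⊕ Fin 2 → F,
          (G : Matrix _ _ K) *ᵥ (fun i => φ (y i)) = fun i => φ (((g.1 : Matrix _ _ F) *ᵥ y) i) :=
        fun y => funext fun i => (RingHom.map_mulVec φ ((g.1 : GL ((Fin k ⊕ Fin k) ⊕ Fin 2) F) : Matrix ((Fin k ⊕ Fin k) ⊕ Fin 2) ((Fin k ⊕ Fin k) ⊕ Fin 2) F) y i).symm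
      have hb : ∀ j, (Pi.basisFun K ((Fin k ⊕ Fin k) ⊕ Fin 2)) j = fun i => φ ((Pi.single j (1 : F) : (Fin k ⊕ Fin k) ⊕ Fin 2 → F) i) := by
        intro j; funext i; simp [Pi.single_apply, apply_ite φ]
      have hval : ∀ y : (Fin k ⊕ Fin k) ⊕ Fin 2 → F,
          QK ((G : Matrix _ _ K) *ᵥ fun i => φ (y i)) = φ (simMul S g) * QK (fun i => φ (y i)) := fun y => by
        rw [hφG, hφQ, hφQ, simMul_spec S, map_mul]
      have hadd : ∀ y z : (Fin k ⊕ Fin k) ⊕ Fin 2 → F,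
          (fun i => φ (y i)) + (fun i => φ (z i)) = fun i => φ ((y + z) i) := fun y z => by
        funext i; simp
      intro x
      have := Spinor.quad_ext (Pi.basisFun K ((Fin k ⊕ Fin k) ⊕ Fin 2))
        (φ (simMul S g) • QK) QK (LinearEquiv.ofInjectiveEndo (Matrix.mulVecLin (G : Matrix _ _ K))
          (fun p q h => (glPerm G).injective h))
        (fun i => by
          show φ (simMul S g) * QK _ = QK (G.val *ᵥ _)
          rw [hb, hval])
        (fun i j => by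
          show QuadraticMap.polar (φ (simMul S g) • QK) _ _ =
            QuadraticMap.polar QK (G.val *ᵥ _) (G.val *ᵥ _)
          simp only [QuadraticMap.polar, ← Matrix.mulVec_add, hb, hadd, hval, QuadraticMap.smul_apply,
            smul_eq_mul]) x
      exact this.symm
    let SS : Cfsg.Geo.quadSimilarityGroup (F := K) ⇑QK :=
      ⟨G, Units.mk0 _ ((map_ne_zero φ).2 (Units.ne_zero _)), hG⟩
    have hk1 : (scalSim (Q := QK) (Units.mk0 s hs0))⁻¹ * SS ∈ (simMul SK).ker := by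
      rw [MonoidHom.mem_ker, map_mul, map_inv, simMul_scal SK, inv_mul_eq_one]
      refine Units.ext ?_
      rw [Units.val_mul, Units.val_mk0, ← hs]
      exact (simMul_eq SK hG).symm
    rw [ker_simMul SK] at hk1
    obtain ⟨h, hh⟩ := hk1
    have hSS : SS = scalSim (Units.mk0 s hs0) * incl h := by
      rw [show incl h = _ from hh, mul_inv_cancel_left]
    have heps : (Matrix.GeneralLinearGroup.det h.1 : Kˣ) = Units.map φ.toMonoidHom (epsS S (k + 1) g) := by
      rw [← epsS_incl SK (k + 1), ← one_mul (epsS SK (k + 1) (incl h)),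
        ← epsS_scal SK hn (Units.mk0 s hs0), ← map_mul, ← hSS, epsS_apply, epsS_apply, map_div, map_pow]
      congr 1
      · exact Units.ext (RingHom.map_det φ ((g.1 : GL ((Fin k ⊕ Fin k) ⊕ Fin 2) F) : Matrix ((Fin k ⊕ Fin k) ⊕ Fin 2) ((Fin k ⊕ Fin k) ⊕ Fin 2) F)).symm
      · congr 1
        exact Units.ext (simMul_eq SK hG)
    have himg : ∀ U, Cfsg.imageSubmodule (G : Matrix _ _ K) U = Cfsg.imageSubmodule ((h.1 : GL ((Fin k ⊕ Fin k) ⊕ Fin 2) K) : Matrix ((Fin k ⊕ Fin k) ⊕ Fin 2) ((Fin k ⊕ Fin k) ⊕ Fin 2) K) U := by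
      intro U
      have e : ∀ x, (G : Matrix _ _ K) *ᵥ x = s • (((h.1 : GL ((Fin k ⊕ Fin k) ⊕ Fin 2) K) : Matrix ((Fin k ⊕ Fin k) ⊕ Fin 2) ((Fin k ⊕ Fin k) ⊕ Fin 2) K) *ᵥ x) := fun x => by
        have := congrArg (fun z => (ofSim z).1 x) hSS
        simp only [map_mul] at this
        exact this.trans (scalSim_apply _ _)
      refine Submodule.ext fun y => ⟨?_, ?_⟩
      · rintro ⟨x, hx, rfl⟩
        exact ⟨s • x, U.smul_mem s hx, by
          rw [map_smul, Matrix.toLin'_apply, Matrix.toLin'_apply, e]⟩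
      · rintro ⟨x, hx, rfl⟩
        exact ⟨s⁻¹ • x, U.smul_mem _ hx, by
          rw [map_smul, Matrix.toLin'_apply, Matrix.toLin'_apply, e, inv_smul_smul₀ hs0]⟩
    have hiff : ∀ U, Cfsg.IsMaxTotallySingular (⇑QK) U →
        (Cfsg.SameParityClass U (Cfsg.imageSubmodule (G : Matrix _ _ K) U) ↔ epsS S (k + 1) g = 1) := by
      intro U hU
      rw [himg, sameParity_iff SK hn hh2 hU.1 (finrank_max SK hn hh2 hL hLd hU), heps,
        ← (Units.map φ.toMonoidHom).map_one, (Units.map_injective φ.injective).eq_iff]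
    rw [← hQK]
    have hM := isMax_half SK hn hh2 hL hLd
    exact ⟨fun hp => (hiff _ hM).1 (hp _ hM), fun he U hU => (hiff U hU).2 he⟩
  constructor
  · rintro ⟨K, i1, i2, hK, hp⟩
    exact (key K i1 i2 hK).1 hp
  · intro he
    exact ⟨QuadraticAlgebra F (-b) a, inferInstance, inferInstance, QuadraticAlgebra.finrank_eq_two _ _,
      (key _ _ _ (QuadraticAlgebra.finrank_eq_two _ _)).2 he⟩

theorem inndiag_minus_map (h2 : (2 : F) ≠ 0) (hk : 3 ≤ k) (hab : ∀ z₁ z₂ : F, z₁ ^ 2 + a * z₁ * z₂ + b * z₂ ^ 2 = 0 → z₁ = 0 ∧ z₂ = 0) :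
    (Cfsg.autSubgroupOf fun β : MulAut (Cfsg.POmega F ⇑Q) =>
      ∃ g : GL ((Fin k ⊕ Fin k) ⊕ Fin 2) F, g ∈ Cfsg.Geo.quadSimilarityGroup (F := F) ⇑Q ∧
        Cfsg.PreservesSingularClassesMinus k a b (g : Matrix _ _ F) ∧
        Cfsg.IsInducedBySemilinearPOmega (⇑Q) g (RingEquiv.refl F) β) =
      (epsS S (k + 1)).ker.map (simAut (Q := Q)) := by
  refine (congrArg Subgroup.closure (Set.ext fun β => ⟨?_, ?_⟩)).trans (Subgroup.closure_eq _)
  · rintro ⟨g, hg, hp, h⟩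
    exact ⟨⟨g, hg⟩, (preserves_minus_iff hQ S h2 hk hab ⟨g, hg⟩).1 hp,
      ((induced_sim_iff ⟨g, hg⟩ β).1 h).symm⟩
  · rintro ⟨g, hg, rfl⟩
    exact ⟨g.1, g.2, (preserves_minus_iff hQ S h2 hk hab g).2 hg, (induced_sim_iff g _).2 rfl⟩

end Fixed

end Cfsg.Agent.AutPOmega
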