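import Cfsg.Agent.Lib.AutPOmega.Minus
import Cfsg.Agent.Lib.Spinor.Rows

/-!
# Proper similarities of the elliptic form in every characteristic
-/

set_option autoImplicit false
set_option linter.unusedSectionVars false
set_option maxHeartbeats 2000000

namespace Cfsg.Agent.AutPOmega

open Cfsg.Agent Cfsg.Agent.TransvMax Cfsg.Agent.QMax
open scoped Matrix

section Parity

variable {ι : Type} [Fintype ι] [DecidableEq ι] {F : Type*} [Field F] [Fintype F]
  {Q : QuadraticForm F (ι → F)}

local notation "IsoQ" => Cfsg.isometryGroup F (DFunLike.coe Q)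

variable (S : QSetting Q) {n : ℕ} (hn : Fintype.card ι = 2 * n)

include S hn

/-- The parity of a half and its image, by the Dickson character. -/
theorem sameParity_dk {U : Submodule F (ι → F)} (hU : ∀ x ∈ U, Q x = 0)
    (hUd : Module.finrank F U = n) (h : IsoQ) :
    Cfsg.SameParityClass U (Cfsg.imageSubmodule (h.1 : Matrix ι ι F) U) ↔
      OrthRows.dk S.nondeg (hexc S) h = 1 := by
  rw [Cfsg.SameParityClass, Cfsg.imageSubmodule, hUd,
    show Matrix.toLin' (h.1 : Matrix ι ι F) = Matrix.mulVecLin (h.1 : Matrix ι ι F) from rfl,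
    Spinor.mulVecLin_oEquiv,
    ← Spinor.dick_eq_one_iff_even S.nondeg (OrthRows.gen_top S.nondeg (hexc S))
      (by rw [Module.finrank_fintype_fun_eq_card, hn]) _ hU hUd rfl]
  rfl

theorem finrank_max_dk {L : Submodule F (ι → F)} (hL : ∀ x ∈ L, Q x = 0) (hLd : Module.finrank F L = n)
    {U : Submodule F (ι → F)} (hU : Cfsg.IsMaxTotallySingular (⇑Q) U) : Module.finrank F U = n := by
  obtain ⟨X, hUX, hX, hXd⟩ := exists_half_ge S hU.1 hL (by rw [hLd, hn])
  rw [hU.2 X hX hUX] at hXd
  omega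

theorem isMax_half_dk {L : Submodule F (ι → F)} (hL : ∀ x ∈ L, Q x = 0) (hLd : Module.finrank F L = n) :
    Cfsg.IsMaxTotallySingular (⇑Q) L :=
  ⟨hL, fun W hW hLW => (Submodule.eq_of_le_of_finrank_le hLW (by
    have := two_finrank_le S hW
    omega)).symm⟩

end Parity

section Ext

variable {ι : Type} [Fintype ι] [DecidableEq ι] {F : Type*} [Field F] [Fintype F] {K : Type*} [Field K]
  (j : F →+* K) {Q : QuadraticForm F (ι → F)} {QK : QuadraticForm K (ι → K)}
  (hj : ∀ u : ι → F, QK (fun i => j (u i)) = j (Q u))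

/-- Forms agreeing on the rational vectors agree. -/
theorem quad_ext_ext {A B : QuadraticForm K (ι → K)} (h : ∀ u : ι → F, A (fun i => j (u i)) = B fun i => j (u i))
    (x : ι → K) : A x = B x := by
  have hb : ∀ k, (Pi.basisFun K ι k : ι → K) = fun i => j ((Pi.single k (1 : F) : ι → F) i) := fun k => by
    funext i; simp [Pi.single_apply, apply_ite j]
  refine Spinor.quad_ext (Pi.basisFun K ι) A B (LinearEquiv.refl K _) (fun k => ?_) (fun k l => ?_) x
  · rw [LinearEquiv.refl_apply, hb, h]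
  · simp only [LinearEquiv.refl_apply, QuadraticMap.polar, hb, Pi.add_def, ← map_add, h]

include hj

/-- Extension of scalars of isometries. -/
noncomputable def isoExt : Cfsg.isometryGroup F ⇑Q →* Cfsg.isometryGroup K ⇑QK :=
  MonoidHom.mk' (fun h => ⟨Matrix.GeneralLinearGroup.map j h.1, fun v _ =>
    quad_ext_ext j (A := QK.comp (Matrix.mulVecLin ((Matrix.GeneralLinearGroup.map j h.1 : GL ι K) : Matrix ι ι K)))
      (B := QK) (fun u => by
        rw [QuadraticMap.comp_apply, Matrix.mulVecLin_apply,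
          show ((Matrix.GeneralLinearGroup.map j h.1 : GL ι K) : Matrix ι ι K) *ᵥ (fun i => j (u i)) =
            fun i => j ((((h.1 : GL ι F) : Matrix ι ι F) *ᵥ u) i) from
            funext fun i => (RingHom.map_mulVec j _ u i).symm,
          hj, hj]
        exact congrArg j (h.2 u u)) v⟩) fun g h => Subtype.ext (map_mul _ g.1 h.1)

theorem isoExt_rf {v : ι → F} (hv : Q v ≠ 0) (hjv : QK (fun i => j (v i)) ≠ 0) :
    isoExt j hj (OrthRows.rf Q v hv) = OrthRows.rf QK (fun i => j (v i)) hjv := by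
  refine Subtype.ext (Units.ext ?_)
  show ((OrthRows.rf Q v hv).1 : Matrix ι ι F).map j = ((OrthRows.rf QK (fun i => j (v i)) hjv).1 : Matrix ι ι K)
  refine Matrix.toLin'.injective ((Pi.basisFun K ι).ext fun k => ?_)
  rw [Matrix.toLin'_apply, Matrix.toLin'_apply, OrthRows.rf_val,
    show (Pi.basisFun K ι k : ι → K) = fun i => j ((Pi.single k (1 : F) : ι → F) i) by
      funext i; simp [Pi.single_apply, apply_ite j]]
  funext i
  refine (RingHom.map_mulVec j (Cfsg.reflectionMatrix (⇑Q) v) (Pi.single k 1) i).symm.trans ?_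
  rw [OrthRows.rf_val, FormsLib.reflectionMatrix_mulVec, FormsLib.reflectionMatrix_mulVec,
    FormsLib.reflHom_apply, FormsLib.reflHom_apply]
  have hp : QuadraticMap.polar QK (fun i => j ((Pi.single k (1 : F) : ι → F) i)) (fun i => j (v i)) =
      j (QuadraticMap.polar Q (Pi.single k 1) v) := by
    simp only [QuadraticMap.polar, map_sub, ← hj]
    congr 3
    funext l; simp
  rw [hp, hj]
  simp

theorem dk_isoExt [Fintype K] (S : QSetting Q) (SK : QSetting QK) (h : Cfsg.isometryGroup F ⇑Q) :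
    OrthRows.dk SK.nondeg (hexc SK) (isoExt j hj h) = OrthRows.dk S.nondeg (hexc S) h := by
  refine DFunLike.congr_fun (MonoidHom.eq_of_eqOn_dense (OrthRows.closure_rf S.nondeg (hexc S))
    (f := (OrthRows.dk SK.nondeg (hexc SK)).comp (isoExt j hj)) (g := OrthRows.dk S.nondeg (hexc S)) ?_) h
  rintro x ⟨v, hv, hx⟩
  rw [OrthRows.eq_rf hv hx]
  have hjv : QK (fun i => j (v i)) ≠ 0 := by rw [hj]; exact (map_ne_zero j).2 hv
  show OrthRows.dk SK.nondeg (hexc SK) (isoExt j hj (OrthRows.rf Q v hv)) = _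
  rw [isoExt_rf j hj hv hjv, OrthRows.dk_rf, OrthRows.dk_rf]

end Ext

section Chi

variable {F : Type*} [Field F] [Fintype F] {k : ℕ} {a b : F}
  {Q : QuadraticForm F ((Fin k ⊕ Fin k) ⊕ Fin 2 → F)} (hQ : ⇑Q = Cfsg.quadFormMinus k F a b)
  (hab : ∀ z₁ z₂ : F, z₁ ^ 2 + a * z₁ * z₂ + b * z₂ ^ 2 = 0 → z₁ = 0 ∧ z₂ = 0) (S : QSetting Q)

include hQ hab S

/-- In characteristic two the classes are preserved exactly by the isometry parts of trivial Dickson invariant. -/
theorem preserves_minus_two (h2 : (2 : F) = 0) (c : Fˣ) (h0 : Cfsg.isometryGroup F ⇑Q) :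
    Cfsg.PreservesSingularClassesMinus k a b
        ((scalSim (Q := Q) c * incl h0).1 : Matrix ((Fin k ⊕ Fin k) ⊕ Fin 2) ((Fin k ⊕ Fin k) ⊕ Fin 2) F) ↔
      OrthRows.dk S.nondeg (hexc S) h0 = 1 := by
  have ha : a ≠ 0 := by
    intro ha
    obtain ⟨s, hs⟩ := FiniteField.isSquare_of_char_two (Spinor.ringChar_eq_two h2) b
    exact one_ne_zero (hab s 1 (by rw [ha, hs]; linear_combination (s * s) * h2)).2
  have hdisc : 4 * b - a * a ≠ 0 := fun h => ha (mul_self_eq_zero.1 (by linear_combination -h + (2 * b) * h2))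
  haveI := fact_of_aniso hab
  have key : ∀ (K : Type _) (_ : Field K) (_ : Algebra F K), Module.finrank F K = 2 →
      (Cfsg.PreservesSingularClasses (Cfsg.quadFormMinus k K (algebraMap F K a) (algebraMap F K b))
        (((scalSim (Q := Q) c * incl h0).1 : Matrix ((Fin k ⊕ Fin k) ⊕ Fin 2) ((Fin k ⊕ Fin k) ⊕ Fin 2) F).map
          (algebraMap F K)) ↔ OrthRows.dk S.nondeg (hexc S) h0 = 1) := by
    intro K _ _ hK
    haveI : Module.Finite F K := Module.finite_of_finrank_eq_succ hK
    haveI : Finite K := Module.finite_of_finite F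
    letI : Fintype K := Fintype.ofFinite K
    set φ := algebraMap F K
    obtain ⟨QK, hQK, hnd⟩ := exists_minusForm k (φ a) (φ b) (by
      rw [show 4 * φ b - φ a * φ a = φ (4 * b - a * a) by simp [map_ofNat]]
      exact (map_ne_zero φ).2 hdisc)
    have SK : QSetting QK := ⟨hnd, S.dim⟩
    have hn : Fintype.card ((Fin k ⊕ Fin k) ⊕ Fin 2) = 2 * (k + 1) := by simp [Fintype.card_sum]; omega
    obtain ⟨ρ⟩ := FiniteField.nonempty_algHom_of_finrank_dvd (F := F) (K := QuadraticAlgebra F (-b) a) (L := K)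
      (by rw [hK, show Module.finrank F (QuadraticAlgebra F (-b) a) = 2 from
        QuadraticAlgebra.finrank_eq_two _ _])
    set w : K := ρ QuadraticAlgebra.omega
    have hw : w * w = -φ b + φ a * w := by
      rw [← map_mul, QuadraticAlgebra.omega_mul_omega_eq_add, map_add, map_smul, map_smul, map_one,
        Algebra.smul_def, Algebra.smul_def, mul_one, map_neg]
    let T : (Fin k → K) × K →ₗ[K] ((Fin k ⊕ Fin k) ⊕ Fin 2 → K) :=
      { toFun := fun p => Sum.elim (Sum.elim p.1 0) ![-(w * p.2), p.2]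
        map_add' := fun p q => by
          funext i
          rcases i with (i | i) | i
          · rfl
          · simp
          · fin_cases i <;> simp [mul_add, add_comm]
        map_smul' := fun t p => by
          funext i
          rcases i with (i | i) | i
          · rfl
          · simp
          · fin_cases i <;> simp <;> ring }
    have hTi : Function.Injective T := fun p q h => by
      refine Prod.ext (funext fun i => congrFun h (.inl (.inl i))) ?_
      exact congrFun h (.inr 1)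
    have hL : ∀ x ∈ LinearMap.range T, QK x = 0 := by
      rintro _ ⟨p, rfl⟩
      rw [hQK]
      simp [T, Cfsg.quadFormMinus]
      linear_combination (p.2 * p.2) * hw
    have hLd : Module.finrank K (LinearMap.range T) = k + 1 := by
      rw [LinearMap.finrank_range_of_inj hTi]; simp
    have hj : ∀ u : (Fin k ⊕ Fin k) ⊕ Fin 2 → F, QK (fun i => φ (u i)) = φ (Q u) := fun u => by
      rw [hQK, hQ]; simp [Cfsg.quadFormMinus, map_sum]
    have himg : ∀ U, Cfsg.imageSubmodule
        (((scalSim (Q := Q) c * incl h0).1 : Matrix ((Fin k ⊕ Fin k) ⊕ Fin 2) ((Fin k ⊕ Fin k) ⊕ Fin 2) F).map φ) U =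
        Cfsg.imageSubmodule ((isoExt φ hj h0).1 : Matrix ((Fin k ⊕ Fin k) ⊕ Fin 2) ((Fin k ⊕ Fin k) ⊕ Fin 2) K) U := by
      intro U
      have e : ∀ x, (((scalSim (Q := Q) c * incl h0).1 : Matrix ((Fin k ⊕ Fin k) ⊕ Fin 2) ((Fin k ⊕ Fin k) ⊕ Fin 2) F).map φ) *ᵥ x =
          φ c • (((isoExt φ hj h0).1 : Matrix ((Fin k ⊕ Fin k) ⊕ Fin 2) ((Fin k ⊕ Fin k) ⊕ Fin 2) K) *ᵥ x) := fun x => by
        rw [← Matrix.smul_mulVec]
        congr 1
        ext i l
        simp [scalSim, Matrix.GeneralLinearGroup.scalar, isoExt]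
      have hc0 : φ c ≠ 0 := (map_ne_zero φ).2 c.ne_zero
      refine Submodule.ext fun y => ⟨?_, ?_⟩
      · rintro ⟨x, hx, rfl⟩
        exact ⟨φ c • x, U.smul_mem _ hx, by
          rw [map_smul, Matrix.toLin'_apply, Matrix.toLin'_apply, e]⟩
      · rintro ⟨x, hx, rfl⟩
        exact ⟨(φ c)⁻¹ • x, U.smul_mem _ hx, by
          rw [map_smul, Matrix.toLin'_apply, Matrix.toLin'_apply, e, inv_smul_smul₀ hc0]⟩
    have hiff : ∀ U, Cfsg.IsMaxTotallySingular (⇑QK) U →
        (Cfsg.SameParityClass U (Cfsg.imageSubmodule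
          (((scalSim (Q := Q) c * incl h0).1 : Matrix ((Fin k ⊕ Fin k) ⊕ Fin 2) ((Fin k ⊕ Fin k) ⊕ Fin 2) F).map φ) U) ↔
          OrthRows.dk S.nondeg (hexc S) h0 = 1) := by
      intro U hU
      rw [himg, sameParity_dk SK hn hU.1 (finrank_max_dk SK hn hL hLd hU), dk_isoExt φ hj S SK]
    rw [← hQK]
    have hM := isMax_half_dk SK hn hL hLd
    exact ⟨fun hp => (hiff _ hM).1 (hp _ hM), fun he U hU => (hiff U hU).2 he⟩
  constructor
  · rintro ⟨K, i1, i2, hK, hp⟩
    exact (key K i1 i2 hK).1 hp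
  · intro he
    exact ⟨QuadraticAlgebra F (-b) a, inferInstance, inferInstance, QuadraticAlgebra.finrank_eq_two _ _,
      (key _ _ _ (QuadraticAlgebra.finrank_eq_two _ _)).2 he⟩

omit hQ hab in
/-- In characteristic two a similarity is a scalar times an isometry. -/
theorem sim_two (h2 : (2 : F) = 0) (g : Cfsg.Geo.quadSimilarityGroup (F := F) ⇑Q) :
    ∃ (c : Fˣ) (h : Cfsg.isometryGroup F ⇑Q), g = scalSim c * incl h := by
  obtain ⟨s, hs⟩ := FiniteField.isSquare_of_char_two (Spinor.ringChar_eq_two h2) (simMul S g : F)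
  have hs0 : s ≠ 0 := fun e => Units.ne_zero (simMul S g) (by rw [hs, e, zero_mul])
  have hk1 : (scalSim (Q := Q) (Units.mk0 s hs0))⁻¹ * g ∈ (simMul S).ker := by
    rw [MonoidHom.mem_ker, map_mul, map_inv, simMul_scal S, inv_mul_eq_one]
    exact Units.ext hs.symm
  rw [ker_simMul S] at hk1
  obtain ⟨h, he⟩ := hk1
  exact ⟨_, h, by rw [show incl h = _ from he, mul_inv_cancel_left]⟩

/-- The character cutting out the class-preserving similarities. -/
theorem exists_chi (hk : 3 ≤ k) :
    ∃ χ : Cfsg.Geo.quadSimilarityGroup (F := F) ⇑Q →* ℤˣ,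
      (∀ g : Cfsg.Geo.quadSimilarityGroup (F := F) ⇑Q, Cfsg.PreservesSingularClassesMinus k a b
        (g.1 : Matrix ((Fin k ⊕ Fin k) ⊕ Fin 2) ((Fin k ⊕ Fin k) ⊕ Fin 2) F) ↔ χ g = 1) ∧
      (∀ h, χ (incl h) = OrthRows.dk S.nondeg (hexc S) h) ∧ ∀ c, χ (scalSim c) = 1 := by
  classical
  by_cases h2 : (2 : F) = 0
  · choose c h hd using sim_two S h2
    have huniq : ∀ c c' h h', scalSim (Q := Q) c * incl h = scalSim c' * incl h' → c = c' ∧ h = h' := by
      intro c c' h h' e
      have e1 := congrArg (simMul S) e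
      rw [map_mul, map_mul, simMul_incl S, simMul_incl S, mul_one, mul_one, simMul_scal S, simMul_scal S] at e1
      have e2 : (c : F) = c' := by
        have e3 := congrArg Units.val e1
        rw [Units.val_mul, Units.val_mul] at e3
        have e4 : ((c : F) - c') * ((c : F) - c') = 0 := by
          linear_combination e3 + ((c' : F) * c' - (c : F) * c') * h2
        exact sub_eq_zero.1 (mul_self_eq_zero.1 e4)
      obtain rfl := Units.ext e2
      exact ⟨rfl, Subgroup.inclusion_injective _ (mul_left_cancel e)⟩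
    have hcomm : ∀ (c : Fˣ) (g : Cfsg.Geo.quadSimilarityGroup (F := F) ⇑Q), scalSim c * g = g * scalSim c := by
      intro c g
      refine Subtype.ext (Units.ext ?_)
      simp [scalSim, Matrix.GeneralLinearGroup.scalar, ← Matrix.smul_one_eq_diagonal]
    let χ : Cfsg.Geo.quadSimilarityGroup (F := F) ⇑Q →* ℤˣ :=
      MonoidHom.mk' (fun g => OrthRows.dk S.nondeg (hexc S) (h g)) fun g g' => by
        show OrthRows.dk S.nondeg (hexc S) (h (g * g')) = _ * _
        rw [(huniq (c (g * g')) (c g * c g') (h (g * g')) (h g * h g') (by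
          have e : g * g' = scalSim (c g * c g') * incl (h g * h g') := by
            conv_lhs => rw [hd g, hd g']
            rw [map_mul, map_mul, mul_assoc (scalSim (c g)), ← mul_assoc (incl (h g)), ← hcomm (c g') (incl (h g))]
            simp only [mul_assoc]
          rw [← hd]
          exact e)).2, map_mul]
    refine ⟨χ, fun g => ?_, fun h' => ?_, fun c' => ?_⟩
    · have := preserves_minus_two hQ hab S h2 (c g) (h g)
      rwa [← hd] at this
    · show OrthRows.dk S.nondeg (hexc S) (h (incl h')) = _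
      exact congrArg _ (huniq (c (incl h')) 1 (h (incl h')) h' (by rw [← hd, map_one, one_mul])).2
    · show OrthRows.dk S.nondeg (hexc S) (h (scalSim c')) = 1
      rw [← (huniq c' (c (scalSim c')) 1 (h (scalSim c')) (by rw [← hd, map_one, mul_one])).2, map_one]
  · have hn : Fintype.card ((Fin k ⊕ Fin k) ⊕ Fin 2) = 2 * (k + 1) := by simp [Fintype.card_sum]; omega
    let χ : Cfsg.Geo.quadSimilarityGroup (F := F) ⇑Q →* ℤˣ :=
      MonoidHom.mk' (fun g => if epsS S (k + 1) g = 1 then 1 else -1) fun g g' => by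
        have hne := neg_one_ne_one S hn h2
        rcases epsS_cases S hn h2 g with e | e <;> rcases epsS_cases S hn h2 g' with e' | e' <;>
          simp [map_mul, e, e', hne]
    refine ⟨χ, fun g => ?_, fun h' => ?_, fun c' => ?_⟩
    · rw [preserves_minus_iff hQ S h2 hk hab]
      show _ ↔ (if _ then (1 : ℤˣ) else -1) = 1
      split_ifs with h
      · simp [h]
      · simp [h]
    · show (if _ then (1 : ℤˣ) else -1) = _
      rw [epsS_incl S]
      split_ifs with h
      · exact (((OrthRows.dk_special_odd S.nondeg (hexc S) h2).1 (OrthRows.mem_special.2 h))).symm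
      · rcases Int.units_eq_one_or (OrthRows.dk S.nondeg (hexc S) h') with e | e
        · exact absurd (OrthRows.mem_special.1 ((OrthRows.dk_special_odd S.nondeg (hexc S) h2).2 e)) h
        · exact e.symm
    · show (if _ then (1 : ℤˣ) else -1) = 1
      rw [epsS_scal S hn, if_pos rfl]

theorem inndiag_minus_chi {χ : Cfsg.Geo.quadSimilarityGroup (F := F) ⇑Q →* ℤˣ}
    (hχ : ∀ g : Cfsg.Geo.quadSimilarityGroup (F := F) ⇑Q, Cfsg.PreservesSingularClassesMinus k a b
      (g.1 : Matrix ((Fin k ⊕ Fin k) ⊕ Fin 2) ((Fin k ⊕ Fin k) ⊕ Fin 2) F) ↔ χ g = 1) :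
    (Cfsg.autSubgroupOf fun β : MulAut (Cfsg.POmega F ⇑Q) =>
      ∃ g : GL ((Fin k ⊕ Fin k) ⊕ Fin 2) F, g ∈ Cfsg.Geo.quadSimilarityGroup (F := F) ⇑Q ∧
        Cfsg.PreservesSingularClassesMinus k a b (g : Matrix _ _ F) ∧
        Cfsg.IsInducedBySemilinearPOmega (⇑Q) g (RingEquiv.refl F) β) = χ.ker.map (simAut (Q := Q)) := by
  refine (congrArg Subgroup.closure (Set.ext fun β => ⟨?_, ?_⟩)).trans (Subgroup.closure_eq _)
  · rintro ⟨g, hg, hp, h⟩
    exact ⟨⟨g, hg⟩, (hχ ⟨g, hg⟩).1 hp, ((induced_sim_iff ⟨g, hg⟩ β).1 h).symm⟩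
  · rintro ⟨g, hg, rfl⟩
    exact ⟨g.1, g.2, (hχ g).2 hg, (induced_sim_iff g _).2 rfl⟩

end Chi

end Cfsg.Agent.AutPOmega
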