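import Cfsg.Agent.Lib.AutPOmega.MinusField

/-!
# The classes of field automorphisms of the minus-type orthogonal groups
-/

set_option autoImplicit false
set_option linter.unusedSectionVars false
set_option maxHeartbeats 2000000

namespace Cfsg.Agent.AutPOmega

open Cfsg.Agent Cfsg.Agent.TransvMax Cfsg.Agent.QMax
open scoped Matrix

/-- The setting of a minus form. -/
theorem exists_minus_setting {F : Type*} [Field F] [Fintype F] {k : ℕ} (hk : 3 ≤ k) (a b : F)
    (hab : ∀ z₁ z₂ : F, z₁ ^ 2 + a * z₁ * z₂ + b * z₂ ^ 2 = 0 → z₁ = 0 ∧ z₂ = 0) :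
    ∃ Q : QuadraticForm F ((Fin k ⊕ Fin k) ⊕ Fin 2 → F), ⇑Q = Cfsg.quadFormMinus k F a b ∧ QSetting Q := by
  have hdisc : 4 * b - a * a ≠ 0 := by
    by_cases h2 : (2 : F) = 0
    · intro h
      have ha : a = 0 := mul_self_eq_zero.1 (by linear_combination -h + (2 * b) * h2)
      obtain ⟨s, hs⟩ := FiniteField.isSquare_of_char_two (Spinor.ringChar_eq_two h2) b
      exact one_ne_zero (hab s 1 (by rw [ha, hs]; linear_combination (s * s) * h2)).2
    · exact fun h => h2 (hab (-a) 2 (by linear_combination h)).2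
  obtain ⟨Q, hQ, hn⟩ := exists_minusForm k a b hdisc
  exact ⟨Q, hQ, hn, by simp [Fintype.card_sum]; omega⟩

/-- An anisotropic binary form stays anisotropic on the fixed field, so it excludes involutions. -/
theorem minus_sigma_ne_two {F : Type*} [Field F] [Fintype F] {a b : F}
    (hab : ∀ z₁ z₂ : F, z₁ ^ 2 + a * z₁ * z₂ + b * z₂ ^ 2 = 0 → z₁ = 0 ∧ z₂ = 0)
    (σ : F ≃+* F) (ha : σ a = a) (hb : σ b = b) : orderOf σ ≠ 2 := by
  intro h
  let F₁ := (σ : F →+* F).eqLocusField (RingHom.id F)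
  haveI : Fintype F₁ := Fintype.ofFinite _
  let a₁ : F₁ := ⟨a, ha⟩
  let b₁ : F₁ := ⟨b, hb⟩
  haveI := fact_of_aniso (F := F₁) (a := a₁) (b := b₁) (fun z₁ z₂ e => by
    have e' := congrArg Subtype.val e
    obtain ⟨h1, h2⟩ := hab z₁ z₂ e'
    exact ⟨Subtype.ext h1, Subtype.ext h2⟩)
  have hd : Module.finrank F₁ F = 2 := by
    have h1 := AutPSL.card_eq_card_fixed_pow σ
    rw [h, Module.natCard_eq_pow_finrank (K := F₁) (V := F)] at h1
    exact Nat.pow_right_injective (Finite.one_lt_card (α := F₁)) h1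
  obtain ⟨ρ⟩ := FiniteField.nonempty_algHom_of_finrank_dvd (F := F₁) (K := QuadraticAlgebra F₁ (-b₁) a₁) (L := F)
    (by rw [hd, show Module.finrank F₁ (QuadraticAlgebra F₁ (-b₁) a₁) = 2 from
      QuadraticAlgebra.finrank_eq_two _ _])
  set w : F := ρ QuadraticAlgebra.omega
  have hw : w * w = -b + a * w := by
    rw [← map_mul, QuadraticAlgebra.omega_mul_omega_eq_add, map_add, map_smul, map_smul, map_one,
      Algebra.smul_def, Algebra.smul_def, mul_one, map_neg]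
    rfl
  exact one_ne_zero (hab (-w) 1 (by linear_combination hw)).2

section Field

variable {F : Type*} [Field F] [Fintype F] {k : ℕ} {a b : F}
  {Q : QuadraticForm F ((Fin k ⊕ Fin k) ⊕ Fin 2 → F)} (hQ : ⇑Q = Cfsg.quadFormMinus k F a b)
  (hab : ∀ z₁ z₂ : F, z₁ ^ 2 + a * z₁ * z₂ + b * z₂ ^ 2 = 0 → z₁ = 0 ∧ z₂ = 0) (S : QSetting Q)
  (hk : 3 ≤ k)

include hQ hab S hk

theorem h8_minus : Fintype.card ((Fin k ⊕ Fin k) ⊕ Fin 2) = 8 → ∀ W : Submodule F ((Fin k ⊕ Fin k) ⊕ Fin 2 → F),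
    (∀ x ∈ W, Q x = 0) → Module.finrank F W ≤ 3 := fun h W hW => by
  simp [Fintype.card_sum] at h
  refine (Spinor.minus_ts_finrank_le a b hab W fun v hv => ?_).trans (by omega)
  rw [← hQ]
  exact hW v hv

/-- A field automorphism as a semilinear similitude of odd prime order. -/
theorem exists_field_data {x : MulAut (Cfsg.POmega F ⇑Q)}
    (hx : ∃ (a' b' : F) (ψ : Cfsg.POmega F ⇑Q ≃* Cfsg.POmega F (Cfsg.quadFormMinus k F a' b')) (σ : F ≃+* F),
      (∀ z₁ z₂ : F, z₁ ^ 2 + a' * z₁ * z₂ + b' * z₂ ^ 2 = 0 → z₁ = 0 ∧ z₂ = 0) ∧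
      σ ≠ RingEquiv.refl F ∧ σ a' = a' ∧ σ b' = b' ∧
      Cfsg.IsFieldAutPOmegaOf (Cfsg.quadFormMinus k F a' b') σ ((ψ.symm.trans x).trans ψ))
    {r : ℕ} (hr : r.Prime) (hxr : orderOf x = r) :
    Odd r ∧ ∃ T : SemiT Q, x = theta T ∧ T ^ r = 1 ∧ orderOf (sigHom S T) = r := by
  obtain ⟨a', b', ψ, σ, hab', hne, ha', hb', hfld⟩ := hx
  obtain ⟨Q', hQ', S'⟩ := exists_minus_setting hk a' b' hab'
  revert ψ
  rw [← hQ']
  intro ψ hfld
  have h : Cfsg.IsSemisimilarityPair (⇑Q') (1 : GL ((Fin k ⊕ Fin k) ⊕ Fin 2) F) σ := ⟨1, fun v => by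
    rw [Units.val_one, Units.val_one, Matrix.one_mulVec, one_mul, hQ']
    simp [Cfsg.quadFormMinus, map_sum, ha', hb']⟩
  have hβ : MulAut.congr ψ x = theta (ofPair h) := (induced_iff h _).1 (fun s s' e => hfld s s' (by simpa using e))
  have hsig : sigHom S' (ofPair h) = σ := by
    obtain ⟨c, hc⟩ := isSemi_matrix h
    exact sigT_eq S' (T := ofPair h) hc
  have hσr : orderOf σ = r := by
    refine ((Nat.dvd_prime hr).1 (orderOf_dvd_of_pow_eq_one ?_)).resolve_left fun e => hne (orderOf_eq_one_iff.1 e)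
    rw [← hsig]
    refine theta_pow_sig' S' ?_
    rw [← hβ, ← map_pow, ← hxr, pow_orderOf_eq_one, map_one]
  have hodd : Odd r := hr.odd_of_ne_two fun e => minus_sigma_ne_two hab' σ ha' hb' (hσr.trans e)
  refine ⟨hodd, ?_⟩
  obtain ⟨T₀, hT₀⟩ := theta_surjective S (h8_minus hQ hab S hk) x
  have hp : theta T₀ ^ r = 1 := by rw [hT₀, ← hxr, pow_orderOf_eq_one]
  have hTr : orderOf (sigHom S T₀) = r := by
    refine ((Nat.dvd_prime hr).1 (orderOf_dvd_of_pow_eq_one (theta_pow_sig' S hp))).resolve_left fun e => ?_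
    obtain ⟨g, hg⟩ := (sig_eq_one_iff S).1 (orderOf_eq_one_iff.1 e)
    have h4 : x ^ 4 ∈ Cfsg.Inn (Cfsg.POmega F ⇑Q) := by
      refine (QuotientGroup.eq_one_iff _).1 ?_
      show QuotientGroup.mk' _ (x ^ 4) = 1
      rw [map_pow, ← hT₀, ← hg]
      exact outS_pow_four S g
    obtain ⟨s, hs⟩ := h4
    have h5 : outT (ofPair h) ^ 4 = 1 := by
      show QuotientGroup.mk' _ (theta (ofPair h)) ^ 4 = 1
      rw [← map_pow, ← hβ, ← map_pow, ← hs]
      refine (QuotientGroup.eq_one_iff _).2 ⟨ψ s, MulEquiv.ext fun y => ?_⟩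
      show ψ s * y * (ψ s)⁻¹ = ψ (s * ψ.symm y * s⁻¹)
      simp
    rw [← map_pow] at h5
    have h6 := orderOf_dvd_of_pow_eq_one (show σ ^ 4 = 1 by rw [← hsig, ← map_pow]; exact outT_eq_one_sig S' h5)
    rw [hσr, show 4 = 2 ^ 2 from rfl] at h6
    have := (Nat.prime_dvd_prime_iff_eq hr Nat.prime_two).1 (hr.dvd_of_dvd_pow h6)
    rw [this] at hodd
    exact absurd hodd (by decide)
  obtain ⟨T, hT, hs, hTp⟩ := exists_normalised S T₀ hTr hr.pos hp
  exact ⟨T, (hT.trans hT₀).symm, hTp, by rw [hs, hTr]⟩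

/-- An element of the coset having the same order is an inner-diagonal conjugate. -/
theorem coset_iff_minus {χ : Cfsg.Geo.quadSimilarityGroup (F := F) ⇑Q →* ℤˣ}
    (hdk : ∀ h, χ (incl h) = OrthRows.dk S.nondeg (hexc S) h)
    {T : SemiT Q} {r : ℕ} (hr0 : 0 < r) (hT : T ^ r = 1) (hTr : orderOf (sigHom S T) = r)
    (hord : orderOf (theta T) = r) {δ : MulAut (Cfsg.POmega F ⇑Q)} (hδ : δ ∈ χ.ker.map (simAut (Q := Q))) :
    orderOf (δ * theta T) = r ↔ Cfsg.IsConjUnder (χ.ker.map (simAut (Q := Q))) (theta T) (δ * theta T) := by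
  constructor
  · intro h
    obtain ⟨g, -, rfl⟩ := hδ
    have hy : simAut g * theta T = theta (ofSim g * T) := (map_mul theta _ _).symm
    rw [hy] at h ⊢
    have hs : sigHom S (ofSim g * T) = sigHom S T := by
      rw [map_mul, (sig_eq_one_iff S).2 ⟨_, rfl⟩, one_mul]
    obtain ⟨T', hT', hs', hp'⟩ := exists_normalised S (ofSim g * T) (hs.symm ▸ hTr) hr0
      (by rw [← h, pow_orderOf_eq_one])
    set σ := sigT T
    have hσ' : sigT T' = σ := hs'.trans hs
    let F₀ := (σ : F →+* F).eqLocusField (RingHom.id F)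
    haveI : Fintype F₀ := Fintype.ofFinite _
    have hj : ∀ c, σ c = c ↔ c ∈ (F₀.subtype).range := fun c =>
      ⟨fun e => ⟨⟨c, e⟩, rfl⟩, by rintro ⟨⟨d, hd⟩, rfl⟩; exact hd⟩
    obtain ⟨a₀, b₀, hab₀⟩ := Spinor.exists_aniso F₀
    obtain ⟨R, hR, S₀⟩ := exists_minus_setting hk a₀ b₀ hab₀
    obtain ⟨P⟩ := exists_frame hQ hab S F₀.subtype hR hab₀ T hTr hr0 hT hj
    obtain ⟨P'⟩ := exists_frame hQ hab S F₀.subtype hR hab₀ T' (r := r) (by
      show orderOf (sigHom S T') = r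
      rw [hs', hs, hTr]) hr0 hp' (fun c => by rw [hσ']; exact hj c)
    rw [hσ'] at P'
    obtain ⟨K, hK, he⟩ := exists_conj_frame S F₀.subtype S₀ hj hdk P P'
    exact ⟨simAut K, ⟨K, hK, rfl⟩, hT'.symm.trans he⟩
  · rintro ⟨h, -, he⟩
    rw [he, AutPSL.orderOf_conj, hord]

end Field

section Cent

variable {F : Type*} [Field F] [Fintype F] {k : ℕ} {a b : F}
  {Q : QuadraticForm F ((Fin k ⊕ Fin k) ⊕ Fin 2 → F)} (hQ : ⇑Q = Cfsg.quadFormMinus k F a b)
  (hab : ∀ z₁ z₂ : F, z₁ ^ 2 + a * z₁ * z₂ + b * z₂ ^ 2 = 0 → z₁ = 0 ∧ z₂ = 0) (S : QSetting Q)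
  {F₀ : Type*} [Field F₀] [Fintype F₀] (j : F₀ →+* F) {a₀ b₀ : F₀}
  {R : QuadraticForm F₀ ((Fin k ⊕ Fin k) ⊕ Fin 2 → F₀)} (hR : ⇑R = Cfsg.quadFormMinus k F₀ a₀ b₀)
  (hab₀ : ∀ z₁ z₂ : F₀, z₁ ^ 2 + a₀ * z₁ * z₂ + b₀ * z₂ ^ 2 = 0 → z₁ = 0 ∧ z₂ = 0) (S₀ : QSetting R)
  {σ : F ≃+* F} (hj : ∀ a, σ a = a ↔ a ∈ j.range) {T : SemiT Q} (P : Frame j σ T R)
  {χ : Cfsg.Geo.quadSimilarityGroup (F := F) ⇑Q →* ℤˣ}
  {χ₀ : Cfsg.Geo.quadSimilarityGroup (F := F₀) ⇑R →* ℤˣ}
  (hcj : ∀ g, χ (frameJ j P g) = χ₀ g) (hsc : ∀ c, χ (scalSim c) = 1) (hr0 : 0 < orderOf σ)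

include hQ hR S S₀ hj hcj hsc hr0

/-- The centraliser of a field automorphism in the inner-diagonal group. -/
theorem centralizer_equiv_minus :
    Nonempty (↥(χ.ker.map (simAut (Q := Q)) ⊓ Subgroup.centralizer {theta T}) ≃*
      ↥(χ₀.ker.map (simAut (Q := R)))) := by
  let Φ : χ₀.ker →* ↥(χ.ker.map (simAut (Q := Q)) ⊓ Subgroup.centralizer {theta T}) :=
    ((simAut (Q := Q)).comp ((frameJ j P).comp χ₀.ker.subtype)).codRestrict _ fun g =>
      ⟨⟨frameJ j P g, (hcj _).trans g.2, rfl⟩,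
        Subgroup.mem_centralizer_singleton_iff.2 ((frameJ_commute j hj P g.1).map theta).eq⟩
  have hΦ : Function.Surjective Φ := by
    rintro ⟨_, ⟨g, hg, rfl⟩, hc⟩
    obtain ⟨g₀, d, hd⟩ := exists_frameJ S j S₀ hj P hr0 g (Subgroup.mem_centralizer_singleton_iff.1 hc)
    refine ⟨⟨g₀, ?_⟩, Subtype.ext ?_⟩
    · rw [MonoidHom.mem_ker, ← hcj, ← hd, map_mul, hsc, one_mul]; exact hg
    · show simAut (frameJ j P g₀) = simAut g
      rw [← hd, map_mul, (simAut_eq_one_iff S (scalSim d)).2 ⟨d, rfl⟩, one_mul]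
  let Ψ : χ₀.ker →* ↥(χ₀.ker.map (simAut (Q := R))) :=
    ((simAut (Q := R)).comp χ₀.ker.subtype).codRestrict _ fun g => ⟨g, g.2, rfl⟩
  have hΨ : Function.Surjective Ψ := by
    rintro ⟨_, g, hg, rfl⟩
    exact ⟨⟨g, hg⟩, rfl⟩
  refine ⟨((QuotientGroup.quotientKerEquivOfSurjective Φ hΦ).symm.trans
    ((QuotientGroup.quotientMulEquivOfEq ?_).trans (QuotientGroup.quotientKerEquivOfSurjective Ψ hΨ)))⟩
  ext g
  rw [MonoidHom.mem_ker, MonoidHom.mem_ker, Subtype.ext_iff, Subtype.ext_iff]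
  show simAut (frameJ j P g.1) = 1 ↔ simAut g.1 = 1
  rw [simAut_eq_one_iff S, simAut_eq_one_iff S₀]
  constructor
  · rintro ⟨c, hc⟩
    obtain ⟨u, hu⟩ := exists_quad_one_ne S₀
    obtain ⟨i, hi⟩ : ∃ i, u i ≠ 0 := by
      by_contra hall
      push Not at hall
      exact hu (by rw [show u = 0 from funext hall, map_zero])
    have he : ∀ v : (Fin k ⊕ Fin k) ⊕ Fin 2 → F₀,
        (fun l => j (((g.1.1).1 *ᵥ v) l)) = (c : F) • fun l => j (v l) := fun v => by
      refine (glPerm P.H).injective ?_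
      rw [glPerm_apply, glPerm_apply, ← frameJ_apply j P g.1 v, ← hc, Matrix.mulVec_smul]
      exact scalSim_apply c _
    have hc0 : (c : F) = j (((g.1.1).1 *ᵥ u) i / u i) := by
      rw [map_div₀, eq_div_iff ((map_ne_zero j).2 hi)]
      exact (congrFun (he u) i).symm
    set d := ((g.1.1).1 *ᵥ u) i / u i
    refine ⟨Units.mk0 d fun e => c.ne_zero (by rw [hc0, e, map_zero]),
      ofSim_injective (Subtype.ext (Equiv.ext fun v => ?_))⟩
    rw [scalSim_apply]
    funext l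
    refine j.injective ?_
    show j (d * v l) = _
    rw [map_mul, ← hc0]
    exact (congrFun (he v) l).symm
  · rintro ⟨c, hc⟩
    exact ⟨_, by rw [← hc, frameJ_scal]⟩

include hab hab₀

/-- The class of a field automorphism does not split. -/
theorem splitCount_minus (hdk : ∀ h, χ (incl h) = OrthRows.dk S.nondeg (hexc S) h) (hodd : Odd (orderOf σ)) :
    Cfsg.splitClassCount (χ.ker.map (simAut (Q := Q))) (Cfsg.Inn (Cfsg.POmega F ⇑Q)) (theta T) = 1 := by
  classical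
  have hom : ∀ t : Cfsg.Omega F ⇑Q, χ (incl t.1) = 1 := fun t => by
    rw [hdk]; exact ((OrthRows.mem_omega S.nondeg (hexc S)).1 t.2).1
  have key : ∀ c : F₀, IsSquare (j c) → IsSquare c := by
    rintro c ⟨x, hx⟩
    have h1 : σ x * σ x = x * x := by rw [← map_mul, ← hx]; exact (hj _).2 ⟨c, rfl⟩
    have h3 : σ x = x := by
      rcases mul_self_eq_mul_self_iff.1 h1 with h | h
      · exact h
      · have hit : ∀ n : ℕ, (σ ^ n) x = (-1) ^ n * x := by
          intro n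
          induction n with
          | zero => simp
          | succ n ih =>
            rw [pow_succ' σ]
            show σ ((σ ^ n) x) = _
            rw [ih, map_mul, map_pow, map_neg, map_one, h, pow_succ]; ring
        have h4 := hit (orderOf σ)
        rw [pow_orderOf_eq_one, hodd.neg_one_pow] at h4
        rw [h]
        exact (show x = -x by simpa using h4).symm
    obtain ⟨y, hy⟩ := (hj x).1 h3
    exact ⟨y, j.injective (by rw [map_mul, hy, hx])⟩
  -- every class of similarities is rational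
  let B : Subgroup (Cfsg.Out (Cfsg.POmega F ⇑Q)) := ((outS (Q := Q)).comp (frameJ j P)).range
  have hrefl : ∀ (u : (Fin k ⊕ Fin k) ⊕ Fin 2 → F) (hu : Q u ≠ 0), outI (OrthRows.rf Q u hu) ∈ B := by
    intro u hu
    obtain ⟨c, hc0, hcls⟩ : ∃ c : F₀, c ≠ 0 ∧ (IsSquare ((P.bb : F) * j c) ↔ IsSquare (Q u)) := by
      by_cases h2 : (2 : F) = 0
      · exact ⟨1, one_ne_zero, iff_of_true (FiniteField.isSquare_of_char_two (Spinor.ringChar_eq_two h2) _)
          (FiniteField.isSquare_of_char_two (Spinor.ringChar_eq_two h2) _)⟩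
      have h20 : (2 : F₀) ≠ 0 := fun e => h2 (by rw [← map_ofNat j 2, e, map_zero])
      obtain ⟨ν, hν⟩ := FiniteField.exists_nonsquare (Spinor.ringChar_ne_two h20)
      have hν0 : ν ≠ 0 := fun e => hν (e ▸ IsSquare.zero)
      have hjν : ¬ IsSquare (j ν) := fun e => hν (key _ e)
      have hmul : ∀ x y : F, ¬ IsSquare x → ¬ IsSquare y → IsSquare (x * y) := fun x y hx hy =>
        (Spinor.isSquare_mul_iff' (fun e => hx (by rw [e]; exact IsSquare.zero)) fun e => hy (by rw [e]; exact IsSquare.zero)).2 (iff_of_false hx hy)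
      by_cases hbq : IsSquare (P.bb : F) ↔ IsSquare (Q u)
      · exact ⟨1, one_ne_zero, by rw [map_one, mul_one]; exact hbq⟩
      refine ⟨ν, hν0, ?_⟩
      by_cases hb : IsSquare (P.bb : F)
      · refine iff_of_false (fun e => hjν ?_) fun e => hbq (iff_of_true hb e)
        have := e.mul hb.inv
        rwa [mul_comm, inv_mul_cancel_left₀ P.bb.ne_zero] at this
      · refine iff_of_true (hmul _ _ hb hjν) ?_
        by_contra e
        exact hbq (iff_of_false hb e)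
    obtain ⟨v, hv⟩ := OrthRows.exists_norm_all S₀.nondeg (by have := S₀.dim; omega) hc0
    have hv0 : R v ≠ 0 := by rw [hv]; exact hc0
    have hw : Q ((P.H).1 *ᵥ fun i => j (v i)) ≠ 0 := by
      rw [P.quad_eq]; exact mul_ne_zero P.bb.ne_zero ((map_ne_zero j).2 hv0)
    refine ⟨incl (OrthRows.rf R v hv0), ?_⟩
    show outS (frameJ j P _) = _
    rw [frameJ_rf j P hv0 hw]
    exact outI_rf_congr S hw hu (by rw [P.quad_eq, hv]; exact hcls)
  have hiso : ∀ h, outI h ∈ B := fun h => by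
    induction (show h ∈ Subgroup.closure _ by
      rw [OrthRows.closure_rf S.nondeg (hexc S)]; exact Subgroup.mem_top h) using Subgroup.closure_induction with
    | mem y hy =>
      obtain ⟨w, hw, hx⟩ := hy
      rw [OrthRows.eq_rf hw hx]
      exact hrefl w hw
    | one => rw [map_one]; exact B.one_mem
    | mul y z _ _ ihy ihz => rw [map_mul]; exact B.mul_mem ihy ihz
    | inv y _ ihy => rw [map_inv]; exact B.inv_mem ihy
  have hsq : ∀ g, IsSquare (simMul S g : F) → outS g ∈ B := fun g ⟨s, hs⟩ => by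
    have hs0 : s ≠ 0 := fun e => Units.ne_zero (simMul S g) (by rw [hs, e, zero_mul])
    have hk1 : (scalSim (Q := Q) (Units.mk0 s hs0))⁻¹ * g ∈ (simMul S).ker := by
      rw [MonoidHom.mem_ker, map_mul, map_inv, simMul_scal S, inv_mul_eq_one]
      exact Units.ext hs.symm
    rw [ker_simMul S] at hk1
    obtain ⟨h, he⟩ := hk1
    have : outI h = outS g := by
      show outS (incl h) = _
      rw [show incl h = _ from he, map_mul, map_inv, outS_scal S, inv_one, one_mul]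
    rw [← this]
    exact hiso h
  have hall : ∀ g, outS g ∈ B := fun g => by
    by_cases h2 : (2 : F) = 0
    · exact hsq g (FiniteField.isSquare_of_char_two (Spinor.ringChar_eq_two h2) _)
    by_cases hg : IsSquare (simMul S g : F)
    · exact hsq g hg
    have h20 : (2 : F₀) ≠ 0 := fun e => h2 (by rw [← map_ofNat j 2, e, map_zero])
    obtain ⟨ν, hν⟩ := FiniteField.exists_nonsquare (Spinor.ringChar_ne_two h20)
    have hν0 : ν ≠ 0 := fun e => hν (e ▸ IsSquare.zero)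
    obtain ⟨v, hv⟩ := OrthRows.exists_norm_all (S0288.binForm_nondeg a₀ b₀ hab₀) (by simp) hν0
    rw [S0288.binForm_apply] at hv
    set g₀ := minusD hR (v 0) (v 1) (hv.symm ▸ hν0)
    have hm : IsSquare (simMul S (g * (frameJ j P g₀)⁻¹) : F) := by
      rw [map_mul, map_inv, Units.val_mul, Units.val_inv_eq_inv_val, simMul_frameJ S j P S₀,
        simMul_minusD hR S₀, hv]
      refine (Spinor.isSquare_mul_iff' (Units.ne_zero _) (inv_ne_zero ((map_ne_zero j).2 hν0))).2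
        (iff_of_false hg fun e => hν (key _ ?_))
      simpa using e.inv
    have := B.mul_mem (hsq _ hm) ⟨g₀, rfl⟩
    rwa [map_mul, map_inv, show ((outS (Q := Q)).comp (frameJ j P)) g₀ = outS (frameJ j P g₀) from rfl,
      inv_mul_cancel_right] at this
  set φ := (simAut (Q := Q)).comp χ.ker.subtype with hφdef
  let N : Subgroup χ.ker := ((outS (Q := Q)).comp χ.ker.subtype).ker
  have hN : N.map φ = Cfsg.Inn (Cfsg.POmega F ⇑Q) := by
    refine le_antisymm ?_ ?_
    · rintro _ ⟨g, hg, rfl⟩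
      exact (QuotientGroup.eq_one_iff _).1 hg
    · rw [inn_eq]
      rintro _ ⟨t, ht, rfl⟩
      exact ⟨⟨incl t, hom ⟨t, ht⟩⟩, outI_omega ht, rfl⟩
  have hφ : φ.range = χ.ker.map (simAut (Q := Q)) := by
    rw [hφdef, MonoidHom.range_eq_map, ← Subgroup.map_map, ← MonoidHom.range_eq_map, Subgroup.range_subtype]
  rw [← hφ, ← hN, AutPSp.splitClassCount_eq_index, Subgroup.index_eq_one, Subgroup.eq_top_iff']
  intro g
  obtain ⟨g₀, hg₀⟩ := hall g.1
  have hg₀' : outS (frameJ j P g₀) = outS g.1 := hg₀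
  have h0 : χ₀ g₀ = 1 := by
    have h1 : simAut ((frameJ j P g₀)⁻¹ * g.1) ∈ Cfsg.Inn (Cfsg.POmega F ⇑Q) := by
      refine (QuotientGroup.eq_one_iff _).1 ?_
      show outS ((frameJ j P g₀)⁻¹ * g.1) = 1
      rw [map_mul, map_inv, hg₀', inv_mul_cancel]
    rw [inn_eq] at h1
    obtain ⟨t, ht, he⟩ := h1
    have h2 : simAut ((incl t)⁻¹ * ((frameJ j P g₀)⁻¹ * g.1)) = 1 := by
      rw [map_mul, map_inv, show simAut (incl t) = isoAut t from rfl, he, inv_mul_cancel]
    obtain ⟨c, hc⟩ := (simAut_eq_one_iff S _).1 h2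
    have h3 := congrArg χ hc
    rw [hsc, map_mul, map_mul, map_inv, map_inv, hom ⟨t, ht⟩, show χ g.1 = 1 from g.2, hcj, mul_one, inv_one,
      one_mul] at h3
    exact inv_eq_one.1 h3.symm
  let g₁ : χ.ker := ⟨frameJ j P g₀, (hcj _).trans h0⟩
  rw [show g = g * g₁⁻¹ * g₁ by group]
  refine mul_mem (Subgroup.mem_sup_left ?_) (Subgroup.mem_sup_right
    (AutPSp.mem_commSub.2 ((frameJ_commute j hj P g₀).map theta)))
  show outS (g.1 * (frameJ j P g₀)⁻¹) = 1
  rw [map_mul, map_inv, hg₀', mul_inv_cancel]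

end Cent

end Cfsg.Agent.AutPOmega
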