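import Cfsg.Agent.Lib.AutPOmega.Frames
import Cfsg.Agent.Lib.AutPSp.Twisted
import Cfsg.Agent.Lib.Spinor.EvenClass
import Cfsg.Agent.Lib.Spinor.TSMinus

/-!
# Field automorphisms of the minus-type orthogonal groups
-/

set_option autoImplicit false
set_option linter.unusedSectionVars false
set_option maxHeartbeats 2000000

namespace Cfsg.Agent.AutPOmega

open Cfsg.Agent Cfsg.Agent.TransvMax Cfsg.Agent.QMax
open scoped Matrix
open Cfsg.Agent.AutPSL (cyc uMap)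

section Frame

variable {F : Type*} [Field F] [Fintype F] {k : ℕ} {a b : F}
  {Q : QuadraticForm F ((Fin k ⊕ Fin k) ⊕ Fin 2 → F)} (hQ : ⇑Q = Cfsg.quadFormMinus k F a b)
  (hab : ∀ z₁ z₂ : F, z₁ ^ 2 + a * z₁ * z₂ + b * z₂ ^ 2 = 0 → z₁ = 0 ∧ z₂ = 0) (S : QSetting Q)
  {F₀ : Type*} [Field F₀] [Fintype F₀] (j : F₀ →+* F) {a₀ b₀ : F₀}
  {R : QuadraticForm F₀ ((Fin k ⊕ Fin k) ⊕ Fin 2 → F₀)} (hR : ⇑R = Cfsg.quadFormMinus k F₀ a₀ b₀)
  (hab₀ : ∀ z₁ z₂ : F₀, z₁ ^ 2 + a₀ * z₁ * z₂ + b₀ * z₂ ^ 2 = 0 → z₁ = 0 ∧ z₂ = 0) (S₀ : QSetting R)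

include hQ hab S hR hab₀

/-- Descent lands in the minus type. -/
theorem exists_frame (T : SemiT Q) {r : ℕ} (hr : orderOf (sigHom S T) = r) (hr0 : 0 < r) (h : T ^ r = 1)
    (hj : ∀ a, sigT T a = a ↔ a ∈ j.range) : Nonempty (Frame j (sigT T) T R) := by
  obtain ⟨H, bb, Q₀, hH, hQ₀, hn₀⟩ := exists_descended S j T hr hr0 h hj
  rcases Spinor.equiv_plus_or_minus (m := k + 1) (by omega)
      (by simp [Fintype.card_sum]; omega) Q₀ hn₀ a₀ b₀ hab₀ with ⟨L, hL⟩ | ⟨L, hL⟩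
  · exfalso
    let L₀ := L.symm.toLinearMap
    let M : Matrix ((Fin k ⊕ Fin k) ⊕ Fin 2) (Fin (k + 1) ⊕ Fin (k + 1)) F₀ := LinearMap.toMatrix' L₀
    let M' : Matrix (Fin (k + 1) ⊕ Fin (k + 1)) ((Fin k ⊕ Fin k) ⊕ Fin 2) F₀ := LinearMap.toMatrix' L.toLinearMap
    have hMM : M' * M = 1 := by
      rw [← LinearMap.toMatrix'_comp, show L.toLinearMap ∘ₗ L₀ = LinearMap.id from
        LinearMap.ext fun x => L.apply_symm_apply x, LinearMap.toMatrix'_id]
    let W : (Fin (k + 1) → F) →ₗ[F] ((Fin k ⊕ Fin k) ⊕ Fin 2 → F) :=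
      (Matrix.mulVecLin ((H).1 * M.map j)).comp
        { toFun := fun c => Sum.elim c 0
          map_add' := fun c d => by funext i; rcases i with i | i <;> simp
          map_smul' := fun (t : F) c => by
            rw [RingHom.id_apply]
            funext i; rcases i with i | i
            · simp
            · simp [RingHom.id_apply] }
    have hWi : Function.Injective W := by
      intro c d hcd
      change ((H).1 * M.map j) *ᵥ Sum.elim c 0 = ((H).1 * M.map j) *ᵥ Sum.elim d 0 at hcd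
      rw [← Matrix.mulVec_mulVec, ← Matrix.mulVec_mulVec] at hcd
      have h1 := congrArg (fun z => (M'.map j) *ᵥ z) ((glPerm H).injective hcd)
      simp only [Matrix.mulVec_mulVec, ← Matrix.map_mul, hMM, Matrix.map_one _ (map_zero j) (map_one j),
        Matrix.one_mulVec] at h1
      exact funext fun i => congrFun h1 (Sum.inl i)
    have hall : ∀ x : Fin (k + 1) ⊕ Fin (k + 1) → F,
        Q (((H).1 * M.map j) *ᵥ x) = (bb : F) * Cfsg.quadFormPlus (k + 1) F x := by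
      intro x
      rw [← OrthOrder.qPlus_apply]
      refine quad_ext_j j (A := Q.comp (Matrix.mulVecLin ((H).1 * M.map j)))
        (B := (bb : F) • OrthOrder.qPlus (k + 1) F) (fun u => ?_) x
      rw [QuadraticMap.comp_apply, Matrix.mulVecLin_apply, QuadraticMap.smul_apply, smul_eq_mul,
        ← Matrix.mulVec_mulVec, show M.map j *ᵥ (fun i => j (u i)) = fun i => j ((M *ᵥ u) i) from
          funext fun i => (RingHom.map_mulVec j M u i).symm, hQ₀, ← hL,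
        show M *ᵥ u = L.symm u from LinearMap.toMatrix'_mulVec _ _, L.apply_symm_apply, OrthOrder.qPlus_apply]
      simp [Cfsg.quadFormPlus, map_sum]
    have hts := Spinor.minus_ts_finrank_le a b hab (LinearMap.range W) (fun v hv => by
      obtain ⟨c, rfl⟩ := hv
      rw [← hQ]
      show Q (((H).1 * M.map j) *ᵥ Sum.elim c 0) = 0
      rw [hall]
      simp [Cfsg.quadFormPlus])
    rw [LinearMap.finrank_range_of_inj hWi, Module.finrank_fin_fun] at hts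
    omega
  · let e : ((Fin k ⊕ Fin k) ⊕ Fin 2 → F₀) ≃ₗ[F₀] ((Fin k ⊕ Fin k) ⊕ Fin 2 → F₀) := L.symm
    let kk : GL ((Fin k ⊕ Fin k) ⊕ Fin 2) F₀ :=
      Matrix.GeneralLinearGroup.toLin.symm (LinearMap.GeneralLinearGroup.ofLinearEquiv e)
    have hkk : ∀ u, (kk).1 *ᵥ u = e u := fun u => LinearMap.toMatrix'_mulVec _ _
    let k' : GL ((Fin k ⊕ Fin k) ⊕ Fin 2) F := Matrix.GeneralLinearGroup.map j kk
    refine ⟨⟨H * k', bb, fun x => ?_, fun u => ?_⟩⟩
    · rw [Units.val_mul, ← Matrix.mulVec_mulVec, hH, ← Matrix.mulVec_mulVec]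
      congr 1
      funext i
      simp only [Matrix.mulVec, dotProduct, map_sum, map_mul]
      refine Finset.sum_congr rfl fun l _ => ?_
      congr 1
      exact (hj _).2 ⟨_, rfl⟩
    · rw [Units.val_mul, ← Matrix.mulVec_mulVec,
        show (k').1 *ᵥ (fun i => j (u i)) = fun i => j (((kk).1 *ᵥ u) i) from
          funext fun i => (RingHom.map_mulVec j _ u i).symm, hQ₀, hkk]
      congr 2
      rw [hR]
      exact (hL (L.symm u)).symm.trans (congrArg _ (L.apply_symm_apply u))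

variable {σ : F ≃+* F} (hj : ∀ a, σ a = a ↔ a ∈ j.range) {T : SemiT Q} (P : Frame j σ T R)

include hj S₀

/-- The characters agree along a frame. -/
theorem chi_frameJ (hk : 3 ≤ k)
    {χ : Cfsg.Geo.quadSimilarityGroup (F := F) ⇑Q →* ℤˣ}
    (hχ : ∀ g : Cfsg.Geo.quadSimilarityGroup (F := F) ⇑Q, Cfsg.PreservesSingularClassesMinus k a b
      (g.1 : Matrix ((Fin k ⊕ Fin k) ⊕ Fin 2) ((Fin k ⊕ Fin k) ⊕ Fin 2) F) ↔ χ g = 1)
    (hdk : ∀ h, χ (incl h) = OrthRows.dk S.nondeg (hexc S) h) (hsc : ∀ c, χ (scalSim c) = 1)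
    {χ₀ : Cfsg.Geo.quadSimilarityGroup (F := F₀) ⇑R →* ℤˣ}
    (hχ₀ : ∀ g : Cfsg.Geo.quadSimilarityGroup (F := F₀) ⇑R, Cfsg.PreservesSingularClassesMinus k a₀ b₀
      (g.1 : Matrix ((Fin k ⊕ Fin k) ⊕ Fin 2) ((Fin k ⊕ Fin k) ⊕ Fin 2) F₀) ↔ χ₀ g = 1)
    (hdk₀ : ∀ h, χ₀ (incl h) = OrthRows.dk S₀.nondeg (hexc S₀) h) (hsc₀ : ∀ c, χ₀ (scalSim c) = 1)
    (g : Cfsg.Geo.quadSimilarityGroup (F := F₀) ⇑R) :
    χ (frameJ j P g) = χ₀ g :=
  chi_frame S j S₀ P (n := k + 1)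
    (fun h2 g => (hχ g).symm.trans (preserves_minus_iff hQ S h2 hk hab g)) hdk hsc
    (fun h2 g => (hχ₀ g).symm.trans (preserves_minus_iff hR S₀ h2 hk hab₀ g)) hdk₀ hsc₀ g

end Frame

end Cfsg.Agent.AutPOmega
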