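import Cfsg.Agent.Lib.AutPOmega.OddField
import Cfsg.Agent.Lib.AutPOmega.OutEven
import Cfsg.Agent.Lib.AutPSp.Twisted
import Cfsg.Agent.Lib.LinearGroups.OrthPOrder

/-!
# Centralisers of field automorphisms of the odd-dimensional orthogonal groups
-/

set_option autoImplicit false
set_option linter.unusedSectionVars false
set_option maxHeartbeats 2000000

namespace Cfsg.Agent.AutPOmega

open scoped Matrix
open Cfsg.Agent Cfsg.Agent.TransvMax Cfsg.Agent.QMax
open Cfsg.Agent.AutPSL (cyc uMap)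

variable {F : Type*} [Field F] [Fintype F] {F₀ : Type*} [Field F₀] [Fintype F₀] {m : ℕ} (j : F₀ →+* F)

local notation "Ix" => Unit ⊕ (Fin m ⊕ Fin m)
local notation "QO" => FormsLib.qOdd m F
local notation "QO0" => FormsLib.qOdd m F₀

theorem qOdd_j (u : Ix → F₀) : QO (fun i => j (u i)) = j (QO0 u) := by
  simp [FormsLib.coe_qOdd, Cfsg.quadFormOdd, map_sum]

/-- Extension of scalars for similarities. -/
noncomputable def simJ : Cfsg.Geo.quadSimilarityGroup (F := F₀) ⇑QO0 →* Cfsg.Geo.quadSimilarityGroup (F := F) ⇑QO :=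
  MonoidHom.mk' (fun g => ⟨Matrix.GeneralLinearGroup.map j g.1, Units.map j.toMonoidHom g.2.choose,
    quad_ext_j j (A := (FormsLib.qOdd m F).comp (Matrix.mulVecLin ((Matrix.GeneralLinearGroup.map j g.1 : GL Ix F) : Matrix Ix Ix F)))
      (B := ((Units.map j.toMonoidHom g.2.choose : Fˣ) : F) • FormsLib.qOdd m F) fun u => by
        rw [QuadraticMap.comp_apply, Matrix.mulVecLin_apply, QuadraticMap.smul_apply, smul_eq_mul,
          show ((Matrix.GeneralLinearGroup.map j g.1 : GL Ix F) : Matrix Ix Ix F) *ᵥ (fun i => j (u i)) =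
            fun i => j ((((g.1 : GL Ix F₀) : Matrix Ix Ix F₀) *ᵥ u) i) from
            funext fun i => (RingHom.map_mulVec j _ u i).symm,
          qOdd_j, g.2.choose_spec u, map_mul, qOdd_j]
        rfl⟩) fun g h => Subtype.ext (map_mul _ g.1 h.1)

theorem simJ_apply (g : Cfsg.Geo.quadSimilarityGroup (F := F₀) ⇑QO0) (u : Ix → F₀) :
    ((simJ j g).1 : Matrix Ix Ix F) *ᵥ (fun i => j (u i)) =
      fun i => j ((((g.1 : GL Ix F₀) : Matrix Ix Ix F₀) *ᵥ u) i) :=
  funext fun i => (RingHom.map_mulVec j _ u i).symm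

theorem simJ_incl (S : QSetting QO) (h : Cfsg.isometryGroup F₀ ⇑QO0) :
    ∃ h' : Cfsg.isometryGroup F ⇑QO, incl h' = simJ j (incl h) := by
  have hk : simJ j (incl h) ∈ (simMul S).ker := by
    refine Units.ext ?_
    rw [Units.val_one]
    refine simMul_eq S fun v => ?_
    exact quad_ext_j j (A := (FormsLib.qOdd m F).comp (Matrix.mulVecLin ((simJ j (incl h)).1 : Matrix Ix Ix F)))
      (B := (1 : F) • FormsLib.qOdd m F) (fun u => by
        rw [QuadraticMap.comp_apply, Matrix.mulVecLin_apply, QuadraticMap.smul_apply, smul_eq_mul, one_mul,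
          simJ_apply, qOdd_j, qOdd_j]
        exact congrArg j (h.2 u u)) v
  rw [ker_simMul S] at hk
  exact hk

/-- The reflection in a rational vector. -/
theorem simJ_rf {v : Ix → F₀} (hv : QO0 v ≠ 0) (hjv : QO (fun i => j (v i)) ≠ 0) :
    simJ j (incl (OrthRows.rf QO0 v hv)) = incl (OrthRows.rf QO (fun i => j (v i)) hjv) := by
  refine Subtype.ext (Units.ext ?_)
  show ((OrthRows.rf QO0 v hv).1 : Matrix Ix Ix F₀).map j = ((OrthRows.rf QO (fun i => j (v i)) hjv).1 : Matrix Ix Ix F)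
  refine Matrix.toLin'.injective ((Pi.basisFun F Ix).ext fun k => ?_)
  rw [Matrix.toLin'_apply, Matrix.toLin'_apply, OrthRows.rf_val,
    show (Pi.basisFun F Ix k : Ix → F) = fun i => j ((Pi.single k (1 : F₀) : Ix → F₀) i) by
      funext i; simp [Pi.single_apply, apply_ite j]]
  funext i
  refine (RingHom.map_mulVec j (Cfsg.reflectionMatrix (⇑QO0) v) (Pi.single k 1) i).symm.trans ?_
  rw [OrthRows.rf_val, FormsLib.reflectionMatrix_mulVec, FormsLib.reflectionMatrix_mulVec,
    FormsLib.reflHom_apply, FormsLib.reflHom_apply]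
  have hp : QuadraticMap.polar QO (fun i => j ((Pi.single k (1 : F₀) : Ix → F₀) i)) (fun i => j (v i)) =
      j (QuadraticMap.polar QO0 (Pi.single k 1) v) := by
    simp only [QuadraticMap.polar, map_sub, ← qOdd_j j]
    congr 3
    funext l; simp
  rw [hp, qOdd_j]
  simp

section Fixed

variable (σ : F ≃+* F) (hj : ∀ a, σ a = a ↔ a ∈ j.range) (S : QSetting (FormsLib.qOdd m F)) (S₀ : QSetting (FormsLib.qOdd m F₀))

include hj

theorem fldOdd_commute (g : Cfsg.Geo.quadSimilarityGroup (F := F₀) ⇑QO0) :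
    Commute (ofSim (simJ j g)) (fldOdd σ) := by
  refine Subtype.ext (Equiv.ext fun x => ?_)
  show ((simJ j g).1 : Matrix Ix Ix F) *ᵥ (fun i => σ (x i)) =
    fun i => σ ((((simJ j g).1 : Matrix Ix Ix F) *ᵥ x) i)
  funext i
  simp only [Matrix.mulVec, dotProduct, map_sum, map_mul]
  refine Finset.sum_congr rfl fun l _ => ?_
  congr 1
  exact ((hj _).2 ⟨_, rfl⟩).symm

include S

/-- A similarity commuting with the field automorphism is rational up to a scalar. -/
theorem exists_simJ (hr0 : 0 < orderOf σ) (g : Cfsg.Geo.quadSimilarityGroup (F := F) ⇑QO)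
    (h : Commute (simAut g) (theta (fldOdd σ))) :
    ∃ g₀ : Cfsg.Geo.quadSimilarityGroup (F := F₀) ⇑QO0, simAut g = simAut (simJ j g₀) := by
  have h1 : theta ((fldOdd σ * ofSim g) * (ofSim g * fldOdd σ)⁻¹) = 1 := by
    rw [map_mul, map_inv, map_mul, map_mul, mul_inv_eq_one]
    exact h.eq.symm
  obtain ⟨c, hc0, hc⟩ := (theta_eq_one_iff S _).1 h1
  have hM : ∀ x, (fun i => σ (((g.1 : Matrix Ix Ix F) *ᵥ x) i)) =
      c • ((g.1 : Matrix Ix Ix F) *ᵥ fun i => σ (x i)) := fun x => by
    refine Eq.trans ?_ (hc ((ofSim g * fldOdd σ).1 x))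
    show (fldOdd σ * ofSim g).1 x = ((fldOdd σ * ofSim g) * (ofSim g * fldOdd σ)⁻¹ * (ofSim g * fldOdd σ)).1 x
    rw [inv_mul_cancel_right]
  have hent : ∀ i k, σ ((g.1 : Matrix Ix Ix F) i k) = c * (g.1 : Matrix Ix Ix F) i k := fun i k => by
    have := congrFun (hM (Pi.single k 1)) i
    rw [show (fun l => σ ((Pi.single k (1 : F) : Ix → F) l)) = Pi.single k 1 by
      funext l; simp [Pi.single_apply, apply_ite σ]] at this
    simpa [Matrix.mulVec_single] using this
  obtain ⟨i₁, k₁, hne⟩ : ∃ i k, (g.1 : Matrix Ix Ix F) i k ≠ 0 := by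
    by_contra hall
    push Not at hall
    obtain ⟨x, hx⟩ := exists_quad_one_ne S
    apply hx
    have h0 : (g.1 : Matrix Ix Ix F) *ᵥ x = 0 := by
      rw [show (g.1 : Matrix Ix Ix F) = 0 from Matrix.ext hall, Matrix.zero_mulVec]
    have h2 := simMul_spec S g x
    rw [h0, map_zero] at h2
    exact (mul_eq_zero.1 h2.symm).resolve_left (Units.ne_zero _)
  set cu := Units.mk0 c hc0
  have hit : ∀ n : ℕ, (σ ^ n) ((g.1 : Matrix Ix Ix F) i₁ k₁) =
      ((cyc (uMap σ) cu n : Fˣ) : F) * (g.1 : Matrix Ix Ix F) i₁ k₁ := by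
    intro n
    induction n with
    | zero => simp [cyc]
    | succ n ih =>
      rw [pow_succ', cyc, Units.val_mul]
      show σ ((σ ^ n) _) = _
      rw [ih, map_mul, hent]
      show σ _ * (c * _) = c * σ _ * _
      ring
  have hcr : cyc (uMap σ) cu (orderOf σ) = 1 := by
    have h2 := hit (orderOf σ)
    rw [pow_orderOf_eq_one] at h2
    refine Units.ext (mul_right_cancel₀ hne ?_)
    rw [Units.val_one, one_mul]
    exact h2.symm
  obtain ⟨b, hb⟩ := AutPSL.exists_hilbert90 σ hr0 cu hcr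
  set g' := scalSim b * g
  have hg' : ∀ i k, (g'.1 : Matrix Ix Ix F) i k = (b : F) * (g.1 : Matrix Ix Ix F) i k := fun i k => by
    show (((Matrix.GeneralLinearGroup.scalar Ix b : GL Ix F) : Matrix Ix Ix F) * (g.1 : Matrix Ix Ix F)) i k = _
    simp [Matrix.GeneralLinearGroup.scalar]
  have hfix : ∀ i k, (g'.1 : Matrix Ix Ix F) i k ∈ j.range := fun i k => (hj _).1 (by
    have hb' : c * σ (b : F) = b := by
      have := congrArg Units.val hb
      rw [Units.val_mul, Units.val_inv_eq_inv_val] at this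
      show c * σ (b : F) = b
      rw [show c = (b : F) * (σ b)⁻¹ from this, inv_mul_cancel_right₀ ((map_ne_zero σ).2 b.ne_zero)]
    rw [hg', map_mul, hent, ← mul_assoc, mul_comm (σ _) c, hb'])
  choose M hMj using hfix
  have hMm : (Matrix.of M).map j = (g'.1 : Matrix Ix Ix F) := Matrix.ext hMj
  have hdet : (Matrix.of M).det ≠ 0 := fun h0 => by
    have h2 := RingHom.map_det j (Matrix.of M)
    rw [h0, map_zero, RingHom.mapMatrix_apply, hMm] at h2
    exact (Matrix.isUnit_iff_isUnit_det _).1 (g'.1).isUnit |>.ne_zero h2.symm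
  have hq : ∀ u : Ix → F₀, j (QO0 ((Matrix.of M) *ᵥ u)) = (simMul S g' : F) * j (QO0 u) := fun u => by
    rw [← qOdd_j, ← qOdd_j, ← simMul_spec S g', ← hMm]
    exact congrArg _ (funext fun i => RingHom.map_mulVec j (Matrix.of M) u i)
  obtain ⟨u₀, hu₀⟩ : ∃ u : Ix → F₀, QO0 u ≠ 0 := ⟨Pi.single (Sum.inl ()) 1, by
    simp [FormsLib.coe_qOdd, Cfsg.quadFormOdd]⟩
  set ν := QO0 ((Matrix.of M) *ᵥ u₀) / QO0 u₀
  have hν : j ν = (simMul S g' : F) := by
    rw [map_div₀, hq, mul_div_assoc, div_self ((map_ne_zero j).2 hu₀), mul_one]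
  have hν0 : ν ≠ 0 := fun e => Units.ne_zero (simMul S g') (by rw [← hν, e, map_zero])
  refine ⟨⟨Matrix.GeneralLinearGroup.mkOfDetNeZero (Matrix.of M) hdet, Units.mk0 ν hν0, fun u =>
    j.injective (by rw [map_mul, Units.val_mk0, hν]; exact hq u)⟩, ?_⟩
  have e : simJ j (m := m) ⟨Matrix.GeneralLinearGroup.mkOfDetNeZero (Matrix.of M) hdet, Units.mk0 ν hν0, fun u =>
    j.injective (by rw [map_mul, Units.val_mk0, hν]; exact hq u)⟩ = g' := Subtype.ext (Units.ext hMm)
  rw [e, map_mul, (simAut_eq_one_iff S (scalSim b)).2 ⟨b, rfl⟩, one_mul]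

include S₀

/-- The centraliser of a field automorphism in the inner-diagonal group. -/
theorem centralizer_equiv_odd (hr0 : 0 < orderOf σ) :
    Nonempty (↥((simAut (Q := QO)).range ⊓ Subgroup.centralizer {theta (fldOdd σ : SemiT QO)}) ≃*
      ↥(simAut (Q := QO0)).range) := by
  let Φ : Cfsg.Geo.quadSimilarityGroup (F := F₀) ⇑QO0 →*
      ↥((simAut (Q := QO)).range ⊓ Subgroup.centralizer {theta (fldOdd σ : SemiT QO)}) :=
    ((simAut (Q := QO)).comp (simJ j)).codRestrict _ fun g => ⟨⟨_, rfl⟩,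
      Subgroup.mem_centralizer_singleton_iff.2 ((fldOdd_commute j σ hj g).map theta).eq⟩
  have hΦ : Function.Surjective Φ := by
    rintro ⟨_, ⟨g, rfl⟩, hc⟩
    obtain ⟨g₀, hg₀⟩ := exists_simJ j σ hj S hr0 g (Subgroup.mem_centralizer_singleton_iff.1 hc)
    exact ⟨g₀, Subtype.ext hg₀.symm⟩
  refine ⟨((QuotientGroup.quotientKerEquivOfSurjective Φ hΦ).symm.trans
    ((QuotientGroup.quotientMulEquivOfEq ?_).trans (QuotientGroup.quotientKerEquivRange _)))⟩
  ext g
  rw [MonoidHom.mem_ker, MonoidHom.mem_ker, Subtype.ext_iff]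
  show simAut (simJ j g) = 1 ↔ simAut g = 1
  rw [simAut_eq_one_iff S, simAut_eq_one_iff S₀]
  constructor
  · rintro ⟨c, hc⟩
    have he : ∀ i k, j ((g.1 : Matrix Ix Ix F₀) i k) = if i = k then (c : F) else 0 := fun i k => by
      have := congrArg (fun z : Cfsg.Geo.quadSimilarityGroup (F := F) ⇑QO => (z.1 : Matrix Ix Ix F) i k) hc
      simpa [scalSim, Matrix.GeneralLinearGroup.scalar, Matrix.diagonal_apply, simJ] using this.symm
    set i₀ : Ix := Sum.inl ()
    have h0 : (g.1 : Matrix Ix Ix F₀) i₀ i₀ ≠ 0 := fun e => c.ne_zero (by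
      have h1 := he i₀ i₀
      rw [if_pos rfl, e, map_zero] at h1
      exact h1.symm)
    refine ⟨Units.mk0 _ h0, Subtype.ext (Units.ext (Matrix.ext fun i k => j.injective ?_))⟩
    rw [he]
    simp [scalSim, Matrix.GeneralLinearGroup.scalar, Matrix.diagonal_apply, apply_ite j, he]
  · rintro ⟨c, rfl⟩
    exact ⟨Units.map j.toMonoidHom c, Subtype.ext (Units.ext (Matrix.ext fun i k => by
      simp [scalSim, Matrix.GeneralLinearGroup.scalar, Matrix.diagonal_apply, simJ, apply_ite j]))⟩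

omit S₀

theorem outI_range_odd (h2 : (2 : F) ≠ 0) (hm : 3 ≤ m) : Nat.card (outI (Q := QO)).range = 2 := by
  have h := card_isoAut_range S (s := 2) (by
    rw [Nat.card_eq_two_iff]
    refine ⟨⟨1, one_mul 1⟩, ⟨-1, by ring⟩, fun e => h2 ?_, Set.eq_univ_of_forall fun c => ?_⟩
    · have := congrArg Subtype.val e
      simp only at this
      linear_combination this
    · rcases mul_self_eq_one_iff.1 c.2 with h | h
      · exact Or.inl (Subtype.ext h)
      · exact Or.inr (Subtype.ext h))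
  have hP := OrthPOrder.card_odd_dim (F := F) h2 hm
  rw [← FormsLib.coe_qOdd] at hP
  rw [← card_outI_range S, ← hP] at h
  have hpos : 0 < Nat.card (Cfsg.POmega F ⇑QO) := Nat.card_pos
  exact Nat.eq_of_mul_eq_mul_right hpos (by linarith)

theorem outS_range_odd : (outS (Q := QO)).range = (outI (Q := QO)).range := by
  refine le_antisymm ?_ (by rintro _ ⟨h, rfl⟩; exact ⟨incl h, rfl⟩)
  rintro _ ⟨g, rfl⟩
  obtain ⟨c, hc⟩ : simMul S g ∈ (powMonoidHom 2 : Fˣ →* Fˣ).range := by
    rw [← simMul_odd_range S]; exact ⟨g, rfl⟩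
  have hk : (scalSim c)⁻¹ * g ∈ (simMul S).ker := by
    rw [MonoidHom.mem_ker, map_mul, map_inv, inv_mul_eq_one]
    refine Eq.trans (Units.ext (simMul_eq S fun v => ?_)) hc
    show QO ((ofSim (scalSim (Q := QO) c)).1 v) = _
    rw [scalSim_apply, QuadraticMap.map_smul, smul_eq_mul, powMonoidHom_apply, Units.val_pow_eq_pow_val, sq]
  rw [ker_simMul S] at hk
  obtain ⟨h, hh⟩ := hk
  refine ⟨h, ?_⟩
  show outS (incl h) = outS g
  rw [hh, map_mul, map_inv, outS_scal S, inv_one, one_mul]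

include S₀

theorem splitCount_odd (h2 : (2 : F) ≠ 0) (hm : 3 ≤ m) {r : ℕ} (hr : r.Prime) (hσ : orderOf σ = r)
    (hcard : Fintype.card F = Fintype.card F₀ ^ r) :
    (Odd r → Cfsg.splitClassCount (simAut (Q := QO)).range (Cfsg.Inn (Cfsg.POmega F ⇑QO))
      (theta (fldOdd σ : SemiT QO)) = 1) ∧
    (r = 2 → Cfsg.splitClassCount (simAut (Q := QO)).range (Cfsg.Inn (Cfsg.POmega F ⇑QO))
      (theta (fldOdd σ : SemiT QO)) = 2) := by
  classical
  have h20 : (2 : F₀) ≠ 0 := fun e => h2 (by rw [← map_ofNat j 2, e, map_zero])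
  set N := (outS (Q := QO)).ker
  have hN : N.map (simAut (Q := QO)) = Cfsg.Inn (Cfsg.POmega F ⇑QO) := by
    refine le_antisymm ?_ ?_
    · rintro _ ⟨g, hg, rfl⟩
      exact (QuotientGroup.eq_one_iff _).1 hg
    · rw [inn_eq]
      rintro _ ⟨t, ht, rfl⟩
      exact ⟨incl t, outI_omega ht, rfl⟩
  set χ := (outS (Q := QO)).rangeRestrict
  have hcount : Cfsg.splitClassCount (simAut (Q := QO)).range (Cfsg.Inn (Cfsg.POmega F ⇑QO))
      (theta (fldOdd σ : SemiT QO)) =
      ((AutPSp.commSub (simAut (Q := QO)) (theta (fldOdd σ : SemiT QO))).map χ).index := by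
    rw [show Cfsg.splitClassCount (simAut (Q := QO)).range (Cfsg.Inn (Cfsg.POmega F ⇑QO))
      (theta (fldOdd σ : SemiT QO)) = Cfsg.splitClassCount (simAut (Q := QO)).range (N.map (simAut (Q := QO)))
      (theta (fldOdd σ : SemiT QO)) from congrArg (Cfsg.splitClassCount _ · _) hN.symm,
      AutPSp.splitClassCount_eq_index, ← AutPSp.index_ker_sup χ (outS (Q := QO)).rangeRestrict_surjective,
      MonoidHom.ker_rangeRestrict]
  have hR : Nat.card (outS (Q := QO)).range = 2 := by rw [outS_range_odd j σ hj S, outI_range_odd j σ hj S h2 hm]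
  haveI : Finite (outS (Q := QO)).range := Nat.finite_of_card_ne_zero (by omega)
  let χ₀ : Cfsg.isometryGroup F₀ ⇑QO0 →* Cfsg.Out (Cfsg.POmega F ⇑QO) :=
    (outS (Q := QO)).comp ((simJ j).comp incl)
  have hrf : ∀ (v : Ix → F₀) (hv : QO0 v ≠ 0), χ₀ (OrthRows.rf QO0 v hv) =
      outI (OrthRows.rf QO (fun i => j (v i)) (by rw [qOdd_j]; exact (map_ne_zero j).2 hv)) := fun v hv => by
    show outS (simJ j (incl _)) = outS (incl _)
    rw [simJ_rf]
  -- a class outside the inner one
  obtain ⟨u, hu, hu1⟩ : ∃ (u : Ix → F) (hu : QO u ≠ 0), outI (OrthRows.rf QO u hu) ≠ 1 := by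
    by_contra hall
    push Not at hall
    have : (outI (Q := QO)).range = ⊥ := by
      rw [MonoidHom.range_eq_bot_iff]
      exact MonoidHom.eq_of_eqOn_dense (OrthRows.closure_rf S.nondeg (hexc S)) (by
        rintro x ⟨w, hw, hx⟩
        rw [OrthRows.eq_rf hw hx, hall w hw]
        rfl)
    have h1 := outI_range_odd j σ hj S h2 hm
    rw [this, Subgroup.card_bot] at h1
    omega
  refine ⟨fun hodd => ?_, fun hr2 => ?_⟩
  · rw [hcount, Subgroup.index_eq_one]
    have key : ∀ a₀ : F₀, IsSquare (j a₀) → IsSquare a₀ := by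
      rintro a₀ ⟨x, hx⟩
      have h1 : σ x * σ x = x * x := by rw [← map_mul, ← hx]; exact (hj _).2 ⟨a₀, rfl⟩
      have h3 : σ x = x := by
        rcases mul_self_eq_mul_self_iff.1 h1 with h | h
        · exact h
        · have hit : ∀ n : ℕ, (σ ^ n) x = (-1) ^ n * x := by
            intro n
            induction n with
            | zero => simp
            | succ n ih =>
              rw [pow_succ' σ]
              show σ ((σ ^ n) x) = _
              rw [ih, map_mul, map_pow, map_neg, map_one, h, pow_succ]; ring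
          have h4 := hit r
          rw [← hσ, pow_orderOf_eq_one, hσ, hodd.neg_one_pow] at h4
          rw [h]
          exact (show x = -x by simpa using h4).symm
      obtain ⟨y, hy⟩ := (hj x).1 h3
      exact ⟨y, j.injective (by rw [map_mul, hy, hx])⟩
    obtain ⟨a₀, ha₀, hcls⟩ : ∃ a₀ : F₀, a₀ ≠ 0 ∧ (IsSquare (j a₀) ↔ IsSquare (QO u)) := by
      by_cases h : IsSquare (QO u)
      · exact ⟨1, one_ne_zero, iff_of_true (by rw [map_one]; exact IsSquare.one) h⟩
      · obtain ⟨a₀, ha₀⟩ := FiniteField.exists_nonsquare (Spinor.ringChar_ne_two h20)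
        exact ⟨a₀, fun e => ha₀ (e ▸ IsSquare.zero), iff_of_false (fun e => ha₀ (key _ e)) h⟩
    obtain ⟨v, hv⟩ := OrthRows.exists_norm_all S₀.nondeg (by have := S₀.dim; omega) ha₀
    have hv0 : QO0 v ≠ 0 := by rw [hv]; exact ha₀
    have hmem : outI (OrthRows.rf QO u hu) ∈
        ((AutPSp.commSub (simAut (Q := QO)) (theta (fldOdd σ : SemiT QO))).map χ).map
          (outS (Q := QO)).range.subtype := by
      refine ⟨χ (simJ j (incl (OrthRows.rf QO0 v hv0))), ⟨_, AutPSp.mem_commSub.2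
        ((fldOdd_commute j σ hj _).map theta), rfl⟩, ?_⟩
      show χ₀ (OrthRows.rf QO0 v hv0) = _
      rw [hrf]
      refine outI_rf_congr S _ hu ?_
      rw [qOdd_j, hv]
      exact hcls
    obtain ⟨w, hw, hw'⟩ := hmem
    refine (Subgroup.eq_top_iff' _).2 fun z => ?_
    have hz : z = 1 ∨ z = w := by
      obtain ⟨y, y', hne, huniv⟩ := Nat.card_eq_two_iff.1 hR
      have hne' : (1 : (outS (Q := QO)).range) ≠ w := fun e => hu1 (by rw [← hw', ← e]; rfl)
      have hz := huniv ▸ Set.mem_univ z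
      have h1 := huniv ▸ Set.mem_univ (1 : (outS (Q := QO)).range)
      have hg := huniv ▸ Set.mem_univ w
      simp only [Set.mem_insert_iff, Set.mem_singleton_iff] at hz h1 hg
      rcases hz with e | e <;> rcases h1 with e1 | e1 <;> rcases hg with e2 | e2 <;>
        first
        | exact absurd (e1.trans e2.symm) hne'
        | exact Or.inl (e.trans e1.symm)
        | exact Or.inr (e.trans e2.symm)
    rcases hz with rfl | rfl
    · exact one_mem _
    · exact hw
  · have hsq : ∀ a₀ : F₀, a₀ ≠ 0 → IsSquare (j a₀) := fun a₀ ha => by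
      rw [FiniteField.isSquare_iff (Spinor.ringChar_ne_two h2) ((map_ne_zero j).2 ha), ← map_pow, ← map_one j]
      congr 1
      rw [hcard, hr2]
      obtain ⟨t, ht⟩ := Nat.odd_iff.2 (FiniteField.odd_card_of_char_ne_two (Spinor.ringChar_ne_two h20))
      rw [show Fintype.card F₀ ^ 2 / 2 = (Fintype.card F₀ - 1) * (t + 1) by
        rw [ht, Nat.add_sub_cancel, show (2 * t + 1) ^ 2 = 2 * (2 * t * (t + 1)) + 1 by ring,
          Nat.mul_add_div two_pos]
        simp,
        pow_mul, FiniteField.pow_card_sub_one_eq_one _ ha, one_pow]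
    obtain ⟨v₁, hv₁⟩ := OrthRows.exists_norm_all S₀.nondeg (by have := S₀.dim; omega) (one_ne_zero (α := F₀))
    have hv₁0 : QO0 v₁ ≠ 0 := by rw [hv₁]; exact one_ne_zero
    set a := χ₀ (OrthRows.rf QO0 v₁ hv₁0) with hadef
    have hall : ∀ (v : Ix → F₀) (hv : QO0 v ≠ 0), χ₀ (OrthRows.rf QO0 v hv) = a := fun v hv => by
      rw [hadef, hrf, hrf]
      refine outI_rf_congr S _ _ (iff_of_true ?_ ?_) <;> rw [qOdd_j] <;> exact hsq _ (by assumption)
    have haa : a * a = 1 := by rw [hadef, ← map_mul, OrthRows.rf_mul_self, map_one]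
    have hdich : ∀ x : Cfsg.isometryGroup F₀ ⇑QO0,
        (Matrix.GeneralLinearGroup.det x.1 = 1 ∧ χ₀ x = 1) ∨
          (Matrix.GeneralLinearGroup.det x.1 = -1 ∧ χ₀ x = a) := by
      intro x
      induction (show x ∈ Subgroup.closure _ by
        rw [OrthRows.closure_rf S₀.nondeg (hexc S₀)]; exact Subgroup.mem_top x) using Subgroup.closure_induction with
      | mem y hy =>
        obtain ⟨w, hw, hx⟩ := hy
        rw [OrthRows.eq_rf hw hx]
        exact Or.inr ⟨OrthRows.det_rf hw, hall w hw⟩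
      | one => exact Or.inl ⟨map_one _, map_one _⟩
      | mul y z _ _ ihy ihz =>
        rcases ihy with ⟨d1, e1⟩ | ⟨d1, e1⟩ <;> rcases ihz with ⟨d2, e2⟩ | ⟨d2, e2⟩ <;>
          [left; right; right; left] <;>
          refine ⟨by rw [Subgroup.coe_mul, map_mul, d1, d2]; simp, by rw [map_mul, e1, e2]; simp [haa]⟩
      | inv y _ ihy =>
        rcases ihy with ⟨d1, e1⟩ | ⟨d1, e1⟩
        · exact Or.inl ⟨by rw [Subgroup.coe_inv, map_inv, d1, inv_one], by rw [map_inv, e1, inv_one]⟩
        · exact Or.inr ⟨by rw [Subgroup.coe_inv, map_inv, d1, inv_neg, inv_one],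
            by rw [map_inv, e1, inv_eq_of_mul_eq_one_right haa]⟩
    have ha1 : a = 1 := by
      let n1 : Cfsg.isometryGroup F₀ ⇑QO0 := ⟨Matrix.GeneralLinearGroup.scalar Ix (-1), fun x _ => by
        show QO0 (((Matrix.GeneralLinearGroup.scalar Ix (-1) : GL Ix F₀) : Matrix Ix Ix F₀) *ᵥ x) = QO0 x
        rw [show ((Matrix.GeneralLinearGroup.scalar Ix (-1) : GL Ix F₀) : Matrix Ix Ix F₀) *ᵥ x =
          ((-1 : F₀ˣ) : F₀) • x from scalSim_apply (Q := QO0) (-1) x, Units.val_neg, Units.val_one,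
          neg_one_smul, QuadraticMap.map_neg]⟩
      have hn : χ₀ n1 = 1 := by
        show outS (simJ j (incl n1)) = 1
        rw [show simJ j (incl n1) = scalSim (Q := QO) (-1) from Subtype.ext (Units.ext (Matrix.ext fun i k => by
          simp [n1, simJ, scalSim, Matrix.GeneralLinearGroup.scalar, Matrix.diagonal_apply, Matrix.one_apply, apply_ite j]))]
        exact outS_scal S _
      rcases hdich n1 with ⟨d1, -⟩ | ⟨-, e1⟩
      · exfalso
        have h3 := congrArg Units.val d1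
        rw [Matrix.GeneralLinearGroup.val_det_apply] at h3
        have h4 : ((-1 : F₀) ^ Fintype.card Ix) = 1 := by
          simpa [n1, Matrix.GeneralLinearGroup.scalar, Matrix.det_diagonal, Matrix.det_neg] using h3
        rw [Odd.neg_one_pow ⟨m, by simp [Fintype.card_sum]; omega⟩] at h4
        exact h20 (by linear_combination -h4)
      · rw [← e1, hn]
    rw [hcount, show (AutPSp.commSub (simAut (Q := QO)) (theta (fldOdd σ : SemiT QO))).map χ = ⊥ from ?_,
      Subgroup.index_bot, hR]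
    rw [Subgroup.eq_bot_iff_forall]
    rintro _ ⟨g, hg, rfl⟩
    obtain ⟨g₀, hg₀⟩ := exists_simJ j σ hj S (by rw [hσ]; exact hr.pos) g (AutPSp.mem_commSub.1 hg)
    refine Subtype.ext ?_
    show outS g = 1
    have e : outS g = outS (simJ j g₀) := congrArg (QuotientGroup.mk' _) hg₀
    rw [e]
    obtain ⟨c, hc⟩ : simMul S₀ g₀ ∈ (powMonoidHom 2 : F₀ˣ →* F₀ˣ).range := by
      rw [← simMul_odd_range S₀]; exact ⟨g₀, rfl⟩
    have hk : (scalSim c)⁻¹ * g₀ ∈ (simMul S₀).ker := by
      rw [MonoidHom.mem_ker, map_mul, map_inv, inv_mul_eq_one]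
      refine Eq.trans (Units.ext (simMul_eq S₀ fun v => ?_)) hc
      show QO0 ((ofSim (scalSim (Q := QO0) c)).1 v) = _
      rw [scalSim_apply, QuadraticMap.map_smul, smul_eq_mul, powMonoidHom_apply, Units.val_pow_eq_pow_val, sq]
    rw [ker_simMul S₀] at hk
    obtain ⟨h, hh⟩ := hk
    rw [show g₀ = scalSim c * incl h by rw [show incl h = _ from hh, mul_inv_cancel_left], map_mul, map_mul,
      show simJ j (scalSim c) = scalSim (Q := QO) (Units.map j.toMonoidHom c) from
        Subtype.ext (Units.ext (Matrix.ext fun i k => by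
          simp [simJ, scalSim, Matrix.GeneralLinearGroup.scalar, Matrix.diagonal_apply, apply_ite j])),
      outS_scal S, one_mul]
    rcases hdich h with ⟨-, e1⟩ | ⟨-, e1⟩
    · exact e1
    · exact e1.trans ha1

end Fixed

end Cfsg.Agent.AutPOmega
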