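import Cfsg.Agent.Lib.AutPOmega.Descent
import Cfsg.Agent.Lib.AutPOmega.Models
import Cfsg.Agent.Lib.Spinor.Discr
import Cfsg.Agent.Lib.LinearGroups.OrthSigns
import Cfsg.Agent.Lib.AutPSL.TwistedClasses

/-!
# Field automorphisms of the odd-dimensional orthogonal groups
-/

set_option autoImplicit false
set_option linter.unusedSectionVars false
set_option maxHeartbeats 2000000

namespace Cfsg.Agent.AutPOmega

open scoped Matrix
open Cfsg.Agent Cfsg.Agent.TransvMax Cfsg.Agent.QMax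

variable {F : Type*} [Field F] [Fintype F] {m : ℕ}

local notation "Ix" => Unit ⊕ (Fin m ⊕ Fin m)
local notation "QO" => FormsLib.qOdd m F

theorem gramMat_det_ne {n : ℕ} (h2 : (2 : F) ≠ 0) (A : QuadraticForm F (Fin (n + 1) → F))
    (hA : (QuadraticMap.polarBilin A).Nondegenerate) : (Spinor.gramMat A).det ≠ 0 := by
  obtain ⟨b, ho, hne, -⟩ := Spinor.exists_ones h2 A hA
  obtain ⟨d, -, e⟩ := Spinor.det_diag_gram A b ho
  intro h0
  rw [h0, mul_zero] at e
  exact (mul_ne_zero (pow_ne_zero _ h2) (Finset.prod_ne_zero_iff.2 fun i _ => hne i)) e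

/-- In odd dimension all non-degenerate forms are similar. -/
theorem odd_similar (h2 : (2 : F) ≠ 0) (A : QuadraticForm F (Ix → F))
    (hA : (QuadraticMap.polarBilin A).Nondegenerate) :
    ∃ (k : GL Ix F) (c : Fˣ), ∀ v, A ((k : Matrix Ix Ix F) *ᵥ v) = (c : F) * QO v := by
  classical
  let L : (Fin (2 * m + 1) → F) ≃ₗ[F] (Ix → F) :=
    LinearEquiv.funCongrLeft F F ((Fintype.equivFin Ix).trans (finCongr (by simp [Fintype.card_sum]; omega)))
  let A' := A.comp L.toLinearMap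
  let B' := (FormsLib.qOdd m F).comp L.toLinearMap
  have hBn : (QuadraticMap.polarBilin (FormsLib.qOdd m F)).Nondegenerate := FormsLib.qOdd_nondeg h2
  have hA' : (QuadraticMap.polarBilin A').Nondegenerate := OrthOrder.nondegenerate_congr L (fun v => rfl) hA
  have hB' : (QuadraticMap.polarBilin B').Nondegenerate := OrthOrder.nondegenerate_congr L (fun v => rfl) hBn
  set c := (Spinor.gramMat A').det * (Spinor.gramMat B').det
  have hc : c ≠ 0 := mul_ne_zero (gramMat_det_ne h2 A' hA') (gramMat_det_ne h2 B' hB')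
  have hC : (QuadraticMap.polarBilin (c • B')).Nondegenerate := OrthOrder.nondegenerate_iff.2 fun x hx =>
    OrthOrder.nondegenerate_iff.1 hB' x fun y => by
      have := hx y
      rw [QuadraticMap.coeFn_smul, QuadraticMap.polar_smul] at this
      exact (mul_eq_zero.1 this).resolve_left hc
  have hg : Spinor.gramMat (c • B') = c • Spinor.gramMat B' := by
    ext i i'
    simp [Spinor.gramMat, QuadraticMap.polar_smul]
  obtain ⟨g, hg'⟩ := (Spinor.isometric_iff h2 (c • B') A' hC hA').2 (by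
    rw [hg, Matrix.det_smul, Fintype.card_fin]
    refine ⟨c ^ (m + 1), ?_⟩
    show c ^ (2 * m + 1) * (Spinor.gramMat B').det * (Spinor.gramMat A').det = _
    rw [mul_assoc, mul_comm (Spinor.gramMat B').det]
    show c ^ (2 * m + 1) * c = _
    ring)
  let e : (Ix → F) ≃ₗ[F] (Ix → F) := (L.symm.trans g).trans L
  refine ⟨Matrix.GeneralLinearGroup.toLin.symm (LinearMap.GeneralLinearGroup.ofLinearEquiv e),
    Units.mk0 c hc, fun v => ?_⟩
  have e1 : ((Matrix.GeneralLinearGroup.toLin.symm (LinearMap.GeneralLinearGroup.ofLinearEquiv e) : GL Ix F) :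
      Matrix Ix Ix F) *ᵥ v = e v := LinearMap.toMatrix'_mulVec _ _
  rw [e1]
  show A' (g (L.symm v)) = _
  rw [hg']
  show c * QO (L (L.symm v)) = _
  rw [L.apply_symm_apply]
  rfl

theorem fldOdd_pow (σ : F ≃+* F) : ∀ i : ℕ, (fldOdd σ : SemiT QO) ^ i = fldOdd (σ ^ i)
  | 0 => by rw [pow_zero, pow_zero]; exact Subtype.ext (Equiv.ext fun x => rfl)
  | i + 1 => by rw [pow_succ, fldOdd_pow σ i, pow_succ, fldOdd_mul]

theorem fldOdd_one : (fldOdd 1 : SemiT QO) = 1 := by
  have := (fldOdd_pow (m := m) (1 : F ≃+* F) 0).symm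
  rwa [pow_zero, pow_zero] at this

theorem isField_iff (σ : F ≃+* F) (β : MulAut (Cfsg.POmega F ⇑QO)) :
    Cfsg.IsFieldAutPOmegaOf (⇑QO) σ β ↔ β = theta (fldOdd σ) := by
  have h : Cfsg.IsSemisimilarityPair (⇑QO) (1 : GL Ix F) σ := ⟨1, fun v => by
    rw [Units.val_one, Units.val_one, Matrix.one_mulVec, one_mul, FormsLib.coe_qOdd]
    simp [Cfsg.quadFormOdd, map_sum]⟩
  have e : ofPair h = fldOdd σ := Subtype.ext (Equiv.ext fun x => by
    rw [ofPair_apply, Units.val_one, Matrix.one_mulVec]; rfl)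
  rw [← e, ← induced_iff h β]
  refine forall_congr' fun s => forall_congr' fun s' => ?_
  simp

theorem inndiag_odd :
    (Cfsg.autSubgroupOf fun β : MulAut (Cfsg.POmega F ⇑QO) => Cfsg.IsSimilarityInducedAutPOmega (⇑QO) β) =
      (simAut (Q := QO)).range := by
  rw [← pgoAut_eq]; rfl

theorem sigHom_sim (S : QSetting QO) (k : Cfsg.Geo.quadSimilarityGroup (F := F) ⇑QO) :
    sigHom S (ofSim k) = 1 := (sig_eq_one_iff S).2 ⟨_, rfl⟩

theorem orderOf_theta_fldOdd (S : QSetting QO) (σ : F ≃+* F) :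
    orderOf (theta (fldOdd σ : SemiT QO)) = orderOf σ := by
  refine orderOf_eq_orderOf_iff.2 fun i => ⟨fun h => ?_, fun h => ?_⟩
  · rw [← map_pow, fldOdd_pow] at h
    have h1 := outT_eq_one_sig S (show outT (fldOdd (σ ^ i) : SemiT QO) = 1 by
      show QuotientGroup.mk' _ (theta _) = 1
      rw [h, map_one])
    rwa [sigT_fldOdd S] at h1
  · rw [← map_pow, fldOdd_pow, h, fldOdd_one, map_one]

theorem theta_pow_sig (S : QSetting QO) {T : SemiT QO} {r : ℕ} (h : theta T ^ r = 1) :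
    sigHom S T ^ r = 1 := by
  rw [← map_pow]
  exact outT_eq_one_sig S (by rw [← map_pow] at h; show QuotientGroup.mk' _ (theta _) = 1; rw [h, map_one])

/-- An element of the coset of a field automorphism having the same order is conjugate to it. -/
theorem exists_conj_odd (S : QSetting QO) (h2 : (2 : F) ≠ 0) (T : SemiT QO)
    (h : theta T ^ orderOf (sigHom S T) = 1) :
    ∃ K : Cfsg.Geo.quadSimilarityGroup (F := F) ⇑QO,
      theta T = simAut K * theta (fldOdd (sigHom S T)) * (simAut K)⁻¹ := by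
  haveI : Finite (F ≃+* F) := Finite.of_injective _ DFunLike.coe_injective
  have hr0 : 0 < orderOf (sigHom S T) := orderOf_pos _
  obtain ⟨T', hT', hsig, hp⟩ := exists_normalised S T rfl hr0 h
  set σ := sigHom S T with hσ
  let F₀ := (σ : F →+* F).eqLocusField (RingHom.id F)
  haveI : Fintype F₀ := Fintype.ofFinite _
  have hσ' : sigT T' = σ := hsig
  have hj : ∀ a, sigT T' a = a ↔ a ∈ (F₀.subtype).range := fun a => by
    rw [hσ']
    exact ⟨fun e => ⟨⟨a, e⟩, rfl⟩, by rintro ⟨⟨b, hb⟩, rfl⟩; exact hb⟩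
  obtain ⟨H, b, Q₀, hH, hQ₀, hn₀⟩ := exists_descended S F₀.subtype T' (congrArg orderOf hsig) hr0 hp hj
  have h20 : (2 : F₀) ≠ 0 := fun e => h2 (by
    rw [← map_ofNat F₀.subtype 2, e, map_zero])
  obtain ⟨k, c, hk⟩ := odd_similar h20 Q₀ hn₀
  let k' : GL Ix F := Matrix.GeneralLinearGroup.map F₀.subtype k
  have hk' : ∀ u : Ix → F₀, (k' : Matrix Ix Ix F) *ᵥ (fun i => F₀.subtype (u i)) =
      fun i => F₀.subtype (((k : Matrix Ix Ix F₀) *ᵥ u) i) := fun u =>
    funext fun i => (RingHom.map_mulVec F₀.subtype (k : Matrix Ix Ix F₀) u i).symm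
  set μ : F := (b : F) * F₀.subtype c
  have hμ : μ ≠ 0 := mul_ne_zero b.ne_zero ((map_ne_zero _).2 c.ne_zero)
  have hK : ∀ x, QO (((H * k' : GL Ix F) : Matrix Ix Ix F) *ᵥ x) = μ * QO x := fun x =>
    quad_ext_j F₀.subtype (A := (FormsLib.qOdd m F).comp (Matrix.mulVecLin ((H * k' : GL Ix F) : Matrix Ix Ix F)))
      (B := μ • FormsLib.qOdd m F) (fun u => by
        rw [QuadraticMap.comp_apply, Matrix.mulVecLin_apply, QuadraticMap.smul_apply, smul_eq_mul]
        rw [Units.val_mul, ← Matrix.mulVec_mulVec, hk', hQ₀, hk, map_mul, mul_assoc]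
        congr 2
        simp [FormsLib.coe_qOdd, Cfsg.quadFormOdd, map_sum]) x
  refine ⟨⟨H * k', Units.mk0 μ hμ, hK⟩, ?_⟩
  rw [← hT', eq_mul_inv_iff_mul_eq]
  show theta T' * theta (ofSim _) = theta (ofSim _) * theta _
  rw [← map_mul, ← map_mul]
  congr 1
  refine Subtype.ext (Equiv.ext fun x => ?_)
  show T'.1 (((H * k' : GL Ix F) : Matrix Ix Ix F) *ᵥ x) = ((H * k' : GL Ix F) : Matrix Ix Ix F) *ᵥ fun i => σ (x i)
  rw [Units.val_mul, ← Matrix.mulVec_mulVec, hH, ← Matrix.mulVec_mulVec, hσ']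
  congr 1
  funext i
  simp only [Matrix.mulVec, dotProduct, map_sum, map_mul]
  refine Finset.sum_congr rfl fun l _ => ?_
  congr 1
  exact ((k : Matrix Ix Ix F₀) i l).2

theorem h8_odd : Fintype.card Ix = 8 → ∀ W : Submodule F (Ix → F), (∀ x ∈ W, QO x = 0) →
    Module.finrank F W ≤ 3 := fun h => absurd h (by simp [Fintype.card_sum]; omega)

/-- A field automorphism is an inner-diagonal conjugate of a standard one. -/
theorem exists_field_rep_odd (S : QSetting QO) (h2 : (2 : F) ≠ 0) {x : MulAut (Cfsg.POmega F ⇑QO)}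
    (hx : Cfsg.IsFieldAutClassPOmega (⇑QO) x) :
    ∃ (σ : F ≃+* F) (K : Cfsg.Geo.quadSimilarityGroup (F := F) ⇑QO), σ ≠ 1 ∧
      x = simAut K * theta (fldOdd σ) * (simAut K)⁻¹ := by
  obtain ⟨α, φ, σ, hne, hφ, he⟩ := hx
  obtain ⟨U, rfl⟩ := theta_surjective S h8_odd α
  rw [isField_iff] at hφ
  subst hφ
  have hxT : x = theta (U⁻¹ * fldOdd σ * U) := by
    rw [map_mul, map_mul, map_inv, ← he]; group
  have hs : sigHom S (U⁻¹ * fldOdd σ * U) = σ := by
    haveI : IsCyclic (F ≃+* F) := by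
      obtain ⟨p, hp⟩ := CharP.exists F
      haveI : Fact p.Prime := ⟨CharP.char_is_prime F p⟩
      obtain ⟨n, -, hn⟩ := FiniteField.card F p
      obtain ⟨s, -, -, hs⟩ := exists_frob F p n hn
      exact ⟨⟨s, hs⟩⟩
    letI := IsCyclic.commGroup (α := F ≃+* F)
    rw [map_mul, map_mul, map_inv, sigT_fldOdd S, mul_comm, mul_inv_cancel_left]
  obtain ⟨K, hK⟩ := exists_conj_odd S h2 (U⁻¹ * fldOdd σ * U) (by
    rw [hs, map_mul, map_mul, map_inv, ← map_inv, ← orderOf_theta_fldOdd S σ]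
    have h1 := orderOf_dvd_iff_pow_eq_one.1 (dvd_refl (orderOf (theta (fldOdd σ : SemiT QO))))
    conv_lhs => rw [show theta U⁻¹ * theta (fldOdd σ) * theta U =
      theta U⁻¹ * theta (fldOdd σ : SemiT QO) * (theta U⁻¹)⁻¹ by rw [map_inv, inv_inv]]
    rw [conj_pow, h1, mul_one, mul_inv_cancel])
  rw [hs] at hK
  exact ⟨σ, K, hne, hxT.trans hK⟩

/-- The coset statement. -/
theorem coset_iff_odd (S : QSetting QO) (h2 : (2 : F) ≠ 0) {x δ : MulAut (Cfsg.POmega F ⇑QO)}
    (hx : Cfsg.IsFieldAutClassPOmega (⇑QO) x) (hδ : δ ∈ (simAut (Q := QO)).range) :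
    orderOf (δ * x) = orderOf x ↔ Cfsg.IsConjUnder (simAut (Q := QO)).range x (δ * x) := by
  constructor
  · intro h
    obtain ⟨σ, K, -, rfl⟩ := exists_field_rep_odd S h2 hx
    obtain ⟨g, rfl⟩ := hδ
    have hs : sigHom S (ofSim g * (ofSim K * fldOdd σ * (ofSim K)⁻¹)) = σ := by
      rw [map_mul, map_mul, map_mul, map_inv, sigHom_sim, sigHom_sim, sigT_fldOdd S, one_mul, one_mul, inv_one,
        mul_one]
    have he : theta (ofSim g * (ofSim K * fldOdd σ * (ofSim K)⁻¹)) =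
        simAut g * (simAut K * theta (fldOdd σ) * (simAut K)⁻¹) := by
      rw [map_mul, map_mul, map_mul, map_inv]; rfl
    rw [AutPSL.orderOf_conj, orderOf_theta_fldOdd S] at h
    obtain ⟨L, hL⟩ := exists_conj_odd S h2 (ofSim g * (ofSim K * fldOdd σ * (ofSim K)⁻¹)) (by
      rw [hs, he, ← h, pow_orderOf_eq_one])
    rw [hs, he] at hL
    refine ⟨simAut (L * K⁻¹), ⟨_, rfl⟩, hL.trans ?_⟩
    rw [map_mul, map_inv]
    group
  · rintro ⟨h, -, he⟩
    rw [he, AutPSL.orderOf_conj]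

end Cfsg.Agent.AutPOmega
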