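import Cfsg.Agent.Lib.AutPOmega.Aut
import Cfsg.Agent.Lib.Spinor.Rows

/-!
# The outer automorphism group of `PΩ`

The images of isometries, similarities and semilinear similitudes in the outer automorphism group.
-/

set_option autoImplicit false
set_option linter.unusedSectionVars false

namespace Cfsg.Agent.AutPOmega

open scoped Matrix
open Cfsg.Agent Cfsg.Agent.TransvMax Cfsg.Agent.QMax

variable {ι : Type} [Fintype ι] [DecidableEq ι] {F : Type*} [Field F] [Fintype F]
  {Q : QuadraticForm F (ι → F)}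

local notation "V" => ι → F
local notation "SimQ" => Cfsg.Geo.quadSimilarityGroup (F := F) (DFunLike.coe Q)
local notation "IsoQ" => Cfsg.isometryGroup F (DFunLike.coe Q)
local notation "OutQ" => Cfsg.Out (Cfsg.POmega F (DFunLike.coe Q))

/-- Semilinear similitudes in the outer automorphism group. -/
noncomputable def outT : SemiT Q →* OutQ := (QuotientGroup.mk' _).comp theta

/-- Similarities in the outer automorphism group. -/
noncomputable def outS : SimQ →* OutQ := outT.comp ofSim

/-- Isometries in the outer automorphism group. -/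
noncomputable def outI : IsoQ →* OutQ := outS.comp (Subgroup.inclusion isometry_le_sim)

theorem outI_eq (g : IsoQ) : outI g = QuotientGroup.mk' _ (isoAut g) := rfl

theorem outI_omega {g : IsoQ} (hg : g ∈ Cfsg.Omega F ⇑Q) : outI g = 1 :=
  (QuotientGroup.eq_one_iff _).2 ⟨QuotientGroup.mk ⟨g, hg⟩, (isoAut_omega ⟨g, hg⟩).symm⟩

theorem outI_commute (g h : IsoQ) : Commute (outI g) (outI h) := by
  refine commutatorElement_eq_one_iff_commute.1 ?_
  rw [← map_commutatorElement]
  exact outI_omega (Subgroup.commutator_mem_commutator (Subgroup.mem_top g) (Subgroup.mem_top h))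

variable (S : QSetting Q)

include S

theorem hexc : Fintype.card F ≠ 2 ∨ Fintype.card ι ≠ 4 := Or.inr (by have := S.dim; omega)

theorem exists_of_outS_eq_one {g : SimQ} (h : outS g = 1) :
    ∃ t : Cfsg.Omega F ⇑Q, ∃ c : Fˣ, g = omSim t * scalSim c := by
  obtain ⟨x, hx⟩ := (QuotientGroup.eq_one_iff _).1 h
  induction x using QuotientGroup.induction_on with
  | H t =>
    have h1 : simAut ((omSim t)⁻¹ * g) = 1 := by
      rw [map_mul, map_inv]
      show (theta (ofSim (omSim t)))⁻¹ * theta (ofSim g) = 1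
      rw [theta_omSim, hx, inv_mul_cancel]
    obtain ⟨c, hc⟩ := (simAut_eq_one_iff S _).1 h1
    exact ⟨t, c, by rw [hc, mul_inv_cancel_left]⟩

theorem outS_scal (c : Fˣ) : outS (scalSim (Q := Q) c) = 1 := by
  show QuotientGroup.mk' _ (theta (ofSim (scalSim c))) = 1
  rw [(theta_eq_one_iff S _).2 ⟨c, c.ne_zero, fun x => scalSim_apply c x⟩, map_one]

omit S in
/-- Conjugating a reflection by a semilinear similitude. -/
theorem semi_conj_refl (T : SemiT Q) {v : V} (hv : Q v ≠ 0) (hTv : Q (T.1 v) ≠ 0) :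
    T * ofSim (Subgroup.inclusion isometry_le_sim (OrthRows.rf Q v hv)) * T⁻¹ =
      ofSim (Subgroup.inclusion isometry_le_sim (OrthRows.rf Q (T.1 v) hTv)) := by
  rw [mul_inv_eq_iff_eq_mul]
  refine Subtype.ext (Equiv.ext fun x => ?_)
  have hT := semi_spec T
  show T.1 ((OrthRows.rf Q v hv).1.1 *ᵥ x) = (OrthRows.rf Q (T.1 v) hTv).1.1 *ᵥ T.1 x
  rw [OrthRows.rf_val, OrthRows.rf_val, FormsLib.reflectionMatrix_mulVec,
    FormsLib.reflectionMatrix_mulVec, FormsLib.reflHom_apply, FormsLib.reflHom_apply]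
  have hp : QuadraticMap.polar Q (T.1 x) (T.1 v) = mulT T * sigT T (QuadraticMap.polar Q x v) := by
    simp only [QuadraticMap.polar, ← hT.add, hT.quad, map_sub]; ring
  rw [hp, hT.quad, sub_eq_add_neg, sub_eq_add_neg, ← neg_smul, ← neg_smul, hT.add, hT.smul, map_neg,
    map_mul, map_inv₀]
  congr 2
  have := (map_ne_zero (sigT T)).2 hv
  field_simp [hT.ne, this]

omit S in
theorem outT_conj_refl (T : SemiT Q) {v : V} (hv : Q v ≠ 0) (hTv : Q (T.1 v) ≠ 0) :
    outT T * outI (OrthRows.rf Q v hv) * (outT T)⁻¹ = outI (OrthRows.rf Q (T.1 v) hTv) := by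
  show outT T * outT _ * (outT T)⁻¹ = outT _
  rw [← map_inv, ← map_mul, ← map_mul, semi_conj_refl T hv hTv]

/-- Reflections in vectors of the same square class agree in the outer automorphism group. -/
theorem outI_rf_congr {v w : V} (hv : Q v ≠ 0) (hw : Q w ≠ 0)
    (h : IsSquare (Q v) ↔ IsSquare (Q w)) :
    outI (OrthRows.rf Q v hv) = outI (OrthRows.rf Q w hw) := by
  have h1 := Spinor.ab_oRefl_eq S.nondeg hv hw h
  have h2 : (OrthRows.rf Q v hv)⁻¹ * OrthRows.rf Q w hw ∈ commutator IsoQ := by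
    have h3 : (FormsLib.oRefl Q v hv)⁻¹ * FormsLib.oRefl Q w hw ∈ commutator (FormsLib.oGroup Q) := by
      rw [← Abelianization.ker_of, MonoidHom.mem_ker, map_mul, map_inv, h1, inv_mul_cancel]
    have h4 := Subgroup.mem_map_of_mem (FormsLib.oEquiv Q).symm.toMonoidHom h3
    rw [commutator_def, Subgroup.map_commutator,
      Subgroup.map_top_of_surjective _ (FormsLib.oEquiv Q).symm.surjective, ← commutator_def] at h4
    simpa [OrthRows.rf] using h4
  have h5 := outI_omega h2
  rwa [map_mul, map_inv, inv_mul_eq_one] at h5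

theorem outI_rf_sq {v : V} (hv : Q v ≠ 0) :
    outI (OrthRows.rf Q v hv) * outI (OrthRows.rf Q v hv) = 1 := by
  rw [← map_mul, OrthRows.rf_mul_self, map_one]

/-- The isometries give at most four outer classes. -/
theorem outI_cases {v w : V} (hv : Q v ≠ 0) (hw : Q w ≠ 0)
    (hcov : ∀ u, Q u ≠ 0 → ((IsSquare (Q u) ↔ IsSquare (Q v)) ∨ (IsSquare (Q u) ↔ IsSquare (Q w))))
    (g : IsoQ) :
    outI g = 1 ∨ outI g = outI (OrthRows.rf Q v hv) ∨ outI g = outI (OrthRows.rf Q w hw) ∨
      outI g = outI (OrthRows.rf Q v hv) * outI (OrthRows.rf Q w hw) := by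
  set a := outI (OrthRows.rf Q v hv)
  set b := outI (OrthRows.rf Q w hw)
  have haa : a * a = 1 := outI_rf_sq S hv
  have hbb : b * b = 1 := outI_rf_sq S hw
  have hab : a * b = b * a := outI_commute _ _
  let H : Subgroup OutQ :=
    { carrier := {x | x = 1 ∨ x = a ∨ x = b ∨ x = a * b}
      one_mem' := Or.inl rfl
      mul_mem' := by
        have hac : ∀ z, a * (a * z) = z := fun z => by rw [← mul_assoc, haa, one_mul]
        have hbc : ∀ z, b * (b * z) = z := fun z => by rw [← mul_assoc, hbb, one_mul]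
        have hbab : b * (a * b) = a := by rw [hab, ← mul_assoc, hbb, one_mul]
        rintro x y (rfl | rfl | rfl | rfl) (rfl | rfl | rfl | rfl) <;>
          simp [haa, hbb, hbab, ← hab, mul_assoc, hac, hbc]
      inv_mem' := by
        rintro x (rfl | rfl | rfl | rfl)
        · exact Or.inl inv_one
        · exact Or.inr (Or.inl (inv_eq_of_mul_eq_one_right haa))
        · exact Or.inr (Or.inr (Or.inl (inv_eq_of_mul_eq_one_right hbb)))
        · refine Or.inr (Or.inr (Or.inr (inv_eq_of_mul_eq_one_right ?_)))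
          rw [mul_assoc, ← mul_assoc b, ← hab, mul_assoc a b b, hbb, mul_one, haa] }
  have hle : (⊤ : Subgroup IsoQ) ≤ H.comap outI := by
    rw [← OrthRows.closure_rf S.nondeg (hexc S), Subgroup.closure_le]
    rintro x ⟨u, hu, hx⟩
    rw [OrthRows.eq_rf hu hx]
    rcases hcov u hu with h | h
    · exact Or.inr (Or.inl (outI_rf_congr S hu hv h))
    · exact Or.inr (Or.inr (Or.inl (outI_rf_congr S hu hw h)))
  exact hle (Subgroup.mem_top g)

theorem conj_injective :
    Function.Injective (MulAut.conj : Cfsg.POmega F ⇑Q →* MulAut (Cfsg.POmega F ⇑Q)) := by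
  rw [injective_iff_map_eq_one]
  intro x hx
  induction x using QuotientGroup.induction_on with
  | H t =>
    rw [← isoAut_omega] at hx
    obtain ⟨a, ha⟩ := (isoAut_eq_one_iff S _).1 hx
    refine (QuotientGroup.eq_one_iff t).2 (Subgroup.mem_center_iff.2 fun u => omMat_inj fun y => ?_)
    rw [omMat_mul, omMat_mul]
    show omMat u *ᵥ ((t : IsoQ).1.1 *ᵥ y) = (t : IsoQ).1.1 *ᵥ (omMat u *ᵥ y)
    rw [ha, ha, Matrix.mulVec_smul]

/-- Counting the outer classes of isometries. -/
theorem card_outI_range :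
    Nat.card (outI (Q := Q)).range * Nat.card (Cfsg.POmega F ⇑Q) =
      Nat.card (isoAut (Q := Q)).range := by
  let ψ := ((QuotientGroup.mk' (Cfsg.Inn (Cfsg.POmega F ⇑Q))).comp (isoAut (Q := Q)).range.subtype)
  have hr : ψ.range = (outI (Q := Q)).range := by
    rw [MonoidHom.range_comp, Subgroup.range_subtype]
    exact (MonoidHom.range_comp _ _).symm
  have hle : Cfsg.Inn (Cfsg.POmega F ⇑Q) ≤ (isoAut (Q := Q)).range := by
    rw [inn_eq]; exact Subgroup.map_le_range _ _
  have hk : ψ.ker = (Cfsg.Inn (Cfsg.POmega F ⇑Q)).subgroupOf (isoAut (Q := Q)).range := by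
    ext x
    exact (QuotientGroup.eq_one_iff (x.1))
  have h := Subgroup.card_eq_card_quotient_mul_card_subgroup ψ.ker
  rw [Nat.card_congr (QuotientGroup.quotientKerEquivRange ψ).toEquiv, hr, hk,
    Nat.card_congr (Subgroup.subgroupOfEquivOfLe hle).toEquiv,
    ← Nat.card_congr (MonoidHom.ofInjective (conj_injective S)).toEquiv] at h
  exact h.symm

/-- The scalars in the isometry group are the signs. -/
theorem card_isoAut_range {s : ℕ} (hs : Nat.card {c : F // c * c = 1} = s) :
    Nat.card (isoAut (Q := Q)).range * s = Nat.card IsoQ := by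
  have hd := S.dim
  obtain ⟨i⟩ : Nonempty ι := Fintype.card_pos_iff.1 (by omega)
  obtain ⟨x, hx⟩ := exists_quad_one_ne S
  rw [Subgroup.card_eq_card_quotient_mul_card_subgroup (isoAut (Q := Q)).ker,
    Nat.card_congr (QuotientGroup.quotientKerEquivRange _).toEquiv, ← hs]
  congr 1
  have mem : ∀ c : F, c * c = 1 → c ≠ 0 := fun c h e => zero_ne_one (α := F) (by rw [← h, e, mul_zero])
  have hiso : ∀ c : {c : F // c * c = 1},
      Matrix.GeneralLinearGroup.scalar ι (Units.mk0 c.1 (mem c.1 c.2)) ∈ IsoQ := fun c u _ => by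
    show Q (((Matrix.GeneralLinearGroup.scalar ι (Units.mk0 c.1 (mem c.1 c.2)) : GL ι F) : Matrix ι ι F) *ᵥ u) = Q u
    rw [show ((Matrix.GeneralLinearGroup.scalar ι (Units.mk0 c.1 (mem c.1 c.2)) : GL ι F) : Matrix ι ι F) *ᵥ u =
      c.1 • u from scalSim_apply (Q := Q) (Units.mk0 c.1 (mem c.1 c.2)) u, QuadraticMap.map_smul, c.2, one_smul]
  refine Nat.card_congr (Equiv.ofBijective (fun c => (⟨⟨_, hiso c⟩, (isoAut_eq_one_iff S _).2
    ⟨c.1, fun y => scalSim_apply (Q := Q) (Units.mk0 c.1 (mem c.1 c.2)) y⟩⟩ : (isoAut (Q := Q)).ker)) ⟨?_, ?_⟩)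
  · intro c d hcd
    have h := congrFun (congrFun (congrArg (fun g : (isoAut (Q := Q)).ker => (g.1.1 : Matrix ι ι F)) hcd) i) i
    exact Subtype.ext (by simpa [Matrix.GeneralLinearGroup.scalar] using h)
  · rintro ⟨g, hg⟩
    obtain ⟨a, ha⟩ := (isoAut_eq_one_iff S g).1 hg
    have ha2 : a * a = 1 := by
      have h2 : Q ((g.1 : Matrix ι ι F) *ᵥ x) = Q x := g.2 x x
      rw [ha, QuadraticMap.map_smul, smul_eq_mul] at h2
      exact (mul_eq_right₀ hx).1 h2
    refine ⟨⟨a, ha2⟩, Subtype.ext (Subtype.ext (glPerm_injective (Equiv.ext fun y => ?_)))⟩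
    exact (scalSim_apply (Q := Q) (Units.mk0 a (mem a ha2)) y).trans (ha y).symm

omit S in
theorem range_outS_conj_refl (d : SimQ) {v : V} (hv : Q v ≠ 0) (hdv : Q ((d.1 : Matrix ι ι F) *ᵥ v) ≠ 0) :
    outS d * outI (OrthRows.rf Q v hv) * (outS d)⁻¹ = outI (OrthRows.rf Q ((d.1 : Matrix ι ι F) *ᵥ v) hdv) :=
  outT_conj_refl (ofSim d) hv hdv

variable (h8 : Fintype.card ι = 8 → ∀ W : Submodule F (ι → F), (∀ x ∈ W, Q x = 0) → Module.finrank F W ≤ 3)

include h8

theorem outT_surjective : Function.Surjective (outT (Q := Q)) :=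
  (QuotientGroup.mk'_surjective _).comp (theta_surjective S h8)

omit h8

theorem outT_eq_one_sig {T : SemiT Q} (h : outT T = 1) : sigHom S T = 1 := by
  obtain ⟨x, hx⟩ := (QuotientGroup.eq_one_iff _).1 h
  induction x using QuotientGroup.induction_on with
  | H t =>
    have h1 : (ofSim (omSim t))⁻¹ * T ∈ (theta (Q := Q)).ker := by
      rw [MonoidHom.mem_ker, map_mul, map_inv, theta_omSim, hx, inv_mul_cancel]
    rw [ker_theta S] at h1
    obtain ⟨c, hc⟩ := h1
    have h2 : ∀ g : SimQ, sigHom S (ofSim g) = 1 := fun g => by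
      have : ofSim g ∈ (sigHom S).ker := by rw [ker_sigHom S]; exact ⟨g, rfl⟩
      exact this
    have h3 := congrArg (sigHom S) hc
    rw [MonoidHom.comp_apply, h2, map_mul, map_inv, h2, inv_one, one_mul] at h3
    exact h3.symm

/-- The kernel of the field part of `Out` consists of the similarities. -/
theorem sig_eq_one_iff {T : SemiT Q} : sigHom S T = 1 ↔ ∃ g, ofSim g = T := by
  rw [← MonoidHom.mem_ker, ker_sigHom S]; rfl

include h8

theorem exists_outPi :
    ∃ π : OutQ →* (F ≃+* F), ∀ T : SemiT Q, π (outT T) = sigHom S T := by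
  have hle : (outT (Q := Q)).ker ≤ (sigHom S).ker := fun T hT => outT_eq_one_sig S hT
  exact ⟨(outT (Q := Q)).liftOfSurjective (outT_surjective S h8) ⟨sigHom S, hle⟩,
    fun T => MonoidHom.liftOfRightInverse_comp_apply _ _ _ _ T⟩

end Cfsg.Agent.AutPOmega
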