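import Cfsg.Agent.Lib.AutPOmega.Groups
import Cfsg.Agent.Lib.AutPSL.Counts

/-!
# The order of the outer automorphism group and generators for it
-/

set_option autoImplicit false
set_option linter.unusedSectionVars false

namespace Cfsg.Agent.AutPOmega

open scoped Matrix
open Cfsg.Agent Cfsg.Agent.TransvMax Cfsg.Agent.QMax

variable {ι : Type} [Fintype ι] [DecidableEq ι] {F : Type*} [Field F] [Fintype F]
  {Q : QuadraticForm F (ι → F)}

local notation "IsoQ" => Cfsg.isometryGroup F (DFunLike.coe Q)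

variable (S : QSetting Q)

include S

theorem card_out : Nat.card (Cfsg.Out (Cfsg.POmega F ⇑Q)) * Nat.card (Cfsg.POmega F ⇑Q) =
    Nat.card (MulAut (Cfsg.POmega F ⇑Q)) := by
  rw [Subgroup.card_eq_card_quotient_mul_card_subgroup (Cfsg.Inn (Cfsg.POmega F ⇑Q))]
  congr 1
  exact Nat.card_congr (MonoidHom.ofInjective (conj_injective S)).toEquiv

/-- A conjugate of an outer class of isometries is again one. -/
theorem outT_conj_outI (T : SemiT Q) (g : IsoQ) :
    outT T * outI g * (outT T)⁻¹ ∈ (outI (Q := Q)).range := by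
  have key : (⊤ : Subgroup IsoQ) ≤
      (outI (Q := Q)).range.comap ((MulAut.conj (outT T)).toMonoidHom.comp outI) := by
    rw [← OrthRows.closure_rf S.nondeg (hexc S), Subgroup.closure_le]
    rintro x ⟨u, hu, hx⟩
    rw [OrthRows.eq_rf hu hx]
    have hT := semi_spec T
    have hTu : Q (T.1 u) ≠ 0 := by
      rw [hT.quad]; exact mul_ne_zero hT.ne ((map_ne_zero _).2 hu)
    exact ⟨OrthRows.rf Q (T.1 u) hTu, (outT_conj_refl T hu hTu).symm⟩
  exact key (Subgroup.mem_top g)

/-- With two classes of isometries, those classes are central. -/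
theorem outI_central (h2 : Nat.card (outI (Q := Q)).range = 2) (T : SemiT Q) (g : IsoQ) :
    Commute (outT T) (outI g) := by
  by_cases h : outI g = 1
  · rw [h]; exact Commute.one_right _
  · obtain ⟨y, z, hyz, huniv⟩ := Nat.card_eq_two_iff.1 h2
    have hall : ∀ w : (outI (Q := Q)).range, w = 1 ∨ w = ⟨outI g, g, rfl⟩ := by
      intro w
      have hne : (1 : (outI (Q := Q)).range) ≠ ⟨outI g, g, rfl⟩ := fun e => h (congrArg Subtype.val e).symm
      have hw := huniv ▸ Set.mem_univ w
      have h1 := huniv ▸ Set.mem_univ (1 : (outI (Q := Q)).range)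
      have hg := huniv ▸ Set.mem_univ (⟨outI g, g, rfl⟩ : (outI (Q := Q)).range)
      simp only [Set.mem_insert_iff, Set.mem_singleton_iff] at hw h1 hg
      rcases hw with rfl | rfl <;> rcases h1 with e1 | e1 <;> rcases hg with e2 | e2 <;>
        first
        | exact absurd (e1.trans e2.symm) hne
        | exact Or.inl e1.symm
        | exact Or.inr e2.symm
    rcases hall ⟨_, outT_conj_outI S T g⟩ with e | e
    · have e' : outT T * outI g * (outT T)⁻¹ = 1 := congrArg Subtype.val e
      exact absurd (conj_eq_one_iff.1 e') h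
    · exact mul_inv_eq_iff_eq_mul.1 (congrArg Subtype.val e)

/-- The order of a class over the field part. -/
theorem outT_orderOf {T : SemiT Q} {n : ℕ} (hs : orderOf (sigHom S T) = n) :
    n ∣ orderOf (outT T) := by
  rw [← hs]
  refine orderOf_dvd_of_pow_eq_one ?_
  rw [← map_pow]
  exact outT_eq_one_sig S (by rw [map_pow, pow_orderOf_eq_one])

/-- A class of isometries has trivial field part. -/
theorem sig_of_outT_eq_outI {T : SemiT Q} {g : IsoQ} (h : outT T = outI g) : sigHom S T = 1 := by
  have h1 : outT ((ofSim (incl g))⁻¹ * T) = 1 := by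
    rw [map_mul, map_inv, show outT (ofSim (incl g)) = outI g from rfl, h, inv_mul_cancel]
  have h2 := outT_eq_one_sig S h1
  rwa [map_mul, map_inv, (sig_eq_one_iff S).2 ⟨_, rfl⟩, inv_one, one_mul] at h2

/-- A class whose power over the field part is a reflection. -/
theorem outT_gen {T : SemiT Q} {f : ℕ} (hf : 1 ≤ f) (hs : orderOf (sigHom S T) = f) {v : ι → F} (hv : Q v ≠ 0)
    (hT : ∀ x, ((T ^ f : SemiT Q).1 : (ι → F) → ι → F) x = Cfsg.reflectionMatrix (DFunLike.coe Q) v *ᵥ x) :
    outT T ^ f = outI (OrthRows.rf Q v hv) ∧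
      (outI (OrthRows.rf Q v hv) ≠ 1 → orderOf (outT T) = 2 * f) := by
  have e : T ^ f = ofSim (incl (OrthRows.rf Q v hv)) := Subtype.ext (Equiv.ext fun x => by
    rw [hT x, ← OrthRows.rf_val (hv := hv)]
    rfl)
  have h1 : outT T ^ f = outI (OrthRows.rf Q v hv) := by rw [← map_pow, e]; rfl
  refine ⟨h1, fun hne => ?_⟩
  have h2 : outT T ^ (2 * f) = 1 := by
    rw [mul_comm, pow_mul, h1, sq]; exact outI_rf_sq S hv
  obtain ⟨t, ht⟩ := outT_orderOf S hs
  have hdvd : f * t ∣ f * 2 := by rw [← ht, mul_comm f 2]; exact orderOf_dvd_of_pow_eq_one h2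
  have ht2 := Nat.dvd_of_mul_dvd_mul_left (by omega) hdvd
  rcases (Nat.dvd_prime Nat.prime_two).1 ht2 with rfl | rfl
  · exfalso
    refine hne ?_
    rw [← h1]
    exact orderOf_dvd_iff_pow_eq_one.1 (by rw [ht, mul_one])
  · rw [ht, mul_comm]

end Cfsg.Agent.AutPOmega
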