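import Cfsg.Agent.Lib.AutPOmega.OutCard

/-!
# Field classes against the classes of similarities
-/

set_option autoImplicit false
set_option linter.unusedSectionVars false

namespace Cfsg.Agent.AutPOmega

open scoped Matrix
open Cfsg.Agent Cfsg.Agent.TransvMax Cfsg.Agent.QMax

variable {ι : Type} [Fintype ι] [DecidableEq ι] {F : Type*} [Field F] [Fintype F]
  {Q : QuadraticForm F (ι → F)}

local notation "SimQ" => Cfsg.Geo.quadSimilarityGroup (F := F) (DFunLike.coe Q)

theorem semi_apply_eq (T : SemiT Q) :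
    ∃ P : Matrix ι ι F, IsUnit P.det ∧ ∀ x, T.1 x = P *ᵥ fun i => sigT T (x i) := by
  classical
  have hT := semi_spec T
  let P : Matrix ι ι F := Matrix.of fun i j => T.1 (Pi.single j 1) i
  have hP : ∀ x, T.1 x = P *ᵥ fun i => sigT T (x i) := fun x => by
    let A : (ι → F) →+ (ι → F) := AddMonoidHom.mk' T.1 hT.add
    have h1 : T.1 x = ∑ j, sigT T (x j) • T.1 (Pi.single j 1) := by
      calc T.1 x = A (∑ j, x j • Pi.single j 1) := by rw [← pi_eq_sum_univ' x]; rfl
        _ = ∑ j, A (x j • Pi.single j 1) := map_sum A _ _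
        _ = _ := Finset.sum_congr rfl fun j _ => hT.smul _ _
    rw [h1]
    funext i
    simp [P, Matrix.mulVec, dotProduct, mul_comm]
  refine ⟨P, (Matrix.isUnit_iff_isUnit_det P).1 (Matrix.mulVec_surjective_iff_isUnit.1 fun y => ?_), hP⟩
  exact ⟨fun i => sigT T (T.1.symm y i), by rw [← hP, Equiv.apply_symm_apply]⟩

theorem isSquare_ringEquiv (σ : F ≃+* F) (x : F) : IsSquare (σ x) ↔ IsSquare x :=
  ⟨fun h => by simpa using h.map σ.symm, fun h => h.map σ⟩

variable (S : QSetting Q)

include S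

theorem sig_of_outT_eq_outS {T : SemiT Q} {g : SimQ} (h : outT T = outS g) : sigHom S T = 1 := by
  have h1 : outT ((ofSim g)⁻¹ * T) = 1 := by
    rw [map_mul, map_inv, show outT (ofSim g) = outS g from rfl, h, inv_mul_cancel]
  have h2 := outT_eq_one_sig S h1
  rwa [map_mul, map_inv, (sig_eq_one_iff S).2 ⟨_, rfl⟩, inv_one, one_mul] at h2

/-- Conjugates of similarities by semilinear similitudes. -/
theorem exists_conj_sim (k : ℕ) (T : SemiT Q) (g : SimQ) :
    ∃ g' : SimQ, outS g' = outT T * outS g * (outT T)⁻¹ ∧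
      (simMul S g' : F) = sigT T (simMul S g : F) ∧ (epsS S k g' : F) = sigT T (epsS S k g : F) := by
  obtain ⟨g', hg'⟩ : ∃ g', ofSim g' = T * ofSim g * T⁻¹ := (sig_eq_one_iff S).1 (by
    rw [map_mul, map_mul, map_inv, (sig_eq_one_iff S).2 ⟨g, rfl⟩, mul_one, mul_inv_cancel])
  have hT := semi_spec T
  have hc : ∀ x, (g'.1 : Matrix ι ι F) *ᵥ T.1 x = T.1 ((g.1 : Matrix ι ι F) *ᵥ x) := fun x => by
    have h : ofSim g' * T = T * ofSim g := by rw [hg', inv_mul_cancel_right]
    exact congrArg (fun z : SemiT Q => z.1 x) h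
  have hm : (simMul S g' : F) = sigT T (simMul S g : F) := simMul_eq S fun v => by
    obtain ⟨x, rfl⟩ := T.1.surjective v
    rw [hc, hT.quad, hT.quad, simMul_spec S, map_mul]
    ring
  refine ⟨g', ?_, hm, ?_⟩
  · show outT (ofSim g') = _
    rw [hg', map_mul, map_mul, map_inv]
    rfl
  obtain ⟨P, hPu, hP⟩ := semi_apply_eq T
  have hmat : (g'.1 : Matrix ι ι F) * P = P * (g.1 : Matrix ι ι F).map (sigT T) := by
    refine Matrix.toLin'.injective (LinearMap.ext fun x => ?_)
    rw [Matrix.toLin'_apply, Matrix.toLin'_apply, ← Matrix.mulVec_mulVec, ← Matrix.mulVec_mulVec]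
    obtain ⟨y, rfl⟩ : ∃ y : ι → F, (fun i => sigT T (y i)) = x :=
      ⟨fun i => (sigT T).symm (x i), funext fun i => (sigT T).apply_symm_apply _⟩
    rw [← hP, hc, hP]
    congr 1
    funext i
    exact RingHom.map_mulVec (sigT T).toRingHom (g.1 : Matrix ι ι F) y i
  have hdet := congrArg Matrix.det hmat
  rw [Matrix.det_mul, Matrix.det_mul, mul_comm P.det] at hdet
  have hdet' := mul_right_cancel₀ hPu.ne_zero hdet
  rw [epsS_apply, epsS_apply, Units.val_div_eq_div_val, Units.val_div_eq_div_val, Units.val_pow_eq_pow_val,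
    Units.val_pow_eq_pow_val, Matrix.GeneralLinearGroup.val_det_apply, Matrix.GeneralLinearGroup.val_det_apply,
    map_div₀, map_pow, hm, hdet']
  congr 1
  exact (RingHom.map_det (sigT T).toRingHom (g.1 : Matrix ι ι F)).symm

variable {k : ℕ} (hk : Fintype.card ι = 2 * k) (h2 : (2 : F) ≠ 0)
  {d : Cfsg.Geo.quadSimilarityGroup (F := F) ⇑Q} {g : ℕ} (D : EvenData Q S d g)

include hk h2

/-- A multiplier-free semilinear similitude fixes the classes of isometries. -/
theorem outT_commute_outI {T : SemiT Q} (hT : mulT T = 1) (x : Cfsg.isometryGroup F ⇑Q) :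
    Commute (outT T) (outI x) := by
  have key : (⊤ : Subgroup (Cfsg.isometryGroup F ⇑Q)) ≤ (Subgroup.centralizer {outT T}).comap outI := by
    rw [← OrthRows.closure_rf S.nondeg (hexc S), Subgroup.closure_le]
    rintro x ⟨u, hu, hx⟩
    rw [OrthRows.eq_rf hu hx]
    have hs := semi_spec T
    have hTu : Q (T.1 u) ≠ 0 := by rw [hs.quad]; exact mul_ne_zero hs.ne ((map_ne_zero _).2 hu)
    refine Subgroup.mem_centralizer_singleton_iff.2 ?_
    have h := outT_conj_refl T hu hTu
    rw [outI_rf_congr S hTu hu (by rw [hs.quad, hT, one_mul, isSquare_ringEquiv])] at h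
    exact (mul_inv_eq_iff_eq_mul.1 h).symm
  exact (Subgroup.mem_centralizer_singleton_iff.1 (key (Subgroup.mem_top x))).symm

include D

/-- The commutator of a field class and a similarity class is proper. -/
theorem outT_conj_outS (T : SemiT Q) {v : ι → F} (hv : Q v ≠ 0) (hw : Q ((d.1 : Matrix ι ι F) *ᵥ v) ≠ 0)
    (hsq : IsSquare (Q v)) (hns : ¬ IsSquare (Q ((d.1 : Matrix ι ι F) *ᵥ v))) (hd : epsS S k d = 1) :
    outT T * outS d * (outT T)⁻¹ = outS d ∨
      outT T * outS d * (outT T)⁻¹ = outI (OrthRows.rf Q v hv) * outI (OrthRows.rf Q _ hw) * outS d := by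
  obtain ⟨g', hg', hm, he⟩ := exists_conj_sim S k T d
  have h1 : IsSquare (simMul S (g' * d⁻¹) : F) := by
    rw [map_mul, map_inv, Units.val_mul, Spinor.isSquare_mul_iff' (Units.ne_zero _) (Units.ne_zero _),
      Units.val_inv_eq_inv_val, isSquare_inv, hm, isSquare_ringEquiv]
  have he' : epsS S k g' = 1 := Units.ext (by rw [he, hd]; simp)
  have h3 : epsS S k (g' * d⁻¹) = 1 := by rw [map_mul, map_inv, he', hd, inv_one, one_mul]
  rcases outS_proper S hk h2 D hv hw hsq hns h1 h3 with h | h <;>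
    rw [map_mul, map_inv, mul_inv_eq_iff_eq_mul, hg'] at h
  · exact Or.inl (by rw [h, one_mul])
  · exact Or.inr h

end Cfsg.Agent.AutPOmega
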