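import Cfsg.Agent.Lib.AutPOmega.TrialityNormal
import Cfsg.Agent.Lib.AutPOmega.OutCard
import Cfsg.Agent.Lib.AutPOmega.OutField
import Cfsg.Agent.Lib.Chev.Aut.OutD4Prod
import Cfsg.Agent.Lib.LinearGroups.OrthPOrder

/-!
# The outer automorphism group of the hyperbolic orthogonal groups
-/

set_option autoImplicit false
set_option linter.unusedSectionVars false
set_option maxHeartbeats 2000000

namespace Cfsg.Agent.AutPOmega

open Cfsg.Agent Cfsg.Agent.TransvMax Cfsg.Agent.QMax
open scoped Matrix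

section Transfer

variable {G H : Type*} [Group G] [Group H]

theorem congr_conj (E : G ≃* H) (x : G) : MulAut.congr E (MulAut.conj x) = MulAut.conj (E x) :=
  MulEquiv.ext fun y => by
    show E (x * E.symm y * x⁻¹) = E x * y * (E x)⁻¹
    simp

/-- Outer automorphism groups of isomorphic groups. -/
noncomputable def outCongr (E : G ≃* H) : Cfsg.Out G ≃* Cfsg.Out H :=
  QuotientGroup.congr (Cfsg.Inn G) (Cfsg.Inn H) (MulAut.congr E) (by
    ext β
    constructor
    · rintro ⟨_, ⟨x, rfl⟩, rfl⟩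
      exact ⟨E x, (congr_conj E x).symm⟩
    · rintro ⟨y, rfl⟩
      exact ⟨MulAut.conj (E.symm y), ⟨_, rfl⟩, by
        show MulAut.congr E _ = _
        rw [congr_conj, E.apply_symm_apply]⟩)

end Transfer

variable {F : Type*} [Field F] [Fintype F]

/-- The case of dimension eight. -/
theorem out_plus_four {p f : ℕ} [Fact p.Prime] [NeZero f] (hF : Fintype.card F = p ^ f) :
    (p = 2 → Nonempty (Cfsg.Out (Cfsg.POmega F (Cfsg.quadFormPlus 4 F)) ≃*
      Equiv.Perm (Fin 3) × Multiplicative (ZMod f))) ∧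
    (p ≠ 2 → Nonempty (Cfsg.Out (Cfsg.POmega F (Cfsg.quadFormPlus 4 F)) ≃*
      Equiv.Perm (Fin 4) × Multiplicative (ZMod f))) := by
  haveI : CharP F p := charP_of_card_eq_prime_pow hF
  obtain ⟨E, -⟩ := exists_model_iso (F := F) (Cfsg.quadFormPlus 4 F) rfl
  obtain ⟨e⟩ := Chev.Aut.out_prod (F := F)
  haveI : IsCyclic (F ≃+* F) := AutPSL.isCyclic_ringAut p
  let eF : (F ≃+* F) ≃* Multiplicative (ZMod f) := mulEquivOfCyclicCardEq (by
    rw [AutPSL.card_ringAut p f hF]
    simp)
  refine ⟨fun hp => ?_, fun hp => ?_⟩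
  · subst hp
    obtain ⟨e3⟩ := Chev.Aut.dtGroup_two (F := F) (by
      rw [hF]
      exact Nat.coprime_two_right.2 (Nat.Even.sub_odd (Nat.one_le_pow _ _ two_pos)
        (even_two.pow_of_ne_zero (NeZero.ne f)) odd_one))
    exact ⟨((outCongr E).symm.trans e).trans (e3.prodCongr eF)⟩
  · obtain ⟨e4⟩ := Chev.Aut.dtGroup_odd (F := F) (by
      rw [hF]
      exact Nat.gcd_eq_right (even_iff_two_dvd.1 (Nat.Odd.sub_odd
        ((Fact.out : p.Prime).odd_of_ne_two hp).pow odd_one)))
    exact ⟨((outCongr E).symm.trans e).trans (e4.prodCongr eF)⟩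

theorem qPlus_fldP {m : ℕ} (σ : F ≃+* F) (x : Fin m ⊕ Fin m → F) :
    OrthOrder.qPlus m F ((fldP σ).1 x) = σ (OrthOrder.qPlus m F x) := by
  rw [OrthOrder.qPlus_apply, OrthOrder.qPlus_apply]
  simp [Cfsg.quadFormPlus, fldP_apply, map_sum]

theorem fldP_plusD {m : ℕ} (σ : F ≃+* F) (c : Fˣ) :
    fldP σ * ofSim (plusD (m := m) c) =
      ofSim (plusD (Units.map σ.toRingHom.toMonoidHom c)) * fldP σ := by
  refine Subtype.ext (Equiv.ext fun x => funext fun i => ?_)
  show σ (((plusD c).1.1 *ᵥ x) i) = ((plusD _).1.1 *ᵥ fun l => σ (x l)) i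
  rw [plusD_mulVec, plusD_mulVec, map_mul]
  rcases i with i | i <;> simp

section General

variable {ι : Type} [Fintype ι] [DecidableEq ι] {Q : QuadraticForm F (ι → F)} (S : QSetting Q)

local notation "OutQ" => Cfsg.Out (Cfsg.POmega F (DFunLike.coe Q))

include S

/-- A complement to the classes of similarities commuting with them. -/
theorem out_prod_of_lift {f : ℕ} [NeZero f] {T : SemiT Q} (hs : orderOf (sigHom S T) = f)
    (h1 : outT T ^ f = 1) (hc : ∀ g, Commute (outT T) (outS g))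
    (hcard : Nat.card OutQ = Nat.card (outS (Q := Q)).range * f) {H : Type*} [Group H]
    (e : (outS (Q := Q)).range ≃* H) : Nonempty (OutQ ≃* H × Multiplicative (ZMod f)) := by
  let φ : (outS (Q := Q)).range × Multiplicative (ZMod f) →* OutQ :=
    (outS (Q := Q)).range.subtype.noncommCoprod (cycHom f (outT T) h1) fun s u => by
      obtain ⟨i, rfl⟩ := Multiplicative.ofAdd.surjective u
      obtain ⟨g, hg⟩ := s.2
      rw [cycHom_apply]
      show Commute (s : OutQ) _
      rw [← hg]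
      exact ((hc g).pow_left _).symm
  have hinj : Function.Injective φ := by
    rw [injective_iff_map_eq_one]
    rintro ⟨⟨_, g, rfl⟩, u⟩ he
    obtain ⟨i, rfl⟩ := Multiplicative.ofAdd.surjective u
    have he' : outS g * cycHom f (outT T) h1 (Multiplicative.ofAdd i) = 1 := he
    rw [cycHom_apply] at he'
    have e2 : outT (T ^ i.val) = outS g⁻¹ := by
      rw [map_pow, map_inv]; exact eq_inv_of_mul_eq_one_right he'
    have e3 := sig_of_outT_eq_outS S e2
    rw [map_pow, ← orderOf_dvd_iff_pow_eq_one, hs] at e3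
    have e5 : i.val = 0 := Nat.eq_zero_of_dvd_of_lt e3 (ZMod.val_lt i)
    rw [e5, pow_zero, mul_one] at he'
    rw [(ZMod.val_eq_zero i).1 e5]
    exact Prod.ext (Subtype.ext he') rfl
  haveI : Finite (outS (Q := Q)).range := inferInstance
  have hbij : Function.Bijective φ := (Nat.bijective_iff_injective_and_card _).2 ⟨hinj, by
    rw [Nat.card_prod, hcard]; simp⟩
  exact ⟨(MulEquiv.ofBijective φ hbij).symm.trans (e.prodCongr (MulEquiv.refl _))⟩

end General

variable {m : ℕ} (S : QSetting (OrthOrder.qPlus m F))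

include S

theorem card_aut_plus {p f : ℕ} [Fact p.Prime] [CharP F p] (hF : Fintype.card F = p ^ f) (hm : 5 ≤ m) :
    Nat.card (MulAut (Cfsg.POmega F ⇑(OrthOrder.qPlus m F))) =
      Nat.card (Cfsg.isometryGroup F ⇑(OrthOrder.qPlus m F)) * f := by
  have hc := card_aut S (fun h => absurd h (by simp [Fintype.card_sum]; omega))
  have h1 : (simMul S).range = ⊤ := eq_top_iff.2 fun c _ => ⟨plusD c, simMul_plusD S c⟩
  have h2 : (sigHom S).range = ⊤ := eq_top_iff.2 fun σ _ => ⟨fldP σ, sigT_fldP S σ⟩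
  rw [h1, h2, Subgroup.card_top, Subgroup.card_top, AutPSL.card_ringAut p f hF, Nat.card_units,
    Nat.card_eq_fintype_card (α := F)] at hc
  have h0 : 0 < Fintype.card F - 1 := by have := Fintype.one_lt_card (α := F); omega
  exact Nat.eq_of_mul_eq_mul_right h0 (hc.trans (by ring))

theorem exists_fix_vec : ∃ (v : Fin m ⊕ Fin m → F) (_ : OrthOrder.qPlus m F v ≠ 0),
    OrthOrder.qPlus m F v = 1 ∧ ∀ σ : F ≃+* F, (fldP σ).1 v = v := by
  have hm : 0 < m := by have := S.dim; simp [Fintype.card_sum] at this; omega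
  let v : Fin m ⊕ Fin m → F := Sum.elim (Pi.single ⟨0, hm⟩ 1) (Pi.single ⟨0, hm⟩ 1)
  have hQ : OrthOrder.qPlus m F v = 1 := by
    rw [OrthOrder.qPlus_apply]
    simp [Cfsg.quadFormPlus, v, Pi.single_apply]
  refine ⟨v, by rw [hQ]; exact one_ne_zero, hQ, fun σ => funext fun i => ?_⟩
  rw [fldP_apply]
  rcases i with i | i <;> simp only [v, Sum.elim_inl, Sum.elim_inr, Pi.single_apply] <;> split_ifs <;> simp

theorem fldP_rf (σ : F ≃+* F) {u : Fin m ⊕ Fin m → F} (hu : OrthOrder.qPlus m F u ≠ 0) :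
    Commute (outT (fldP σ)) (outI (OrthRows.rf (OrthOrder.qPlus m F) u hu)) := by
  have hTu : OrthOrder.qPlus m F ((fldP σ).1 u) ≠ 0 := by
    rw [qPlus_fldP]; exact (map_ne_zero σ).2 hu
  refine mul_inv_eq_iff_eq_mul.1 ?_
  rw [outT_conj_refl (fldP σ) hu hTu]
  exact outI_rf_congr S hTu hu (by rw [qPlus_fldP]; exact isSquare_ringEquiv σ _)

theorem fldP_outI (σ : F ≃+* F) (g : Cfsg.isometryGroup F ⇑(OrthOrder.qPlus m F)) :
    Commute (outT (fldP σ)) (outI g) := by
  have key : (⊤ : Subgroup (Cfsg.isometryGroup F ⇑(OrthOrder.qPlus m F))) ≤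
      (Subgroup.centralizer {outT (fldP (m := m) σ)}).comap outI := by
    rw [← OrthRows.closure_rf S.nondeg (hexc S), Subgroup.closure_le]
    rintro x ⟨u, hu, hx⟩
    rw [OrthRows.eq_rf hu hx]
    exact Subgroup.mem_centralizer_singleton_iff.2 (fldP_rf S σ hu).eq.symm
  exact (Subgroup.mem_centralizer_singleton_iff.1 (key (Subgroup.mem_top g))).symm

/-- Even characteristic, dimension at least ten. -/
theorem out_plus_two {f : ℕ} [NeZero f] [Fact (Nat.Prime 2)] [CharP F 2] (hF : Fintype.card F = 2 ^ f)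
    (hm : 5 ≤ m) :
    Nonempty (Cfsg.Out (Cfsg.POmega F ⇑(OrthOrder.qPlus m F)) ≃* Multiplicative (ZMod 2 × ZMod f)) := by
  have h2 : (2 : F) = 0 := CharTwo.two_eq_zero
  have hpos : 0 < Nat.card (Cfsg.POmega F ⇑(OrthOrder.qPlus m F)) := Nat.card_pos
  have hout : Nat.card (Cfsg.Out (Cfsg.POmega F ⇑(OrthOrder.qPlus m F))) = 2 * f := by
    have h := card_out S
    rw [card_aut_plus S hF hm, OrthPOrder.card_two S h2 rfl] at h
    exact Nat.eq_of_mul_eq_mul_right hpos (h.trans (by ring))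
  obtain ⟨v, hv, -, hfix⟩ := exists_fix_vec S
  obtain ⟨π, -, hdk, hD⟩ := exists_parity S
  set r := outI (OrthRows.rf (OrthOrder.qPlus m F) v hv)
  have hr1 : r ≠ 1 := fun h => by
    obtain ⟨t, c, e⟩ := exists_of_outS_eq_one S (g := incl (OrthRows.rf (OrthOrder.qPlus m F) v hv)) h
    have := congrArg (fun g => π (ofSim g)) e
    simp only [map_mul, parity_scal S hdk hD, mul_one, hdk, OrthRows.dk_rf,
      show omSim t = incl (t : Cfsg.isometryGroup F ⇑(OrthOrder.qPlus m F)) from rfl, dk_omega_one S] at this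
    exact absurd this (by decide)
  have hr : orderOf r = 2 := orderOf_eq_prime (by rw [sq]; exact outI_rf_sq S hv) hr1
  obtain ⟨σ, -, hord, -⟩ := exists_frob F 2 f hF
  have h1 : outT (fldP (m := m) σ) ^ f = 1 := by
    rw [← map_pow, fldP_pow, ← hord, pow_orderOf_eq_one, fldP_one, map_one]
  have hy : orderOf (outT (fldP (m := m) σ)) = f := Nat.dvd_antisymm (orderOf_dvd_of_pow_eq_one h1)
    (outT_orderOf S (by rw [sigT_fldP S, hord]))
  haveI : Finite (Cfsg.Out (Cfsg.POmega F ⇑(OrthOrder.qPlus m F))) :=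
    Nat.finite_of_card_ne_zero (by rw [hout]; have := NeZero.ne f; omega)
  have hinj := pairHom_injective 2 f hr hy (fldP_outI S σ _).symm fun i hi => by
    obtain ⟨z, hz⟩ := hi
    have hz' : outT ((fldP (m := m) σ) ^ i) =
        outI (OrthRows.rf (OrthOrder.qPlus m F) v hv ^ z) := by
      rw [map_pow, map_zpow]; exact hz.symm
    have hs := sig_of_outT_eq_outI S hz'
    rw [map_pow, sigT_fldP S, ← orderOf_dvd_iff_pow_eq_one, hord, ← hy, orderOf_dvd_iff_pow_eq_one] at hs
    exact hs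
  obtain ⟨e⟩ := mulEquiv_of_card (⊤ : Subgroup (Cfsg.Out (Cfsg.POmega F ⇑(OrthOrder.qPlus m F)))) _ hinj le_top
    (by simp [hout])
  exact ⟨Subgroup.topEquiv.symm.trans e⟩

/-- Odd characteristic, dimension at least ten. -/
theorem out_plus_odd {p f : ℕ} [Fact p.Prime] [CharP F p] [NeZero f] (hF : Fintype.card F = p ^ f)
    (h2 : (2 : F) ≠ 0) (hm : 5 ≤ m) :
    ∃ g : ℕ, g = Nat.gcd 4 (Fintype.card F ^ m - 1) ∧
      (g = 2 → Nonempty (Cfsg.Out (Cfsg.POmega F ⇑(OrthOrder.qPlus m F)) ≃*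
        Multiplicative (ZMod 2 × ZMod 2 × ZMod f))) ∧
      (g = 4 → Nonempty (Cfsg.Out (Cfsg.POmega F ⇑(OrthOrder.qPlus m F)) ≃*
        DihedralGroup 4 × Multiplicative (ZMod f))) := by
  classical
  set g := Nat.gcd 4 (Fintype.card F ^ m - 1)
  obtain ⟨c, hc, D⟩ := exists_plusData S (by omega) h2
  have hk := card_plus S
  have hpos : 0 < Nat.card (Cfsg.POmega F ⇑(OrthOrder.qPlus m F)) := Nat.card_pos
  have hout : Nat.card (Cfsg.Out (Cfsg.POmega F ⇑(OrthOrder.qPlus m F))) = 2 * g * f := by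
    have h := card_out S
    rw [card_aut_plus S hF hm, D.card] at h
    exact Nat.eq_of_mul_eq_mul_right hpos (h.trans (by ring))
  have hg0 : 0 < g := Nat.gcd_pos_of_pos_left _ (by omega)
  haveI : Finite (Cfsg.Out (Cfsg.POmega F ⇑(OrthOrder.qPlus m F))) :=
    Nat.finite_of_card_ne_zero (by rw [hout]; have := NeZero.ne f; positivity)
  have hcard : Nat.card (Cfsg.Out (Cfsg.POmega F ⇑(OrthOrder.qPlus m F))) =
      Nat.card (outS (Q := OrthOrder.qPlus m F)).range * f := by rw [card_outS S hk h2 D, hout]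
  obtain ⟨π, -, hdk, hD⟩ := exists_parity S
  obtain ⟨v, hv, hw, hsq, hns⟩ := exists_vec S hk h2 D
  set a := outI (OrthRows.rf (OrthOrder.qPlus m F) v hv)
  set b := outI (OrthRows.rf (OrthOrder.qPlus m F) _ hw)
  set δ := outS (plusD (m := m) c)
  have haa : a * a = 1 := outI_rf_sq S hv
  have hbb : b * b = 1 := outI_rf_sq S hw
  have hab : a * b = b * a := outI_commute _ _
  have hzz : (a * b) * (a * b) = 1 := by
    rw [(outI_commute _ _).mul_mul_mul_comm, haa, hbb, one_mul]
  have hδa : δ * a = b * δ := mul_inv_eq_iff_eq_mul.1 (range_outS_conj_refl (plusD c) hv hw)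
  have hδb : δ * b = a * δ := by
    have hd2 : OrthOrder.qPlus m F ((plusD (m := m) c).1.1 *ᵥ ((plusD (m := m) c).1.1 *ᵥ v)) ≠ 0 := by
      rw [simMul_spec S]; exact mul_ne_zero (Units.ne_zero _) hw
    refine mul_inv_eq_iff_eq_mul.1 ((range_outS_conj_refl (plusD c) hw hd2).trans ?_)
    refine outI_rf_congr S hd2 hv (iff_of_true ?_ hsq)
    rw [simMul_spec S, simMul_spec S, ← mul_assoc]
    exact (IsSquare.mul_self _).mul hsq
  have hδz : δ * (a * b) = (a * b) * δ := by
    rw [← mul_assoc, hδa, mul_assoc, hδb, ← mul_assoc, ← hab]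
  obtain ⟨σ, -, hord, -⟩ := exists_frob F p f hF
  set T : SemiT (OrthOrder.qPlus m F) := fldP σ
  set φ := outT T
  have hφf : φ ^ f = 1 := by rw [← map_pow, fldP_pow, ← hord, pow_orderOf_eq_one, fldP_one, map_one]
  have hφI : ∀ x, Commute φ (outI x) := fldP_outI S σ
  have hφz : Commute φ (a * b) := (hφI _).mul_right (hφI _)
  -- the action on the class of a similarity
  have hφδ : φ * δ = δ * φ ∨ φ * δ = δ * (a * b) * φ := by
    have e1 : φ * δ = outS (plusD (m := m) (Units.map σ.toRingHom.toMonoidHom c)) * φ := by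
      have := congrArg outT (fldP_plusD (m := m) σ c)
      rwa [map_mul, map_mul] at this
    have hx := outS_sq_cases S (χ := π.comp ofSim) hdk (fun s => parity_scal S hdk hD s) hv hw hsq hns
      (g := (plusD c)⁻¹ * plusD (Units.map σ.toRingHom.toMonoidHom c))
      (by rw [map_mul, map_inv, MonoidHom.comp_apply, MonoidHom.comp_apply, hD, hD, inv_one, one_mul])
      (by
        rw [map_mul, map_inv, simMul_plusD S, simMul_plusD S, Units.val_mul, Units.val_inv_eq_inv_val]
        refine (Spinor.isSquare_mul_iff' (inv_ne_zero c.ne_zero) (Units.ne_zero _)).2 ?_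
        rw [isSquare_inv]
        exact (isSquare_ringEquiv σ _).symm)
    rw [map_mul, map_inv, inv_mul_eq_one, inv_mul_eq_iff_eq_mul] at hx
    rcases hx with h | h
    · exact Or.inl (by rw [e1, ← h])
    · exact Or.inr (by rw [e1, h])
  have hlift : ∃ T' : SemiT (OrthOrder.qPlus m F), orderOf (sigHom S T') = f ∧ outT T' ^ f = 1 ∧
      ∀ x, Commute (outT T') (outS x) := by
    have hgen : ∀ y : Cfsg.Out (Cfsg.POmega F ⇑(OrthOrder.qPlus m F)), (∀ x, Commute y (outI x)) →
        Commute y δ → ∀ x, Commute y (outS x) := fun y hI hd x => by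
      rcases outS_cases S hk h2 D x with ⟨i, e⟩ | ⟨i, e⟩ <;> rw [e]
      · exact hI i
      · exact hd.mul_right (hI i)
    rcases hφδ with h | h
    · exact ⟨T, by rw [sigT_fldP S, hord], hφf, hgen φ hφI h⟩
    by_cases hz1 : a * b = 1
    · exact ⟨T, by rw [sigT_fldP S, hord], hφf, hgen φ hφI (by show φ * δ = δ * φ; rw [h, hz1, mul_one])⟩
    refine ⟨ofSim (incl (OrthRows.rf (OrthOrder.qPlus m F) v hv)) * T, ?_, ?_, hgen _ (fun x => ?_) ?_⟩
    · rw [map_mul, (sig_eq_one_iff S).2 ⟨_, rfl⟩, one_mul, sigT_fldP S, hord]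
    · have hit : ∀ k : ℕ, φ ^ k * δ = δ * (a * b) ^ k * φ ^ k := by
        intro k
        induction k with
        | zero => simp
        | succ k ih =>
          calc φ ^ (k + 1) * δ = φ * (φ ^ k * δ) := by rw [pow_succ', mul_assoc]
            _ = (φ * δ) * (a * b) ^ k * φ ^ k := by rw [ih]; simp only [mul_assoc]
            _ = δ * (a * b) * (φ * (a * b) ^ k) * φ ^ k := by rw [h]; simp only [mul_assoc]
            _ = δ * (a * b) * ((a * b) ^ k * φ) * φ ^ k := by rw [(hφz.pow_right k).eq]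
            _ = _ := by rw [pow_succ' φ, pow_succ' (a * b)]; simp only [mul_assoc]
      have h4 : (a * b) ^ f = 1 := by
        have := hit f
        rw [hφf, one_mul, mul_one] at this
        exact (left_eq_mul.1 this)
      have hev : 2 ∣ f := by
        have ho : orderOf (a * b) = 2 := orderOf_eq_prime (by rw [sq]; exact hzz) hz1
        exact ho ▸ orderOf_dvd_of_pow_eq_one h4
      show outT _ ^ f = 1
      rw [map_mul, show outT (ofSim (incl _)) = a from rfl, (hφI _).symm.mul_pow, hφf, mul_one]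
      obtain ⟨j, hj⟩ := hev
      rw [hj, pow_mul, sq, haa, one_pow]
    · rw [map_mul]
      exact Commute.mul_left (outI_commute _ _) (hφI x)
    · rw [map_mul]
      show a * φ * δ = δ * (a * φ)
      rw [mul_assoc, h, ← mul_assoc, ← mul_assoc]
      calc a * δ * (a * b) * φ = δ * b * (a * b) * φ := by rw [hδb]
        _ = δ * (b * b) * a * φ := by rw [hab]; simp only [mul_assoc]
        _ = _ := by rw [hbb, mul_one]; simp only [mul_assoc]
  obtain ⟨T', hs, h1, hc'⟩ := hlift
  refine ⟨g, rfl, fun hg => ?_, fun hg => ?_⟩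
  · have hab1 : a * b = 1 := by
      rw [show b = a from (rf_eq_of_two S hk h2 D hg hv hw).symm]; exact haa
    have hδδ : δ * δ = 1 := by
      rw [plusD_sq S hc h2 D hv hw hsq hns, hab1, one_pow]
    have hne : δ ≠ 1 := by
      rw [← map_one (outI (Q := OrthOrder.qPlus m F))]; exact outS_d_notMem_outI S hk h2 D 1
    have hcom : Commute a δ := by
      show a * δ = δ * a
      rw [hδa, eq_inv_of_mul_eq_one_left hab1, inv_eq_of_mul_eq_one_right hbb]
    have hinj := pairHom_injective 2 2 (orderOf_eq_prime (by rw [sq]; exact haa) (outI_rf_ne_one S hk h2 hv))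
      (orderOf_eq_prime (by rw [sq]; exact hδδ) hne) hcom fun i hi => by
        rcases Nat.even_or_odd i with ⟨j, rfl⟩ | ⟨j, rfl⟩
        · rw [← two_mul, pow_mul, sq, hδδ, one_pow]
        · exfalso
          rw [pow_succ, pow_mul, sq, hδδ, one_pow, one_mul] at hi
          obtain ⟨k, hk'⟩ := hi
          refine outS_d_notMem_outI S hk h2 D (OrthRows.rf (OrthOrder.qPlus m F) v hv ^ k) ?_
          rw [map_zpow]; exact hk'.symm
    obtain ⟨e⟩ := mulEquiv_of_card (outS (Q := OrthOrder.qPlus m F)).range _ hinj (by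
      rintro _ ⟨u, rfl⟩
      obtain ⟨⟨i, j⟩, rfl⟩ := Multiplicative.ofAdd.surjective u
      rw [pairHom_apply]
      exact mul_mem (pow_mem (MonoidHom.mem_range.2 ⟨incl (OrthRows.rf (OrthOrder.qPlus m F) v hv), rfl⟩) _)
        (pow_mem (MonoidHom.mem_range.2 ⟨plusD c, rfl⟩) _)) (by
          rw [card_outS S hk h2 D, show Nat.gcd 4 (Fintype.card F ^ m - 1) = 2 from hg]; simp)
    obtain ⟨e'⟩ := out_prod_of_lift S hs h1 hc' hcard e
    exact ⟨(e'.trans (MulEquiv.prodMultiplicative (ZMod 2 × ZMod 2) (ZMod f)).symm).trans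
      (AddEquiv.toMultiplicative AddEquiv.prodAssoc)⟩
  · obtain ⟨e⟩ := outS_range_four S hk h2 D hg
    exact out_prod_of_lift S hs h1 hc' hcard e

end Cfsg.Agent.AutPOmega
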