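import Cfsg.Agent.Lib.AutPOmega.Hyperbolic
import Cfsg.Agent.Lib.Spinor.Plus
import Cfsg.Agent.S0287
import Cfsg.Agent.S0293

/-!
# Outer classes of similarities of the hyperbolic form
-/

set_option autoImplicit false
set_option linter.unusedSectionVars false

namespace Cfsg.Agent.AutPOmega

open Cfsg.Agent Cfsg.Agent.TransvMax Cfsg.Agent.QMax
open scoped Matrix

theorem gcd_four_cases {q : ℕ} (hq : q % 2 = 1) (m : ℕ) :
    ((m % 2 = 1 ∧ q % 4 = 3) → q ^ m % 4 = 3) ∧ (¬ (m % 2 = 1 ∧ q % 4 = 3) → q ^ m % 4 = 1) := by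
  rcases (show q % 4 = 1 ∨ q % 4 = 3 by omega) with h | h
  · exact ⟨fun h' => absurd h'.2 (by omega), fun _ => by rw [Nat.pow_mod, h, one_pow]; norm_num⟩
  · rcases Nat.even_or_odd m with ⟨j, hj⟩ | ⟨j, hj⟩
    · refine ⟨fun h' => absurd h'.1 (by omega), fun _ => ?_⟩
      rw [hj, ← two_mul, pow_mul, Nat.pow_mod, Nat.pow_mod q 2, h]
      norm_num
    · refine ⟨fun _ => ?_, fun h' => absurd ⟨by omega, h⟩ h'⟩
      rw [hj, pow_succ, pow_mul, Nat.mul_mod, Nat.pow_mod, Nat.pow_mod q 2, h]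
      norm_num

variable {F : Type*} [Field F] [Fintype F] {m : ℕ}

local notation "QP" => OrthOrder.qPlus m F

theorem coe_qPlus : ⇑(OrthOrder.qPlus m F) = Cfsg.quadFormPlus m F :=
  funext fun v => OrthOrder.qPlus_apply m v

theorem qset_plus (hm : 4 ≤ m) : QSetting (OrthOrder.qPlus m F) :=
  ⟨OrthForms.qPlus_nondeg m, by simp [Fintype.card_sum]; omega⟩

/-- The similarity scaling the first half. -/
def plusD (c : Fˣ) : Cfsg.Geo.quadSimilarityGroup (F := F) ⇑(OrthOrder.qPlus m F) :=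
  ⟨{ val := Matrix.diagonal (Sum.elim (fun _ => (c : F)) fun _ => 1)
     inv := Matrix.diagonal (Sum.elim (fun _ => (↑c⁻¹ : F)) fun _ => 1)
     val_inv := by
       rw [Matrix.diagonal_mul_diagonal, ← Matrix.diagonal_one]; congr 1; funext i; cases i <;> simp
     inv_val := by
       rw [Matrix.diagonal_mul_diagonal, ← Matrix.diagonal_one]; congr 1; funext i; cases i <;> simp },
    c, fun v => by
      simp [OrthOrder.qPlus_apply, Cfsg.quadFormPlus, Matrix.mulVec_diagonal, Finset.mul_sum, mul_assoc]⟩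

theorem plusD_mulVec (c : Fˣ) (v : Fin m ⊕ Fin m → F) (i : Fin m ⊕ Fin m) :
    ((plusD (m := m) c).1.1 *ᵥ v) i = Sum.elim (fun _ => (c : F)) (fun _ => 1) i * v i :=
  Matrix.mulVec_diagonal _ _ _

variable (S : QSetting (OrthOrder.qPlus m F))

include S

theorem simMul_plusD (c : Fˣ) : simMul S (plusD c) = c :=
  Units.ext (simMul_eq S fun v => by
    simp [OrthOrder.qPlus_apply, Cfsg.quadFormPlus, plusD, Matrix.mulVec_diagonal, Finset.mul_sum, mul_assoc])

theorem card_plus : Fintype.card (Fin m ⊕ Fin m) = 2 * m := by simp [Fintype.card_sum]; omega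

theorem epsS_plusD (c : Fˣ) : epsS S m (plusD c) = 1 := by
  rw [epsS_apply, simMul_plusD S, div_eq_one]
  refine Units.ext ?_
  rw [Matrix.GeneralLinearGroup.val_det_apply, Units.val_pow_eq_pow_val]
  show (Matrix.diagonal _).det = _
  simp [Matrix.det_diagonal, Fintype.prod_sum_type]

theorem plusD_sq {c : Fˣ} (hc : ¬ IsSquare (c : F)) {g : ℕ} (h2 : (2 : F) ≠ 0)
    (D : EvenData (OrthOrder.qPlus m F) S (plusD c) g) {v : Fin m ⊕ Fin m → F}
    (hv : (OrthOrder.qPlus m F) v ≠ 0) (hw : (OrthOrder.qPlus m F) ((((plusD (m := m) c).1 : GL (Fin m ⊕ Fin m) F) : Matrix (Fin m ⊕ Fin m) (Fin m ⊕ Fin m) F) *ᵥ v) ≠ 0)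
    (hsq : IsSquare ((OrthOrder.qPlus m F) v))
    (hns : ¬ IsSquare ((OrthOrder.qPlus m F) ((((plusD (m := m) c).1 : GL (Fin m ⊕ Fin m) F) : Matrix (Fin m ⊕ Fin m) (Fin m ⊕ Fin m) F) *ᵥ v))) :
    outS (plusD (m := m) c) * outS (plusD c) =
      (outI (OrthRows.rf (OrthOrder.qPlus m F) v hv) * outI (OrthRows.rf (OrthOrder.qPlus m F) _ hw)) ^ m := by
  classical
  let e : Fin m → Fin m ⊕ Fin m → F := fun i => Pi.single (Sum.inl i) 1
  let f : Fin m → Fin m ⊕ Fin m → F := fun i => Pi.single (Sum.inr i) 1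
  have hB : ∀ x y, pB (OrthOrder.qPlus m F) x y =
      ∑ j, (x (.inl j) * y (.inr j) + y (.inl j) * x (.inr j)) := fun x y => by
    rw [QuadraticMap.polarBilin_apply_apply, Spinor.polar_qPlus]
  obtain ⟨h, ho, hx⟩ := pairs_scale S (card_plus S) h2 D hv hw hsq hns (e := e) (f := f)
    (fun i => by simp [e, OrthOrder.qPlus_apply, Cfsg.quadFormPlus])
    (fun i => by simp [f, OrthOrder.qPlus_apply, Cfsg.quadFormPlus])
    (fun i j => by rw [hB]; simp [e, f, Pi.single_apply, eq_comm])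
    (fun i j _ => by rw [hB]; simp [e, Pi.single_apply])
    (fun i j _ => by rw [hB]; simp [f, Pi.single_apply]) hc Finset.univ
  rw [Finset.card_univ, Fintype.card_fin] at ho
  have hd : plusD (m := m) c * plusD c = scalSim c * incl h := by
    refine ofSim_injective (Subtype.ext (Equiv.ext fun x => ?_))
    rw [map_mul, map_mul]
    show (plusD c).1.1 *ᵥ ((plusD c).1.1 *ᵥ x) = (ofSim (scalSim c)).1 ((h.1 : Matrix _ _ F) *ᵥ x)
    rw [scalSim_apply, hx]
    funext i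
    have hf : ∀ j, pB (OrthOrder.qPlus m F) x (f j) = x (.inl j) := fun j => by
      rw [hB]; simp [f, Pi.single_apply]
    have he : ∀ j, pB (OrthOrder.qPlus m F) x (e j) = x (.inr j) := fun j => by
      rw [hB]; simp [e, Pi.single_apply]
    rw [plusD_mulVec, plusD_mulVec]
    simp only [he, hf]
    rcases i with i | i <;>
      simp only [Sum.elim_inl, Sum.elim_inr, Pi.smul_apply, Pi.add_apply, Finset.sum_apply, e, f,
        Pi.single_apply, smul_eq_mul, mul_ite, mul_one, mul_zero, Sum.inl.injEq, Sum.inr.injEq,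
        reduceCtorEq, if_false, Finset.sum_ite_eq, Finset.mem_univ, if_true, add_zero, zero_add] <;>
      field_simp <;> ring
  rw [← map_mul, hd, map_mul, outS_scal S, one_mul]
  exact ho

theorem plusD_halfX (μ : Fˣ) :
    (Spinor.halfX F m).map (Matrix.mulVecLin
      (((plusD (m := m) μ).1 : GL (Fin m ⊕ Fin m) F) : Matrix (Fin m ⊕ Fin m) (Fin m ⊕ Fin m) F)) =
      Spinor.halfX F m := by
  refine le_antisymm ?_ fun y hy => ?_
  · rintro _ ⟨x, hx, rfl⟩
    rw [SetLike.mem_coe, Spinor.mem_halfX] at hx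
    rw [Spinor.mem_halfX]
    intro i
    rw [Matrix.mulVecLin_apply, plusD_mulVec, hx i, mul_zero]
  · rw [Spinor.mem_halfX] at hy
    refine ⟨(plusD (m := m) μ⁻¹).1.1 *ᵥ y, ?_, ?_⟩
    · rw [SetLike.mem_coe, Spinor.mem_halfX]
      intro i
      rw [plusD_mulVec, hy i, mul_zero]
    · funext i
      rw [Matrix.mulVecLin_apply, plusD_mulVec, plusD_mulVec]
      rcases i with i | i <;> simp

/-- The isometry carrying a half where a similarity does. -/
theorem exists_moved (g : Cfsg.Geo.quadSimilarityGroup (F := F) ⇑(OrthOrder.qPlus m F))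
    {U : Submodule F (Fin m ⊕ Fin m → F)} (W : Cfsg.isometryGroup F ⇑(OrthOrder.qPlus m F))
    (hW : (Spinor.halfX F m).map (Matrix.mulVecLin
      ((W.1 : GL (Fin m ⊕ Fin m) F) : Matrix (Fin m ⊕ Fin m) (Fin m ⊕ Fin m) F)) = U) :
    ∃ h' : Cfsg.isometryGroup F ⇑(OrthOrder.qPlus m F),
      Cfsg.imageSubmodule ((g.1 : GL (Fin m ⊕ Fin m) F) : Matrix (Fin m ⊕ Fin m) (Fin m ⊕ Fin m) F) U =
        Cfsg.imageSubmodule ((h'.1 : GL (Fin m ⊕ Fin m) F) : Matrix (Fin m ⊕ Fin m) (Fin m ⊕ Fin m) F) U ∧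
      epsS S m (incl h') = epsS S m g := by
  set μ := simMul S g
  have hx : g * incl W * (plusD μ)⁻¹ * (incl W)⁻¹ ∈ (simMul S).ker := by
    rw [MonoidHom.mem_ker, map_mul, map_mul, map_mul, map_inv, map_inv, simMul_plusD S, simMul_incl S,
      mul_one, inv_one, mul_one, mul_inv_cancel]
  rw [ker_simMul S] at hx
  obtain ⟨h', hh⟩ := hx
  refine ⟨h', ?_, ?_⟩
  · have e1 : g * incl W = incl h' * incl W * plusD μ := by
      rw [show incl h' = g * incl W * (plusD μ)⁻¹ * (incl W)⁻¹ from hh]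
      group
    have e2 : (g.1 : GL (Fin m ⊕ Fin m) F) * W.1 = h'.1 * W.1 * (plusD μ).1 := congrArg Subtype.val e1
    have e3 := congrArg (fun z : GL (Fin m ⊕ Fin m) F => (Spinor.halfX F m).map
      (Matrix.mulVecLin (z : Matrix (Fin m ⊕ Fin m) (Fin m ⊕ Fin m) F))) e2
    simp only [Units.val_mul, Matrix.mulVecLin_mul, Submodule.map_comp, hW, plusD_halfX S] at e3
    exact e3
  · rw [show incl h' = g * incl W * (plusD μ)⁻¹ * (incl W)⁻¹ from hh, map_mul, map_mul, map_mul, map_inv,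
      map_inv, epsS_plusD S, inv_one, mul_one, mul_inv_cancel_right]

theorem preserves_iff (h2 : (2 : F) ≠ 0)
    (g : Cfsg.Geo.quadSimilarityGroup (F := F) ⇑(OrthOrder.qPlus m F)) :
    Cfsg.PreservesSingularClasses (⇑(OrthOrder.qPlus m F))
      ((g.1 : GL (Fin m ⊕ Fin m) F) : Matrix (Fin m ⊕ Fin m) (Fin m ⊕ Fin m) F) ↔ epsS S m g = 1 := by
  have key : ∀ U, Cfsg.IsMaxTotallySingular (⇑(OrthOrder.qPlus m F)) U →
      (Cfsg.SameParityClass U (Cfsg.imageSubmodule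
        ((g.1 : GL (Fin m ⊕ Fin m) F) : Matrix (Fin m ⊕ Fin m) (Fin m ⊕ Fin m) F) U) ↔ epsS S m g = 1) := by
    intro U hU
    have hUd := finrank_max S (card_plus S) h2 Spinor.halfX_singular Spinor.finrank_halfX hU
    obtain ⟨w, hw⟩ := Spinor.exists_witt_singular (U := Spinor.halfX F m) (W := U) S.nondeg
      (by rw [hUd, Spinor.finrank_halfX]) Spinor.halfX_singular hU.1
    obtain ⟨h', heq, he⟩ := exists_moved S g (U := U) ((FormsLib.oEquiv (OrthOrder.qPlus m F)).symm w)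
      (by rw [Spinor.mulVecLin_oEquiv_symm]; exact hw)
    rw [heq, sameParity_iff S (card_plus S) h2 hU.1 hUd, ← he, epsS_incl S]
  have hM := isMax_half S (card_plus S) h2 Spinor.halfX_singular Spinor.finrank_halfX
  exact ⟨fun hp => (key _ hM).1 (hp _ hM), fun he U hU => (key U hU).2 he⟩

theorem inndiag_plus_map (h2 : (2 : F) ≠ 0) :
    (Cfsg.autSubgroupOf fun β : MulAut (Cfsg.POmega F ⇑(OrthOrder.qPlus m F)) =>
      ∃ g : GL (Fin m ⊕ Fin m) F, g ∈ Cfsg.Geo.quadSimilarityGroup (F := F) ⇑(OrthOrder.qPlus m F) ∧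
        Cfsg.PreservesSingularClasses (⇑(OrthOrder.qPlus m F)) (g : Matrix _ _ F) ∧
        Cfsg.IsInducedBySemilinearPOmega (⇑(OrthOrder.qPlus m F)) g (RingEquiv.refl F) β) =
      (epsS S m).ker.map (simAut (Q := OrthOrder.qPlus m F)) := by
  refine (congrArg Subgroup.closure (Set.ext fun β => ⟨?_, ?_⟩)).trans (Subgroup.closure_eq _)
  · rintro ⟨g, hg, hp, h⟩
    exact ⟨⟨g, hg⟩, (preserves_iff S h2 ⟨g, hg⟩).1 hp, ((induced_sim_iff ⟨g, hg⟩ β).1 h).symm⟩
  · rintro ⟨g, hg, rfl⟩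
    exact ⟨g.1, g.2, (preserves_iff S h2 g).2 hg, (induced_sim_iff g _).2 rfl⟩

theorem exists_plusData (hm : 4 ≤ m) (h2 : (2 : F) ≠ 0) :
    ∃ c : Fˣ, ¬ IsSquare (c : F) ∧
      EvenData (OrthOrder.qPlus m F) S (plusD c) (Nat.gcd 4 (Fintype.card F ^ m - 1)) := by
  obtain ⟨a, ha⟩ := FiniteField.exists_nonsquare (Spinor.ringChar_ne_two h2)
  refine ⟨Units.mk0 a (fun e => ha (e ▸ IsSquare.zero)), ha, ⟨by rw [simMul_plusD S]; exact ha, ?_⟩⟩
  have hO := S0287.result (F := F) rfl m (by omega)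
  have hP := S0293.result (F := F) rfl m hm
  rw [mul_assoc 2, mul_assoc 2, ← hP, ← mul_assoc] at hO
  rw [coe_qPlus]
  exact hO

end Cfsg.Agent.AutPOmega
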