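import Cfsg.Agent.Lib.AutPOmega.Frames
import Cfsg.Agent.Lib.AutPOmega.Plus

/-!
# The parity character on semilinear similitudes of the hyperbolic form
-/

set_option autoImplicit false
set_option linter.unusedSectionVars false
set_option maxHeartbeats 2000000

namespace Cfsg.Agent.AutPOmega

open Cfsg.Agent Cfsg.Agent.TransvMax Cfsg.Agent.QMax
open scoped Matrix

section Conj

variable {ι : Type} [Fintype ι] [DecidableEq ι] {F : Type*} [Field F] [Fintype F]
  {Q : QuadraticForm F (ι → F)} (S : QSetting Q)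

include S

/-- Conjugation keeps the Dickson character. -/
theorem exists_conj_dk (T : SemiT Q) (h : Cfsg.isometryGroup F ⇑Q) :
    ∃ h' : Cfsg.isometryGroup F ⇑Q, ofSim (incl h') = T * ofSim (incl h) * T⁻¹ ∧
      OrthRows.dk S.nondeg (hexc S) h' = OrthRows.dk S.nondeg (hexc S) h := by
  induction (show h ∈ Subgroup.closure _ by
    rw [OrthRows.closure_rf S.nondeg (hexc S)]; exact Subgroup.mem_top h) using Subgroup.closure_induction with
  | mem y hy =>
    obtain ⟨w, hw, hx⟩ := hy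
    have hTw : Q (T.1 w) ≠ 0 := by
      rw [(semi_spec T).quad]
      exact mul_ne_zero (semi_spec T).ne ((map_ne_zero _).2 hw)
    refine ⟨OrthRows.rf Q (T.1 w) hTw, ?_, ?_⟩
    · rw [OrthRows.eq_rf hw hx]
      exact (semi_conj_refl T hw hTw).symm
    · rw [OrthRows.eq_rf hw hx, OrthRows.dk_rf, OrthRows.dk_rf]
  | one => exact ⟨1, by simp, rfl⟩
  | mul y z _ _ ihy ihz =>
    obtain ⟨y', hy, hy'⟩ := ihy
    obtain ⟨z', hz, hz'⟩ := ihz
    refine ⟨y' * z', ?_, by rw [map_mul, map_mul, hy', hz']⟩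
    rw [map_mul, map_mul, hy, hz, map_mul, map_mul]
    group
  | inv y _ ihy =>
    obtain ⟨y', hy, hy'⟩ := ihy
    refine ⟨y'⁻¹, ?_, by rw [map_inv, map_inv, hy']⟩
    rw [map_inv, map_inv, hy, map_inv, map_inv]
    group

end Conj

variable {F : Type*} [Field F] [Fintype F] {m : ℕ}

local notation "QP" => OrthOrder.qPlus m F

/-- Coordinatewise field automorphisms of the hyperbolic form. -/
def fldP (σ : F ≃+* F) : SemiT (OrthOrder.qPlus m F) :=
  ⟨Equiv.piCongrRight fun _ => σ.toEquiv, σ, 1, one_ne_zero, fun x y => funext fun i => map_add σ _ _,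
    fun t x => funext fun i => map_mul σ _ _, fun x => by
      show OrthOrder.qPlus m F (fun i => σ (x i)) = 1 * σ (OrthOrder.qPlus m F x)
      rw [one_mul, OrthOrder.qPlus_apply, OrthOrder.qPlus_apply]
      simp [Cfsg.quadFormPlus, map_sum]⟩

theorem fldP_apply (σ : F ≃+* F) (x : Fin m ⊕ Fin m → F) (i) :
    (fldP σ).1 x i = σ (x i) := rfl

theorem fldP_mul (σ τ : F ≃+* F) : (fldP (σ * τ) : SemiT (OrthOrder.qPlus m F)) = fldP σ * fldP τ :=
  Subtype.ext (Equiv.ext fun x => funext fun i => rfl)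

theorem fldP_pow (σ : F ≃+* F) : ∀ i : ℕ, (fldP σ : SemiT (OrthOrder.qPlus m F)) ^ i = fldP (σ ^ i)
  | 0 => by rw [pow_zero, pow_zero]; exact Subtype.ext (Equiv.ext fun x => rfl)
  | i + 1 => by rw [pow_succ, fldP_pow σ i, pow_succ, fldP_mul]

theorem fldP_one : (fldP 1 : SemiT (OrthOrder.qPlus m F)) = 1 := Subtype.ext (Equiv.ext fun x => rfl)

theorem plusD_mul (μ ν : Fˣ) :
    (plusD (μ * ν) : Cfsg.Geo.quadSimilarityGroup (F := F) ⇑(OrthOrder.qPlus m F)) = plusD μ * plusD ν := by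
  refine ofSim_injective (Subtype.ext (Equiv.ext fun x => funext fun i => ?_))
  rw [map_mul]
  show ((plusD (m := m) (μ * ν)).1.1 *ᵥ x) i = ((plusD μ).1.1 *ᵥ ((plusD ν).1.1 *ᵥ x)) i
  rw [plusD_mulVec, plusD_mulVec, plusD_mulVec]
  rcases i with i | i <;> simp [mul_assoc]

variable (S : QSetting (OrthOrder.qPlus m F))

include S

theorem sigT_fldP (σ : F ≃+* F) : sigHom S (fldP σ) = σ :=
  sigT_eq S (c := 1) ⟨one_ne_zero, fun x y => funext fun i => map_add σ _ _,
    fun t x => funext fun i => map_mul σ _ _, fun x => by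
      show OrthOrder.qPlus m F (fun i => σ (x i)) = 1 * σ (OrthOrder.qPlus m F x)
      rw [one_mul, OrthOrder.qPlus_apply, OrthOrder.qPlus_apply]
      simp [Cfsg.quadFormPlus, map_sum]⟩

theorem exists_split_plus (g : Cfsg.Geo.quadSimilarityGroup (F := F) ⇑(OrthOrder.qPlus m F)) :
    ∃ h : Cfsg.isometryGroup F ⇑(OrthOrder.qPlus m F), g = plusD (simMul S g) * incl h := by
  have hk : (plusD (simMul S g))⁻¹ * g ∈ (simMul S).ker := by
    rw [MonoidHom.mem_ker, map_mul, map_inv, simMul_plusD S, inv_mul_cancel]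
  rw [ker_simMul S] at hk
  obtain ⟨h, hh⟩ := hk
  exact ⟨h, by rw [show incl h = _ from hh, mul_inv_cancel_left]⟩

/-- The parity character. -/
theorem exists_parity :
    ∃ π : SemiT (OrthOrder.qPlus m F) →* ℤˣ, (∀ σ, π (fldP σ) = 1) ∧
      (∀ h, π (ofSim (incl h)) = OrthRows.dk S.nondeg (hexc S) h) ∧ (∀ c, π (ofSim (plusD c)) = 1) := by
  classical
  have hex : ∀ T : SemiT (OrthOrder.qPlus m F), ∃ (μ : Fˣ) (h : Cfsg.isometryGroup F ⇑(OrthOrder.qPlus m F))
      (σ : F ≃+* F), T = ofSim (plusD μ) * ofSim (incl h) * fldP σ := fun T => by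
    obtain ⟨g, hg⟩ := (sig_eq_one_iff S (T := T * (fldP (sigHom S T))⁻¹)).1 (by
      rw [map_mul, map_inv, sigT_fldP S, mul_inv_cancel])
    obtain ⟨h, hh⟩ := exists_split_plus S g
    exact ⟨simMul S g, h, sigHom S T, by rw [← map_mul, ← hh, hg, inv_mul_cancel_right]⟩
  choose μ h σ hT using hex
  have huniq : ∀ (μ μ' : Fˣ) (h h' : Cfsg.isometryGroup F ⇑(OrthOrder.qPlus m F)) (σ σ' : F ≃+* F), ofSim (plusD (m := m) μ) * ofSim (incl h) * fldP σ =
      ofSim (plusD μ') * ofSim (incl h') * fldP σ' → h = h' := by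
    intro μ μ' h h' σ σ' e
    have e1 := congrArg (sigHom S) e
    simp only [map_mul, (sig_eq_one_iff S).2 ⟨_, rfl⟩, one_mul, sigT_fldP S] at e1
    subst e1
    rw [← map_mul, ← map_mul] at e
    have e2 := ofSim_injective (mul_right_cancel e)
    have e3 := congrArg (simMul S) e2
    rw [map_mul, map_mul, simMul_incl S, simMul_incl S, simMul_plusD S, simMul_plusD S, mul_one, mul_one] at e3
    subst e3
    exact Subgroup.inclusion_injective _ (mul_left_cancel e2)
  let π : SemiT (OrthOrder.qPlus m F) →* ℤˣ :=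
    MonoidHom.mk' (fun T => OrthRows.dk S.nondeg (hexc S) (h T)) fun T U => by
      show OrthRows.dk S.nondeg (hexc S) (h (T * U)) = _ * _
      have hfD : fldP (σ T) * ofSim (plusD (m := m) (μ U)) =
          ofSim (plusD (Units.map (σ T).toMonoidHom (μ U))) * fldP (σ T) := by
        refine Subtype.ext (Equiv.ext fun x => funext fun i => ?_)
        show σ T (((plusD (μ U)).1.1 *ᵥ x) i) = ((plusD _).1.1 *ᵥ fun l => σ T (x l)) i
        rw [plusD_mulVec, plusD_mulVec, map_mul]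
        rcases i with i | i <;> simp
      set μ' := Units.map (σ T).toMonoidHom (μ U)
      obtain ⟨h1, e1, d1⟩ := exists_conj_dk S (ofSim (plusD μ'))⁻¹ (h T)
      obtain ⟨h2, e2, d2⟩ := exists_conj_dk S (fldP (σ T)) (h U)
      rw [inv_inv] at e1
      rw [huniq (μ (T * U)) (μ T * μ') (h (T * U)) (h1 * h2) (σ (T * U)) (σ T * σ U) ?_, map_mul, d1, d2]
      rw [← hT, plusD_mul, map_mul, map_mul, map_mul, fldP_mul, e1, e2]
      conv_lhs => rw [hT T, hT U]
      simp only [mul_assoc, mul_inv_cancel_left, inv_mul_cancel_left]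
      rw [← mul_assoc (fldP (σ T)) (ofSim (plusD (μ U))), hfD]
      simp only [mul_assoc, mul_inv_cancel_left, inv_mul_cancel_left]
  refine ⟨π, fun τ => ?_, fun h' => ?_, fun c => ?_⟩
  · show OrthRows.dk S.nondeg (hexc S) (h (fldP τ)) = 1
    rw [← huniq 1 (μ (fldP τ)) 1 (h (fldP τ)) τ (σ (fldP τ)) (by
      rw [← hT, map_one, map_one, mul_one, show (plusD 1 : Cfsg.Geo.quadSimilarityGroup (F := F) ⇑QP) = 1 from
        mul_left_cancel (a := plusD 1) (by rw [← plusD_mul, mul_one, mul_one]), map_one, one_mul]), map_one]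
  · show OrthRows.dk S.nondeg (hexc S) (h (ofSim (incl h'))) = _
    rw [← huniq 1 (μ (ofSim (incl h'))) h' (h (ofSim (incl h'))) 1 (σ _) (by
      rw [← hT, fldP_one, mul_one, show (plusD 1 : Cfsg.Geo.quadSimilarityGroup (F := F) ⇑QP) = 1 from
        mul_left_cancel (a := plusD 1) (by rw [← plusD_mul, mul_one, mul_one]), map_one, one_mul])]
  · show OrthRows.dk S.nondeg (hexc S) (h (ofSim (plusD c))) = 1
    rw [← huniq c (μ (ofSim (plusD c))) 1 (h (ofSim (plusD c))) 1 (σ _) (by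
      rw [← hT, fldP_one, mul_one, map_one, map_one, mul_one]), map_one]

variable {π : SemiT (OrthOrder.qPlus m F) →* ℤˣ}
  (hdk : ∀ h, π (ofSim (incl h)) = OrthRows.dk S.nondeg (hexc S) h) (hD : ∀ c, π (ofSim (plusD c)) = 1)

include hdk hD

/-- Singular classes are preserved exactly where the parity is trivial. -/
theorem preserves_parity (g : Cfsg.Geo.quadSimilarityGroup (F := F) ⇑(OrthOrder.qPlus m F)) :
    Cfsg.PreservesSingularClasses (⇑(OrthOrder.qPlus m F))
      ((g.1 : GL (Fin m ⊕ Fin m) F) : Matrix (Fin m ⊕ Fin m) (Fin m ⊕ Fin m) F) ↔ π (ofSim g) = 1 := by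
  have key : ∀ U, Cfsg.IsMaxTotallySingular (⇑(OrthOrder.qPlus m F)) U →
      (Cfsg.SameParityClass U (Cfsg.imageSubmodule
        ((g.1 : GL (Fin m ⊕ Fin m) F) : Matrix (Fin m ⊕ Fin m) (Fin m ⊕ Fin m) F) U) ↔ π (ofSim g) = 1) := by
    intro U hU
    have hUd := finrank_max_dk S (card_plus S) Spinor.halfX_singular Spinor.finrank_halfX hU
    obtain ⟨w, hw⟩ := Spinor.exists_witt_singular (U := Spinor.halfX F m) (W := U) S.nondeg
      (by rw [hUd, Spinor.finrank_halfX]) Spinor.halfX_singular hU.1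
    set W := (FormsLib.oEquiv (OrthOrder.qPlus m F)).symm w
    have hW : (Spinor.halfX F m).map (Matrix.mulVecLin
      ((W.1 : GL (Fin m ⊕ Fin m) F) : Matrix (Fin m ⊕ Fin m) (Fin m ⊕ Fin m) F)) = U := by
      rw [Spinor.mulVecLin_oEquiv_symm]; exact hw
    set μ := simMul S g
    have hx : g * incl W * (plusD μ)⁻¹ * (incl W)⁻¹ ∈ (simMul S).ker := by
      rw [MonoidHom.mem_ker, map_mul, map_mul, map_mul, map_inv, map_inv, simMul_plusD S, simMul_incl S,
        mul_one, inv_one, mul_one, mul_inv_cancel]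
    rw [ker_simMul S] at hx
    obtain ⟨h', hh⟩ := hx
    have heq : Cfsg.imageSubmodule ((g.1 : GL (Fin m ⊕ Fin m) F) : Matrix (Fin m ⊕ Fin m) (Fin m ⊕ Fin m) F) U =
        Cfsg.imageSubmodule ((h'.1 : GL (Fin m ⊕ Fin m) F) : Matrix (Fin m ⊕ Fin m) (Fin m ⊕ Fin m) F) U := by
      have e1 : g * incl W = incl h' * incl W * plusD μ := by
        rw [show incl h' = g * incl W * (plusD μ)⁻¹ * (incl W)⁻¹ from hh]
        group
      have e2 : (g.1 : GL (Fin m ⊕ Fin m) F) * W.1 = h'.1 * W.1 * (plusD μ).1 := congrArg Subtype.val e1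
      have e3 := congrArg (fun z : GL (Fin m ⊕ Fin m) F => (Spinor.halfX F m).map
        (Matrix.mulVecLin (z : Matrix (Fin m ⊕ Fin m) (Fin m ⊕ Fin m) F))) e2
      simp only [Units.val_mul, Matrix.mulVecLin_mul, Submodule.map_comp, hW, plusD_halfX S] at e3
      exact e3
    have hd : π (ofSim g) = OrthRows.dk S.nondeg (hexc S) h' := by
      rw [← hdk, show incl h' = _ from hh]
      simp only [map_mul, map_inv, hD, inv_one, mul_one, mul_inv_cancel_right]
    rw [heq, sameParity_dk S (card_plus S) hU.1 hUd, hd]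
  have hM := isMax_half_dk S (card_plus S) Spinor.halfX_singular Spinor.finrank_halfX
  exact ⟨fun hp => (key _ hM).1 (hp _ hM), fun he U hU => (key U hU).2 he⟩

theorem parity_scal (c : Fˣ) : π (ofSim (scalSim c)) = 1 := by
  refine (preserves_parity S hdk hD _).1 fun U _ => ?_
  have : Cfsg.imageSubmodule (((scalSim (Q := OrthOrder.qPlus m F) c).1 : GL (Fin m ⊕ Fin m) F) : Matrix (Fin m ⊕ Fin m) (Fin m ⊕ Fin m) F) U = U := by
    refine Submodule.ext fun y => ⟨?_, fun hy => ?_⟩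
    · rintro ⟨x, hx, rfl⟩
      show (ofSim (scalSim (Q := OrthOrder.qPlus m F) c)).1 x ∈ U
      rw [scalSim_apply]
      exact U.smul_mem _ hx
    · refine ⟨(c : F)⁻¹ • y, U.smul_mem _ hy, ?_⟩
      show (ofSim (scalSim (Q := OrthOrder.qPlus m F) c)).1 ((c : F)⁻¹ • y) = y
      rw [scalSim_apply, smul_inv_smul₀ c.ne_zero]
  rw [this, Cfsg.SameParityClass, inf_idem, Nat.sub_self]
  exact ⟨0, rfl⟩

theorem inndiag_parity :
    (Cfsg.autSubgroupOf fun β : MulAut (Cfsg.POmega F ⇑(OrthOrder.qPlus m F)) =>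
      ∃ g : GL (Fin m ⊕ Fin m) F, g ∈ Cfsg.Geo.quadSimilarityGroup (F := F) ⇑(OrthOrder.qPlus m F) ∧
        Cfsg.PreservesSingularClasses (⇑(OrthOrder.qPlus m F)) (g : Matrix _ _ F) ∧
        Cfsg.IsInducedBySemilinearPOmega (⇑(OrthOrder.qPlus m F)) g (RingEquiv.refl F) β) =
      (π.comp ofSim).ker.map (simAut (Q := OrthOrder.qPlus m F)) := by
  refine (congrArg Subgroup.closure (Set.ext fun β => ⟨?_, ?_⟩)).trans (Subgroup.closure_eq _)
  · rintro ⟨g, hg, hp, h⟩
    exact ⟨⟨g, hg⟩, (preserves_parity S hdk hD ⟨g, hg⟩).1 hp, ((induced_sim_iff ⟨g, hg⟩ β).1 h).symm⟩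
  · rintro ⟨g, hg, rfl⟩
    exact ⟨g.1, g.2, (preserves_parity S hdk hD g).2 hg, (induced_sim_iff g _).2 rfl⟩

theorem parity_eps (h2 : (2 : F) ≠ 0) (g : Cfsg.Geo.quadSimilarityGroup (F := F) ⇑(OrthOrder.qPlus m F)) :
    (π.comp ofSim) g = 1 ↔ epsS S m g = 1 :=
  (preserves_parity S hdk hD g).symm.trans (preserves_iff S h2 g)

end Cfsg.Agent.AutPOmega
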