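import Cfsg.Agent.Lib.AutPOmega.PlusField

/-!
# Classes of field and graph-field automorphisms of the hyperbolic orthogonal groups
-/

set_option autoImplicit false
set_option linter.unusedSectionVars false
set_option maxHeartbeats 2000000

namespace Cfsg.Agent.AutPOmega

open Cfsg.Agent Cfsg.Agent.TransvMax Cfsg.Agent.QMax
open scoped Matrix

/-- The coordinates of the minus form of the same dimension. -/
noncomputable def minusEquiv (m : ℕ) (hm : 1 ≤ m) : ((Fin (m - 1) ⊕ Fin (m - 1)) ⊕ Fin 2) ≃ Fin m ⊕ Fin m :=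
  Fintype.equivOfCardEq (by simp [Fintype.card_sum]; omega)

/-- The minus form on the coordinates of the plus form. -/
theorem exists_minus_reindexed {F₀ : Type*} [Field F₀] [Fintype F₀] {m : ℕ} (hm : 4 ≤ m) (a₀ b₀ : F₀)
    (hab₀ : ∀ z₁ z₂ : F₀, z₁ ^ 2 + a₀ * z₁ * z₂ + b₀ * z₂ ^ 2 = 0 → z₁ = 0 ∧ z₂ = 0) :
    ∃ R : QuadraticForm F₀ (Fin m ⊕ Fin m → F₀), QSetting R ∧
      ∀ v, R v = Cfsg.quadFormMinus (m - 1) F₀ a₀ b₀ (fun i => v (minusEquiv m (by omega) i)) := by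
  obtain ⟨Rm, hRm, SRm⟩ := exists_minus_setting (k := m - 1) (by omega) a₀ b₀ hab₀
  refine ⟨Rm.comp (LinearMap.funLeft F₀ F₀ (minusEquiv m (by omega))),
    ⟨OrthOrder.nondegenerate_congr (LinearEquiv.funCongrLeft F₀ F₀ (minusEquiv m (by omega))) (fun v => rfl)
      SRm.nondeg, by simp [Fintype.card_sum]; omega⟩, fun v => ?_⟩
  rw [QuadraticMap.comp_apply, hRm]
  rfl

variable {F : Type*} [Field F] [Fintype F] {m : ℕ} (S : QSetting (OrthOrder.qPlus m F))
  {π : SemiT (OrthOrder.qPlus m F) →* ℤˣ}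
  (hfld : ∀ σ, π (fldP σ) = 1) (hdk : ∀ h, π (ofSim (incl h)) = OrthRows.dk S.nondeg (hexc S) h)
  (hD : ∀ c, π (ofSim (plusD c)) = 1)

include S hfld hdk hD

/-- Two semilinear similitudes of prime order with equal field part and parity are conjugate. -/
theorem exists_conj_parity (hm : 4 ≤ m) (T T' : SemiT (OrthOrder.qPlus m F)) {r : ℕ} (hr : r.Prime)
    (hσ : sigHom S T' = sigHom S T) (hσr : orderOf (sigHom S T) = r) (hT : T ^ r = 1) (hT' : T' ^ r = 1)
    (hπ : π T' = π T) :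
    ∃ K : Cfsg.Geo.quadSimilarityGroup (F := F) ⇑(OrthOrder.qPlus m F),
      π (ofSim K) = 1 ∧ theta T' = simAut K * theta T * (simAut K)⁻¹ := by
  set σ := sigHom S T
  let F₀ := (σ : F →+* F).eqLocusField (RingHom.id F)
  haveI : Fintype F₀ := Fintype.ofFinite _
  have hj : ∀ c, σ c = c ↔ c ∈ (F₀.subtype).range := fun c =>
    ⟨fun e => ⟨⟨c, e⟩, rfl⟩, by rintro ⟨⟨d, hd⟩, rfl⟩; exact hd⟩
  obtain ⟨a₀, b₀, hab₀⟩ := Spinor.exists_aniso F₀
  obtain ⟨R, SR, hR⟩ := exists_minus_reindexed hm a₀ b₀ hab₀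
  have f1 := exists_frame_parity S hfld hdk hD F₀.subtype hj hab₀ _ hR hm T hr rfl hσr hT
  have f2 := exists_frame_parity S hfld hdk hD F₀.subtype hj hab₀ _ hR hm T' hr hσ hσr hT'
  rcases Int.units_eq_one_or (π T) with h | h
  · obtain ⟨P⟩ := f1.1 h
    obtain ⟨P'⟩ := f2.1 (hπ.trans h)
    exact exists_conj_frame S F₀.subtype (qset_plus hm) hj (χ := π.comp ofSim) hdk P P'
  · obtain ⟨-, hP⟩ := f1.2 h
    obtain ⟨-, hP'⟩ := f2.2 (hπ.trans h)
    obtain ⟨P⟩ := hP
    obtain ⟨P'⟩ := hP'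
    exact exists_conj_frame S F₀.subtype SR hj (χ := π.comp ofSim) hdk P P'

/-- An element of the coset having the same order is an inner-diagonal conjugate. -/
theorem coset_iff_plus (hm : 4 ≤ m) {T : SemiT (OrthOrder.qPlus m F)} {r : ℕ} (hr : r.Prime) (hT : T ^ r = 1)
    (hTr : orderOf (sigHom S T) = r) (hord : orderOf (theta T) = r)
    {δ : MulAut (Cfsg.POmega F ⇑(OrthOrder.qPlus m F))}
    (hδ : δ ∈ (π.comp ofSim).ker.map (simAut (Q := OrthOrder.qPlus m F))) :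
    orderOf (δ * theta T) = r ↔
      Cfsg.IsConjUnder ((π.comp ofSim).ker.map (simAut (Q := OrthOrder.qPlus m F))) (theta T) (δ * theta T) := by
  constructor
  · intro h
    obtain ⟨g, hg, rfl⟩ := hδ
    have hy : simAut g * theta T = theta (ofSim g * T) := (map_mul theta _ _).symm
    rw [hy] at h ⊢
    have hs : sigHom S (ofSim g * T) = sigHom S T := by
      rw [map_mul, (sig_eq_one_iff S).2 ⟨_, rfl⟩, one_mul]
    obtain ⟨T', hT', hs', hp'⟩ := exists_normalised S (ofSim g * T) (hs.symm ▸ hTr) hr.pos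
      (by rw [← h, pow_orderOf_eq_one])
    have hπ : π T' = π T := by
      rw [parity_theta S hfld hdk hD hT', map_mul, show π (ofSim g) = 1 from hg, one_mul]
    obtain ⟨K, hK, he⟩ := exists_conj_parity S hfld hdk hD hm T T' hr (hs'.trans hs) hTr hT hp' hπ
    exact ⟨simAut K, ⟨K, hK, rfl⟩, hT'.symm.trans he⟩
  · rintro ⟨h, -, he⟩
    rw [he, AutPSL.orderOf_conj, hord]

end Cfsg.Agent.AutPOmega
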