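import Cfsg.Agent.Lib.AutPOmega.PlusClass
import Cfsg.Agent.Lib.AutPOmega.DkClasses

/-!
# Outer classes of the inner-diagonal group of the hyperbolic orthogonal groups
-/

set_option autoImplicit false
set_option linter.unusedSectionVars false
set_option maxHeartbeats 2000000

namespace Cfsg.Agent.AutPOmega

open Cfsg.Agent Cfsg.Agent.TransvMax Cfsg.Agent.QMax
open scoped Matrix

variable {F : Type*} [Field F] [Fintype F] {m : ℕ} (S : QSetting (OrthOrder.qPlus m F))
  {π : SemiT (OrthOrder.qPlus m F) →* ℤˣ}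
  (hdk : ∀ h, π (ofSim (incl h)) = OrthRows.dk S.nondeg (hexc S) h) (hD : ∀ c, π (ofSim (plusD c)) = 1)

include S hdk hD

/-- Four outer classes of inner-diagonal automorphisms. -/
theorem plus_classes (hm : 4 ≤ m) (h2 : (2 : F) ≠ 0) (hq : Fintype.card F % 4 = 1) :
    ∃ z : Cfsg.Out (Cfsg.POmega F ⇑(OrthOrder.qPlus m F)), z ≠ 1 ∧ z * z = 1 ∧
      (∀ (u w : Fin m ⊕ Fin m → F) (hu : (OrthOrder.qPlus m F) u ≠ 0) (hw : (OrthOrder.qPlus m F) w ≠ 0),
        IsSquare ((OrthOrder.qPlus m F) u) → ¬ IsSquare ((OrthOrder.qPlus m F) w) →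
          outI (OrthRows.rf (OrthOrder.qPlus m F) u hu) * outI (OrthRows.rf (OrthOrder.qPlus m F) w hw) = z) ∧
      Nat.card ((π.comp ofSim).ker.map (outS (Q := OrthOrder.qPlus m F))) = 4 ∧
      ∀ s : Fˣ, (IsSquare (s : F) → outS (plusD (m := m) s) * outS (plusD s) = 1) ∧
        (¬ IsSquare (s : F) → outS (plusD (m := m) s) * outS (plusD s) = z ^ m) := by
  classical
  have hgcd : Nat.gcd 4 (Fintype.card F ^ m - 1) = 4 := by
    refine Nat.gcd_eq_left ?_
    have h1 := (gcd_four_cases (q := Fintype.card F) (by omega) m).2 (fun h => by omega)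
    omega
  have hData : ∀ c : Fˣ, ¬ IsSquare (c : F) → EvenData (OrthOrder.qPlus m F) S (plusD c) 4 := fun c hc => by
    obtain ⟨c', -, D'⟩ := exists_plusData S hm h2
    refine ⟨by rw [simMul_plusD S]; exact hc, ?_⟩
    have := D'.card
    rwa [hgcd] at this
  obtain ⟨c₀, hc₀, -⟩ := exists_plusData S hm h2
  have D₀ := hData c₀ hc₀
  obtain ⟨v, hv, hw, hsq, hns⟩ := exists_vec S (card_plus S) h2 D₀
  set z := outI (OrthRows.rf (OrthOrder.qPlus m F) v hv) * outI (OrthRows.rf (OrthOrder.qPlus m F) _ hw) with hz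
  have hpair : ∀ (u w : Fin m ⊕ Fin m → F) (hu : (OrthOrder.qPlus m F) u ≠ 0) (hw' : (OrthOrder.qPlus m F) w ≠ 0),
      IsSquare ((OrthOrder.qPlus m F) u) → ¬ IsSquare ((OrthOrder.qPlus m F) w) →
      outI (OrthRows.rf (OrthOrder.qPlus m F) u hu) * outI (OrthRows.rf (OrthOrder.qPlus m F) w hw') = z :=
    fun u w hu hw' h1 h3 => by
      rw [hz, outI_rf_congr S hu hv (iff_of_true h1 hsq), outI_rf_congr S hw' hw (iff_of_false h3 hns)]
  have hzz : z * z = 1 := by
    rw [hz, (outI_commute _ _).mul_mul_mul_comm, outI_rf_sq S hv, outI_rf_sq S hw, one_mul]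
  have hz1 : z ≠ 1 := fun e => rf_ne_of_four S (card_plus S) h2 D₀ rfl hv hw hsq hns (by
    rw [hz] at e
    rw [eq_inv_of_mul_eq_one_left e, inv_eq_of_mul_eq_one_right (outI_rf_sq S hw)])
  have hsc : ∀ c, (π.comp ofSim) (scalSim c) = 1 := fun c => parity_scal S hdk hD c
  have hcases : ∀ g, (π.comp ofSim) g = 1 → IsSquare (simMul S g : F) → outS g = 1 ∨ outS g = z :=
    fun g hg hm' => outS_sq_cases S (χ := π.comp ofSim) hdk hsc hv hw hsq hns hg hm'
  refine ⟨z, hz1, hzz, hpair, ?_, fun s => ⟨fun hs => ?_, fun hs => ?_⟩⟩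
  · -- the four classes
    set X₀ := outS (plusD (m := m) c₀) with hX₀
    have hzA : z ∈ (π.comp ofSim).ker.map (outS (Q := OrthOrder.qPlus m F)) := by
      refine ⟨incl (OrthRows.rf (OrthOrder.qPlus m F) v hv * OrthRows.rf (OrthOrder.qPlus m F) _ hw), ?_, ?_⟩
      · show π (ofSim (incl _)) = 1
        rw [hdk, map_mul, OrthRows.dk_rf, OrthRows.dk_rf]; rfl
      · show outI (_ * _) = z
        rw [map_mul]
    have hset : ((π.comp ofSim).ker.map (outS (Q := OrthOrder.qPlus m F)) : Set (Cfsg.Out (Cfsg.POmega F ⇑(OrthOrder.qPlus m F)))) =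
        {1, z, X₀, z * X₀} := by
      refine Set.Subset.antisymm ?_ ?_
      · rintro _ ⟨g, hg, rfl⟩
        by_cases hm' : IsSquare (simMul S g : F)
        · rcases hcases g hg hm' with h | h <;> simp [h]
        · have h1 := hcases (g * (plusD c₀)⁻¹) (by
            rw [map_mul, map_inv, show (π.comp ofSim) g = 1 from hg, show (π.comp ofSim) (plusD c₀) = 1 from hD c₀]
            rfl) (by
            rw [map_mul, map_inv, simMul_plusD S, Units.val_mul, Units.val_inv_eq_inv_val]
            refine (Spinor.isSquare_mul_iff' (Units.ne_zero _) (inv_ne_zero (Units.ne_zero _))).2 ?_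
            rw [isSquare_inv]
            exact iff_of_false hm' hc₀)
          rw [map_mul, map_inv, mul_inv_eq_one, mul_inv_eq_iff_eq_mul, ← hX₀] at h1
          rcases h1 with h | h <;> simp [h]
      · rintro x (rfl | rfl | rfl | rfl)
        · exact one_mem _
        · exact hzA
        · exact ⟨plusD c₀, hD c₀, rfl⟩
        · exact mul_mem hzA ⟨plusD c₀, hD c₀, rfl⟩
    have hX1 : X₀ ≠ 1 := by
      rw [← map_one (outI (Q := OrthOrder.qPlus m F))]
      exact outS_d_notMem_outI S (card_plus S) h2 D₀ 1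
    have hXz : X₀ ≠ z := by
      rw [hz, ← map_mul]
      exact outS_d_notMem_outI S (card_plus S) h2 D₀ _
    rw [← SetLike.coe_sort_coe, Nat.card_coe_set_eq, hset]
    have n1 : z ≠ z * X₀ := fun e => hX1 (mul_left_cancel (a := z) (by rw [mul_one]; exact e.symm))
    have n2 : X₀ ≠ z * X₀ := fun e => hz1 (mul_right_cancel (b := X₀) (by rw [one_mul]; exact e.symm))
    have n3 : (1 : Cfsg.Out (Cfsg.POmega F ⇑(OrthOrder.qPlus m F))) ≠ z * X₀ := fun e => hXz (by
      rw [← mul_one z, e, ← mul_assoc, hzz, one_mul])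
    rw [Set.ncard_insert_of_notMem (by simp [Ne.symm hz1, Ne.symm hX1, n3]) (Set.toFinite _),
      Set.ncard_insert_of_notMem (by simp [Ne.symm hXz, n1]) (Set.toFinite _), Set.ncard_pair n2]
  · rcases hcases (plusD s) (hD s) (by rw [simMul_plusD S]; exact hs) with h | h <;> rw [h]
    · rw [one_mul]
    · exact hzz
  · have D := hData s hs
    obtain ⟨v', hv', hw', hsq', hns'⟩ := exists_vec S (card_plus S) h2 D
    rw [plusD_sq S hs h2 D hv' hw' hsq' hns', hpair _ _ hv' hw' hsq' hns']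

end Cfsg.Agent.AutPOmega
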