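import Cfsg.Agent.Lib.AutPOmega.PlusChi
import Cfsg.Agent.Lib.AutPOmega.MinusClass

/-!
# Field and graph-field automorphisms of the hyperbolic orthogonal groups
-/

set_option autoImplicit false
set_option linter.unusedSectionVars false
set_option maxHeartbeats 2000000

namespace Cfsg.Agent.AutPOmega

open Cfsg.Agent Cfsg.Agent.TransvMax Cfsg.Agent.QMax
open scoped Matrix

section Generic

variable {ι : Type} [Fintype ι] [DecidableEq ι] {F : Type*} [Field F] [Fintype F]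
  {Q : QuadraticForm F (ι → F)} (S : QSetting Q)
  {F₀ : Type*} [Field F₀] [Fintype F₀] (j : F₀ →+* F)

include S

/-- A frame from the type of the descended form. -/
theorem frame_of_equiv {σ : F ≃+* F} (hj : ∀ a, σ a = a ↔ a ∈ j.range) {T : SemiT Q}
    {R Q₀ : QuadraticForm F₀ (ι → F₀)} (H : GL ι F) (bb : Fˣ)
    (hH : ∀ x, T.1 (H.1 *ᵥ x) = H.1 *ᵥ fun i => σ (x i))
    (hQ₀ : ∀ u : ι → F₀, Q (H.1 *ᵥ fun i => j (u i)) = (bb : F) * j (Q₀ u))
    (L : (ι → F₀) ≃ₗ[F₀] (ι → F₀)) (hL : ∀ v, R (L v) = Q₀ v) : Nonempty (Frame j σ T R) := by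
  let e : (ι → F₀) ≃ₗ[F₀] (ι → F₀) := L.symm
  let kk : GL ι F₀ := Matrix.GeneralLinearGroup.toLin.symm (LinearMap.GeneralLinearGroup.ofLinearEquiv e)
  have hkk : ∀ u, kk.1 *ᵥ u = e u := fun u => LinearMap.toMatrix'_mulVec _ _
  let k' : GL ι F := Matrix.GeneralLinearGroup.map j kk
  refine ⟨⟨H * k', bb, fun x => ?_, fun u => ?_⟩⟩
  · rw [Units.val_mul, ← Matrix.mulVec_mulVec, hH, ← Matrix.mulVec_mulVec]
    congr 1
    funext i
    simp only [Matrix.mulVec, dotProduct, map_sum, map_mul]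
    refine Finset.sum_congr rfl fun l _ => ?_
    congr 1
    exact (hj _).2 ⟨_, rfl⟩
  · rw [Units.val_mul, ← Matrix.mulVec_mulVec,
      show k'.1 *ᵥ (fun i => j (u i)) = fun i => j ((kk.1 *ᵥ u) i) from
        funext fun i => (RingHom.map_mulVec j _ u i).symm, hQ₀, hkk, ← hL (L.symm u), L.apply_symm_apply]

end Generic

/-- An extension of odd degree keeps a binary form anisotropic. -/
theorem aniso_odd_ext {F : Type*} [Field F] {F₀ : Type*} [Field F₀] (j : F₀ →+* F) (σ : F ≃+* F)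
    (hj : ∀ a, σ a = a ↔ a ∈ j.range) (hodd : Odd (orderOf σ)) {a₀ b₀ : F₀}
    (hab₀ : ∀ z₁ z₂ : F₀, z₁ ^ 2 + a₀ * z₁ * z₂ + b₀ * z₂ ^ 2 = 0 → z₁ = 0 ∧ z₂ = 0) :
    ∀ z₁ z₂ : F, z₁ ^ 2 + j a₀ * z₁ * z₂ + j b₀ * z₂ ^ 2 = 0 → z₁ = 0 ∧ z₂ = 0 := by
  intro z₁ z₂ h
  rcases eq_or_ne z₂ 0 with rfl | h0
  · exact ⟨sq_eq_zero_iff.1 (by linear_combination h), rfl⟩
  exfalso
  set t := z₁ / z₂
  have ht : t ^ 2 + j a₀ * t + j b₀ = 0 := by
    simp only [t]
    field_simp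
    linear_combination h
  have ha : σ (j a₀) = j a₀ := (hj _).2 ⟨_, rfl⟩
  have hb : σ (j b₀) = j b₀ := (hj _).2 ⟨_, rfl⟩
  have key : σ t = t := by
    have h1 : (σ t - t) * (σ t + t + j a₀) = 0 := by
      have h2 := congrArg σ ht
      rw [map_add, map_add, map_mul, map_pow, map_zero, ha, hb] at h2
      linear_combination h2 - ht
    rcases mul_eq_zero.1 h1 with h1 | h1
    · exact sub_eq_zero.1 h1
    have hs : σ t = -t - j a₀ := by linear_combination h1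
    have h2 : σ (σ t) = t := by rw [hs, map_sub, map_neg, ha, hs]; ring
    obtain ⟨n, hn⟩ := hodd
    have h3 : ∀ i, (σ ^ (2 * i)) t = t := fun i => by
      induction i with
      | zero => rfl
      | succ i ih =>
        rw [show 2 * (i + 1) = 2 * i + 2 by omega, pow_add]
        show (σ ^ (2 * i)) ((σ ^ 2) t) = t
        rw [sq]
        show (σ ^ (2 * i)) (σ (σ t)) = t
        rw [h2, ih]
    have h4 : (σ ^ orderOf σ) t = t := by rw [pow_orderOf_eq_one]; rfl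
    rw [hn, pow_succ'] at h4
    change σ ((σ ^ (2 * n)) t) = t at h4
    rwa [h3] at h4
  obtain ⟨s, hs⟩ := (hj t).1 key
  have hh : s ^ 2 + a₀ * s * 1 + b₀ * 1 ^ 2 = 0 := j.injective (by
    simp only [map_add, map_mul, map_pow, map_one, map_zero, hs]; linear_combination ht)
  exact one_ne_zero (hab₀ s 1 hh).2

variable {F : Type*} [Field F] [Fintype F] {m : ℕ}

local notation "QP" => OrthOrder.qPlus m F

theorem h8_plus (hm : 5 ≤ m) : Fintype.card (Fin m ⊕ Fin m) = 8 → ∀ W : Submodule F (Fin m ⊕ Fin m → F),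
    (∀ x ∈ W, (OrthOrder.qPlus m F) x = 0) → Module.finrank F W ≤ 3 := fun h => absurd h (by simp [Fintype.card_sum]; omega)

variable (S : QSetting (OrthOrder.qPlus m F))

include S

theorem isFieldP_iff (σ : F ≃+* F) (β : MulAut (Cfsg.POmega F ⇑(OrthOrder.qPlus m F))) :
    Cfsg.IsFieldAutPOmegaOf (⇑(OrthOrder.qPlus m F)) σ β ↔ β = theta (fldP σ) := by
  have h : Cfsg.IsSemisimilarityPair (⇑(OrthOrder.qPlus m F)) (1 : GL (Fin m ⊕ Fin m) F) σ := ⟨1, fun v => by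
    rw [Units.val_one, Units.val_one, Matrix.one_mulVec, one_mul, OrthOrder.qPlus_apply, OrthOrder.qPlus_apply]
    simp [Cfsg.quadFormPlus, map_sum]⟩
  have e : ofPair h = fldP σ := Subtype.ext (Equiv.ext fun x => by
    rw [ofPair_apply, Units.val_one, Matrix.one_mulVec]; rfl)
  rw [← e, ← induced_iff h β]
  refine forall_congr' fun s => forall_congr' fun s' => ?_
  simp

theorem orderOf_theta_fldP (σ : F ≃+* F) :
    orderOf (theta (fldP σ : SemiT (OrthOrder.qPlus m F))) = orderOf σ := by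
  refine orderOf_eq_orderOf_iff.2 fun i => ⟨fun h => ?_, fun h => ?_⟩
  · rw [← sigT_fldP (m := m) S σ]
    exact theta_pow_sig' S h
  · rw [← map_pow, fldP_pow, h, fldP_one, map_one]

theorem exists_fixed_vec (σ : F ≃+* F) :
    ∃ v : Fin m ⊕ Fin m → F, (OrthOrder.qPlus m F) v ≠ 0 ∧ ∀ i, σ (v i) = v i := by
  have hm : 0 < m := by have := S.dim; simp [Fintype.card_sum] at this; omega
  refine ⟨Sum.elim (Pi.single ⟨0, hm⟩ 1) (Pi.single ⟨0, hm⟩ 1), ?_, fun i => ?_⟩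
  · rw [OrthOrder.qPlus_apply]
    simp [Cfsg.quadFormPlus, Pi.single_apply]
  · rcases i with i | i <;> simp [Pi.single_apply, apply_ite σ]

variable {π : SemiT (OrthOrder.qPlus m F) →* ℤˣ}
  (hfld : ∀ σ, π (fldP σ) = 1) (hdk : ∀ h, π (ofSim (incl h)) = OrthRows.dk S.nondeg (hexc S) h)
  (hD : ∀ c, π (ofSim (plusD c)) = 1)

include hfld hdk hD

theorem parity_theta {T U : SemiT (OrthOrder.qPlus m F)} (h : theta T = theta U) : π T = π U := by
  have h1 : T * U⁻¹ ∈ (theta (Q := OrthOrder.qPlus m F)).ker := by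
    rw [MonoidHom.mem_ker, map_mul, map_inv, h, mul_inv_cancel]
  rw [ker_theta S] at h1
  obtain ⟨c, hc⟩ := h1
  have h2 := congrArg π hc
  rw [MonoidHom.comp_apply, parity_scal S hdk hD, map_mul, map_inv] at h2
  exact mul_inv_eq_one.1 h2.symm

/-- A field or graph-field automorphism as a semilinear similitude of the same order. -/
theorem exists_fieldP_data (hm : 5 ≤ m) {x : MulAut (Cfsg.POmega F ⇑(OrthOrder.qPlus m F))} {r : ℕ} (hr : r.Prime)
    (hxr : orderOf x = r)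
    (hx : Cfsg.IsFieldAutClassPOmega (⇑(OrthOrder.qPlus m F)) x ∨
      ∃ (α γ φ : MulAut (Cfsg.POmega F ⇑(OrthOrder.qPlus m F))) (σ : F ≃+* F) (v : Fin m ⊕ Fin m → F)
        (rr : GL (Fin m ⊕ Fin m) F),
        σ ≠ RingEquiv.refl F ∧ (OrthOrder.qPlus m F) v ≠ 0 ∧ (∀ i, σ (v i) = v i) ∧
        (rr : Matrix (Fin m ⊕ Fin m) (Fin m ⊕ Fin m) F) = Cfsg.reflectionMatrix (⇑(OrthOrder.qPlus m F)) v ∧
        Cfsg.IsInducedBySemilinearPOmega (⇑(OrthOrder.qPlus m F)) rr (RingEquiv.refl F) γ ∧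
        Cfsg.IsFieldAutPOmegaOf (⇑(OrthOrder.qPlus m F)) σ φ ∧ α * x * α⁻¹ = γ * φ) :
    ∃ T : SemiT (OrthOrder.qPlus m F), x = theta T ∧ T ^ r = 1 ∧ orderOf (sigHom S T) = r ∧
      (Cfsg.IsFieldAutClassPOmega (⇑(OrthOrder.qPlus m F)) x → π T = 1) ∧
      ((∃ (α γ φ : MulAut (Cfsg.POmega F ⇑(OrthOrder.qPlus m F))) (σ : F ≃+* F) (v : Fin m ⊕ Fin m → F)
        (rr : GL (Fin m ⊕ Fin m) F),
        σ ≠ RingEquiv.refl F ∧ (OrthOrder.qPlus m F) v ≠ 0 ∧ (∀ i, σ (v i) = v i) ∧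
        (rr : Matrix (Fin m ⊕ Fin m) (Fin m ⊕ Fin m) F) = Cfsg.reflectionMatrix (⇑(OrthOrder.qPlus m F)) v ∧
        Cfsg.IsInducedBySemilinearPOmega (⇑(OrthOrder.qPlus m F)) rr (RingEquiv.refl F) γ ∧
        Cfsg.IsFieldAutPOmegaOf (⇑(OrthOrder.qPlus m F)) σ φ ∧ α * x * α⁻¹ = γ * φ) → π T = -1 ∧ r = 2) := by
  have core : ∀ (α : MulAut (Cfsg.POmega F ⇑(OrthOrder.qPlus m F))) (T₀ : SemiT (OrthOrder.qPlus m F)) (σ : F ≃+* F),
      σ ≠ 1 → sigHom S T₀ = σ → α * x * α⁻¹ = theta T₀ →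
      ∃ T, x = theta T ∧ T ^ r = 1 ∧ orderOf (sigHom S T) = r ∧ π T = π T₀ := by
    intro α T₀ σ hne hs he
    obtain ⟨U, rfl⟩ := theta_surjective S (h8_plus hm) α
    have hxT : x = theta (U⁻¹ * T₀ * U) := by
      rw [map_mul, map_mul, map_inv, ← he]; group
    have hp : theta (U⁻¹ * T₀ * U) ^ r = 1 := by rw [← hxT, ← hxr, pow_orderOf_eq_one]
    have hs' : sigHom S (U⁻¹ * T₀ * U) ≠ 1 := by
      rw [map_mul, map_mul, map_inv, hs]
      intro e
      exact hne (mul_left_cancel (a := (sigHom S U)⁻¹) (mul_right_cancel (b := sigHom S U) (by rw [e]; group)))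
    have hsr : orderOf (sigHom S (U⁻¹ * T₀ * U)) = r :=
      ((Nat.dvd_prime hr).1 (orderOf_dvd_of_pow_eq_one (theta_pow_sig' S hp))).resolve_left
        fun e => hs' (orderOf_eq_one_iff.1 e)
    obtain ⟨T, hT, hsT, hTp⟩ := exists_normalised S _ hsr hr.pos hp
    refine ⟨T, hxT.trans hT.symm, hTp, by rw [hsT, hsr], ?_⟩
    rw [parity_theta S hfld hdk hD hT, map_mul, map_mul, map_inv, mul_comm, mul_inv_cancel_left]
  have hfield : Cfsg.IsFieldAutClassPOmega (⇑(OrthOrder.qPlus m F)) x →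
      ∃ T, x = theta T ∧ T ^ r = 1 ∧ orderOf (sigHom S T) = r ∧ π T = 1 := by
    rintro ⟨α, φ, σ, hne, hφ, he⟩
    rw [isFieldP_iff S] at hφ
    subst hφ
    obtain ⟨T, h1, h2, h3, h4⟩ := core α (fldP σ) σ hne (sigT_fldP S σ) he
    exact ⟨T, h1, h2, h3, h4.trans (hfld σ)⟩
  have hgraph : (∃ (α γ φ : MulAut (Cfsg.POmega F ⇑(OrthOrder.qPlus m F))) (σ : F ≃+* F) (v : Fin m ⊕ Fin m → F)
        (rr : GL (Fin m ⊕ Fin m) F),
        σ ≠ RingEquiv.refl F ∧ (OrthOrder.qPlus m F) v ≠ 0 ∧ (∀ i, σ (v i) = v i) ∧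
        (rr : Matrix (Fin m ⊕ Fin m) (Fin m ⊕ Fin m) F) = Cfsg.reflectionMatrix (⇑(OrthOrder.qPlus m F)) v ∧
        Cfsg.IsInducedBySemilinearPOmega (⇑(OrthOrder.qPlus m F)) rr (RingEquiv.refl F) γ ∧
        Cfsg.IsFieldAutPOmegaOf (⇑(OrthOrder.qPlus m F)) σ φ ∧ α * x * α⁻¹ = γ * φ) →
      ∃ T, x = theta T ∧ T ^ r = 1 ∧ orderOf (sigHom S T) = r ∧ π T = -1 ∧ r = 2 := by
    rintro ⟨α, γ, φ, σ, v, rr, hne, hv, -, hrr, hγ, hφ, he⟩
    rw [isFieldP_iff S] at hφ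
    subst hφ
    have hrf : rr = (OrthRows.rf (OrthOrder.qPlus m F) v hv).1 := Units.ext (hrr.trans (OrthRows.rf_val hv).symm)
    subst hrf
    have hγ' := (induced_sim_iff (incl (OrthRows.rf (OrthOrder.qPlus m F) v hv)) γ).1 hγ
    subst hγ'
    obtain ⟨T, h1, h2, h3, h4⟩ := core α (ofSim (incl (OrthRows.rf (OrthOrder.qPlus m F) v hv)) * fldP σ) σ hne
      (by rw [map_mul, (sig_eq_one_iff S).2 ⟨_, rfl⟩, one_mul, sigT_fldP S]) (he.trans (map_mul theta _ _).symm)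
    have hπ : π T = -1 := by rw [h4, map_mul, hdk, OrthRows.dk_rf, hfld, mul_one]
    refine ⟨T, h1, h2, h3, hπ, (hr.eq_two_or_odd').resolve_right fun hodd => ?_⟩
    have h5 := congrArg π h2
    rw [map_pow, hπ, hodd.neg_one_pow, map_one] at h5
    exact absurd h5 (by decide)
  rcases hx with hf | hg
  · obtain ⟨T, h1, h2, h3, h4⟩ := hfield hf
    refine ⟨T, h1, h2, h3, fun _ => h4, fun hg => ?_⟩
    obtain ⟨T', h1', -, -, h4', h5'⟩ := hgraph hg
    exact ⟨(parity_theta S hfld hdk hD (h1.symm.trans h1')).trans h4', h5'⟩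
  · obtain ⟨T, h1, h2, h3, h4, h5⟩ := hgraph hg
    refine ⟨T, h1, h2, h3, fun hf => ?_, fun _ => ⟨h4, h5⟩⟩
    obtain ⟨T', h1', -, -, h4'⟩ := hfield hf
    exact (parity_theta S hfld hdk hD (h1.symm.trans h1')).trans h4'

variable {F₀ : Type*} [Field F₀] [Fintype F₀] (j : F₀ →+* F) {σ : F ≃+* F}
  (hj : ∀ a, σ a = a ↔ a ∈ j.range) {a₀ b₀ : F₀}
  (hab₀ : ∀ z₁ z₂ : F₀, z₁ ^ 2 + a₀ * z₁ * z₂ + b₀ * z₂ ^ 2 = 0 → z₁ = 0 ∧ z₂ = 0)
  (e : ((Fin (m - 1) ⊕ Fin (m - 1)) ⊕ Fin 2) ≃ Fin m ⊕ Fin m)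
  {R : QuadraticForm F₀ (Fin m ⊕ Fin m → F₀)}
  (hR : ∀ v, R v = Cfsg.quadFormMinus (m - 1) F₀ a₀ b₀ (fun i => v (e i)))

include hj hab₀ hR

/-- The type of the descended form is read by the parity. -/
theorem exists_frame_parity (hm : 4 ≤ m) (T : SemiT (OrthOrder.qPlus m F)) {r : ℕ} (hr : r.Prime)
    (hσ : sigHom S T = σ) (hσr : orderOf σ = r) (hT : T ^ r = 1) :
    (π T = 1 → Nonempty (Frame j σ T (OrthOrder.qPlus m F₀))) ∧
      (π T = -1 → r = 2 ∧ Nonempty (Frame j σ T R)) := by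
  have S₀ : QSetting (OrthOrder.qPlus m F₀) := qset_plus hm
  have hσT : sigT T = σ := hσ
  -- the coordinatewise automorphism
  obtain ⟨P₁⟩ : Nonempty (Frame j σ (fldP σ : SemiT (OrthOrder.qPlus m F)) (OrthOrder.qPlus m F₀)) :=
    ⟨⟨1, 1, fun x => by rw [Units.val_one, Matrix.one_mulVec, Matrix.one_mulVec]; rfl, fun u => by
      rw [Units.val_one, Units.val_one, Matrix.one_mulVec, one_mul, OrthOrder.qPlus_apply, OrthOrder.qPlus_apply]
      simp [Cfsg.quadFormPlus, map_sum]⟩⟩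
  have hplus : ∀ U : SemiT (OrthOrder.qPlus m F), Frame j σ U (OrthOrder.qPlus m F₀) → π U = 1 := fun U P => by
    obtain ⟨K, -, hK⟩ := exists_conj_frame S j S₀ hj (χ := π.comp ofSim) hdk P₁ P
    have h1 := parity_theta S hfld hdk hD (T := U) (U := ofSim K * fldP σ * (ofSim K)⁻¹)
      (by rw [map_mul, map_mul, map_inv]; exact hK)
    rwa [map_mul, map_mul, map_inv, hfld, mul_one, mul_inv_cancel] at h1
  have hfr : ∀ U : SemiT (OrthOrder.qPlus m F), sigT U = σ → U ^ r = 1 →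
      Nonempty (Frame j σ U (OrthOrder.qPlus m F₀)) ∨ Nonempty (Frame j σ U R) := by
    intro U hU hUr
    obtain ⟨H, bb, Q₀, hH, hQ₀, hn₀⟩ := exists_descended S j U (r := r)
      (by show orderOf (sigT U) = r; rw [hU, hσr]) hr.pos hUr (fun a => by rw [hU]; exact hj a)
    rw [hU] at hH
    rcases Spinor.equiv_plus_or_minus (m := m) (by omega) (by simp [Fintype.card_sum]; omega) Q₀ hn₀ a₀ b₀ hab₀
      with ⟨L, hL⟩ | ⟨L, hL⟩
    · exact Or.inl (frame_of_equiv S j hj H bb hH hQ₀ L fun v => (OrthOrder.qPlus_apply _ _).trans (hL v))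
    · refine Or.inr (frame_of_equiv S j hj H bb hH hQ₀ (L.trans (LinearEquiv.funCongrLeft F₀ F₀ e.symm)) fun v => ?_)
      rw [hR, ← hL]
      congr 1
      funext i
      simp [LinearEquiv.funCongrLeft_apply, LinearMap.funLeft_apply]
  have hodd : Odd r → ∀ U : SemiT (OrthOrder.qPlus m F), IsEmpty (Frame j σ U R) := fun ho U => ⟨fun P => by
    obtain ⟨Qm, hQm, -⟩ := exists_minus_setting (k := m - 1) (by omega) (j a₀) (j b₀)
      (aniso_odd_ext j σ hj (by rw [hσr]; exact ho) hab₀)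
    have hall : ∀ x : Fin m ⊕ Fin m → F,
        (OrthOrder.qPlus m F) (P.H.1 *ᵥ x) = (P.bb : F) * Qm (fun i => x (e i)) := fun x => by
      refine quad_ext_j j (A := (OrthOrder.qPlus m F).comp (Matrix.mulVecLin P.H.1))
        (B := (P.bb : F) • Qm.comp (LinearMap.funLeft F F e)) (fun u => ?_) x
      rw [QuadraticMap.comp_apply, Matrix.mulVecLin_apply, P.quad_eq, hR, QuadraticMap.smul_apply, smul_eq_mul,
        QuadraticMap.comp_apply, hQm]
      simp [Cfsg.quadFormMinus, map_sum, LinearMap.funLeft_apply]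
    let W := (Spinor.halfX F m).map (((LinearMap.funLeft F F e).comp (Matrix.mulVecLin (P.H⁻¹).1)))
    have hinj : Function.Injective ((LinearMap.funLeft F F e).comp (Matrix.mulVecLin (P.H⁻¹).1)) :=
      (LinearMap.funLeft_injective_of_surjective F F _ e.surjective).comp (glPerm P.H⁻¹).injective
    have hts := Spinor.minus_ts_finrank_le (j a₀) (j b₀) (aniso_odd_ext j σ hj (by rw [hσr]; exact ho) hab₀) W
      (fun v hv => by
        obtain ⟨y, hy, rfl⟩ := hv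
        rw [← hQm]
        have h1 := hall ((P.H⁻¹).1 *ᵥ y)
        rw [Matrix.mulVec_mulVec, ← Units.val_mul, mul_inv_cancel, Units.val_one, Matrix.one_mulVec,
          Spinor.halfX_singular y hy] at h1
        exact (mul_eq_zero.1 h1.symm).resolve_left P.bb.ne_zero)
    rw [← LinearEquiv.finrank_eq (Submodule.equivMapOfInjective _ hinj _), Spinor.finrank_halfX] at hts
    omega⟩
  have hminus : ∀ U : SemiT (OrthOrder.qPlus m F), Frame j σ U R → π U = -1 := fun U P => by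
    have hr2 : r = 2 := (hr.eq_two_or_odd').resolve_right fun ho => (hodd ho U).false P
    obtain ⟨v, hv, hfix⟩ := exists_fixed_vec S σ
    let T₂ : SemiT (OrthOrder.qPlus m F) := ofSim (incl (OrthRows.rf (OrthOrder.qPlus m F) v hv)) * fldP σ
    have hT₂ : π T₂ = -1 := by rw [map_mul, hdk, OrthRows.dk_rf, hfld, mul_one]
    have hcomm : Commute (fldP σ) (ofSim (incl (OrthRows.rf (OrthOrder.qPlus m F) v hv))) :=
      commute_refl_fixed (fldP σ) hv (funext hfix)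
    have h22 : T₂ ^ r = 1 := by
      rw [hr2, hcomm.symm.mul_pow, ← map_pow, ← map_pow, sq, OrthRows.rf_mul_self, map_one, map_one, one_mul,
        fldP_pow, ← hr2, ← hσr, pow_orderOf_eq_one, fldP_one]
    have hs₂ : sigT T₂ = σ := by
      show sigHom S T₂ = σ
      rw [map_mul, (sig_eq_one_iff S).2 ⟨_, rfl⟩, one_mul, sigT_fldP S]
    rcases hfr T₂ hs₂ h22 with hP₂ | hP₂
    · obtain ⟨P₂⟩ := hP₂
      exact absurd (hplus T₂ P₂) (by rw [hT₂]; decide)
    · obtain ⟨P₂⟩ := hP₂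
      have SR : QSetting R := by
        obtain ⟨Rm, hRm, SRm⟩ := exists_minus_setting (k := m - 1) (by omega) a₀ b₀ hab₀
        refine ⟨OrthOrder.nondegenerate_congr (LinearEquiv.funCongrLeft F₀ F₀ e) (fun v => ?_) SRm.nondeg,
          by simp [Fintype.card_sum]; omega⟩
        rw [hR, hRm]
        rfl
      obtain ⟨K, -, hK⟩ := exists_conj_frame S j SR hj (χ := π.comp ofSim) hdk P₂ P
      have h1 := parity_theta S hfld hdk hD (T := U) (U := ofSim K * T₂ * (ofSim K)⁻¹)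
        (by rw [map_mul, map_mul, map_inv]; exact hK)
      rwa [map_mul, map_mul, map_inv, hT₂, mul_comm, inv_mul_cancel_left] at h1
  refine ⟨fun h => ?_, fun h => ?_⟩
  · rcases hfr T hσT hT with hP | P
    · exact hP
    · obtain ⟨P⟩ := P
      exact absurd ((hminus T P).symm.trans h) (by decide)
  · rcases hfr T hσT hT with hP | hP
    · obtain ⟨P⟩ := hP
      exact absurd ((hplus T P).symm.trans h) (by decide)
    · obtain ⟨P⟩ := hP
      exact ⟨(hr.eq_two_or_odd').resolve_right fun ho => (hodd ho T).false P, ⟨P⟩⟩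

end Cfsg.Agent.AutPOmega
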