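import Cfsg.Agent.Lib.AutPOmega.PlusSwap
import Cfsg.Agent.Lib.AutPOmega.MinusField

/-!
# Involutory graph-field automorphisms: centralisers and classes
-/

set_option autoImplicit false
set_option linter.unusedSectionVars false
set_option maxHeartbeats 2000000

namespace Cfsg.Agent.AutPOmega

open Cfsg.Agent Cfsg.Agent.TransvMax Cfsg.Agent.QMax
open scoped Matrix

variable {F : Type*} [Field F] [Fintype F] {n : ℕ} (S : QSetting (OrthOrder.qPlus (n + 1) F))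
  {F₀ : Type*} [Field F₀] [Fintype F₀] (j : F₀ →+* F) {σ : F ≃+* F} (hj : ∀ a, σ a = a ↔ a ∈ j.range)
  {π : SemiT (OrthOrder.qPlus (n + 1) F) →* ℤˣ}
  (hfld : ∀ σ, π (fldP σ) = 1) (hdk : ∀ h, π (ofSim (incl h)) = OrthRows.dk S.nondeg (hexc S) h)
  (hD : ∀ c, π (ofSim (plusD c)) = 1)

include S hj hfld hdk hD

/-- Centraliser and class count of an involutory graph-field automorphism. -/
theorem graphField_data (hn : 4 ≤ n) (hσ : orderOf σ = 2) (hq : Fintype.card F = Fintype.card F₀ ^ 2)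
    (T : SemiT (OrthOrder.qPlus (n + 1) F)) (hTσ : sigHom S T = σ) (hT : T ^ 2 = 1) (hπ : π T = -1)
    {a₀ b₀ : F₀} (hab₀ : ∀ z₁ z₂ : F₀, z₁ ^ 2 + a₀ * z₁ * z₂ + b₀ * z₂ ^ 2 = 0 → z₁ = 0 ∧ z₂ = 0)
    {Rm : QuadraticForm F₀ ((Fin n ⊕ Fin n) ⊕ Fin 2 → F₀)} (hRm : ⇑Rm = Cfsg.quadFormMinus n F₀ a₀ b₀)
    (SRm : QSetting Rm) {χm : Cfsg.Geo.quadSimilarityGroup (F := F₀) ⇑Rm →* ℤˣ}
    (hχm : ∀ g : Cfsg.Geo.quadSimilarityGroup (F := F₀) ⇑Rm, Cfsg.PreservesSingularClassesMinus n a₀ b₀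
      (g.1 : Matrix ((Fin n ⊕ Fin n) ⊕ Fin 2) ((Fin n ⊕ Fin n) ⊕ Fin 2) F₀) ↔ χm g = 1)
    (hdkm : ∀ h, χm (incl h) = OrthRows.dk SRm.nondeg (hexc SRm) h) (hscm : ∀ c, χm (scalSim c) = 1) :
    Nonempty (↥((π.comp ofSim).ker.map (simAut (Q := OrthOrder.qPlus (n + 1) F)) ⊓ Subgroup.centralizer {theta T}) ≃*
        ↥(χm.ker.map (simAut (Q := Rm)))) ∧
      ((2 : F) = 0 → Cfsg.splitClassCount ((π.comp ofSim).ker.map (simAut (Q := OrthOrder.qPlus (n + 1) F)))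
        (Cfsg.Inn (Cfsg.POmega F ⇑(OrthOrder.qPlus (n + 1) F))) (theta T) = 1) ∧
      ((2 : F) ≠ 0 → (Odd (n + 1) ∧ Fintype.card F₀ % 4 = 1) →
        Cfsg.splitClassCount ((π.comp ofSim).ker.map (simAut (Q := OrthOrder.qPlus (n + 1) F)))
          (Cfsg.Inn (Cfsg.POmega F ⇑(OrthOrder.qPlus (n + 1) F))) (theta T) = 4) ∧
      ((2 : F) ≠ 0 → ¬ (Odd (n + 1) ∧ Fintype.card F₀ % 4 = 1) →
        Cfsg.splitClassCount ((π.comp ofSim).ker.map (simAut (Q := OrthOrder.qPlus (n + 1) F)))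
          (Cfsg.Inn (Cfsg.POmega F ⇑(OrthOrder.qPlus (n + 1) F))) (theta T) = 2) := by
  let R : QuadraticForm F₀ (Fin (n + 1) ⊕ Fin (n + 1) → F₀) := Rm.comp (LinearMap.funLeft F₀ F₀ (swapCoords n))
  have hR : ∀ v, R v = Cfsg.quadFormMinus n F₀ a₀ b₀ fun i => v (swapCoords n i) := fun v => congrFun hRm _
  have hRR : ∀ v, R v = Rm fun i => v (swapCoords n i) := fun v => rfl
  have SR : QSetting R := ⟨OrthOrder.nondegenerate_congr (LinearEquiv.funCongrLeft F₀ F₀ (swapCoords n))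
    (fun v => rfl) SRm.nondeg, S.dim⟩
  obtain ⟨v, hv, P, hvfix, hG⟩ := exists_swap_frame S j hj hσ (by omega) a₀ b₀ hab₀ hR
  have hπ₂ : π (ofSim (incl (OrthRows.rf (OrthOrder.qPlus (n + 1) F) v hv)) * fldP σ) = -1 := by rw [map_mul, hdk, OrthRows.dk_rf, hfld, mul_one]
  have hs₂ : sigHom S (ofSim (incl (OrthRows.rf (OrthOrder.qPlus (n + 1) F) v hv)) * fldP σ) = σ := by rw [map_mul, (sig_eq_one_iff S).2 ⟨_, rfl⟩, one_mul, sigT_fldP S]
  have hcomm : Commute (fldP σ) (ofSim (incl (OrthRows.rf (OrthOrder.qPlus (n + 1) F) v hv))) :=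
    commute_refl_fixed (fldP σ) hv hvfix
  have h22 : (ofSim (incl (OrthRows.rf (OrthOrder.qPlus (n + 1) F) v hv)) * fldP σ) ^ 2 = 1 := by
    rw [hcomm.symm.mul_pow, ← map_pow, ← map_pow, sq, OrthRows.rf_mul_self, map_one, map_one, one_mul,
      fldP_pow, ← hσ, pow_orderOf_eq_one, fldP_one]
  obtain ⟨K, hK, hKT⟩ := exists_conj_parity S hfld hdk hD (by omega) (ofSim (incl (OrthRows.rf (OrthOrder.qPlus (n + 1) F) v hv)) * fldP σ) T Nat.prime_two
    (hTσ.trans hs₂.symm) (by rw [hs₂, hσ]) h22 hT (hπ.trans hπ₂.symm)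
  have hmem : simAut K ∈ (π.comp ofSim).ker.map (simAut (Q := OrthOrder.qPlus (n + 1) F)) := ⟨K, hK, rfl⟩
  set χ := π.comp ofSim with hχdef
  set χ₀ := χm.comp (simRe (swapCoords n) hRR).toMonoidHom with hχ₀
  have hsc : ∀ c, χ (scalSim c) = 1 := fun c => parity_scal S hdk hD c
  have hdk₀ : ∀ h, χ₀ (incl h) = OrthRows.dk SR.nondeg (hexc SR) h :=
    dk_simRe (swapCoords n) hRR SR SRm χm hdkm
  have hsc₀ : ∀ c, χ₀ (scalSim c) = 1 := fun c => by
    show χm (simRe (swapCoords n) hRR (scalSim c)) = 1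
    rw [simRe_scal]; exact hscm c
  have hcj : ∀ g, χ (frameJ j P g) = χ₀ g :=
    chi_frame S j SR P (n := n + 1) (fun h2 g => parity_eps S hdk hD h2 g) hdk hsc
      (fun h2 g => by
        rw [← epsS_simRe (swapCoords n) hRR SR SRm]
        exact (hχm (simRe (swapCoords n) hRR g)).symm.trans
          (preserves_minus_iff hRm SRm h2 (by omega) hab₀ _)) hdk₀ hsc₀
  have hr0 : 0 < orderOf σ := by omega
  obtain ⟨e1⟩ := AutPSL.centralizer_conj _ (x := theta (ofSim (incl (OrthRows.rf (OrthOrder.qPlus (n + 1) F) v hv)) * fldP σ)) hmem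
  obtain ⟨e2⟩ := centralizer_equiv_frame S j SR hj P (χ := χ) hcj hsc hr0
  obtain ⟨e3⟩ := ker_map_equiv (swapCoords n) hRR SR SRm χm
  have hcount := splitCount_frame S j SR hj P (χ := χ) hcj hsc hr0
    (fun t => (hdk t.1).trans (dk_omega_one S t))
  rw [hKT, AutPSL.splitClassCount_conj _ _ hmem]
  refine ⟨⟨e1.trans (e2.trans e3)⟩, ?_⟩
  refine ⟨fun h2 => ?_, ?_⟩
  · have hA : χ.ker.map (outS (Q := OrthOrder.qPlus (n + 1) F)) = ⊥ := by
      rw [Subgroup.eq_bot_iff_forall]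
      rintro _ ⟨g, hg, rfl⟩
      exact outS_sq_two S (χ := χ) hdk hsc h2 hg
    rw [hA, Subgroup.card_bot] at hcount
    exact Nat.eq_one_of_mul_eq_one_right hcount
  suffices H : ∀ h2 : (2 : F) ≠ 0, Cfsg.splitClassCount (χ.ker.map (simAut (Q := OrthOrder.qPlus (n + 1) F)))
      (Cfsg.Inn (Cfsg.POmega F ⇑(OrthOrder.qPlus (n + 1) F))) (theta (ofSim (incl (OrthRows.rf (OrthOrder.qPlus (n + 1) F) v hv)) * fldP σ)) =
      if Odd (n + 1) ∧ Fintype.card F₀ % 4 = 1 then 4 else 2 from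
    ⟨fun h2 h => (H h2).trans (if_pos h), fun h2 h => (H h2).trans (if_neg h)⟩
  classical
  intro h2
  have h20 : (2 : F₀) ≠ 0 := fun e => h2 (by rw [← map_ofNat j 2, e, map_zero])
  have hq0 : Fintype.card F₀ % 2 = 1 := FiniteField.odd_card_of_char_ne_two (Spinor.ringChar_ne_two h20)
  have hq4 : Fintype.card F % 4 = 1 := by
    rw [hq, Nat.pow_mod]
    rcases (show Fintype.card F₀ % 4 = 1 ∨ Fintype.card F₀ % 4 = 3 by omega) with h | h <;> rw [h]
  obtain ⟨z, hz1, hzz, hpair, hA, hDs⟩ := plus_classes S hdk hD (by omega) h2 hq4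
  obtain ⟨ν, hν⟩ := FiniteField.exists_nonsquare (Spinor.ringChar_ne_two h20)
  have hν0 : ν ≠ 0 := fun e => hν (e ▸ IsSquare.zero)
  obtain ⟨G₀, u, w, hu, hw, c, hc, hQu, hQw, hGq, hfG⟩ := hG (Units.mk0 ν hν0) hν
  have hμ : (simMul SR G₀ : F₀) = ν := simMul_eq SR hGq
  have hG₀ : χ₀ G₀ = 1 := by
    rw [← hcj, hfG, map_mul]
    show π (ofSim (plusD _)) * π (ofSim (incl _)) = 1
    rw [hD, one_mul, hdk, map_mul, OrthRows.dk_rf, OrthRows.dk_rf]; rfl
  obtain ⟨hB, -⟩ := rational_classes_sq S (χ := χ) hdk hsc j SR P hdk₀ hsc₀ h2 hq hG₀ (by rw [hμ]; exact hν)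
  obtain ⟨s, hs⟩ := isSquare_of_rational j h2 hq ν
  have hs0 : s ≠ 0 := fun e => hν0 (j.injective (by rw [hs, e, mul_zero, map_zero]))
  have hm1 : IsSquare (-1 : F) := by
    refine FiniteField.isSquare_neg_one_iff.2 ?_
    omega
  have huns : ¬ IsSquare ((OrthOrder.qPlus (n + 1) F) u) := fun h => hc (by
    have := hm1.mul h
    rwa [hQu, neg_mul_neg, one_mul] at this)
  have hX : outS (frameJ j P G₀) =
      (if ¬ IsSquare s ∧ Odd (n + 1) then 1 else z) := by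
    rw [hfG, show Units.map j.toMonoidHom (Units.mk0 ν hν0) = Units.mk0 s hs0 * Units.mk0 s hs0 from Units.ext hs,
      plusD_mul, map_mul, map_mul,
      show outS (incl (OrthRows.rf (OrthOrder.qPlus (n + 1) F) u hu * OrthRows.rf (OrthOrder.qPlus (n + 1) F) w hw)) =
        outI (OrthRows.rf (OrthOrder.qPlus (n + 1) F) u hu) * outI (OrthRows.rf (OrthOrder.qPlus (n + 1) F) w hw)
        from map_mul (outI (Q := OrthOrder.qPlus (n + 1) F)) _ _,
      (outI_commute _ _).eq, hpair w u hw hu (by rw [hQw]; exact hm1) huns]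
    by_cases hsq : IsSquare s
    · rw [(hDs _).1 hsq, one_mul, if_neg fun h => h.1 hsq]
    · rw [(hDs _).2 hsq]
      have hodd' : ∀ k : ℕ, Odd k → z ^ k * z = 1 := by
        rintro k ⟨i, rfl⟩
        rw [pow_succ, pow_mul, sq z, hzz, one_pow, one_mul, hzz]
      have heven' : ∀ k : ℕ, ¬ Odd k → z ^ k * z = z := by
        intro k hk
        obtain ⟨i, rfl⟩ := Nat.not_odd_iff_even.1 hk
        rw [← two_mul, pow_mul, sq z, hzz, one_pow, one_mul]
      by_cases ho : Odd (n + 1)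
      · rw [if_pos ⟨hsq, ho⟩]; exact hodd' _ ho
      · rw [if_neg fun h => ho h.2]; exact heven' _ ho
  have hiff : IsSquare s ↔ Fintype.card F₀ % 4 = 3 := isSquare_sqrt_iff j h2 hq hν hs.symm
  have hcond : (¬ IsSquare s ∧ Odd (n + 1)) ↔ (Odd (n + 1) ∧ Fintype.card F₀ % 4 = 1) := by
    rw [hiff]; constructor
    · rintro ⟨a, b⟩; exact ⟨b, by omega⟩
    · rintro ⟨a, b⟩; exact ⟨by omega, a⟩
  rw [hA, hB, hX] at hcount
  by_cases h : Odd (n + 1) ∧ Fintype.card F₀ % 4 = 1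
  · rw [if_pos (hcond.2 h), orderOf_one, mul_one] at hcount
    rw [if_pos h, hcount]
  · rw [if_neg (fun h' => h (hcond.1 h')), order_two_of_ne hzz hz1] at hcount
    rw [if_neg h]
    omega

end Cfsg.Agent.AutPOmega
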