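import Cfsg.Agent.Lib.AutPOmega.PlusCount
import Cfsg.Agent.Lib.AutPOmega.PlusGraphField

/-!
# Coordinatewise field automorphisms of the hyperbolic groups: centralisers and classes
-/

set_option autoImplicit false
set_option linter.unusedSectionVars false
set_option maxHeartbeats 2000000

namespace Cfsg.Agent.AutPOmega

open Cfsg.Agent Cfsg.Agent.TransvMax Cfsg.Agent.QMax
open scoped Matrix

/-- In an extension of odd degree a rational non-square stays one. -/
theorem rational_square_odd {F : Type*} [Field F] {F₀ : Type*} [Field F₀] (j : F₀ →+* F) (σ : F ≃+* F)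
    (hj : ∀ a, σ a = a ↔ a ∈ j.range) (hodd : Odd (orderOf σ)) {c : F₀} (h : IsSquare (j c)) : IsSquare c := by
  obtain ⟨x, hx⟩ := h
  have h1 : σ x * σ x = x * x := by rw [← map_mul, ← hx]; exact (hj _).2 ⟨c, rfl⟩
  have h3 : σ x = x := by
    rcases mul_self_eq_mul_self_iff.1 h1 with h | h
    · exact h
    · have hit : ∀ n : ℕ, (σ ^ n) x = (-1) ^ n * x := by
        intro n
        induction n with
        | zero => simp
        | succ n ih =>
          rw [pow_succ' σ]
          show σ ((σ ^ n) x) = _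
          rw [ih, map_mul, map_pow, map_neg, map_one, h, pow_succ]; ring
      have h4 := hit (orderOf σ)
      rw [pow_orderOf_eq_one, hodd.neg_one_pow] at h4
      rw [h]
      exact (show x = -x by simpa using h4).symm
  obtain ⟨y, hy⟩ := (hj x).1 h3
  exact ⟨y, j.injective (by rw [map_mul, hy, hx])⟩

variable {F : Type*} [Field F] [Fintype F] {m : ℕ} (S : QSetting (OrthOrder.qPlus m F))
  {F₀ : Type*} [Field F₀] [Fintype F₀] (j : F₀ →+* F) {σ : F ≃+* F} (hj : ∀ a, σ a = a ↔ a ∈ j.range)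
  {π : SemiT (OrthOrder.qPlus m F) →* ℤˣ}
  (hdk : ∀ h, π (ofSim (incl h)) = OrthRows.dk S.nondeg (hexc S) h) (hD : ∀ c, π (ofSim (plusD c)) = 1)
  (S₀ : QSetting (OrthOrder.qPlus m F₀))
  {π₀ : SemiT (OrthOrder.qPlus m F₀) →* ℤˣ}
  (hdk₀ : ∀ h, π₀ (ofSim (incl h)) = OrthRows.dk S₀.nondeg (hexc S₀) h) (hD₀ : ∀ c, π₀ (ofSim (plusD c)) = 1)

include S hj hdk hD S₀ hdk₀ hD₀

/-- Centraliser and class count of a coordinatewise field automorphism. -/
theorem field_data_plus (hm : 4 ≤ m) {r : ℕ} (hr : r.Prime) (hσ : orderOf σ = r)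
    (hq : Fintype.card F = Fintype.card F₀ ^ r) :
    Nonempty (↥((π.comp ofSim).ker.map (simAut (Q := OrthOrder.qPlus m F)) ⊓ Subgroup.centralizer {theta (fldP σ)}) ≃*
        ↥((π₀.comp ofSim).ker.map (simAut (Q := OrthOrder.qPlus m F₀)))) ∧
      ((Odd r ∨ (2 : F) = 0) → Cfsg.splitClassCount ((π.comp ofSim).ker.map (simAut (Q := OrthOrder.qPlus m F)))
        (Cfsg.Inn (Cfsg.POmega F ⇑(OrthOrder.qPlus m F))) (theta (fldP σ)) = 1) ∧
      (r = 2 → (2 : F) ≠ 0 → (Odd m ∧ Fintype.card F₀ % 4 = 1) →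
        Cfsg.splitClassCount ((π.comp ofSim).ker.map (simAut (Q := OrthOrder.qPlus m F)))
          (Cfsg.Inn (Cfsg.POmega F ⇑(OrthOrder.qPlus m F))) (theta (fldP σ)) = 2) ∧
      (r = 2 → (2 : F) ≠ 0 → ¬ (Odd m ∧ Fintype.card F₀ % 4 = 1) →
        Cfsg.splitClassCount ((π.comp ofSim).ker.map (simAut (Q := OrthOrder.qPlus m F)))
          (Cfsg.Inn (Cfsg.POmega F ⇑(OrthOrder.qPlus m F))) (theta (fldP σ)) = 4) := by
  classical
  set χ := π.comp ofSim with hχdef
  set χ₀ := π₀.comp ofSim with hχ₀def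
  have hsc : ∀ c, χ (scalSim c) = 1 := fun c => parity_scal S hdk hD c
  have hsc₀ : ∀ c, χ₀ (scalSim c) = 1 := fun c => parity_scal S₀ hdk₀ hD₀ c
  obtain ⟨P, hPH, hPb⟩ : ∃ P : Frame j σ (fldP σ : SemiT (OrthOrder.qPlus m F)) (OrthOrder.qPlus m F₀),
      P.H = 1 ∧ P.bb = 1 :=
    ⟨⟨1, 1, fun x => by rw [Units.val_one, Matrix.one_mulVec, Matrix.one_mulVec]; rfl, fun u => by
      rw [Units.val_one, Units.val_one, Matrix.one_mulVec, one_mul, OrthOrder.qPlus_apply, OrthOrder.qPlus_apply]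
      simp [Cfsg.quadFormPlus, map_sum]⟩, rfl, rfl⟩
  have hcj : ∀ g, χ (frameJ j P g) = χ₀ g :=
    chi_frame S j S₀ P (n := m) (fun h2 g => parity_eps S hdk hD h2 g) hdk hsc
      (fun h2 g => parity_eps S₀ hdk₀ hD₀ h2 g) hdk₀ hsc₀
  have hr0 : 0 < orderOf σ := by rw [hσ]; exact hr.pos
  have hcount := splitCount_frame S j S₀ hj P (χ := χ) hcj hsc hr0 (fun t => (hdk t.1).trans (dk_omega_one S t))
  refine ⟨centralizer_equiv_frame S j S₀ hj P (χ := χ) hcj hsc hr0, ?_⟩
  set c := Cfsg.splitClassCount (χ.ker.map (simAut (Q := OrthOrder.qPlus m F)))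
    (Cfsg.Inn (Cfsg.POmega F ⇑(OrthOrder.qPlus m F))) (theta (fldP σ))
  set A := χ.ker.map (outS (Q := OrthOrder.qPlus m F))
  set B := χ₀.ker.map ((outS (Q := OrthOrder.qPlus m F)).comp (frameJ j P)) with hB
  have hpd : ∀ ν : F₀ˣ, frameJ j P (plusD ν) = plusD (Units.map j.toMonoidHom ν) := fun ν => by
    refine Subtype.ext (glPerm_injective (Equiv.ext fun y => ?_))
    rw [glPerm_apply, glPerm_apply, frameJ_val, hPH, inv_one, one_mul, mul_one]
    funext i
    rw [plusD_mulVec]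
    show (((Matrix.diagonal (Sum.elim (fun _ => (ν : F₀)) fun _ => 1)).map j) *ᵥ y) i = _
    rw [Matrix.diagonal_map (map_zero j), Matrix.mulVec_diagonal]
    cases i <;> simp
  by_cases h2 : (2 : F) = 0
  · have hA : A = ⊥ := by
      rw [Subgroup.eq_bot_iff_forall]
      rintro _ ⟨g, hg, rfl⟩
      exact outS_sq_two S (χ := χ) hdk hsc h2 hg
    rw [hA, Subgroup.card_bot] at hcount
    exact ⟨fun _ => Nat.eq_one_of_mul_eq_one_right hcount, fun _ h => absurd h2 h, fun _ h => absurd h2 h⟩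
  have h20 : (2 : F₀) ≠ 0 := fun e => h2 (by rw [← map_ofNat j 2, e, map_zero])
  obtain ⟨ν, hν⟩ := FiniteField.exists_nonsquare (Spinor.ringChar_ne_two h20)
  have hν0 : ν ≠ 0 := fun e => hν (e ▸ IsSquare.zero)
  by_cases hodd : Odd r
  · refine ⟨fun _ => ?_, fun h => ?_, fun h => ?_⟩
    rotate_left
    · exact absurd hodd (by rw [h]; decide)
    · exact absurd hodd (by rw [h]; decide)
    have key : ∀ x : F₀, IsSquare (j x) → IsSquare x := fun x h => rational_square_odd j σ hj (hσ.symm ▸ hodd) h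
    obtain ⟨u, hu⟩ := OrthRows.exists_norm_all S₀.nondeg (by have := S₀.dim; omega) (one_ne_zero (α := F₀))
    obtain ⟨w, hw⟩ := OrthRows.exists_norm_all S₀.nondeg (by have := S₀.dim; omega) hν0
    have hu0 : OrthOrder.qPlus m F₀ u ≠ 0 := by rw [hu]; exact one_ne_zero
    have hw0 : OrthOrder.qPlus m F₀ w ≠ 0 := by rw [hw]; exact hν0
    have hju : OrthOrder.qPlus m F ((P.H).1 *ᵥ fun i => j (u i)) = 1 := by
      rw [P.quad_eq, hPb, hu, map_one, Units.val_one, mul_one]
    have hjw : OrthOrder.qPlus m F ((P.H).1 *ᵥ fun i => j (w i)) = j ν := by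
      rw [P.quad_eq, hPb, hw, Units.val_one, one_mul]
    have hju0 := hju.symm ▸ one_ne_zero (α := F)
    have hjw0 := hjw.symm ▸ (map_ne_zero j).2 hν0
    have hjν : ¬ IsSquare (j ν) := fun e => hν (key _ e)
    have hz : outI (OrthRows.rf (OrthOrder.qPlus m F) _ hju0) * outI (OrthRows.rf (OrthOrder.qPlus m F) _ hjw0) ∈ B := by
      refine ⟨incl (OrthRows.rf (OrthOrder.qPlus m F₀) u hu0 * OrthRows.rf (OrthOrder.qPlus m F₀) w hw0), ?_, ?_⟩
      · show π₀ (ofSim (incl _)) = 1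
        rw [hdk₀, map_mul, OrthRows.dk_rf, OrthRows.dk_rf]; rfl
      · show outS (frameJ j P (incl _)) = _
        rw [map_mul incl, map_mul, frameJ_rf j P hu0 hju0, frameJ_rf j P hw0 hjw0, map_mul]; rfl
    have hsq : ∀ g, χ g = 1 → IsSquare (simMul S g : F) → outS g ∈ B := fun g hg hm' => by
      rcases outS_sq_cases S (χ := χ) hdk hsc hju0 hjw0 (by rw [hju]; exact IsSquare.one)
        (by rw [hjw]; exact hjν) hg hm' with h | h
      · rw [h]; exact one_mem _
      · rw [h]; exact hz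
    have hAB : A = B := by
      refine le_antisymm ?_ ?_
      · rintro _ ⟨g, hg, rfl⟩
        by_cases hm' : IsSquare (simMul S g : F)
        · exact hsq g hg hm'
        have hX : outS (plusD (m := m) (Units.map j.toMonoidHom (Units.mk0 ν hν0))) ∈ B :=
          ⟨plusD (Units.mk0 ν hν0), hD₀ _, by show outS (frameJ j P _) = _; rw [hpd]⟩
        have h1 := hsq (g * (plusD (Units.map j.toMonoidHom (Units.mk0 ν hν0)))⁻¹) (by
          rw [map_mul, map_inv, show χ g = 1 from hg, show χ (plusD _) = 1 from hD _]; rfl) (by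
          rw [map_mul, map_inv, simMul_plusD S, Units.val_mul, Units.val_inv_eq_inv_val]
          refine (Spinor.isSquare_mul_iff' (Units.ne_zero _) (inv_ne_zero (Units.ne_zero _))).2 ?_
          rw [isSquare_inv]
          exact iff_of_false hm' hjν)
        have := B.mul_mem h1 hX
        rwa [map_mul, map_inv, inv_mul_cancel_right] at this
      · rintro _ ⟨g₀, hg₀, rfl⟩
        exact ⟨frameJ j P g₀, (hcj _).trans hg₀, rfl⟩
    rw [hAB] at hcount
    exact (Nat.mul_eq_right Nat.card_pos.ne').1 hcount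
  obtain rfl : r = 2 := hr.eq_two_or_odd'.resolve_right hodd
  refine ⟨fun h => absurd (h.resolve_right h2) hodd, ?_⟩
  have hq0 : Fintype.card F₀ % 2 = 1 := FiniteField.odd_card_of_char_ne_two (Spinor.ringChar_ne_two h20)
  have hq4 : Fintype.card F % 4 = 1 := by
    rw [hq, Nat.pow_mod]
    rcases (show Fintype.card F₀ % 4 = 1 ∨ Fintype.card F₀ % 4 = 3 by omega) with h | h <;> rw [h]
  obtain ⟨z, hz1, hzz, -, hA, hDs⟩ := plus_classes S hdk hD hm h2 hq4
  obtain ⟨hBc, -⟩ := rational_classes_sq S (χ := χ) hdk hsc j S₀ P (χ₀ := χ₀) hdk₀ hsc₀ h2 hq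
    (G₀ := plusD (Units.mk0 ν hν0)) (hD₀ _) (by rw [simMul_plusD S₀]; exact hν)
  obtain ⟨s, hs⟩ := isSquare_of_rational j h2 hq ν
  have hs0 : s ≠ 0 := fun e => hν0 (j.injective (by rw [hs, e, mul_zero, map_zero]))
  have hiff : IsSquare s ↔ Fintype.card F₀ % 4 = 3 := isSquare_sqrt_iff j h2 hq hν hs.symm
  have hX : outS (frameJ j P (plusD (Units.mk0 ν hν0))) =
      if IsSquare s then 1 else z ^ m := by
    rw [hpd, show Units.map j.toMonoidHom (Units.mk0 ν hν0) = Units.mk0 s hs0 * Units.mk0 s hs0 from Units.ext hs,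
      plusD_mul, map_mul]
    split_ifs with h
    · exact (hDs _).1 h
    · exact (hDs _).2 h
  rw [hA, hBc, hX] at hcount
  refine ⟨fun _ _ h => ?_, fun _ _ h => ?_⟩
  · obtain ⟨ho, h1⟩ := h
    have hzo : ∀ k : ℕ, Odd k → z ^ k = z := by
      rintro k ⟨i, rfl⟩
      rw [pow_succ, pow_mul, sq z, hzz, one_pow, one_mul]
    rw [if_neg (fun e => by rw [hiff] at e; omega), hzo m ho, order_two_of_ne hzz hz1] at hcount
    omega
  · have hze : ∀ k : ℕ, ¬ Odd k → z ^ k = 1 := by
      intro k hk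
      obtain ⟨i, rfl⟩ := Nat.not_odd_iff_even.1 hk
      rw [← two_mul, pow_mul, sq z, hzz, one_pow]
    have hone : (if IsSquare s then 1 else z ^ m) = 1 := by
      split_ifs with hsq
      · rfl
      · rw [hiff] at hsq
        exact hze m fun ho => h ⟨ho, by omega⟩
    rw [hone, orderOf_one, mul_one] at hcount
    exact hcount

end Cfsg.Agent.AutPOmega
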