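import Cfsg.Agent.Lib.AutPOmega.Frames

/-!
# Similarities after reindexing the coordinates
-/

set_option autoImplicit false
set_option linter.unusedSectionVars false
set_option maxHeartbeats 2000000

namespace Cfsg.Agent.AutPOmega

open Cfsg.Agent Cfsg.Agent.TransvMax Cfsg.Agent.QMax
open scoped Matrix

variable {ι κ : Type} [Fintype ι] [DecidableEq ι] [Fintype κ] [DecidableEq κ] {F : Type*} [Field F] [Fintype F]
  (e : κ ≃ ι) {R : QuadraticForm F (ι → F)} {Rm : QuadraticForm F (κ → F)}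
  (hR : ∀ v : ι → F, R v = Rm fun i => v (e i))

theorem reindex_mulVec (A : Matrix ι ι F) (v : ι → F) (i : κ) :
    (A.submatrix e e *ᵥ fun l => v (e l)) i = (A *ᵥ v) (e i) := by
  simp only [Matrix.mulVec, dotProduct, Matrix.submatrix_apply]
  exact e.sum_comp fun l => A (e i) l * v l

include hR

/-- Transport of similarities along a bijection of the coordinates. -/
noncomputable def simRe :
    Cfsg.Geo.quadSimilarityGroup (F := F) ⇑R ≃* Cfsg.Geo.quadSimilarityGroup (F := F) ⇑Rm where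
  toFun g := ⟨Units.mapEquiv (Matrix.reindexAlgEquiv F F e.symm).toMulEquiv g.1, g.2.choose, fun y => by
    obtain ⟨v, rfl⟩ : ∃ v : ι → F, (fun l => v (e l)) = y := ⟨fun i => y (e.symm i), funext fun l => by simp⟩
    rw [show ((Units.mapEquiv (Matrix.reindexAlgEquiv F F e.symm).toMulEquiv g.1 : GL κ F).1 *ᵥ fun l => v (e l)) =
      fun l => ((g.1.1 *ᵥ v) (e l)) from funext fun i => reindex_mulVec e g.1.1 v i, ← hR, ← hR]
    exact g.2.choose_spec v⟩
  invFun g := ⟨Units.mapEquiv (Matrix.reindexAlgEquiv F F e).toMulEquiv g.1, g.2.choose, fun v => by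
    rw [hR, hR, show (fun l => ((Units.mapEquiv (Matrix.reindexAlgEquiv F F e).toMulEquiv g.1 : GL ι F).1 *ᵥ v) (e l)) =
      g.1.1 *ᵥ fun l => v (e l) from funext fun i => by
        rw [← reindex_mulVec e]
        refine congrFun (congrArg (fun M : Matrix κ κ F => M *ᵥ fun l => v (e l)) (Matrix.ext fun a b => ?_)) i
        show g.1.1 (e.symm (e a)) (e.symm (e b)) = _
        rw [e.symm_apply_apply, e.symm_apply_apply]]
    exact g.2.choose_spec _⟩
  left_inv g := Subtype.ext (Units.ext (Matrix.ext fun a b => by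
    show g.1.1 (e (e.symm a)) (e (e.symm b)) = _
    rw [e.apply_symm_apply, e.apply_symm_apply]))
  right_inv g := Subtype.ext (Units.ext (Matrix.ext fun a b => by
    show g.1.1 (e.symm (e a)) (e.symm (e b)) = _
    rw [e.symm_apply_apply, e.symm_apply_apply]))
  map_mul' g h := Subtype.ext (map_mul _ g.1 h.1)

theorem simRe_apply (g : Cfsg.Geo.quadSimilarityGroup (F := F) ⇑R) (v : ι → F) (i : κ) :
    ((simRe e hR g).1.1 *ᵥ fun l => v (e l)) i = (g.1.1 *ᵥ v) (e i) :=
  reindex_mulVec e g.1.1 v i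

theorem simRe_rf {v : ι → F} (hv : R v ≠ 0) (hv' : Rm (fun l => v (e l)) ≠ 0) :
    simRe e hR (incl (OrthRows.rf R v hv)) = incl (OrthRows.rf Rm (fun l => v (e l)) hv') := by
  refine ofSim_injective (Subtype.ext (Equiv.ext fun y => ?_))
  obtain ⟨x, rfl⟩ : ∃ x : ι → F, (fun l => x (e l)) = y := ⟨fun i => y (e.symm i), funext fun l => by simp⟩
  funext i
  refine (simRe_apply e hR _ x i).trans ?_
  show ((OrthRows.rf R v hv).1.1 *ᵥ x) (e i) =
    ((OrthRows.rf Rm (fun l => v (e l)) hv').1.1 *ᵥ fun l => x (e l)) i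
  rw [rf_mulVec, rf_mulVec]
  simp [QuadraticMap.polar, hR, Pi.add_def]

theorem simRe_scal (c : Fˣ) : simRe e hR (scalSim c) = scalSim c := by
  refine Subtype.ext (Units.ext (Matrix.ext fun a b => ?_))
  show ((scalSim (Q := R) c).1 : GL ι F).1 (e a) (e b) = _
  simp [scalSim, Matrix.GeneralLinearGroup.scalar, Matrix.diagonal_apply]

variable (S : QSetting R) (Sm : QSetting Rm)

include S Sm

theorem simMul_simRe (g : Cfsg.Geo.quadSimilarityGroup (F := F) ⇑R) :
    simMul Sm (simRe e hR g) = simMul S g :=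
  Units.ext (simMul_eq Sm fun y => by
    obtain ⟨v, rfl⟩ : ∃ v : ι → F, (fun l => v (e l)) = y := ⟨fun i => y (e.symm i), funext fun l => by simp⟩
    rw [show ((simRe e hR g).1.1 *ᵥ fun l => v (e l)) = fun l => ((g.1.1 *ᵥ v) (e l)) from
      funext fun i => simRe_apply e hR g v i, ← hR, ← hR]
    exact simMul_spec S g v)

theorem dk_simRe (χ : Cfsg.Geo.quadSimilarityGroup (F := F) ⇑Rm →* ℤˣ)
    (hχ : ∀ h, χ (incl h) = OrthRows.dk Sm.nondeg (hexc Sm) h) (h : Cfsg.isometryGroup F ⇑R) :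
    χ (simRe e hR (incl h)) = OrthRows.dk S.nondeg (hexc S) h := by
  refine DFunLike.congr_fun (MonoidHom.eq_of_eqOn_dense (OrthRows.closure_rf S.nondeg (hexc S))
    (f := χ.comp ((simRe e hR).toMonoidHom.comp incl)) (g := OrthRows.dk S.nondeg (hexc S)) ?_) h
  rintro x ⟨v, hv, hx⟩
  rw [OrthRows.eq_rf hv hx]
  show χ (simRe e hR (incl (OrthRows.rf R v hv))) = _
  rw [simRe_rf e hR hv (by rw [← hR]; exact hv), hχ, OrthRows.dk_rf, OrthRows.dk_rf]

theorem epsS_simRe (n : ℕ) (g : Cfsg.Geo.quadSimilarityGroup (F := F) ⇑R) :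
    epsS Sm n (simRe e hR g) = epsS S n g := by
  rw [epsS_apply, epsS_apply, simMul_simRe e hR S Sm]
  congr 1
  refine Units.ext ?_
  rw [Matrix.GeneralLinearGroup.val_det_apply, Matrix.GeneralLinearGroup.val_det_apply]
  exact Matrix.det_submatrix_equiv_self e _

/-- Transport of the groups of automorphisms cut out by compatible characters. -/
theorem ker_map_equiv (χ : Cfsg.Geo.quadSimilarityGroup (F := F) ⇑Rm →* ℤˣ) :
    Nonempty (↥((χ.comp (simRe e hR).toMonoidHom).ker.map (simAut (Q := R))) ≃* ↥(χ.ker.map (simAut (Q := Rm)))) := by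
  set χ' := χ.comp (simRe e hR).toMonoidHom
  let Ψ : χ'.ker →* ↥(χ'.ker.map (simAut (Q := R))) :=
    ((simAut (Q := R)).comp χ'.ker.subtype).codRestrict _ fun g => ⟨g, g.2, rfl⟩
  let Φ : χ'.ker →* ↥(χ.ker.map (simAut (Q := Rm))) :=
    ((simAut (Q := Rm)).comp ((simRe e hR).toMonoidHom.comp χ'.ker.subtype)).codRestrict _ fun g =>
      ⟨simRe e hR g.1, g.2, rfl⟩
  have hΨ : Function.Surjective Ψ := by
    rintro ⟨_, g, hg, rfl⟩
    exact ⟨⟨g, hg⟩, rfl⟩
  have hΦ : Function.Surjective Φ := by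
    rintro ⟨_, g, hg, rfl⟩
    refine ⟨⟨(simRe e hR).symm g, ?_⟩, Subtype.ext ?_⟩
    · show χ (simRe e hR _) = 1
      rw [MulEquiv.apply_symm_apply]; exact hg
    · exact congrArg simAut (MulEquiv.apply_symm_apply (simRe e hR) g)
  refine ⟨((QuotientGroup.quotientKerEquivOfSurjective Ψ hΨ).symm.trans
    ((QuotientGroup.quotientMulEquivOfEq ?_).trans (QuotientGroup.quotientKerEquivOfSurjective Φ hΦ)))⟩
  ext g
  rw [MonoidHom.mem_ker, MonoidHom.mem_ker, Subtype.ext_iff, Subtype.ext_iff]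
  show simAut g.1 = 1 ↔ simAut (simRe e hR g.1) = 1
  rw [simAut_eq_one_iff S, simAut_eq_one_iff Sm]
  constructor
  · rintro ⟨c, hc⟩
    exact ⟨c, by rw [← hc, simRe_scal]⟩
  · rintro ⟨c, hc⟩
    exact ⟨c, (simRe e hR).injective (by rw [simRe_scal, hc])⟩

end Cfsg.Agent.AutPOmega
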