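import Cfsg.Agent.Lib.AutPOmega.PlusCount
import Cfsg.Agent.Lib.AutPOmega.Reindex

/-!
# The standard involutory graph-field automorphism and its frame
-/

set_option autoImplicit false
set_option linter.unusedSectionVars false
set_option maxHeartbeats 2000000

namespace Cfsg.Agent.AutPOmega

open Cfsg.Agent Cfsg.Agent.TransvMax Cfsg.Agent.QMax
open scoped Matrix

/-- The last hyperbolic pair carries the binary part. -/
noncomputable def swapCoords (n : ℕ) : ((Fin n ⊕ Fin n) ⊕ Fin 2) ≃ Fin (n + 1) ⊕ Fin (n + 1) :=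
  Equiv.ofBijective
    (Sum.elim (Sum.elim (fun i => Sum.inl i.castSucc) fun i => Sum.inr i.castSucc)
      ![Sum.inl (Fin.last n), Sum.inr (Fin.last n)])
    ((Fintype.bijective_iff_injective_and_card _).2 ⟨by
      rintro ((i | i) | i) ((j | j) | j) h <;> first
        | (fin_cases i <;> fin_cases j <;> simp_all [Fin.castSucc_ne_last, fun (a : Fin n) => Ne.symm (Fin.castSucc_ne_last a)])
        | (fin_cases i <;> simp_all [Fin.castSucc_ne_last, fun (a : Fin n) => Ne.symm (Fin.castSucc_ne_last a)])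
        | (fin_cases j <;> simp_all [Fin.castSucc_ne_last, fun (a : Fin n) => Ne.symm (Fin.castSucc_ne_last a)])
        | simp_all,
      by simp [Fintype.card_sum]; omega⟩)

variable {F : Type*} [Field F] [Fintype F] {n : ℕ} (S : QSetting (OrthOrder.qPlus (n + 1) F))
  {F₀ : Type*} [Field F₀] [Fintype F₀] (j : F₀ →+* F) {σ : F ≃+* F} (hj : ∀ a, σ a = a ↔ a ∈ j.range)

include S hj

/-- The swap of the last pair composed with the involution of the field, in a minus frame. -/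
theorem exists_swap_frame (hσ : orderOf σ = 2) (hn : 3 ≤ n) (a₀ b₀ : F₀)
    (hab₀ : ∀ z₁ z₂ : F₀, z₁ ^ 2 + a₀ * z₁ * z₂ + b₀ * z₂ ^ 2 = 0 → z₁ = 0 ∧ z₂ = 0)
    {R : QuadraticForm F₀ (Fin (n + 1) ⊕ Fin (n + 1) → F₀)}
    (hR : ∀ v, R v = Cfsg.quadFormMinus n F₀ a₀ b₀ fun i => v (swapCoords n i)) :
    ∃ (v : Fin (n + 1) ⊕ Fin (n + 1) → F) (hv : (OrthOrder.qPlus (n + 1) F) v ≠ 0)
      (P : Frame j σ (ofSim (incl (OrthRows.rf (OrthOrder.qPlus (n + 1) F) v hv)) * fldP σ) R),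
      (fun i => σ (v i)) = v ∧
      ∀ (ν : F₀ˣ), ¬ IsSquare (ν : F₀) → ∃ (G₀ : Cfsg.Geo.quadSimilarityGroup (F := F₀) ⇑R)
        (u w : Fin (n + 1) ⊕ Fin (n + 1) → F) (hu : (OrthOrder.qPlus (n + 1) F) u ≠ 0)
        (hw : (OrthOrder.qPlus (n + 1) F) w ≠ 0) (c : F), ¬ IsSquare c ∧
        (OrthOrder.qPlus (n + 1) F) u = -c ∧ (OrthOrder.qPlus (n + 1) F) w = -1 ∧
        (∀ y : Fin (n + 1) ⊕ Fin (n + 1) → F₀, R (G₀.1.1 *ᵥ y) = (ν : F₀) * R y) ∧
        frameJ j P G₀ = plusD (Units.map j.toMonoidHom ν) *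
          incl (OrthRows.rf (OrthOrder.qPlus (n + 1) F) u hu * OrthRows.rf (OrthOrder.qPlus (n + 1) F) w hw) := by
  classical
  haveI := fact_of_aniso hab₀
  -- a root
  letI : Algebra F₀ F := j.toAlgebra
  have hinv : ∀ t, σ (σ t) = t := fun t => by
    have h : σ ^ 2 = 1 := by rw [← hσ, pow_orderOf_eq_one]
    rw [sq] at h
    exact DFunLike.congr_fun h t
  have hd : Module.finrank F₀ F = 2 := by
    have h1 := AutPSL.card_eq_card_fixed_pow σ
    have h3 : Nat.card ((σ : F →+* F).eqLocusField (RingHom.id F)) = Nat.card F₀ := by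
      refine (Nat.card_congr (Equiv.ofBijective (fun x : F₀ => (⟨j x, (hj _).2 ⟨x, rfl⟩⟩ :
        (σ : F →+* F).eqLocusField (RingHom.id F))) ⟨fun x y h => j.injective (congrArg Subtype.val h),
        fun ⟨y, hy⟩ => ?_⟩)).symm
      obtain ⟨x, hx⟩ := (hj y).1 hy
      exact ⟨x, Subtype.ext hx⟩
    rw [hσ, h3, Module.natCard_eq_pow_finrank (K := F₀) (V := F)] at h1
    exact Nat.pow_right_injective (Finite.one_lt_card (α := F₀)) h1
  obtain ⟨ρ⟩ := FiniteField.nonempty_algHom_of_finrank_dvd (F := F₀) (K := QuadraticAlgebra F₀ (-b₀) a₀) (L := F)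
    (by rw [hd, show Module.finrank F₀ (QuadraticAlgebra F₀ (-b₀) a₀) = 2 from QuadraticAlgebra.finrank_eq_two _ _])
  set w : F := ρ QuadraticAlgebra.omega
  have hw2 : w * w = -j b₀ + j a₀ * w := by
    rw [← map_mul, QuadraticAlgebra.omega_mul_omega_eq_add, map_add, map_smul, map_smul, map_one,
      Algebra.smul_def, Algebra.smul_def, mul_one, map_neg]
    rfl
  have hwne : σ w ≠ w := fun e => by
    obtain ⟨s, hs⟩ := (hj w).1 e
    have h0 : (-s) ^ 2 + a₀ * (-s) * 1 + b₀ * 1 ^ 2 = 0 := j.injective (by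
      simp only [map_add, map_mul, map_pow, map_neg, map_one, map_zero, hs]
      linear_combination hw2)
    exact one_ne_zero (hab₀ _ _ h0).2
  have hfixj : ∀ x, σ (j x) = j x := fun x => (hj _).2 ⟨x, rfl⟩
  have hw' : σ w = j a₀ - w := by
    have h2 := congrArg σ hw2
    rw [map_mul, map_add, map_mul, map_neg, hfixj, hfixj] at h2
    have h3 : (σ w - w) * (σ w + w - j a₀) = 0 := by linear_combination h2 - hw2
    linear_combination (mul_eq_zero.1 h3).resolve_left (sub_ne_zero.2 hwne)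
  -- the change of coordinates
  set l := Fin.last n
  let Lf : (Fin (n + 1) ⊕ Fin (n + 1) → F) →ₗ[F] (Fin (n + 1) ⊕ Fin (n + 1) → F) :=
    { toFun := fun y => Sum.elim (fun i => if i = l then y (.inl l) + w * y (.inr l) else y (.inl i))
        fun i => if i = l then y (.inl l) + σ w * y (.inr l) else y (.inr i)
      map_add' := fun y z => by funext i; rcases i with i | i <;> by_cases h : i = l <;> simp [h] <;> ring
      map_smul' := fun t y => by funext i; rcases i with i | i <;> by_cases h : i = l <;> simp [h] <;> ring }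
  have hLi : Function.Injective Lf := by
    refine (injective_iff_map_eq_zero Lf).2 fun y hy => ?_
    have h1 : y (.inl l) + w * y (.inr l) = 0 := by simpa [Lf] using congrFun hy (.inl l)
    have h2 : y (.inl l) + σ w * y (.inr l) = 0 := by simpa [Lf] using congrFun hy (.inr l)
    have h3 : y (.inr l) = 0 :=
      (mul_eq_zero.1 (show (σ w - w) * y (.inr l) = 0 by linear_combination h2 - h1)).resolve_left
        (sub_ne_zero.2 hwne)
    funext i
    rcases i with i | i <;> by_cases h : i = l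
    · subst h
      simpa [h3] using h1
    · simpa [Lf, h] using congrFun hy (.inl i)
    · subst h
      exact h3
    · simpa [Lf, h] using congrFun hy (.inr i)
  let H : GL (Fin (n + 1) ⊕ Fin (n + 1)) F := Matrix.GeneralLinearGroup.toLin.symm
    (LinearMap.GeneralLinearGroup.ofLinearEquiv (LinearEquiv.ofInjectiveEndo Lf hLi))
  have hH : ∀ y, H.1 *ᵥ y = Lf y := fun y => LinearMap.toMatrix'_mulVec _ _
  -- the reflection
  let v : Fin (n + 1) ⊕ Fin (n + 1) → F := Pi.single (.inl l) 1 - Pi.single (.inr l) 1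
  have hQv : (OrthOrder.qPlus (n + 1) F) v = -1 := by
    rw [OrthOrder.qPlus_apply]; simp [v, Cfsg.quadFormPlus, Pi.single_apply]
  have hv : (OrthOrder.qPlus (n + 1) F) v ≠ 0 := by rw [hQv]; simp
  have hvfix : (fun i => σ (v i)) = v := by funext i; simp [v, Pi.single_apply, apply_ite σ]
  have hswap : ∀ y, (OrthRows.rf (OrthOrder.qPlus (n + 1) F) v hv).1.1 *ᵥ y =
      y + (y (.inr l) - y (.inl l)) • v := fun y => by
    rw [rf_mulVec, hQv, Spinor.polar_qPlus,
      show (∑ i, (y (.inl i) * v (.inr i) + v (.inl i) * y (.inr i))) = y (.inr l) - y (.inl l) by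
        simp [v, Pi.single_apply, Finset.sum_add_distrib]; ring,
      inv_neg, inv_one, neg_mul, one_mul, neg_smul, sub_neg_eq_add]
  have hT : ∀ x, (ofSim (incl (OrthRows.rf (OrthOrder.qPlus (n + 1) F) v hv)) * fldP σ).1 (H.1 *ᵥ x) =
      H.1 *ᵥ fun i => σ (x i) := fun x => by
    show (OrthRows.rf (OrthOrder.qPlus (n + 1) F) v hv).1.1 *ᵥ (fun i => σ ((H.1 *ᵥ x) i)) = _
    rw [hswap, hH, hH]
    funext i
    rcases i with i | i <;> by_cases h : i = l
    · subst h
      simp [Lf, v, Pi.single_apply, hinv]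
    · simp [Lf, v, Pi.single_apply, h]
    · subst h
      simp [Lf, v, Pi.single_apply, hinv]
    · simp [Lf, v, Pi.single_apply, h]
  have hQH : ∀ y : Fin (n + 1) ⊕ Fin (n + 1) → F₀,
      (OrthOrder.qPlus (n + 1) F) (H.1 *ᵥ fun i => j (y i)) = ((1 : Fˣ) : F) * j (R y) := fun y => by
    rw [hH, Units.val_one, one_mul, hR, OrthOrder.qPlus_apply, Cfsg.quadFormPlus, Cfsg.quadFormMinus,
      Fin.sum_univ_castSucc]
    simp [Lf, swapCoords, map_sum, l, Fin.castSucc_ne_last]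
    rw [hw']
    linear_combination -(j (y (.inr (Fin.last n))) * j (y (.inr (Fin.last n)))) * hw2
  let P : Frame j σ (ofSim (incl (OrthRows.rf (OrthOrder.qPlus (n + 1) F) v hv)) * fldP σ) R := ⟨H, 1, hT, hQH⟩
  refine ⟨v, hv, P, hvfix, fun ν hν => ?_⟩
  obtain ⟨Rm, hRm, SRm⟩ := exists_minus_setting (k := n) hn a₀ b₀ hab₀
  have hRR : ∀ y : Fin (n + 1) ⊕ Fin (n + 1) → F₀, R y = Rm fun i => y (swapCoords n i) := fun y => by rw [hR, hRm]
  obtain ⟨nu, hnu⟩ := OrthRows.exists_norm_all (S0288.binForm_nondeg a₀ b₀ hab₀) (by simp) ν.ne_zero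
  rw [S0288.binForm_apply] at hnu
  let Gm := minusD hRm (nu 0) (nu 1) (by rw [hnu]; exact ν.ne_zero)
  let G₀ := (simRe (swapCoords n) hRR).symm Gm
  have hG : ∀ y i, (G₀.1.1 *ᵥ y) (swapCoords n i) = (minusMat a₀ b₀ (nu 0) (nu 1) *ᵥ fun k => y (swapCoords n k)) i :=
    fun y i => by
      rw [← simRe_apply (swapCoords n) hRR, MulEquiv.apply_symm_apply]
      rfl
  have hGq : ∀ y, R (G₀.1.1 *ᵥ y) = (ν : F₀) * R y := fun y => by
    rw [hR, hR, show (fun i => (G₀.1.1 *ᵥ y) (swapCoords n i)) = _ from funext (hG y), minusMat_quad, hnu]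
  set z : F := j (nu 0) + j (nu 1) * w with hz
  have hzz : z * σ z = j (ν : F₀) := by
    rw [hz, map_add, map_mul, hfixj, hfixj, hw', ← hnu, map_add, map_add, map_mul, map_mul, map_mul, map_pow, map_pow]
    linear_combination -(j (nu 1) * j (nu 1)) * hw2
  have hjν : j (ν : F₀) ≠ 0 := (map_ne_zero j).2 ν.ne_zero
  have hz0 : z ≠ 0 := fun e => hjν (by rw [← hzz, e, zero_mul])
  set c : F := z / j (ν : F₀) with hc
  have hc0 : c ≠ 0 := div_ne_zero hz0 hjν
  have hcns : ¬ IsSquare c := by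
    rintro ⟨t, ht⟩
    obtain ⟨s, hs⟩ := (hj (t * σ t)).1 (by rw [map_mul, hinv, mul_comm])
    have ht' : z = j (ν : F₀) * (t * t) := by rw [← ht, hc, mul_div_cancel₀ _ hjν]
    have h2' : σ z = j (ν : F₀) * (σ t * σ t) := by rw [ht', map_mul, hfixj, map_mul]
    have h1 : (t * σ t) * (t * σ t) * j (ν : F₀) = 1 := mul_left_cancel₀ hjν (by
      have h3 := hzz
      rw [h2', ht'] at h3
      linear_combination h3)
    refine hν ⟨1 / s, j.injective ?_⟩
    have hs0 : j s ≠ 0 := fun e => one_ne_zero (α := F) (by rw [← h1, ← hs, e]; ring)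
    rw [← hs] at h1
    rw [map_mul, map_div₀, map_one]
    field_simp
    linear_combination h1
  let e : Fin (n + 1) ⊕ Fin (n + 1) → F := Pi.single (.inl l) 1
  let f : Fin (n + 1) ⊕ Fin (n + 1) → F := Pi.single (.inr l) 1
  have hB : ∀ x y, pB (OrthOrder.qPlus (n + 1) F) x y =
      ∑ i, (x (.inl i) * y (.inr i) + y (.inl i) * x (.inr i)) := fun x y => by
    rw [QuadraticMap.polarBilin_apply_apply, Spinor.polar_qPlus]
  obtain ⟨u, w₁, hu, hw₁, hQu, hQw, hp⟩ := pair_scale S (e := e) (f := f)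
    (by simp [e, OrthOrder.qPlus_apply, Cfsg.quadFormPlus])
    (by simp [f, OrthOrder.qPlus_apply, Cfsg.quadFormPlus])
    (by rw [hB]; simp [e, f, Pi.single_apply, Finset.sum_add_distrib]) hc0
  refine ⟨G₀, u, w₁, hu, hw₁, c, hcns, hQu, hQw, hGq, ofSim_injective (Subtype.ext (Equiv.ext fun y => ?_))⟩
  obtain ⟨x, rfl⟩ := (glPerm H).surjective y
  show (frameJ j P G₀).1.1 *ᵥ (H.1 *ᵥ x) = (plusD (Units.map j.toMonoidHom ν) * incl _).1.1 *ᵥ (H.1 *ᵥ x)
  rw [Matrix.mulVec_mulVec, Matrix.mulVec_mulVec]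
  congr 1
  refine Matrix.toLin'.injective ((Pi.basisFun F _).ext fun i => ?_)
  rw [Matrix.toLin'_apply, Matrix.toLin'_apply,
    show (Pi.basisFun F (Fin (n + 1) ⊕ Fin (n + 1)) i : _ → F) =
      fun t => j ((Pi.single i (1 : F₀) : Fin (n + 1) ⊕ Fin (n + 1) → F₀) t) by
      funext t; simp [Pi.single_apply, apply_ite j]]
  generalize (Pi.single i (1 : F₀) : Fin (n + 1) ⊕ Fin (n + 1) → F₀) = y₀
  rw [← Matrix.mulVec_mulVec, ← Matrix.mulVec_mulVec]
  refine (frameJ_apply j P G₀ y₀).trans ?_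
  show H.1 *ᵥ _ = ((plusD (m := n + 1) (Units.map j.toMonoidHom ν)).1.1 *
    (OrthRows.rf (OrthOrder.qPlus (n + 1) F) u hu * OrthRows.rf (OrthOrder.qPlus (n + 1) F) w₁ hw₁).1.1) *ᵥ (H.1 *ᵥ _)
  rw [← Matrix.mulVec_mulVec, hp, hH, hH]
  have hxf : pB (OrthOrder.qPlus (n + 1) F) (Lf fun t => j (y₀ t)) f = (Lf fun t => j (y₀ t)) (.inl l) := by
    rw [hB]; simp [f, Pi.single_apply]
  have hxe : pB (OrthOrder.qPlus (n + 1) F) (Lf fun t => j (y₀ t)) e = (Lf fun t => j (y₀ t)) (.inr l) := by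
    rw [hB]; simp [e, Pi.single_apply]
  rw [hxf, hxe]
  obtain ⟨m1, m2, m3, m4⟩ := minusMat_mulVec (k := n) (a := a₀) (b := b₀) (nu 0) (nu 1)
    (fun k => y₀ (swapCoords n k))
  have g1 : ∀ i : Fin n, (G₀.1.1 *ᵥ y₀) (.inl i.castSucc) = (ν : F₀) * y₀ (.inl i.castSucc) := fun i => by
    have := (hG y₀ (.inl (.inl i))).trans ((m1 i).trans (by rw [hnu]))
    simpa [swapCoords] using this
  have g2 : ∀ i : Fin n, (G₀.1.1 *ᵥ y₀) (.inr i.castSucc) = y₀ (.inr i.castSucc) := fun i => by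
    simpa [swapCoords] using (hG y₀ (.inl (.inr i))).trans (m2 i)
  have g3 : (G₀.1.1 *ᵥ y₀) (.inl l) = nu 0 * y₀ (.inl l) - b₀ * nu 1 * y₀ (.inr l) := by
    simpa [swapCoords] using (hG y₀ (.inr 0)).trans m3
  have g4 : (G₀.1.1 *ᵥ y₀) (.inr l) = nu 1 * y₀ (.inl l) + (nu 0 + a₀ * nu 1) * y₀ (.inr l) := by
    simpa [swapCoords] using (hG y₀ (.inr 1)).trans m4
  funext i
  rw [plusD_mulVec]
  rcases i with i | i <;> induction i using Fin.lastCases with
  | last =>
    simp [Lf, l, e, f, Pi.single_apply, g3, g4, hc]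
    field_simp
    first
      | (rw [hz]; linear_combination (-(j (nu 1) * j (y₀ (.inr (Fin.last n))))) * hw2)
      | (rw [← hzz, hw', hz, map_add, map_mul, hfixj, hfixj, hw']
         linear_combination (-(j (nu 0) * j (nu 1) * j (y₀ (.inr (Fin.last n))) +
           w * j (nu 1) * j (nu 1) * j (y₀ (.inr (Fin.last n))))) * hw2)
  | cast i =>
    simp [Lf, l, e, f, Pi.single_apply, Fin.castSucc_ne_last, g1, g2]

end Cfsg.Agent.AutPOmega
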