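import Cfsg.Agent.Lib.LinearGroups.OrthIndex
import Cfsg.Agent.Lib.TransvMax.QuadSingular
import Mathlib.GroupTheory.Sylow

/-!
# Root elements of orthogonal groups in dimension at least seven

A root element is `x ↦ x + B(x,a) b − B(x,b) a` for a totally singular line `⟨a, b⟩`.  Commutation
and products of root elements, and the behaviour of root elements in the quotient by the centre.
-/

set_option autoImplicit false
set_option linter.unusedSectionVars false

namespace Cfsg.Agent.AutPOmega

open scoped commutatorElement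
open Cfsg.Agent Cfsg.Agent.TransvMax Cfsg.Agent.QMax
open Cfsg.Agent.OrthSimple (Om sg)

variable {ι : Type} [Fintype ι] [DecidableEq ι] {F : Type*} [Field F] [Finite F]
  {Q : QuadraticForm F (ι → F)}

local notation "V" => ι → F
local notation "B" => pB Q
local notation "OmQ" => Om (Q := Q)
local notation "PO" => Om (Q := Q) ⧸ Subgroup.center (Om (Q := Q))
local notation "pr" => QuotientGroup.mk' (Subgroup.center (Om (Q := Q)))

/-- The alternating operator of two vectors. -/
noncomputable def om (Q : QuadraticForm F V) (a b : V) : V →ₗ[F] V :=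
  ((pB Q).flip a).smulRight b - ((pB Q).flip b).smulRight a

theorem om_apply (a b x : V) : om Q a b x = B x a • b - B x b • a := by simp [om]

theorem om_comb (a b : V) (α β γ δ : F) :
    om Q (α • a + β • b) (γ • a + δ • b) = (α * δ - β * γ) • om Q a b := by
  refine LinearMap.ext fun x => ?_
  simp only [LinearMap.smul_apply, om_apply, map_add, map_smul, smul_eq_mul]
  module

theorem om_smul_right (a b : V) (k : F) : om Q a (k • b) = k • om Q a b := by
  have := om_comb (Q := Q) a b 1 0 0 k
  simpa using this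

theorem om_add_right (a b c : V) : om Q a (b + c) = om Q a b + om Q a c := by
  refine LinearMap.ext fun x => ?_
  simp only [LinearMap.add_apply, om_apply, map_add]
  module

/-- `a, b` span a totally singular line. -/
structure Pair (Q : QuadraticForm F V) (a b : V) : Prop where
  qa : Q a = 0
  qb : Q b = 0
  ab : pB Q a b = 0
  li : LinearIndependent F ![a, b]

theorem Pair.ne {a b : V} (h : Pair Q a b) : a ≠ 0 := h.li.ne_zero 0

theorem Pair.ne' {a b : V} (h : Pair Q a b) : b ≠ 0 := h.li.ne_zero 1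

theorem Pair.not_mem {a b : V} (h : Pair Q a b) : b ∉ Submodule.span F {a} := fun hb => by
  obtain ⟨c, hc⟩ := Submodule.mem_span_singleton.1 hb
  exact (LinearIndependent.pair_iff' h.ne).1 h.li c hc

/-- A totally singular line. -/
def TS2 (Q : QuadraticForm F V) (L : Submodule F V) : Prop :=
  Module.finrank F L = 2 ∧ ∀ x ∈ L, Q x = 0

/-- Orthogonal subspaces. -/
def Orth (Q : QuadraticForm F V) (L M : Submodule F V) : Prop := ∀ x ∈ L, ∀ y ∈ M, pB Q x y = 0

/-- Coplanar lines. -/
def P1 (Q : QuadraticForm F V) (L M : Submodule F V) : Prop := L ≠ M ∧ L ⊓ M ≠ ⊥ ∧ Orth Q L M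

/-- Lines with commuting root groups. -/
def CommL (Q : QuadraticForm F V) (L M : Submodule F V) : Prop := L ⊓ M ≠ ⊥ ∨ Orth Q L M

/-- The space moved by an element. -/
def mv (g : OmQ) : Submodule F V := LinearMap.range ((g.1 : V →ₗ[F] V) - LinearMap.id)

/-- Root elements. -/
def IsRoot (g : OmQ) : Prop := ∃ a b, Pair Q a b ∧ ∀ x, g.1 x = x + om Q a b x

/-- Root elements of the quotient. -/
def IsRootG (x : PO) : Prop := ∃ r : OmQ, IsRoot r ∧ pr r = x

variable (S : QSetting Q)

include S

theorem mem_span_pair' {a b : V} {x : V} (hx : x ∈ Submodule.span F (Set.range ![a, b])) :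
    ∃ α β : F, x = α • a + β • b := by
  rw [Submodule.mem_span_range_iff_exists_fun] at hx
  obtain ⟨c, rfl⟩ := hx
  exact ⟨c 0, c 1, by simp [Fin.sum_univ_two]⟩

theorem mem_left (a b : V) : a ∈ Submodule.span F (Set.range ![a, b]) :=
  Submodule.subset_span ⟨0, rfl⟩

theorem mem_right (a b : V) : b ∈ Submodule.span F (Set.range ![a, b]) :=
  Submodule.subset_span ⟨1, rfl⟩

theorem quad_comb {a b : V} (α β : F) :
    Q (α • a + β • b) = α * α * Q a + β * β * Q b + α * β * B a b := by
  rw [S.quad_add, S.quad_smul, S.quad_smul, map_smul, LinearMap.map_smul₂, smul_eq_mul, smul_eq_mul]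
  ring

theorem pair_ts2 {a b : V} (h : Pair Q a b) : TS2 Q (Submodule.span F (Set.range ![a, b])) := by
  refine ⟨by rw [finrank_span_eq_card h.li, Fintype.card_fin], fun x hx => ?_⟩
  obtain ⟨α, β, rfl⟩ := mem_span_pair' S hx
  rw [quad_comb S, h.qa, h.qb, h.ab]
  ring

theorem ts2_orth_self {L : Submodule F V} (hL : TS2 Q L) : Orth Q L L :=
  fun _ hx _ hy => isotropic_of_singular S hL.2 hx hy

theorem orth_symm {L M : Submodule F V} (h : Orth Q L M) : Orth Q M L :=
  fun x hx y hy => by rw [S.pB_comm]; exact h y hy x hx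

theorem orth_span {a b c d : V} (h1 : B a c = 0) (h2 : B a d = 0) (h3 : B b c = 0) (h4 : B b d = 0) :
    Orth Q (Submodule.span F (Set.range ![a, b])) (Submodule.span F (Set.range ![c, d])) := by
  intro x hx y hy
  obtain ⟨α, β, rfl⟩ := mem_span_pair' S hx
  obtain ⟨γ, δ, rfl⟩ := mem_span_pair' S hy
  simp only [map_add, map_smul, LinearMap.add_apply, LinearMap.smul_apply, smul_eq_mul, h1, h2, h3, h4,
    mul_zero, add_zero]

theorem exists_basis_at {L : Submodule F V} (hL : TS2 Q L) {a : V} (ha : a ∈ L) (ha0 : a ≠ 0) :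
    ∃ b, Pair Q a b ∧ L = Submodule.span F (Set.range ![a, b]) := by
  obtain ⟨b, hb, hba⟩ : ∃ b ∈ L, b ∉ Submodule.span F {a} := by
    by_contra hc
    push Not at hc
    have := Submodule.finrank_mono (show L ≤ Submodule.span F {a} from hc)
    rw [hL.1, finrank_span_singleton ha0] at this
    omega
  have hp : Pair Q a b := ⟨hL.2 a ha, hL.2 b hb, isotropic_of_singular S hL.2 ha hb,
    (LinearIndependent.pair_iff' ha0).2 fun c hc => hba (hc ▸ Submodule.smul_mem _ c
      (Submodule.mem_span_singleton_self a))⟩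
  refine ⟨b, hp, (Submodule.eq_of_le_of_finrank_eq ?_ ?_).symm⟩
  · rw [Submodule.span_le]
    rintro _ ⟨i, rfl⟩
    fin_cases i <;> assumption
  · rw [hL.1, (pair_ts2 S hp).1]

theorem exists_basis {L : Submodule F V} (hL : TS2 Q L) :
    ∃ a b, Pair Q a b ∧ L = Submodule.span F (Set.range ![a, b]) := by
  obtain ⟨a, ha, ha0⟩ : ∃ a ∈ L, a ≠ 0 := by
    refine Submodule.exists_mem_ne_zero_of_ne_bot fun h => ?_
    have := hL.1
    rw [h, finrank_bot] at this
    omega
  exact ⟨a, exists_basis_at S hL ha ha0⟩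

theorem range_om {a b : V} (h : LinearIndependent F ![a, b]) :
    LinearMap.range (om Q a b) = Submodule.span F (Set.range ![a, b]) := by
  refine le_antisymm ?_ ?_
  · rintro _ ⟨x, rfl⟩
    rw [om_apply]
    exact sub_mem (Submodule.smul_mem _ _ (mem_right S a b)) (Submodule.smul_mem _ _ (mem_left S a b))
  · obtain ⟨x, hx⟩ := S.exists_values h ![0, -1]
    obtain ⟨y, hy⟩ := S.exists_values h ![1, 0]
    have hxa : B x a = 0 := hx 0
    have hxb : B x b = -1 := hx 1
    have hya : B y a = 1 := hy 0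
    have hyb : B y b = 0 := hy 1
    rw [Submodule.span_le]
    rintro _ ⟨i, rfl⟩
    fin_cases i
    · exact ⟨x, by simp [om_apply, hxa, hxb]⟩
    · exact ⟨y, by simp [om_apply, hya, hyb]⟩


theorem sg_apply_root {a b : V} (hu : Q a = 0) (hw : B b a = 0) (hb : Q b = 0) (x : V) :
    (sg S a b hu hw).1 x = x + om Q a b x := by
  rw [show (sg S a b hu hw).1 x = S.siegel a b hu hw x from rfl, S.siegel_apply, siegelHom_apply,
    om_apply, hb]
  module

theorem om_ext {g h : OmQ} (e : ∀ x, g.1 x = h.1 x) : g = h := Subtype.ext (LinearEquiv.ext e)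

theorem isRoot_sg {a b : V} (h : Pair Q a b) : IsRoot (sg S a b h.qa (by rw [S.pB_comm]; exact h.ab)) :=
  ⟨a, b, h, sg_apply_root S _ _ h.qb⟩

theorem mv_of_apply {g : OmQ} {a b : V} (h : LinearIndependent F ![a, b]) {k : F} (hk : k ≠ 0)
    (hg : ∀ x, g.1 x = x + k • om Q a b x) : mv g = Submodule.span F (Set.range ![a, b]) := by
  have e : (g.1 : V →ₗ[F] V) - LinearMap.id = k • om Q a b := LinearMap.ext fun x => by simp [hg x]
  rw [mv, e, LinearMap.range_smul _ _ hk, range_om S h]

theorem IsRoot.ts2 {g : OmQ} (h : IsRoot g) : TS2 Q (mv g) := by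
  obtain ⟨a, b, hp, hg⟩ := h
  rw [mv_of_apply S hp.li one_ne_zero (fun x => by rw [one_smul]; exact hg x)]
  exact pair_ts2 S hp

theorem IsRoot.normal {g : OmQ} (h : IsRoot g) {a b : V} (hp : Pair Q a b)
    (hL : mv g = Submodule.span F (Set.range ![a, b])) :
    ∃ k : F, k ≠ 0 ∧ ∀ x, g.1 x = x + k • om Q a b x := by
  obtain ⟨u, w, hp', hg⟩ := h
  rw [mv_of_apply S hp'.li one_ne_zero (fun x => by rw [one_smul]; exact hg x)] at hL
  obtain ⟨α, β, rfl⟩ := mem_span_pair' S (hL ▸ mem_left S u w)
  obtain ⟨γ, δ, rfl⟩ := mem_span_pair' S (hL ▸ mem_right S (α • a + β • b) w)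
  refine ⟨α * δ - β * γ, fun h0 => ?_, fun x => by rw [hg, om_comb]; rfl⟩
  have h1 := range_om S hp'.li (Q := Q)
  rw [om_comb, h0, zero_smul, LinearMap.range_zero] at h1
  exact hp'.ne ((Submodule.mem_bot F).1 (h1 ▸ mem_left S _ _))

theorem exists_root_of_ts2 {L : Submodule F V} (hL : TS2 Q L) : ∃ r : OmQ, IsRoot r ∧ mv r = L := by
  obtain ⟨a, b, hp, rfl⟩ := exists_basis S hL
  exact ⟨_, isRoot_sg S hp, mv_of_apply S hp.li one_ne_zero fun x => by
    rw [one_smul]; exact sg_apply_root S _ _ hp.qb x⟩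

theorem mv_conj (g r : OmQ) : mv (g * r * g⁻¹) = (mv r).map (g.1 : V →ₗ[F] V) := by
  ext v
  simp only [mv, Submodule.mem_map, LinearMap.mem_range, LinearMap.sub_apply, LinearEquiv.coe_coe,
    LinearMap.id_coe, id_eq]
  constructor
  · rintro ⟨y, rfl⟩
    refine ⟨_, ⟨g.1.symm y, rfl⟩, ?_⟩
    rw [map_sub, LinearEquiv.apply_symm_apply]
    rfl
  · rintro ⟨_, ⟨y, rfl⟩, rfl⟩
    refine ⟨g.1 y, ?_⟩
    rw [map_sub]
    show g.1 (r.1 (g.1.symm (g.1 y))) - g.1 y = _
    rw [LinearEquiv.symm_apply_apply]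

theorem pB_oGroup (g : OmQ) (x y : V) : B (g.1 x) (g.1 y) = B x y :=
  S.pB_of_mem (OrthSimple.mem_oGroup_of_mem_Om g.2) x y

theorem IsRoot.conj {r : OmQ} (h : IsRoot r) (g : OmQ) : IsRoot (g * r * g⁻¹) := by
  obtain ⟨a, b, hp, hr⟩ := h
  have hg := OrthSimple.mem_oGroup_of_mem_Om g.2
  refine ⟨g.1 a, g.1 b, ⟨(hg a).trans hp.qa, (hg b).trans hp.qb, (pB_oGroup S g a b).trans hp.ab, ?_⟩, fun x => ?_⟩
  · exact LinearIndependent.pair_iff.2 fun s t hst => LinearIndependent.pair_iff.1 hp.li s t
      (g.1.injective (by simpa using hst))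
  · show g.1 (r.1 (g.1.symm x)) = _
    obtain ⟨y, rfl⟩ := g.1.surjective x
    rw [LinearEquiv.symm_apply_apply, hr, map_add, om_apply, om_apply, map_sub, map_smul, map_smul,
      pB_oGroup S, pB_oGroup S]

theorem fix_of_orth {r : OmQ} {a b : V} {k : F} (hr : ∀ x, r.1 x = x + k • om Q a b x) {x : V}
    (ha : B x a = 0) (hb : B x b = 0) : r.1 x = x := by
  rw [hr, om_apply, ha, hb]; simp

theorem commute_iff {r s : OmQ} (hr : IsRoot r) (hs : IsRoot s) :
    Commute r s ↔ CommL Q (mv r) (mv s) := by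
  constructor
  · intro h
    by_contra hne
    simp only [CommL, not_or, not_not] at hne
    obtain ⟨hdis, horth⟩ := hne
    have hmap : (mv s).map (r.1 : V →ₗ[F] V) = mv s := by
      rw [← mv_conj S, h.eq, mul_inv_cancel_right]
    obtain ⟨a, b, hp, hL⟩ := exists_basis S (hr.ts2 S)
    obtain ⟨k, hk, hrx⟩ := hr.normal S hp hL
    refine horth (orth_symm S fun y hy x hx => ?_)
    have h1 : r.1 y - y ∈ mv r ⊓ mv s :=
      ⟨⟨y, rfl⟩, sub_mem (hmap ▸ Submodule.mem_map_of_mem hy) hy⟩
    rw [hdis, Submodule.mem_bot, hrx, add_sub_cancel_left, smul_eq_zero, om_apply] at h1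
    have h2 := h1.resolve_left hk
    obtain ⟨e1, e2⟩ := LinearIndependent.pair_iff.1 hp.li (-(B y b)) (B y a)
      (by rw [neg_smul, neg_add_eq_sub]; exact h2)
    rw [hL] at hx
    obtain ⟨α, β, rfl⟩ := mem_span_pair' S hx
    simp only [map_add, map_smul, smul_eq_mul, e2, neg_eq_zero.1 e1, mul_zero, add_zero]
  · intro h
    rcases h with h | h
    · obtain ⟨u, hu, hu0⟩ := Submodule.exists_mem_ne_zero_of_ne_bot h
      obtain ⟨b, hp, hL⟩ := exists_basis_at S (hr.ts2 S) hu.1 hu0
      obtain ⟨c, hp', hM⟩ := exists_basis_at S (hs.ts2 S) hu.2 hu0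
      obtain ⟨k, -, hrx⟩ := hr.normal S hp hL
      obtain ⟨l, -, hsx⟩ := hs.normal S hp' hM
      have huu : B u u = 0 := by rw [S.pB_self, hp.qa, mul_zero]
      refine om_ext S fun x => ?_
      show r.1 (s.1 x) = s.1 (r.1 x)
      simp only [hrx, hsx, om_apply, map_add, map_sub, map_smul, LinearMap.add_apply, LinearMap.sub_apply,
        LinearMap.smul_apply, smul_eq_mul, huu, hp.ab, hp'.ab, S.pB_comm b u, S.pB_comm c u, S.pB_comm c b]
      module
    · obtain ⟨a, b, hp, hL⟩ := exists_basis S (hr.ts2 S)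
      obtain ⟨c, d, hp', hM⟩ := exists_basis S (hs.ts2 S)
      obtain ⟨k, -, hrx⟩ := hr.normal S hp hL
      obtain ⟨l, -, hsx⟩ := hs.normal S hp' hM
      rw [hL, hM] at h
      have hac := h a (mem_left S a b) c (mem_left S c d)
      have had := h a (mem_left S a b) d (mem_right S c d)
      have hbc := h b (mem_right S a b) c (mem_left S c d)
      have hbd := h b (mem_right S a b) d (mem_right S c d)
      refine om_ext S fun x => ?_
      show r.1 (s.1 x) = s.1 (r.1 x)
      simp only [hrx, hsx, om_apply, map_add, map_sub, map_smul, LinearMap.add_apply, LinearMap.sub_apply,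
        LinearMap.smul_apply, smul_eq_mul, hac, had, hbc, hbd, S.pB_comm c a, S.pB_comm c b,
        S.pB_comm d a, S.pB_comm d b]
      module

/-- Two commuting root elements on distinct lines multiply to a root element exactly for coplanar
lines. -/
theorem prod_root_iff {r s : OmQ} (hr : IsRoot r) (hs : IsRoot s) (hne : mv r ≠ mv s)
    (hc : Commute r s) : IsRoot (r * s) ↔ P1 Q (mv r) (mv s) := by
  by_cases hd : mv r ⊓ mv s = ⊥
  · refine iff_of_false (fun hrs => ?_) fun h => h.2.1 hd
    have ho : Orth Q (mv r) (mv s) := ((commute_iff S hr hs).1 hc).resolve_left fun h => h hd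
    obtain ⟨a, b, hp, hL⟩ := exists_basis S (hr.ts2 S)
    obtain ⟨c, d, hp', hM⟩ := exists_basis S (hs.ts2 S)
    obtain ⟨k, hk, hrx⟩ := hr.normal S hp hL
    obtain ⟨l, hl, hsx⟩ := hs.normal S hp' hM
    rw [hL, hM] at ho hd
    have hli : LinearIndependent F (Sum.elim ![a, b] ![c, d]) :=
      hp.li.sum_type hp'.li (disjoint_iff.2 hd)
    have hli4 : LinearIndependent F ![a, b, c, d] := by
      have := hli.comp finSumFinEquiv.symm finSumFinEquiv.symm.injective
      convert this using 1
      funext i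
      fin_cases i <;> rfl
    have e : ∀ x, (r * s).1 x - x = k • om Q a b x + l • om Q c d x := fun x => by
      show r.1 (s.1 x) - x = _
      rw [hsx, map_add, hrx x, fix_of_orth S hrx (x := l • om Q c d x)]
      · abel
      · rw [LinearMap.map_smul₂, om_apply, map_sub, LinearMap.sub_apply, LinearMap.map_smul₂,
          LinearMap.map_smul₂, S.pB_comm d a, S.pB_comm c a,
          ho a (mem_left S a b) d (mem_right S c d), ho a (mem_left S a b) c (mem_left S c d)]
        simp
      · rw [LinearMap.map_smul₂, om_apply, map_sub, LinearMap.sub_apply, LinearMap.map_smul₂,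
          LinearMap.map_smul₂, S.pB_comm d b, S.pB_comm c b,
          ho b (mem_right S a b) d (mem_right S c d), ho b (mem_right S a b) c (mem_left S c d)]
        simp
    have hsub : Submodule.span F (Set.range ![a, b, c, d]) ≤ mv (r * s) := by
      rw [Submodule.span_le]
      rintro _ ⟨i, rfl⟩
      have key : ∀ α : Fin 4 → F, (α 0 * k) • b - (α 1 * k) • a + ((α 2 * l) • d - (α 3 * l) • c) ∈ mv (r * s) := by
        intro α
        obtain ⟨x, hx⟩ := S.exists_values hli4 α
        refine ⟨x, ?_⟩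
        have h0 : B x a = α 0 := hx 0
        have h1 : B x b = α 1 := hx 1
        have h2 : B x c = α 2 := hx 2
        have h3 : B x d = α 3 := hx 3
        show (r * s).1 x - x = _
        rw [e, om_apply, om_apply, h0, h1, h2, h3]
        module
      fin_cases i
      · convert key ![0, -k⁻¹, 0, 0] using 1; simp [hk]
      · convert key ![k⁻¹, 0, 0, 0] using 1; simp [hk]
      · convert key ![0, 0, 0, -l⁻¹] using 1; simp [hl]
      · convert key ![0, 0, l⁻¹, 0] using 1; simp [hl]
    have h1 := Submodule.finrank_mono hsub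
    rw [finrank_span_eq_card hli4, Fintype.card_fin, (hrs.ts2 S).1] at h1
    omega
  · obtain ⟨u, hu, hu0⟩ := Submodule.exists_mem_ne_zero_of_ne_bot hd
    obtain ⟨b, hp, hL⟩ := exists_basis_at S (hr.ts2 S) hu.1 hu0
    obtain ⟨c, hp', hM⟩ := exists_basis_at S (hs.ts2 S) hu.2 hu0
    obtain ⟨k, hk, hrx⟩ := hr.normal S hp hL
    obtain ⟨l, hl, hsx⟩ := hs.normal S hp' hM
    have huu : B u u = 0 := by rw [S.pB_self, hp.qa, mul_zero]
    have hcb : B b c = 0 ↔ Orth Q (mv r) (mv s) := by
      rw [hL, hM]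
      exact ⟨fun h => orth_span S huu hp'.ab (by rw [S.pB_comm]; exact hp.ab) h,
        fun h => h b (mem_right S u b) c (mem_right S u c)⟩
    have e : ∀ x, (r * s).1 x = x + om Q u (k • b + l • c) x - (k * l * B x u * B b c) • u := fun x => by
      show r.1 (s.1 x) = _
      simp only [hrx, hsx, om_apply, map_add, map_sub, map_smul, LinearMap.add_apply, LinearMap.sub_apply,
        LinearMap.smul_apply, smul_eq_mul, huu, hp.ab, hp'.ab, S.pB_comm b u, S.pB_comm c u, S.pB_comm c b]
      module
    have hli : LinearIndependent F ![u, k • b + l • c] := by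
      refine (LinearIndependent.pair_iff' hu0).2 fun t ht => hne ?_
      have hb : b ∈ Submodule.span F (Set.range ![u, c]) := by
        have : b = (k⁻¹ * t) • u + (-(k⁻¹ * l)) • c := by
          have h := congrArg (fun v => k⁻¹ • v) ht
          simp only [smul_add, smul_smul, inv_mul_cancel₀ hk, one_smul] at h
          rw [h]; module
        rw [this]
        exact add_mem (Submodule.smul_mem _ _ (mem_left S u c)) (Submodule.smul_mem _ _ (mem_right S u c))
      rw [hL, hM]
      refine Submodule.eq_of_le_of_finrank_eq ?_ ((pair_ts2 S hp).1.trans (pair_ts2 S hp').1.symm)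
      rw [Submodule.span_le]
      rintro _ ⟨i, rfl⟩
      fin_cases i
      · exact mem_left S u c
      · exact hb
    constructor
    · intro hrs
      refine ⟨hne, hd, hcb.1 ?_⟩
      obtain ⟨x, hx⟩ := S.exists_values (v := ![u]) (by simp [linearIndependent_unique_iff, hu0]) ![1]
      have hxu : B x u = 1 := hx 0
      have h1 : Q ((r * s).1 x - x) = 0 := (hrs.ts2 S).2 _ ⟨x, rfl⟩
      have e2 : (r * s).1 x - x = (1 : F) • (k • b + l • c) +
          (-(B x (k • b + l • c)) - k * l * B b c) • u := by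
        rw [e, om_apply, hxu]; module
      rw [e2, quad_comb S, quad_comb S, hp.qa, hp.qb, hp'.qb] at h1
      simp only [map_add, map_smul, LinearMap.add_apply, LinearMap.smul_apply, smul_eq_mul,
        S.pB_comm b u, S.pB_comm c u, hp.ab, hp'.ab] at h1
      exact (mul_eq_zero.1 (show (k * l) * B b c = 0 by linear_combination h1)).resolve_left
        (mul_ne_zero hk hl)
    · intro h
      have hbc := hcb.2 h.2.2
      refine ⟨u, k • b + l • c, ⟨hp.qa, ?_, ?_, hli⟩, fun x => ?_⟩
      · rw [quad_comb S, hp.qb, hp'.qb, hbc]; ring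
      · simp only [map_add, map_smul, smul_eq_mul, hp.ab, hp'.ab, mul_zero, add_zero]
      · rw [e, hbc]; simp

/-! ### Passing to the quotient -/

theorem sg_pow {u w : V} (hu : Q u = 0) (hw : B w u = 0) (n : ℕ) :
    sg S u w hu hw ^ n = sg S u ((n : F) • w) hu (by rw [LinearMap.map_smul₂, hw, smul_zero]) := by
  induction n with
  | zero =>
    refine Subtype.ext (LinearEquiv.ext fun x => ?_)
    show x = S.siegel u ((((0 : ℕ) : F)) • w) hu (by rw [LinearMap.map_smul₂, hw, smul_zero]) x
    rw [S.siegel_apply, Nat.cast_zero, zero_smul, S.siegelHom_zero]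
  | succ n ih =>
    rw [pow_succ, ih]
    refine Subtype.ext ?_
    show S.siegel u ((n : F) • w) hu (by rw [LinearMap.map_smul₂, hw, smul_zero]) * S.siegel u w hu hw =
      S.siegel u (((n + 1 : ℕ) : F) • w) hu (by rw [LinearMap.map_smul₂, hw, smul_zero])
    rw [S.siegel_mul]
    exact S.siegel_congr rfl (by push_cast; module)

variable (p : ℕ) [Fact p.Prime] [CharP F p]

theorem sg_pow_char {u w : V} (hu : Q u = 0) (hw : B w u = 0) : sg S u w hu hw ^ p = 1 := by
  rw [sg_pow]
  refine Subtype.ext (LinearEquiv.ext fun x => ?_)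
  show S.siegel u ((p : F) • w) hu (by rw [LinearMap.map_smul₂, hw, smul_zero]) x = x
  rw [S.siegel_apply, CharP.cast_eq_zero, zero_smul, S.siegelHom_zero]

theorem IsRoot.pow_char {r : OmQ} (h : IsRoot r) : r ^ p = 1 := by
  obtain ⟨a, b, hp, hr⟩ := h
  rw [show r = sg S a b hp.qa (by rw [S.pB_comm]; exact hp.ab) from
    om_ext S fun x => by rw [hr, sg_apply_root S _ _ hp.qb]]
  exact sg_pow_char S p _ _

include p

theorem eq_of_pr {x y : OmQ} (hx : x ^ p = 1) (hy : y ^ p = 1) (h : pr x = pr y) : x = y := by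
  have hz : x⁻¹ * y ∈ Subgroup.center OmQ := QuotientGroup.eq.1 h
  have hzp : (x⁻¹ * y) ^ p = 1 := by
    have hcm : Commute x (x⁻¹ * y) := Subgroup.mem_center_iff.1 hz x
    have := hcm.mul_pow p
    rw [mul_inv_cancel_left, hy, hx, one_mul] at this
    exact this.symm
  rcases OrthIndex.center_sign S hz with h1 | h1
  · exact (inv_mul_eq_one.1 (om_ext S h1))
  · by_cases h2 : p = 2
    · refine inv_mul_eq_one.1 (om_ext S fun v => ?_)
      have h2' : (2 : F) = 0 := by have := CharP.cast_eq_zero F p; rw [h2] at this; exact_mod_cast this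
      show (x⁻¹ * y).1 v = v
      rw [h1, neg_eq_iff_add_eq_zero, ← two_smul F, h2', zero_smul]
    · exfalso
      have hp1 : ∀ n : ℕ, ∀ v, ((x⁻¹ * y) ^ n).1 v = (-1 : F) ^ n • v := by
        intro n
        induction n with
        | zero => intro v; simp
        | succ n ih =>
          intro v
          rw [pow_succ]
          show ((x⁻¹ * y) ^ n).1 ((x⁻¹ * y).1 v) = _
          rw [h1, ih, pow_succ, mul_smul, neg_one_smul]
      obtain ⟨q, -, -, hq⟩ := S.topDec.exists_aniso (k := 0) ![] (by
        rw [S.finrank_top_eq]; have := S.dim; omega)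
      have h3 := hp1 p q
      rw [hzp, ((Fact.out : p.Prime).odd_of_ne_two h2).neg_one_pow, neg_one_smul] at h3
      have h3' : q + q = 0 := by nth_rw 1 [show q = -q from h3]; exact neg_add_cancel q
      rw [← two_smul F q, smul_eq_zero] at h3'
      rcases h3' with h4 | h4
      · have h4' : ((2 : ℕ) : F) = 0 := by exact_mod_cast h4
        rw [CharP.cast_eq_zero_iff F p] at h4'
        exact h2 ((Nat.prime_dvd_prime_iff_eq (Fact.out) Nat.prime_two).1 h4')
      · exact hq (by rw [h4, QuadraticMap.map_zero])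

theorem commute_of_pr {r s : OmQ} (hs : s ^ p = 1) (h : Commute (pr r) (pr s)) : Commute r s := by
  have h1 : r * s * r⁻¹ = s := eq_of_pr S p (by rw [conj_pow, hs]; simp) hs (by
    rw [map_mul, map_mul, map_inv, h.eq, mul_inv_cancel_right])
  exact mul_inv_eq_iff_eq_mul.1 h1


theorem isRootG_prod {r s : OmQ} (hr : IsRoot r) (hs : IsRoot s) (hc : Commute r s) :
    IsRootG (pr r * pr s) ↔ IsRoot (r * s) := by
  refine ⟨fun ⟨t, ht, e⟩ => ?_, fun h => ⟨_, h, map_mul _ _ _⟩⟩
  have hrs : (r * s) ^ p = 1 := by rw [hc.mul_pow, hr.pow_char S p, hs.pow_char S p, one_mul]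
  rwa [← eq_of_pr S p (ht.pow_char S p) hrs (by rw [e, map_mul])]

end Cfsg.Agent.AutPOmega
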