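import Cfsg.Agent.Lib.AutPOmega.Main

/-!
# The semilinear similitude group and its action on `PΩ`
-/

set_option autoImplicit false
set_option linter.unusedSectionVars false

namespace Cfsg.Agent.AutPOmega

open scoped Matrix
open Cfsg.Agent Cfsg.Agent.TransvMax Cfsg.Agent.QMax
open Cfsg.Agent.OrthSimple (Om sg)

variable {ι : Type} [Fintype ι] [DecidableEq ι] {F : Type*} [Field F] [Finite F]
  {Q : QuadraticForm F (ι → F)}

local notation "V" => ι → F

/-- `T` is `σ`-semilinear and multiplies `Q` by `c`. -/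
structure IsSemi (Q : QuadraticForm F V) (T : V → V) (σ : F ≃+* F) (c : F) : Prop where
  ne : c ≠ 0
  add : ∀ x y, T (x + y) = T x + T y
  smul : ∀ (t : F) x, T (t • x) = σ t • T x
  quad : ∀ x, Q (T x) = c * σ (Q x)

/-- The semilinear similitudes as permutations. -/
def SemiT (Q : QuadraticForm F V) : Subgroup (Equiv.Perm V) where
  carrier := {T | ∃ σ c, IsSemi Q T σ c}
  one_mem' := ⟨RingEquiv.refl F, 1, one_ne_zero, fun _ _ => rfl, fun _ _ => rfl, fun x => (one_mul _).symm⟩
  mul_mem' := by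
    rintro T U ⟨σ, c, hT⟩ ⟨τ, d, hU⟩
    refine ⟨τ.trans σ, c * σ d, mul_ne_zero hT.ne ((map_ne_zero σ).2 hU.ne), fun x y => ?_, fun t x => ?_,
      fun x => ?_⟩
    · show T (U (x + y)) = T (U x) + T (U y)
      rw [hU.add, hT.add]
    · show T (U (t • x)) = _
      rw [hU.smul, hT.smul]; rfl
    · show Q (T (U x)) = _
      rw [hT.quad, hU.quad, map_mul, mul_assoc]; rfl
  inv_mem' := by
    rintro T ⟨σ, c, hT⟩
    refine ⟨σ.symm, σ.symm c⁻¹, (map_ne_zero σ.symm).2 (inv_ne_zero hT.ne), fun x y => ?_, fun t x => ?_,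
      fun x => ?_⟩
    · apply T.injective; rw [hT.add]; simp
    · apply T.injective; rw [hT.smul]; simp
    · apply σ.injective
      have := hT.quad (T⁻¹ x)
      rw [show (T : V → V) (T⁻¹ x) = x from T.apply_symm_apply x] at this
      rw [map_mul, σ.apply_symm_apply, σ.apply_symm_apply, this, inv_mul_cancel_left₀ hT.ne]

theorem SemiT.spec (T : SemiT Q) : ∃ σ c, IsSemi Q T.1 σ c := T.2

theorem isSemi_surjective {T : SemiT Q} : Function.Surjective (T.1 : V → V) := T.1.surjective

/-- The field automorphism of a semilinear similitude. -/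
noncomputable def sigT (T : SemiT Q) : F ≃+* F := (SemiT.spec T).choose

/-- The multiplier of a semilinear similitude. -/
noncomputable def mulT (T : SemiT Q) : F := (SemiT.spec T).choose_spec.choose

theorem semi_spec (T : SemiT Q) : IsSemi Q T.1 (sigT T) (mulT T) :=
  (SemiT.spec T).choose_spec.choose_spec

section Setting

variable (S : QSetting Q)

include S

theorem exists_quad_one_ne : ∃ x, Q x ≠ 0 := by
  obtain ⟨p, -, -, hp⟩ := S.topDec.exists_aniso (k := 0) ![]
    (by rw [S.finrank_top_eq]; have := S.dim; omega)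
  exact ⟨p, hp⟩

theorem isSemi_unique {T : V → V} {σ τ : F ≃+* F} {c d : F} (hinj : Function.Injective T)
    (h : IsSemi Q T σ c) (h' : IsSemi Q T τ d) : σ = τ ∧ c = d := by
  obtain ⟨x, hx⟩ := exists_quad_one_ne S
  have hx0 : x ≠ 0 := fun e => hx (by rw [e, map_zero])
  have hT0 : T 0 = 0 := by have := h.smul 0 0; rwa [smul_zero, map_zero, zero_smul] at this
  have hTx : T x ≠ 0 := fun e => hx0 (hinj (e.trans hT0.symm))
  have hστ : σ = τ := RingEquiv.ext fun t =>
    smul_left_injective F hTx ((h.smul t x).symm.trans (h'.smul t x))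
  subst hστ
  exact ⟨rfl, mul_right_cancel₀ ((map_ne_zero σ).2 hx) ((h.quad x).symm.trans (h'.quad x))⟩

theorem sigT_eq {T : SemiT Q} {σ : F ≃+* F} {c : F} (h : IsSemi Q T.1 σ c) : sigT T = σ :=
  (isSemi_unique S T.1.injective (semi_spec T) h).1

theorem mulT_eq {T : SemiT Q} {σ : F ≃+* F} {c : F} (h : IsSemi Q T.1 σ c) : mulT T = c :=
  (isSemi_unique S T.1.injective (semi_spec T) h).2

/-- The field automorphism as a homomorphism. -/
noncomputable def sigHom : SemiT Q →* (F ≃+* F) :=
  MonoidHom.mk' sigT fun T U => by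
    refine sigT_eq S (c := mulT T * sigT T (mulT U)) ⟨?_, fun x y => ?_, fun t x => ?_, fun x => ?_⟩
    · exact mul_ne_zero (semi_spec T).ne ((map_ne_zero _).2 (semi_spec U).ne)
    · show T.1 (U.1 (x + y)) = T.1 (U.1 x) + T.1 (U.1 y)
      rw [(semi_spec U).add, (semi_spec T).add]
    · show T.1 (U.1 (t • x)) = _
      rw [(semi_spec U).smul, (semi_spec T).smul]; rfl
    · show Q (T.1 (U.1 x)) = _
      rw [(semi_spec T).quad, (semi_spec U).quad, map_mul, mul_assoc]; rfl

theorem sigHom_apply (T : SemiT Q) : sigHom S T = sigT T := rfl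

end Setting

/-- Multiplication by a matrix of the isometry or similarity group, as a permutation. -/
def glPerm : GL ι F →* Equiv.Perm V :=
  MonoidHom.mk' (fun g =>
    { toFun := fun x => (g : Matrix ι ι F) *ᵥ x
      invFun := fun x => ((g⁻¹ : GL ι F) : Matrix ι ι F) *ᵥ x
      left_inv := fun x => by
        show ((g⁻¹ : GL ι F) : Matrix ι ι F) *ᵥ ((g : Matrix ι ι F) *ᵥ x) = x
        rw [Matrix.mulVec_mulVec, ← Units.val_mul, inv_mul_cancel, Units.val_one, Matrix.one_mulVec]
      right_inv := fun x => by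
        show (g : Matrix ι ι F) *ᵥ (((g⁻¹ : GL ι F) : Matrix ι ι F) *ᵥ x) = x
        rw [Matrix.mulVec_mulVec, ← Units.val_mul, mul_inv_cancel, Units.val_one, Matrix.one_mulVec] })
    fun g h => Equiv.ext fun x => (Matrix.mulVec_mulVec x (g : Matrix ι ι F) (h : Matrix ι ι F)).symm

theorem glPerm_apply (g : GL ι F) (x : V) : glPerm g x = (g : Matrix ι ι F) *ᵥ x := rfl

theorem glPerm_injective : Function.Injective (glPerm (ι := ι) (F := F)) := fun g h e =>
  Units.ext (Matrix.toLin'.injective (LinearMap.ext fun x => by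
    rw [Matrix.toLin'_apply, Matrix.toLin'_apply]; exact Equiv.congr_fun e x))

/-- A similarity as a semilinear similitude. -/
def ofSim : Cfsg.Geo.quadSimilarityGroup (F := F) ⇑Q →* SemiT Q :=
  MonoidHom.mk' (fun g => ⟨glPerm g.1, by
    obtain ⟨c, hc⟩ := g.2
    exact ⟨RingEquiv.refl F, c, c.ne_zero, fun x y => Matrix.mulVec_add _ x y,
      fun t x => Matrix.mulVec_smul _ t x, hc⟩⟩) fun g h => Subtype.ext (map_mul glPerm g.1 h.1)

theorem ofSim_apply (g : Cfsg.Geo.quadSimilarityGroup (F := F) ⇑Q) (x : V) :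
    (ofSim g).1 x = (g.1 : Matrix ι ι F) *ᵥ x := rfl

theorem ofSim_injective : Function.Injective (ofSim (Q := Q)) := fun g h e =>
  Subtype.ext (glPerm_injective (congrArg Subtype.val e))

theorem isSemi_matrix {g : GL ι F} {σ : F ≃+* F} (h : Cfsg.IsSemisimilarityPair (⇑Q) g σ) :
    ∃ c : F, IsSemi Q (fun v => (g : Matrix ι ι F) *ᵥ fun i => σ (v i)) σ c := by
  obtain ⟨c, hc⟩ := h
  refine ⟨c, c.ne_zero, fun x y => ?_, fun t x => ?_, hc⟩
  · rw [← Matrix.mulVec_add]; congr 1; funext i; simp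
  · rw [← Matrix.mulVec_smul]; congr 1; funext i; simp

/-- A semisimilarity pair as a semilinear similitude. -/
noncomputable def ofPair {g : GL ι F} {σ : F ≃+* F} (h : Cfsg.IsSemisimilarityPair (⇑Q) g σ) : SemiT Q :=
  ⟨(Equiv.piCongrRight fun _ => σ.toEquiv).trans (glPerm g), σ, (isSemi_matrix h).choose,
    (isSemi_matrix h).choose_spec⟩

theorem ofPair_apply {g : GL ι F} {σ : F ≃+* F} (h : Cfsg.IsSemisimilarityPair (⇑Q) g σ) (x : V) :
    (ofPair h).1 x = (g : Matrix ι ι F) *ᵥ fun i => σ (x i) := rfl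

theorem exists_pair_of_semi (T : SemiT Q) :
    ∃ (g : GL ι F) (h : Cfsg.IsSemisimilarityPair (⇑Q) g (sigT T)), ofPair h = T := by
  have hT := semi_spec T
  let σ := sigT T
  let L : V →ₗ[F] V :=
    { toFun := fun x => T.1 fun i => σ.symm (x i)
      map_add' := fun x y => by rw [← hT.add]; congr 1; funext i; simp
      map_smul' := fun t x => by
        rw [RingHom.id_apply, ← σ.apply_symm_apply t, ← hT.smul, σ.apply_symm_apply]
        congr 1; funext i; simp }
  have hL : ∀ x, L (fun i => σ (x i)) = T.1 x := fun x => congrArg T.1 (funext fun i => by simp [σ])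
  have hLi : Function.Injective L := fun x y hxy => funext fun i =>
    σ.symm.injective (congrFun (T.1.injective hxy) i)
  let Le : V ≃ₗ[F] V := LinearEquiv.ofInjectiveEndo L hLi
  let A : GL ι F :=
    Matrix.GeneralLinearGroup.toLin.symm (LinearMap.GeneralLinearGroup.ofLinearEquiv Le)
  have hA : ∀ x, (A : Matrix ι ι F) *ᵥ x = L x := fun x => LinearMap.toMatrix'_mulVec _ _
  refine ⟨A, ⟨Units.mk0 _ hT.ne, fun v => by rw [hA, hL]; exact hT.quad v⟩,
    Subtype.ext (Equiv.ext fun x => ?_)⟩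
  exact (hA _).trans (hL x)

/-- Automorphisms descend to the quotient by the centre. -/
noncomputable def autQuot (G : Type*) [Group G] : MulAut G →* MulAut (G ⧸ Subgroup.center G) :=
  MonoidHom.mk' (fun a => QuotientGroup.congr _ _ a
    (Subgroup.characteristic_iff_map_eq.1 inferInstance a)) fun a b => MulEquiv.ext fun x => by
      induction x using QuotientGroup.induction_on with
      | H x => rfl

/-- The matrix of an element of `Ω`. -/
def omMat (s : Cfsg.Omega F ⇑Q) : Matrix ι ι F :=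
  (((s : Cfsg.isometryGroup F ⇑Q) : GL ι F) : Matrix ι ι F)

theorem omMat_inj {s t : Cfsg.Omega F ⇑Q} (h : ∀ x, omMat s *ᵥ x = omMat t *ᵥ x) : s = t :=
  Subtype.ext (Subtype.ext (Units.ext (Matrix.toLin'.injective (LinearMap.ext fun x => by
    rw [Matrix.toLin'_apply, Matrix.toLin'_apply]; exact h x))))

theorem omMat_mul (s t : Cfsg.Omega F ⇑Q) (x : V) : omMat (s * t) *ᵥ x = omMat s *ᵥ (omMat t *ᵥ x) :=
  (Matrix.mulVec_mulVec x (omMat s) (omMat t)).symm

theorem exists_conjOmega (T : SemiT Q) (s : Cfsg.Omega F ⇑Q) :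
    ∃ s' : Cfsg.Omega F ⇑Q, ∀ x, omMat s' *ᵥ T.1 x = T.1 (omMat s *ᵥ x) := by
  obtain ⟨e, he⟩ := exists_omEquiv (Q := Q)
  have hT := semi_spec T
  obtain ⟨g', hg'⟩ := exists_conj T.1.bijective hT.add hT.smul hT.quad (e s)
  obtain ⟨s', rfl⟩ := e.surjective g'
  exact ⟨s', fun x => by have := hg' x; rwa [he, he] at this⟩

theorem conjOmega_unique (T : SemiT Q) {s s' s'' : Cfsg.Omega F ⇑Q}
    (h : ∀ x, omMat s' *ᵥ T.1 x = T.1 (omMat s *ᵥ x))
    (h' : ∀ x, omMat s'' *ᵥ T.1 x = T.1 (omMat s *ᵥ x)) : s' = s'' :=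
  omMat_inj fun y => by
    obtain ⟨x, rfl⟩ := T.1.surjective y
    rw [h, h']

/-- Conjugation on `Ω` by a semilinear similitude. -/
noncomputable def conjMap (T : SemiT Q) (s : Cfsg.Omega F ⇑Q) : Cfsg.Omega F ⇑Q :=
  (exists_conjOmega T s).choose

theorem conjMap_spec (T : SemiT Q) (s : Cfsg.Omega F ⇑Q) (x : V) :
    omMat (conjMap T s) *ᵥ T.1 x = T.1 (omMat s *ᵥ x) := (exists_conjOmega T s).choose_spec x

theorem conjMap_mul_left (T U : SemiT Q) (s : Cfsg.Omega F ⇑Q) :
    conjMap (T * U) s = conjMap T (conjMap U s) :=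
  conjOmega_unique (T * U) (conjMap_spec (T * U) s) fun x => by
    show omMat _ *ᵥ T.1 (U.1 x) = T.1 (U.1 _)
    rw [conjMap_spec, conjMap_spec]

theorem conjMap_one (s : Cfsg.Omega F ⇑Q) : conjMap (1 : SemiT Q) s = s :=
  conjOmega_unique 1 (conjMap_spec 1 s) fun _ => rfl

/-- Conjugation as a homomorphism into the automorphisms of `Ω`. -/
noncomputable def conjOmega : SemiT Q →* MulAut (Cfsg.Omega F ⇑Q) :=
  MonoidHom.mk' (fun T =>
    { toFun := conjMap T
      invFun := conjMap T⁻¹
      left_inv := fun s => by rw [← conjMap_mul_left, inv_mul_cancel, conjMap_one]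
      right_inv := fun s => by rw [← conjMap_mul_left, mul_inv_cancel, conjMap_one]
      map_mul' := fun s t => conjOmega_unique T (conjMap_spec T _) fun x => by
        rw [omMat_mul, conjMap_spec, conjMap_spec, omMat_mul] })
    fun T U => MulEquiv.ext fun s => conjMap_mul_left T U s

/-- The action on `PΩ`. -/
noncomputable def theta : SemiT Q →* MulAut (Cfsg.POmega F ⇑Q) :=
  (autQuot (Cfsg.Omega F ⇑Q)).comp conjOmega

theorem theta_mk (T : SemiT Q) (s s' : Cfsg.Omega F ⇑Q)
    (h : ∀ x, omMat s' *ᵥ T.1 x = T.1 (omMat s *ᵥ x)) :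
    theta T (QuotientGroup.mk s) = QuotientGroup.mk s' :=
  congrArg QuotientGroup.mk (conjOmega_unique T (conjMap_spec T s) h)

theorem induced_iff {g : GL ι F} {σ : F ≃+* F} (h : Cfsg.IsSemisimilarityPair (⇑Q) g σ)
    (β : MulAut (Cfsg.POmega F ⇑Q)) :
    Cfsg.IsInducedBySemilinearPOmega (⇑Q) g σ β ↔ β = theta (ofPair h) := by
  have key : ∀ s s' : Cfsg.Omega F ⇑Q, omMat s' = (g : Matrix ι ι F) * (omMat s).map σ *
      ((g⁻¹ : GL ι F) : Matrix ι ι F) ↔ ∀ x, omMat s' *ᵥ (ofPair h).1 x = (ofPair h).1 (omMat s *ᵥ x) := by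
    intro s s'
    have e : ∀ x : V, (fun i => σ ((omMat s *ᵥ x) i)) = (omMat s).map σ *ᵥ fun i => σ (x i) :=
      fun x => funext fun i => RingHom.map_mulVec (σ : F →+* F) _ _ i
    constructor
    · intro hm x
      rw [ofPair_apply, ofPair_apply, hm, Matrix.mulVec_mulVec, Matrix.mul_assoc, ← Units.val_mul,
        inv_mul_cancel, Units.val_one, Matrix.mul_one, ← Matrix.mulVec_mulVec, e]
    · intro hm
      refine Matrix.toLin'.injective (LinearMap.ext fun y => ?_)
      obtain ⟨x, rfl⟩ := (ofPair h).1.surjective y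
      rw [Matrix.toLin'_apply, Matrix.toLin'_apply, hm, ofPair_apply, ofPair_apply,
        Matrix.mulVec_mulVec, Matrix.mul_assoc, ← Units.val_mul, inv_mul_cancel, Units.val_one,
        Matrix.mul_one, ← Matrix.mulVec_mulVec, e]
  constructor
  · intro hβ
    refine MulEquiv.ext fun x => ?_
    induction x using QuotientGroup.induction_on with
    | H s =>
      rw [theta_mk _ s _ (conjMap_spec _ s)]
      exact hβ s _ ((key s _).2 (conjMap_spec _ s))
  · rintro rfl s s' hs
    exact theta_mk _ s s' ((key s s').1 hs)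

theorem isometry_le_sim :
    Cfsg.isometryGroup F ⇑Q ≤ Cfsg.Geo.quadSimilarityGroup (F := F) ⇑Q :=
  fun g hg => ⟨1, fun v => by rw [Units.val_one, one_mul]; exact hg v v⟩

/-- An element of `Ω` as a similarity. -/
def omSim : Cfsg.Omega F ⇑Q →* Cfsg.Geo.quadSimilarityGroup (F := F) ⇑Q :=
  (Subgroup.inclusion isometry_le_sim).comp (Cfsg.Omega F ⇑Q).subtype

theorem theta_omSim (t : Cfsg.Omega F ⇑Q) :
    theta (ofSim (omSim t)) = MulAut.conj (QuotientGroup.mk t : Cfsg.POmega F ⇑Q) := by
  refine MulEquiv.ext fun x => ?_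
  induction x using QuotientGroup.induction_on with
  | H s =>
    rw [theta_mk _ s (t * s * t⁻¹) fun x => ?_]
    · rfl
    · show omMat (t * s * t⁻¹) *ᵥ (omMat t *ᵥ x) = omMat t *ᵥ (omMat s *ᵥ x)
      rw [← omMat_mul, inv_mul_cancel_right, omMat_mul]

variable (S : QSetting Q)

include S

/-- Similitudes acting trivially are scalars. -/
theorem theta_eq_one_iff (T : SemiT Q) :
    theta T = 1 ↔ ∃ a : F, a ≠ 0 ∧ ∀ x, T.1 x = a • x := by
  have hd := S.dim
  haveI : Fintype F := Fintype.ofFinite F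
  haveI : Fact (ringChar F).Prime := ⟨CharP.char_is_prime F (ringChar F)⟩
  set p := ringChar F
  constructor
  · intro h
    obtain ⟨e, he⟩ := exists_omEquiv (Q := Q)
    have hT := semi_spec T
    have hT0 : T.1 0 = 0 := by
      have := hT.smul 0 0
      rw [zero_smul, map_zero (sigT T), zero_smul] at this
      exact this
    have hline : ∀ L : LineT Q, ∀ a ∈ L.1, T.1 a ∈ L.1 := by
      intro L
      obtain ⟨r, hr, hrL⟩ := exists_root_of_ts2 S L.2
      obtain ⟨s, rfl⟩ := e.surjective r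
      obtain ⟨s', hs'⟩ := exists_conjOmega T s
      have h1 : (QuotientGroup.mk s : Cfsg.POmega F ⇑Q) = QuotientGroup.mk s' := by
        rw [← theta_mk T s s' hs', h]; rfl
      have hp1 : s ^ p = 1 := e.injective (by rw [map_pow, map_one]; exact hr.pow_char S p)
      have hp2 : s' ^ p = 1 := by
        have : conjOmega T s = s' := conjOmega_unique T (conjMap_spec T s) hs'
        rw [← this, ← map_pow, hp1, map_one]
      obtain ⟨z, hz, hzs⟩ := (QuotientGroup.mk'_eq_mk' _).1 h1
      have hz' : e z ∈ Subgroup.center (Om (Q := Q)) := Subgroup.mem_center_iff.2 fun y => by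
        obtain ⟨y, rfl⟩ := e.surjective y
        rw [← map_mul, ← map_mul, Subgroup.mem_center_iff.1 hz y]
      have h2 : e s = e s' := eq_of_pr S p (by rw [← map_pow, hp1, map_one])
        (by rw [← map_pow, hp2, map_one])
        ((QuotientGroup.mk'_eq_mk' _).2 ⟨e z, hz', by rw [← map_mul, hzs]⟩)
      rw [e.injective h2] at hs' hrL
      intro a ha
      rw [← hrL] at ha ⊢
      obtain ⟨y, rfl⟩ := ha
      refine ⟨T.1 y, ?_⟩
      show (e s').1 (T.1 y) - T.1 y = T.1 ((e s').1 y - y)
      rw [he, he]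
      show omMat s' *ᵥ T.1 y - T.1 y = T.1 (omMat s' *ᵥ y - y)
      rw [hs', sub_eq_add_neg ((omMat s') *ᵥ y), ← neg_one_smul F y, hT.add, hT.smul, map_neg,
        map_one, neg_one_smul, sub_eq_add_neg]
    have hpt : ∀ a, a ≠ 0 → Q a = 0 → ∃ k : F, k ≠ 0 ∧ T.1 a = k • a := by
      intro a ha hQa
      obtain ⟨k, hk⟩ := Submodule.mem_span_singleton.1
        (point_ext S ha hQa fun X hX => hline X a hX)
      exact ⟨k, fun e0 => ha (T.1.injective (by rw [← hk, e0, zero_smul, hT0])), hk.symm⟩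
    -- two orthogonal points force the field automorphism to be trivial
    obtain ⟨a, -, hQa, -, haX⟩ := S.topDec.exists_norm_out (k := 0) ![] ⊥
      (by rw [S.finrank_top_eq]; omega) (by rw [finrank_bot, S.finrank_top_eq]; omega) 0
    have ha : a ≠ 0 := fun e0 => haX (e0 ▸ zero_mem _)
    obtain ⟨b, -, hQb, hbv, hbX⟩ := S.topDec.exists_norm_out (k := 1) ![a] (Submodule.span F {a})
      (by rw [S.finrank_top_eq]; omega) (by rw [S.finrank_top_eq, finrank_span_singleton ha]; omega) 0
    have hb : b ≠ 0 := fun e0 => hbX (e0 ▸ zero_mem _)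
    have hli : LinearIndependent F ![a, b] := (LinearIndependent.pair_iff' ha).2 fun t ht =>
      hbX (ht ▸ Submodule.smul_mem _ t (Submodule.mem_span_singleton_self a))
    obtain ⟨ka, hka, eka⟩ := hpt a ha hQa
    obtain ⟨kb, hkb, ekb⟩ := hpt b hb hQb
    have key : ∀ t : F, sigT T t * kb = t * ka := by
      intro t
      have hne : a + t • b ≠ 0 := fun e0 =>
        one_ne_zero (LinearIndependent.pair_iff.1 hli 1 t (by rw [one_smul]; exact e0)).1
      obtain ⟨k, -, ek⟩ := hpt _ hne (by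
        rw [S.quad_add, S.quad_smul, hQa, hQb, map_smul, S.pB_comm, show pB Q b a = 0 from hbv 0]
        simp)
      rw [hT.add, hT.smul, eka, ekb] at ek
      obtain ⟨h1, h2⟩ := LinearIndependent.pair_iff.1 hli (ka - k) (sigT T t * kb - k * t)
        (by linear_combination (norm := module) ek)
      rw [sub_eq_zero.1 h2, ← sub_eq_zero.1 h1, mul_comm]
    have hkk : kb = ka := by have := key 1; rwa [map_one, one_mul, one_mul] at this
    have hσ : sigT T = RingEquiv.refl F := RingEquiv.ext fun t =>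
      mul_right_cancel₀ hka (by have := key t; rwa [hkk] at this)
    let g : V ≃ₗ[F] V :=
      { T.1 with
        map_add' := hT.add
        map_smul' := fun t x => by
          show T.1 (t • x) = t • T.1 x
          rw [hT.smul, hσ]; rfl }
    obtain ⟨c, hc⟩ := OrthSimple.scalar_of_fix_singular S g fun x hx hQx => by
      obtain ⟨k, -, hk⟩ := hpt x hx hQx
      exact ⟨k, hk⟩
    refine ⟨c, fun e0 => ha (T.1.injective ?_), hc⟩
    rw [hT0, show T.1 a = c • a from hc a, e0, zero_smul]
  · rintro ⟨a, -, h⟩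
    refine MulEquiv.ext fun x => ?_
    induction x using QuotientGroup.induction_on with
    | H s =>
      rw [theta_mk T s s fun x => by rw [h, h, Matrix.mulVec_smul]]
      rfl

variable (h8 : Fintype.card ι = 8 → ∀ W : Submodule F (ι → F), (∀ x ∈ W, Q x = 0) → Module.finrank F W ≤ 3)

include h8

theorem theta_surjective : Function.Surjective (theta (Q := Q)) := fun β => by
  obtain ⟨g, σ, h, hβ⟩ := exists_pair S h8 rfl β
  exact ⟨ofPair h, ((induced_iff h β).1 hβ).symm⟩

end Cfsg.Agent.AutPOmega
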