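import Cfsg.Agent.Lib.AutPOmega.Lines

/-!
# Maps of singular points preserving orthogonality are semilinear similitudes

In dimension at least seven a map of singular points preserving orthogonality, proportionality and
lines is induced by a semilinear map multiplying the form by a constant.
-/

set_option autoImplicit false
set_option linter.unusedSectionVars false

namespace Cfsg.Agent.AutPOmega

open Cfsg.Agent Cfsg.Agent.TransvMax Cfsg.Agent.QMax

variable {ι : Type} [Fintype ι] [DecidableEq ι] {F : Type*} [Field F] [Finite F]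
  {Q : QuadraticForm F (ι → F)}

local notation "V" => ι → F
local notation "B" => pB Q

/-- A hyperbolic pair. -/
structure HPair (Q : QuadraticForm F V) (e g : V) : Prop where
  qe : Q e = 0
  qg : Q g = 0
  eg : pB Q e g = 1

/-- The orthogonal complement of a pair. -/
noncomputable def perp2 (Q : QuadraticForm F V) (e g : V) : Submodule F V :=
  LinearMap.ker ((pB Q).flip e) ⊓ LinearMap.ker ((pB Q).flip g)

/-- The singular point with coordinate `w` in the cell opposite to `e`. -/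
noncomputable def cellPt (Q : QuadraticForm F V) (e g w : V) : V := g + w - Q w • e

/-- The image coordinate. -/
noncomputable def cellImg (Q : QuadraticForm F V) (f : V → V) (e g w : V) : V :=
  (pB Q (f (cellPt Q e g w)) (f e))⁻¹ • f (cellPt Q e g w)

/-- The image of `g`, normalised. -/
noncomputable def imgG (Q : QuadraticForm F V) (f : V → V) (e g : V) : V :=
  (pB Q (f e) (f g))⁻¹ • f g

/-- The induced map of complements. -/
noncomputable def phiW (Q : QuadraticForm F V) (f : V → V) (e g w : V) : V :=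
  cellImg Q f e g w - imgG Q f e g -
    pB Q (cellImg Q f e g w) (imgG Q f e g) • f e

variable (S : QSetting Q) {f : (ι → F) → ι → F} (hf : PolarMap Q f) {e g : ι → F} (H : HPair Q e g)

include S H

theorem HPair.e_ne : e ≠ 0 := fun h => zero_ne_one (α := F) (by
  rw [← H.eg, h, map_zero, LinearMap.zero_apply])

theorem HPair.g_ne : g ≠ 0 := fun h => zero_ne_one (α := F) (by rw [← H.eg, h, map_zero])

theorem HPair.ee : B e e = 0 := by rw [S.pB_self, H.qe, mul_zero]

theorem HPair.gg : B g g = 0 := by rw [S.pB_self, H.qg, mul_zero]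

theorem HPair.ge : B g e = 1 := by rw [S.pB_comm, H.eg]

theorem perp2_dec : ODec S (Submodule.span F (Set.range ![e, g])) (perp2 Q e g) := by
  have horth : ∀ a ∈ Submodule.span F (Set.range ![e, g]), ∀ b ∈ perp2 Q e g, B a b = 0 := by
    intro a ha b hb
    obtain ⟨α, β, rfl⟩ := mem_span_pair' S ha
    rw [S.pB_comm, map_add, map_smul, map_smul, show B b e = 0 from hb.1, show B b g = 0 from hb.2]
    simp
  refine ⟨⟨?_, ?_⟩, horth⟩
  · rw [Submodule.disjoint_def]
    intro x hx hx'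
    obtain ⟨α, β, rfl⟩ := mem_span_pair' S hx
    have h1 : B (α • e + β • g) e = 0 := hx'.1
    have h2 : B (α • e + β • g) g = 0 := hx'.2
    simp only [map_add, LinearMap.add_apply, LinearMap.map_smul₂, smul_eq_mul, H.ee S, H.ge S, H.eg,
      H.gg S, mul_zero, zero_add, add_zero, mul_one] at h1 h2
    rw [h1, h2]; simp
  · rw [codisjoint_iff, eq_top_iff]
    intro x _
    refine Submodule.mem_sup.2 ⟨B x g • e + B x e • g,
      add_mem (Submodule.smul_mem _ _ (mem_left S e g)) (Submodule.smul_mem _ _ (mem_right S e g)),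
      x - (B x g • e + B x e • g), ⟨?_, ?_⟩, by abel⟩
    · show B (x - (B x g • e + B x e • g)) e = 0
      simp only [map_sub, map_add, LinearMap.sub_apply, LinearMap.add_apply, LinearMap.map_smul₂,
        smul_eq_mul, H.ee S, H.ge S]
      ring
    · show B (x - (B x g • e + B x e • g)) g = 0
      simp only [map_sub, map_add, LinearMap.sub_apply, LinearMap.add_apply, LinearMap.map_smul₂,
        smul_eq_mul, H.eg, H.gg S]
      ring

theorem five_le_perp2 : 5 ≤ Module.finrank F (perp2 Q e g) := by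
  have h := (perp2_dec S H).finrank_add
  have h2 : Module.finrank F (Submodule.span F (Set.range ![e, g])) ≤ 2 :=
    (finrank_range_le_card ![e, g]).trans (by simp)
  have := S.dim
  omega

theorem exists_sing_val {d : V} (hd : d ∈ perp2 Q e g) (hd0 : d ≠ 0) :
    ∃ u ∈ perp2 Q e g, Q u = 0 ∧ B u d = 1 := by
  obtain ⟨u, hu, hQu, huv⟩ := (perp2_dec S H).exists_values_in (v := ![d])
    (fun i => by fin_cases i; exact hd) (by simp [linearIndependent_unique_iff, hd0])
    (by have := five_le_perp2 S H; omega) ![1] 0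
  exact ⟨u, hu, hQu, huv 0⟩

/-- Each vector of the complement is a sum of two singular ones. -/
theorem sum_sing {w : V} (hw : w ∈ perp2 Q e g) :
    ∃ a b, a ∈ perp2 Q e g ∧ Q a = 0 ∧ b ∈ perp2 Q e g ∧ Q b = 0 ∧ w = a + b := by
  rcases eq_or_ne w 0 with h | h
  · exact ⟨0, 0, zero_mem _, map_zero Q, zero_mem _, map_zero Q, by rw [h, add_zero]⟩
  obtain ⟨u, hu, hQu, huw⟩ := exists_sing_val S H hw h
  refine ⟨w + -Q w • u, Q w • u, add_mem hw (Submodule.smul_mem _ _ hu), ?_,
    Submodule.smul_mem _ _ hu, by rw [S.quad_smul, hQu, mul_zero], by module⟩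
  rw [S.quad_add, S.quad_smul, hQu, map_smul, S.pB_comm w u, huw, smul_eq_mul]; ring

theorem exists_perp_sing {d : V} (hd0 : d ≠ 0) :
    ∃ z ∈ perp2 Q e g, Q z = 0 ∧ B z d = 0 ∧ z ≠ 0 ∧ z ∉ Submodule.span F {d} := by
  obtain ⟨z, hz, hQz, hzv, hzX⟩ := (perp2_dec S H).exists_norm_out (k := 1) ![d]
    (Submodule.span F {d}) (by have := five_le_perp2 S H; omega)
    (by rw [finrank_span_singleton hd0]; have := five_le_perp2 S H; omega) 0
  exact ⟨z, hz, hQz, hzv 0, fun h => hzX (h ▸ zero_mem _), hzX⟩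

theorem cellPt_e {w : V} (hw : w ∈ perp2 Q e g) : B (cellPt Q e g w) e = 1 := by
  rw [cellPt, map_sub, map_add, LinearMap.sub_apply, LinearMap.add_apply, LinearMap.map_smul₂,
    H.ge S, H.ee S, show B w e = 0 from hw.1]
  simp

theorem cellPt_ne {w : V} (hw : w ∈ perp2 Q e g) : cellPt Q e g w ≠ 0 := fun h =>
  zero_ne_one (α := F) (by rw [← cellPt_e S H hw, h, map_zero, LinearMap.zero_apply])

theorem cellPt_quad {w : V} (hw : w ∈ perp2 Q e g) : Q (cellPt Q e g w) = 0 := by
  rw [cellPt, sub_eq_add_neg, ← neg_smul, S.quad_add, S.quad_add, S.quad_smul, H.qe, H.qg,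
    map_smul, map_add, LinearMap.add_apply, S.pB_comm g w, show B w g = 0 from hw.2, H.ge S,
    show B w e = 0 from hw.1]
  simp

theorem cellPt_zero : cellPt Q e g 0 = g := by simp [cellPt]

include hf

theorem fe_spec : f e ≠ 0 ∧ Q (f e) = 0 := hf.sing e (H.e_ne S) H.qe

theorem feg_ne : B (f e) (f g) ≠ 0 := fun h => one_ne_zero (α := F) (by
  rw [← H.eg]; exact (hf.orth e g (H.e_ne S) H.qe (H.g_ne S) H.qg).2 h)

theorem imgH : HPair Q (f e) (imgG Q f e g) :=
  ⟨(fe_spec S hf H).2, by rw [imgG, S.quad_smul, (hf.sing g (H.g_ne S) H.qg).2, mul_zero],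
    by rw [imgG, map_smul, smul_eq_mul, inv_mul_cancel₀ (feg_ne S hf H)]⟩

theorem fpt_e_ne {w : V} (hw : w ∈ perp2 Q e g) : B (f (cellPt Q e g w)) (f e) ≠ 0 := fun h =>
  one_ne_zero (α := F) (by
    rw [← cellPt_e S H hw]
    exact (hf.orth _ e (cellPt_ne S H hw) (cellPt_quad S H hw) (H.e_ne S) H.qe).2 h)

theorem cellImg_e {w : V} (hw : w ∈ perp2 Q e g) : B (cellImg Q f e g w) (f e) = 1 := by
  rw [cellImg, LinearMap.map_smul₂, smul_eq_mul, inv_mul_cancel₀ (fpt_e_ne S hf H hw)]

theorem cellImg_quad {w : V} (hw : w ∈ perp2 Q e g) : Q (cellImg Q f e g w) = 0 := by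
  rw [cellImg, S.quad_smul, (hf.sing _ (cellPt_ne S H hw) (cellPt_quad S H hw)).2, mul_zero]

theorem phiW_mem {w : V} (hw : w ∈ perp2 Q e g) :
    phiW Q f e g w ∈ perp2 Q (f e) (imgG Q f e g) := by
  have H' := imgH S hf H
  refine ⟨?_, ?_⟩
  · show B (phiW Q f e g w) (f e) = 0
    simp only [phiW, map_sub, LinearMap.sub_apply, LinearMap.map_smul₂, cellImg_e S hf H hw, H'.ge S,
      H'.ee S, smul_zero, sub_self]
  · show B (phiW Q f e g w) (imgG Q f e g) = 0
    simp only [phiW, map_sub, LinearMap.sub_apply, LinearMap.map_smul₂, H'.gg S, H'.eg, smul_eq_mul,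
      mul_one, sub_zero, sub_self]

theorem cellImg_eq {w : V} (hw : w ∈ perp2 Q e g) :
    cellImg Q f e g w = cellPt Q (f e) (imgG Q f e g) (phiW Q f e g w) := by
  have H' := imgH S hf H
  have hm := phiW_mem S hf H hw
  have h : cellImg Q f e g w = imgG Q f e g + phiW Q f e g w +
      pB Q (cellImg Q f e g w) (imgG Q f e g) • f e := by simp only [phiW]; module
  have h0 := cellImg_quad S hf H hw
  set t := pB Q (cellImg Q f e g w) (imgG Q f e g)
  rw [h, S.quad_add, S.quad_add, S.quad_smul, H'.qe, H'.qg, map_smul, map_add, LinearMap.add_apply,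
    S.pB_comm (imgG Q f e g) (phiW Q f e g w), show B (phiW Q f e g w) (imgG Q f e g) = 0 from hm.2,
    H'.ge S, show B (phiW Q f e g w) (f e) = 0 from hm.1, smul_eq_mul] at h0
  rw [h, cellPt, show t = -Q (phiW Q f e g w) by linear_combination h0]
  module

theorem phiW_zero : phiW Q f e g 0 = 0 := by
  have H' := imgH S hf H
  have : cellImg Q f e g 0 = imgG Q f e g := by
    rw [cellImg, cellPt_zero S H, imgG, S.pB_comm (f g) (f e)]
  rw [phiW, this, H'.gg S]
  simp

/-- The difference of the images along a line towards `d - B(w,d) e`. -/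
theorem cell_step {w d : V} (hw : w ∈ perp2 Q e g) (hd : d ∈ perp2 Q e g) (hd0 : d ≠ 0) (hQd : Q d = 0) :
    ∃ k : F, f (d - B w d • e) = k • (cellImg Q f e g (w + d) - cellImg Q f e g w) := by
  have hwd := add_mem hw hd
  have hQu : Q (d - B w d • e) = 0 := by
    rw [sub_eq_add_neg, ← neg_smul, S.quad_add, S.quad_smul, hQd, H.qe, map_smul,
      show B d e = 0 from hd.1]
    simp
  have hu0 : d - B w d • e ≠ 0 := fun h => by
    have h1 : B (d - B w d • e) g = 0 := by rw [h, map_zero, LinearMap.zero_apply]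
    rw [map_sub, LinearMap.sub_apply, LinearMap.map_smul₂, show B d g = 0 from hd.2, H.eg, smul_eq_mul,
      mul_one, zero_sub, neg_eq_zero] at h1
    rw [h1, zero_smul, sub_zero] at h
    exact hd0 h
  have heq : cellPt Q e g (w + d) = cellPt Q e g w + (d - B w d • e) := by
    rw [cellPt, cellPt, S.quad_add, hQd]; module
  have hac : B (cellPt Q e g w) (cellPt Q e g (w + d)) = 0 := by
    have h := S.quad_add (cellPt Q e g w) (d - B w d • e)
    rw [← heq, cellPt_quad S H hwd, cellPt_quad S H hw, hQu, zero_add, zero_add] at h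
    rw [heq, map_add, ← h, S.pB_self, cellPt_quad S H hw, mul_zero, add_zero]
  have hl := hf.line _ _ _ (cellPt_ne S H hw) (cellPt_quad S H hw) hu0 hQu (cellPt_ne S H hwd)
    (cellPt_quad S H hwd) hac (by
      have e1 : d - B w d • e = cellPt Q e g (w + d) - cellPt Q e g w := by rw [heq]; abel
      rw [e1]
      exact sub_mem (mem_right S _ _) (mem_left S _ _))
  have horth : B (f (d - B w d • e)) (f e) = 0 := (hf.orth _ e hu0 hQu (H.e_ne S) H.qe).1 (by
    rw [map_sub, LinearMap.sub_apply, LinearMap.map_smul₂, show B d e = 0 from hd.1, H.ee S]; simp)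
  obtain ⟨α, β, hu⟩ := mem_span_pair' S hl
  have hr : ∀ x ∈ perp2 Q e g, f (cellPt Q e g x) = B (f (cellPt Q e g x)) (f e) • cellImg Q f e g x :=
    fun x hx => by rw [cellImg, smul_smul, mul_inv_cancel₀ (fpt_e_ne S hf H hx), one_smul]
  rw [hu, hr w hw, hr (w + d) hwd, smul_smul, smul_smul, map_add, LinearMap.add_apply,
    LinearMap.map_smul₂, LinearMap.map_smul₂, cellImg_e S hf H hw, cellImg_e S hf H hwd, smul_eq_mul,
    smul_eq_mul, mul_one, mul_one] at horth
  refine ⟨β * B (f (cellPt Q e g (w + d))) (f e), ?_⟩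
  rw [hu]
  conv_lhs => rw [hr w hw, hr (w + d) hwd]
  rw [smul_smul, smul_smul, eq_neg_of_add_eq_zero_left horth]
  module

theorem fd_mem {d : V} (hd : d ∈ perp2 Q e g) (hd0 : d ≠ 0) (hQd : Q d = 0) :
    f d ∈ perp2 Q (f e) (imgG Q f e g) := by
  refine ⟨(hf.orth d e hd0 hQd (H.e_ne S) H.qe).1 hd.1, ?_⟩
  show B (f d) (imgG Q f e g) = 0
  rw [imgG, map_smul, (hf.orth d g hd0 hQd (H.g_ne S) H.qg).1 hd.2, smul_zero]

theorem phiW_sing {d : V} (hd : d ∈ perp2 Q e g) (hd0 : d ≠ 0) (hQd : Q d = 0) :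
    ∃ t : F, t ≠ 0 ∧ phiW Q f e g d = t • f d := by
  have H' := imgH S hf H
  obtain ⟨k, hk⟩ := cell_step S hf H (zero_mem _) hd hd0 hQd
  rw [zero_add, map_zero, LinearMap.zero_apply, zero_smul, sub_zero,
    cellImg_eq S hf H hd, cellImg_eq S hf H (zero_mem _), phiW_zero S hf H, cellPt_zero S H'] at hk
  have hk0 : k ≠ 0 := fun h => (hf.sing d hd0 hQd).1 (by rw [hk, h, zero_smul])
  have hm := phiW_mem S hf H hd
  have h2 : B (f d) (imgG Q f e g) = 0 := (fd_mem S hf H hd hd0 hQd).2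
  rw [hk, LinearMap.map_smul₂, cellPt, map_sub, map_sub, map_add, LinearMap.sub_apply,
    LinearMap.sub_apply, LinearMap.add_apply, LinearMap.map_smul₂, H'.gg S, H'.eg,
    show B (phiW Q f e g d) (imgG Q f e g) = 0 from hm.2] at h2
  simp only [smul_eq_mul, add_zero, mul_one, zero_sub, sub_zero, mul_neg, neg_eq_zero, mul_eq_zero,
    hk0, false_or] at h2
  refine ⟨k⁻¹, inv_ne_zero hk0, ?_⟩
  rw [hk, cellPt, h2, zero_smul, sub_zero, add_sub_cancel_left, smul_smul, inv_mul_cancel₀ hk0, one_smul]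

theorem phiW_ne {d : V} (hd : d ∈ perp2 Q e g) (hd0 : d ≠ 0) (hQd : Q d = 0) :
    phiW Q f e g d ≠ 0 := by
  obtain ⟨t, ht, h⟩ := phiW_sing S hf H hd hd0 hQd
  rw [h]
  exact smul_ne_zero ht (hf.sing d hd0 hQd).1

/-- Translating by a singular vector. -/
theorem phiW_step {w d : V} (hw : w ∈ perp2 Q e g) (hd : d ∈ perp2 Q e g) (hd0 : d ≠ 0) (hQd : Q d = 0) :
    ∃ l : F, phiW Q f e g (w + d) = phiW Q f e g w + l • phiW Q f e g d := by
  have H' := imgH S hf H
  obtain ⟨k, hk⟩ := cell_step S hf H hw hd hd0 hQd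
  obtain ⟨t, ht, htd⟩ := phiW_sing S hf H hd hd0 hQd
  have hu : d - B w d • e ∈ Submodule.span F (Set.range ![d, e]) :=
    sub_mem (mem_left S d e) (Submodule.smul_mem _ _ (mem_right S d e))
  have hQu : Q (d - B w d • e) = 0 := by
    rw [sub_eq_add_neg, ← neg_smul, S.quad_add, S.quad_smul, hQd, H.qe, map_smul,
      show B d e = 0 from hd.1]
    simp
  have hu0 : d - B w d • e ≠ 0 := fun h => by
    have h1 : B (d - B w d • e) g = 0 := by rw [h, map_zero, LinearMap.zero_apply]
    rw [map_sub, LinearMap.sub_apply, LinearMap.map_smul₂, show B d g = 0 from hd.2, H.eg, smul_eq_mul,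
      mul_one, zero_sub, neg_eq_zero] at h1
    rw [h1, zero_smul, sub_zero] at h
    exact hd0 h
  obtain ⟨α, β, hfu⟩ := mem_span_pair' S
    (hf.line d _ e hd0 hQd hu0 hQu (H.e_ne S) H.qe hd.1 hu)
  have hk0 : k ≠ 0 := fun h => (hf.sing _ hu0 hQu).1 (by rw [hk, h, zero_smul])
  rw [hfu, cellImg_eq S hf H (add_mem hw hd), cellImg_eq S hf H hw, cellPt, cellPt] at hk
  refine ⟨k⁻¹ * α * t⁻¹, ?_⟩
  set P := phiW Q f e g (w + d)
  set R := phiW Q f e g w
  have hz : k • (P - R) - α • f d = (β + k * (Q P - Q R)) • f e := by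
    linear_combination (norm := module) -hk
  have hmem : (β + k * (Q P - Q R)) • f e ∈ perp2 Q (f e) (imgG Q f e g) := hz ▸ sub_mem
    (Submodule.smul_mem _ _ (sub_mem (phiW_mem S hf H (add_mem hw hd)) (phiW_mem S hf H hw)))
    (Submodule.smul_mem _ _ (fd_mem S hf H hd hd0 hQd))
  have h0 : B ((β + k * (Q P - Q R)) • f e) (imgG Q f e g) = 0 := hmem.2
  rw [LinearMap.map_smul₂, H'.eg, smul_eq_mul, mul_one] at h0
  rw [h0, zero_smul, sub_eq_zero] at hz
  rw [htd, smul_smul, mul_assoc _ t⁻¹ t, inv_mul_cancel₀ ht, mul_one, ← smul_smul, ← hz, smul_smul,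
    inv_mul_cancel₀ hk0, one_smul]
  module

theorem phiW_indep {d d' : V} (hd : d ∈ perp2 Q e g) (hd0 : d ≠ 0) (hQd : Q d = 0)
    (hd' : d' ∈ perp2 Q e g) (hd'0 : d' ≠ 0) (hQd' : Q d' = 0) (h : d' ∉ Submodule.span F {d}) :
    ∀ a b : F, a • phiW Q f e g d + b • phiW Q f e g d' = 0 → a = 0 ∧ b = 0 := by
  obtain ⟨t, ht, htd⟩ := phiW_sing S hf H hd hd0 hQd
  obtain ⟨t', ht', htd'⟩ := phiW_sing S hf H hd' hd'0 hQd'
  intro a b hab
  rw [htd, htd', smul_smul, smul_smul] at hab
  have hli : LinearIndependent F ![f d, f d'] := (LinearIndependent.pair_iff' (hf.sing d hd0 hQd).1).2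
    fun s hs => h ((hf.prop d d' hd0 hQd hd'0 hQd').2 (hs ▸ Submodule.smul_mem _ s
      (Submodule.mem_span_singleton_self _)))
  have := LinearIndependent.pair_iff.1 hli _ _ hab
  exact ⟨(mul_eq_zero.1 this.1).resolve_right ht, (mul_eq_zero.1 this.2).resolve_right ht'⟩

theorem phiW_add_indep {d d' : V} (hd : d ∈ perp2 Q e g) (hd0 : d ≠ 0) (hQd : Q d = 0)
    (hd' : d' ∈ perp2 Q e g) (hd'0 : d' ≠ 0) (hQd' : Q d' = 0) (h : d' ∉ Submodule.span F {d}) :
    phiW Q f e g (d' + d) = phiW Q f e g d' + phiW Q f e g d := by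
  obtain ⟨l, hl⟩ := phiW_step S hf H hd' hd hd0 hQd
  obtain ⟨l', hl'⟩ := phiW_step S hf H hd hd' hd'0 hQd'
  rw [add_comm d d', hl] at hl'
  have := phiW_indep S hf H hd hd0 hQd hd' hd'0 hQd' h (l - 1) (1 - l')
    (by linear_combination (norm := module) hl')
  rw [hl, sub_eq_zero.1 this.1, one_smul]

theorem phiW_add_sing {w d : V} (hw : w ∈ perp2 Q e g) (hd : d ∈ perp2 Q e g) (hQd : Q d = 0) :
    phiW Q f e g (w + d) = phiW Q f e g w + phiW Q f e g d := by
  rcases eq_or_ne d 0 with rfl | hd0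
  · rw [add_zero, phiW_zero S hf H, add_zero]
  have hφd := phiW_ne S hf H hd hd0 hQd
  have swap : ∀ w ∈ perp2 Q e g, ∀ d' ∈ perp2 Q e g, Q d' = 0 → d' ≠ 0 →
      d' ∉ Submodule.span F {d} →
      (phiW Q f e g (w + d) = phiW Q f e g w + phiW Q f e g d ↔
        phiW Q f e g (w + d' + d) = phiW Q f e g (w + d') + phiW Q f e g d) := by
    intro w hw d' hd' hQd' hd'0 hns
    obtain ⟨l, hl⟩ := phiW_step S hf H hw hd hd0 hQd
    obtain ⟨l', hl'⟩ := phiW_step S hf H (add_mem hw hd') hd hd0 hQd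
    obtain ⟨m, hm⟩ := phiW_step S hf H hw hd' hd'0 hQd'
    obtain ⟨m', hm'⟩ := phiW_step S hf H (add_mem hw hd) hd' hd'0 hQd'
    rw [show w + d + d' = w + d' + d by abel, hl', hm, hl] at hm'
    have := (phiW_indep S hf H hd hd0 hQd hd' hd'0 hQd' hns (l' - l) (m - m')
      (by linear_combination (norm := module) hm')).1
    rw [hl, hl', sub_eq_zero.1 this]
    constructor <;> intro h <;> rw [add_left_cancel h]
  -- every singular vector is a sum of two not proportional to `d`
  have one : ∀ w ∈ perp2 Q e g, ∀ a ∈ perp2 Q e g, Q a = 0 →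
      (phiW Q f e g (w + d) = phiW Q f e g w + phiW Q f e g d ↔
        phiW Q f e g (w + a + d) = phiW Q f e g (w + a) + phiW Q f e g d) := by
    intro w hw a ha hQa
    rcases eq_or_ne a 0 with rfl | ha0
    · rw [add_zero]
    by_cases hs : a ∈ Submodule.span F {d}
    · obtain ⟨z, hz, hQz, hzd, hz0, hzs⟩ := exists_perp_sing S H hd0
      obtain ⟨t, rfl⟩ := Submodule.mem_span_singleton.1 hs
      have h1 : t • d + z ∉ Submodule.span F {d} := fun h => hzs
        ((Submodule.add_mem_iff_right _ hs).1 h)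
      have h2 : -z ∉ Submodule.span F {d} := fun h => hzs (neg_mem_iff.1 h)
      rw [swap w hw (t • d + z) (add_mem ha hz)
        (by rw [S.quad_add, hQa, hQz, LinearMap.map_smul₂, S.pB_comm d z, hzd]; simp)
        (fun h => h1 (h ▸ zero_mem _)) h1,
        swap (w + (t • d + z)) (add_mem hw (add_mem ha hz)) (-z) (neg_mem hz)
        (by rw [← neg_one_smul F z, S.quad_smul, hQz]; simp) (neg_ne_zero.2 hz0) h2,
        show w + (t • d + z) + -z = w + t • d by abel]
    · exact swap w hw a ha hQa ha0 hs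
  obtain ⟨a, b, ha, hQa, hb, hQb, rfl⟩ := sum_sing S H hw
  have base : phiW Q f e g (0 + d) = phiW Q f e g 0 + phiW Q f e g d := by
    rw [zero_add, phiW_zero S hf H, zero_add]
  have h1 := (one 0 (zero_mem _) a ha hQa).1 base
  rw [zero_add] at h1
  exact (one a ha b hb hQb).1 h1

theorem phiW_add {v w : V} (hv : v ∈ perp2 Q e g) (hw : w ∈ perp2 Q e g) :
    phiW Q f e g (v + w) = phiW Q f e g v + phiW Q f e g w := by
  obtain ⟨a, b, ha, hQa, hb, hQb, rfl⟩ := sum_sing S H hw
  rw [← add_assoc, phiW_add_sing S hf H (add_mem hv ha) hb hQb, phiW_add_sing S hf H hv ha hQa,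
    phiW_add_sing S hf H ha hb hQb, add_assoc]

theorem phiW_smul_exists {d : V} (hd : d ∈ perp2 Q e g) (hd0 : d ≠ 0) (hQd : Q d = 0) (t : F) :
    ∃ l : F, phiW Q f e g (t • d) = l • phiW Q f e g d := by
  rcases eq_or_ne t 0 with rfl | ht
  · exact ⟨0, by rw [zero_smul, zero_smul, phiW_zero S hf H]⟩
  have hQt : Q (t • d) = 0 := by rw [S.quad_smul, hQd, mul_zero]
  have ht0 : t • d ≠ 0 := smul_ne_zero ht hd0
  obtain ⟨a, -, ha⟩ := phiW_sing S hf H (Submodule.smul_mem _ t hd) ht0 hQt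
  obtain ⟨b, hb, hb'⟩ := phiW_sing S hf H hd hd0 hQd
  obtain ⟨k, hk⟩ := Submodule.mem_span_singleton.1 ((hf.prop d (t • d) hd0 hQd ht0 hQt).1
    (Submodule.smul_mem _ t (Submodule.mem_span_singleton_self d)))
  refine ⟨a * k * b⁻¹, ?_⟩
  rw [ha, hb', ← hk, smul_smul, smul_smul, mul_assoc _ b⁻¹ b, inv_mul_cancel₀ hb, mul_one]

/-- Scalars on two orthogonal singular vectors act in the same way. -/
theorem same_scalar {d z : V} (hd : d ∈ perp2 Q e g) (hd0 : d ≠ 0) (hQd : Q d = 0)
    (hz : z ∈ perp2 Q e g) (hz0 : z ≠ 0) (hQz : Q z = 0) (hdz : B d z = 0)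
    (hs : z ∉ Submodule.span F {d}) {t a b : F}
    (ha : phiW Q f e g (t • d) = a • phiW Q f e g d)
    (hb : phiW Q f e g (t • z) = b • phiW Q f e g z) : a = b := by
  have hne : d + z ≠ 0 := fun h => hs (by
    rw [eq_neg_of_add_eq_zero_right h]; exact neg_mem (Submodule.mem_span_singleton_self d))
  obtain ⟨l, hl⟩ := phiW_smul_exists S hf H (add_mem hd hz) hne
    (by rw [S.quad_add, hQd, hQz, hdz, add_zero, add_zero]) t
  rw [smul_add, phiW_add S hf H (Submodule.smul_mem _ t hd) (Submodule.smul_mem _ t hz),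
    phiW_add S hf H hd hz, ha, hb] at hl
  obtain ⟨h1, h2⟩ := phiW_indep S hf H hd hd0 hQd hz hz0 hQz hs (a - l) (b - l)
    (by linear_combination (norm := module) hl)
  linear_combination h1 - h2

/-- A singular vector orthogonal to two given singular ones. -/
theorem exists_link {d d' : V} (hd : d ∈ perp2 Q e g) (hd0 : d ≠ 0) (hQd : Q d = 0)
    (hd' : d' ∈ perp2 Q e g) (hd'0 : d' ≠ 0) (hQd' : Q d' = 0) :
    ∃ z, (z ∈ perp2 Q e g ∧ z ≠ 0 ∧ Q z = 0 ∧ B d z = 0 ∧ B d' z = 0 ∧ z ∉ Submodule.span F {d} ∧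
      z ∉ Submodule.span F {d'}) ∨ (B d d' = 0 ∧ d' ∉ Submodule.span F {d}) := by
  obtain ⟨z, hz, hQz, hzd, hz0, hzs⟩ := exists_perp_sing S H hd0
  by_cases hs : d' ∈ Submodule.span F {d}
  · obtain ⟨t, rfl⟩ := Submodule.mem_span_singleton.1 hs
    refine ⟨z, Or.inl ⟨hz, hz0, hQz, by rw [S.pB_comm, hzd], ?_, hzs, fun h => hzs ?_⟩⟩
    · rw [LinearMap.map_smul₂, S.pB_comm, hzd, smul_zero]
    · obtain ⟨r, rfl⟩ := Submodule.mem_span_singleton.1 h
      exact Submodule.smul_mem _ r hs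
  by_cases h0 : B d d' = 0
  · exact ⟨z, Or.inr ⟨h0, hs⟩⟩
  set r := B z d' / B d d'
  have hd_d : B d d = 0 := by rw [S.pB_self, hQd, mul_zero]
  refine ⟨z + -r • d, Or.inl ⟨add_mem hz (Submodule.smul_mem _ _ hd), fun h => hzs ?_, ?_, ?_, ?_, ?_, ?_⟩⟩
  · rw [eq_neg_of_add_eq_zero_left h]
    exact neg_mem (Submodule.smul_mem _ _ (Submodule.mem_span_singleton_self d))
  · rw [S.quad_add, S.quad_smul, hQz, hQd, map_smul, hzd, smul_eq_mul]; ring
  · rw [map_add, map_smul, hd_d, S.pB_comm, hzd, smul_eq_mul]; ring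
  · rw [map_add, map_smul, S.pB_comm d' z, S.pB_comm d' d, smul_eq_mul]
    show B z d' + -(B z d' / B d d') * B d d' = 0
    rw [neg_mul, div_mul_cancel₀ _ h0, add_neg_cancel]
  · exact fun h => hzs ((Submodule.add_mem_iff_left _
      (Submodule.smul_mem _ _ (Submodule.mem_span_singleton_self d))).1 h)
  · intro h
    obtain ⟨k, hk⟩ := Submodule.mem_span_singleton.1 h
    have h1 := congrArg (pB Q d) hk
    rw [map_smul, map_add, map_smul, hd_d, S.pB_comm d z, hzd, smul_zero, add_zero, smul_eq_mul] at h1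
    rw [(mul_eq_zero.1 h1).resolve_right h0, zero_smul] at hk
    refine hzs ?_
    rw [eq_neg_of_add_eq_zero_left hk.symm]
    exact neg_mem (Submodule.smul_mem _ _ (Submodule.mem_span_singleton_self d))

/-- The map of the complement is semilinear. -/
theorem exists_sigma :
    ∃ σ : F ≃+* F, ∀ t : F, ∀ w ∈ perp2 Q e g, phiW Q f e g (t • w) = σ t • phiW Q f e g w := by
  obtain ⟨d₀, hd₀, hd₀0, hQd₀⟩ : ∃ d ∈ perp2 Q e g, d ≠ 0 ∧ Q d = 0 := by
    obtain ⟨z, hz, hQz, -, hz0, -⟩ := exists_perp_sing S H (H.e_ne S)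
    exact ⟨z, hz, hz0, hQz⟩
  choose σ₀ hσ₀ using fun t => phiW_smul_exists S hf H hd₀ hd₀0 hQd₀ t
  have hsing : ∀ t : F, ∀ d ∈ perp2 Q e g, Q d = 0 →
      phiW Q f e g (t • d) = σ₀ t • phiW Q f e g d := by
    intro t d hd hQd
    rcases eq_or_ne d 0 with rfl | hd0
    · rw [smul_zero, phiW_zero S hf H, smul_zero]
    obtain ⟨a, ha⟩ := phiW_smul_exists S hf H hd hd0 hQd t
    rw [ha]
    obtain ⟨z, hz⟩ := exists_link S hf H hd hd0 hQd hd₀ hd₀0 hQd₀
    rcases hz with ⟨hz, hz0, hQz, h1, h2, h3, h4⟩ | ⟨h1, h2⟩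
    · obtain ⟨b, hb⟩ := phiW_smul_exists S hf H hz hz0 hQz t
      rw [(same_scalar S hf H hd hd0 hQd hz hz0 hQz h1 h3 ha hb).trans
        (same_scalar S hf H hd₀ hd₀0 hQd₀ hz hz0 hQz h2 h4 (hσ₀ t) hb).symm]
    · rw [same_scalar S hf H hd hd0 hQd hd₀ hd₀0 hQd₀ h1 h2 ha (hσ₀ t)]
  have hall : ∀ t : F, ∀ w ∈ perp2 Q e g, phiW Q f e g (t • w) = σ₀ t • phiW Q f e g w := by
    intro t w hw
    obtain ⟨a, b, ha, hQa, hb, hQb, rfl⟩ := sum_sing S H hw
    rw [smul_add, phiW_add S hf H (Submodule.smul_mem _ t ha) (Submodule.smul_mem _ t hb),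
      phiW_add S hf H ha hb, hsing t a ha hQa, hsing t b hb hQb, smul_add]
  have hne := phiW_ne S hf H hd₀ hd₀0 hQd₀
  have hadd : ∀ s t, σ₀ (s + t) = σ₀ s + σ₀ t := fun s t => smul_left_injective F hne (by
    show σ₀ (s + t) • _ = (σ₀ s + σ₀ t) • _
    rw [← hσ₀, add_smul, phiW_add S hf H (Submodule.smul_mem _ s hd₀) (Submodule.smul_mem _ t hd₀),
      hσ₀, hσ₀, add_smul])
  have hmul : ∀ s t, σ₀ (s * t) = σ₀ s * σ₀ t := fun s t => smul_left_injective F hne (by
    show σ₀ (s * t) • _ = (σ₀ s * σ₀ t) • _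
    rw [← hσ₀, ← smul_smul, hall s _ (Submodule.smul_mem _ t hd₀), hσ₀, smul_smul])
  have h1 : σ₀ 1 = 1 := smul_left_injective F hne (by
    show σ₀ 1 • _ = (1 : F) • _
    rw [← hσ₀, one_smul, one_smul])
  have h0 : σ₀ 0 = 0 := smul_left_injective F hne (by
    show σ₀ 0 • _ = (0 : F) • _
    rw [← hσ₀, zero_smul, zero_smul, phiW_zero S hf H])
  let σ : F →+* F := { toFun := σ₀, map_one' := h1, map_mul' := hmul, map_zero' := h0, map_add' := hadd }
  exact ⟨RingEquiv.ofBijective σ (Finite.injective_iff_bijective.1 σ.injective), hall⟩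

/-- The map of the complement multiplies the form by a constant. -/
theorem exists_multiplier {σ : F ≃+* F}
    (hσ : ∀ t : F, ∀ w ∈ perp2 Q e g, phiW Q f e g (t • w) = σ t • phiW Q f e g w) :
    ∃ c : F, c ≠ 0 ∧
      (∀ v ∈ perp2 Q e g, ∀ w ∈ perp2 Q e g,
        B (phiW Q f e g v) (phiW Q f e g w) = c * σ (B v w)) ∧
      ∀ w ∈ perp2 Q e g, Q (phiW Q f e g w) = c * σ (Q w) := by
  have H' := imgH S hf H
  have D := perp2_dec S H
  have hQφ : ∀ d ∈ perp2 Q e g, d ≠ 0 → Q d = 0 → Q (phiW Q f e g d) = 0 := fun d hd hd0 hQd => by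
    obtain ⟨t, -, h⟩ := phiW_sing S hf H hd hd0 hQd
    rw [h, S.quad_smul, (hf.sing d hd0 hQd).2, mul_zero]
  -- values against a singular vector only depend on the value
  have hval : ∀ d ∈ perp2 Q e g, d ≠ 0 → Q d = 0 → ∀ v ∈ perp2 Q e g, ∀ w ∈ perp2 Q e g,
      B v d = B w d → B (phiW Q f e g v) (phiW Q f e g d) = B (phiW Q f e g w) (phiW Q f e g d) := by
    intro d hd hd0 hQd v hv w hw hvw
    have key : ∀ x ∈ perp2 Q e g, ∃ k : F, f (d - B x d • e) =
        k • (phiW Q f e g d - B (phiW Q f e g x) (phiW Q f e g d) • f e) := by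
      intro x hx
      obtain ⟨k, hk⟩ := cell_step S hf H hx hd hd0 hQd
      refine ⟨k, hk.trans (congrArg (k • ·) ?_)⟩
      rw [cellImg_eq S hf H (add_mem hx hd), cellImg_eq S hf H hx, cellPt, cellPt,
        phiW_add S hf H hx hd, S.quad_add, hQφ d hd hd0 hQd]
      module
    obtain ⟨k, hk⟩ := key v hv
    obtain ⟨k', hk'⟩ := key w hw
    rw [← hvw, hk] at hk'
    have hu0 : d - B v d • e ≠ 0 := fun h => by
      have h1 := congrArg (fun x => pB Q x g) h
      simp only [map_sub, LinearMap.sub_apply, LinearMap.map_smul₂, show B d g = 0 from hd.2, H.eg,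
        smul_eq_mul, mul_one, zero_sub, map_zero, LinearMap.zero_apply, neg_eq_zero] at h1
      rw [h1, zero_smul, sub_zero] at h
      exact hd0 h
    have hQu : Q (d - B v d • e) = 0 := by
      rw [sub_eq_add_neg, ← neg_smul, S.quad_add, S.quad_smul, hQd, H.qe, map_smul,
        show B d e = 0 from hd.1]
      simp
    have hk0 : k ≠ 0 := fun h => (hf.sing _ hu0 hQu).1 (by rw [hk, h, zero_smul])
    have hm := phiW_mem S hf H hd
    set P := phiW Q f e g d
    have hz : (k - k') • P = (k * B (phiW Q f e g v) P - k' * B (phiW Q f e g w) P) • f e := by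
      linear_combination (norm := module) hk'
    have h0 := congrArg (fun x => pB Q x (imgG Q f e g)) hz
    simp only [LinearMap.map_smul₂, show B P (imgG Q f e g) = 0 from hm.2, H'.eg, smul_eq_mul,
      mul_zero, mul_one] at h0
    rw [← h0, zero_smul, smul_eq_zero, sub_eq_zero] at hz
    rw [← hz.resolve_right (phiW_ne S hf H hd hd0 hQd), ← mul_sub] at h0
    exact sub_eq_zero.1 ((mul_eq_zero.1 h0.symm).resolve_left hk0)
  choose cst hcst using fun (d : V) (hd : d ∈ perp2 Q e g ∧ d ≠ 0 ∧ Q d = 0) =>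
    (show ∃ c : F, c ≠ 0 ∧ ∀ w ∈ perp2 Q e g,
        B (phiW Q f e g w) (phiW Q f e g d) = c * σ (B w d) by
      obtain ⟨hd, hd0, hQd⟩ := hd
      obtain ⟨w₁, hw₁, hQw₁, hw₁d⟩ := exists_sing_val S H hd hd0
      have hw₁0 : w₁ ≠ 0 := fun h => zero_ne_one (α := F) (by
        rw [← hw₁d, h, map_zero, LinearMap.zero_apply])
      refine ⟨B (phiW Q f e g w₁) (phiW Q f e g d), fun h => ?_, fun w hw => ?_⟩
      · obtain ⟨a, ha, ha'⟩ := phiW_sing S hf H hd hd0 hQd
        obtain ⟨b, hb, hb'⟩ := phiW_sing S hf H hw₁ hw₁0 hQw₁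
        rw [ha', hb', map_smul, LinearMap.map_smul₂, smul_eq_mul, smul_eq_mul] at h
        exact one_ne_zero (α := F) (hw₁d.symm.trans ((hf.orth w₁ d hw₁0 hQw₁ hd0 hQd).2
          (((mul_eq_zero.1 h).resolve_left ha |> mul_eq_zero.1).resolve_left hb)))
      · rw [hval d hd hd0 hQd w hw (B w d • w₁) (Submodule.smul_mem _ _ hw₁)
          (by rw [LinearMap.map_smul₂, hw₁d, smul_eq_mul, mul_one]),
          hσ _ w₁ hw₁, LinearMap.map_smul₂, smul_eq_mul, mul_comm])
  -- the constant is independent of the vector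
  have same : ∀ d z (hd : d ∈ perp2 Q e g ∧ d ≠ 0 ∧ Q d = 0) (hz : z ∈ perp2 Q e g ∧ z ≠ 0 ∧ Q z = 0),
      B d z = 0 → z ∉ Submodule.span F {d} → cst d hd = cst z hz := by
    intro d z hd hz hdz hs
    have hne : d + z ≠ 0 := fun h => hs (by
      rw [eq_neg_of_add_eq_zero_right h]; exact neg_mem (Submodule.mem_span_singleton_self d))
    have hdz' : d + z ∈ perp2 Q e g ∧ d + z ≠ 0 ∧ Q (d + z) = 0 :=
      ⟨add_mem hd.1 hz.1, hne, by rw [S.quad_add, hd.2.2, hz.2.2, hdz, add_zero, add_zero]⟩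
    have hli : LinearIndependent F ![d, z] := (LinearIndependent.pair_iff' hd.2.1).2
      fun t ht => hs (ht ▸ Submodule.smul_mem _ t (Submodule.mem_span_singleton_self d))
    have ev : ∀ α : Fin 2 → F, ∀ w ∈ perp2 Q e g, (∀ i, B w (![d, z] i) = α i) →
        cst (d + z) hdz' * σ (α 0 + α 1) = cst d hd * σ (α 0) + cst z hz * σ (α 1) := by
      intro α w hw hv
      have h := (hcst _ hdz').2 w hw
      rw [phiW_add S hf H hd.1 hz.1, map_add, map_add, (hcst d hd).2 w hw, (hcst z hz).2 w hw,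
        show B w d = α 0 from hv 0, show B w z = α 1 from hv 1] at h
      exact h.symm
    obtain ⟨w, hw, hv⟩ := D.exists_vals (v := ![d, z])
      (fun i => by fin_cases i; exacts [hd.1, hz.1]) hli ![1, 0]
    obtain ⟨w', hw', hv'⟩ := D.exists_vals (v := ![d, z])
      (fun i => by fin_cases i; exacts [hd.1, hz.1]) hli ![0, 1]
    have h1 := ev _ w hw hv
    have h2 := ev _ w' hw' hv'
    simp only [Matrix.cons_val_zero, Matrix.cons_val_one, add_zero, zero_add, map_one, map_zero,
      mul_one, mul_zero] at h1 h2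
    exact h1.symm.trans h2
  obtain ⟨d₀, hd₀⟩ : ∃ d, d ∈ perp2 Q e g ∧ d ≠ 0 ∧ Q d = 0 := by
    obtain ⟨z, hz, hQz, -, hz0, -⟩ := exists_perp_sing S H (H.e_ne S)
    exact ⟨z, hz, hz0, hQz⟩
  have hc : ∀ d (hd : d ∈ perp2 Q e g ∧ d ≠ 0 ∧ Q d = 0), cst d hd = cst d₀ hd₀ := by
    intro d hd
    obtain ⟨z, hz⟩ := exists_link S hf H hd.1 hd.2.1 hd.2.2 hd₀.1 hd₀.2.1 hd₀.2.2
    rcases hz with ⟨hz, hz0, hQz, h1, h2, h3, h4⟩ | ⟨h1, h2⟩
    · exact (same d z hd ⟨hz, hz0, hQz⟩ h1 h3).trans (same d₀ z hd₀ ⟨hz, hz0, hQz⟩ h2 h4).symm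
    · exact same d d₀ hd hd₀ h1 h2
  have hB : ∀ v ∈ perp2 Q e g, ∀ w ∈ perp2 Q e g,
      B (phiW Q f e g v) (phiW Q f e g w) = cst d₀ hd₀ * σ (B v w) := by
    intro v hv w hw
    have one : ∀ d ∈ perp2 Q e g, Q d = 0 →
        B (phiW Q f e g v) (phiW Q f e g d) = cst d₀ hd₀ * σ (B v d) := by
      intro d hd hQd
      rcases eq_or_ne d 0 with rfl | hd0
      · rw [phiW_zero S hf H, map_zero, map_zero, map_zero, mul_zero]
      · rw [(hcst d ⟨hd, hd0, hQd⟩).2 v hv, hc]
    obtain ⟨a, b, ha, hQa, hb, hQb, rfl⟩ := sum_sing S H hw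
    rw [phiW_add S hf H ha hb, map_add, map_add, one a ha hQa, one b hb hQb, map_add, mul_add]
  refine ⟨cst d₀ hd₀, (hcst d₀ hd₀).1, hB, fun w hw => ?_⟩
  obtain ⟨a, b, ha, hQa, hb, hQb, rfl⟩ := sum_sing S H hw
  have hq : ∀ x ∈ perp2 Q e g, Q x = 0 → Q (phiW Q f e g x) = 0 := fun x hx hQx => by
    rcases eq_or_ne x 0 with rfl | hx0
    · rw [phiW_zero S hf H, map_zero]
    · exact hQφ x hx hx0 hQx
  rw [phiW_add S hf H ha hb, S.quad_add, hq a ha hQa, hq b hb hQb, hB a ha b hb, S.quad_add, hQa,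
    hQb, zero_add, zero_add, zero_add]

omit H

/-- A map of singular points preserving orthogonality is induced by a semilinear similitude. -/
theorem exists_semilinear :
    ∃ (T : V → V) (σ : F ≃+* F) (c : F), c ≠ 0 ∧ Function.Bijective T ∧
      (∀ x y, T (x + y) = T x + T y) ∧ (∀ (t : F) x, T (t • x) = σ t • T x) ∧
      (∀ x, Q (T x) = c * σ (Q x)) ∧ ∀ a, a ≠ 0 → Q a = 0 → T a ∈ Submodule.span F {f a} := by
  have hdim := S.dim
  obtain ⟨e, -, hQe, -, heX⟩ := S.topDec.exists_norm_out (k := 0) ![] ⊥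
    (by rw [S.finrank_top_eq]; omega) (by rw [finrank_bot, S.finrank_top_eq]; omega) 0
  have he : e ≠ 0 := fun h => heX (h ▸ zero_mem _)
  obtain ⟨g, -, hQg, hgv⟩ := S.topDec.exists_values_in (v := ![e]) (fun i => Submodule.mem_top)
    (by simp [linearIndependent_unique_iff, he]) (by rw [S.finrank_top_eq]; omega) ![1] 0
  have H : HPair Q e g := ⟨hQe, hQg, by rw [S.pB_comm]; exact hgv 0⟩
  have H' := imgH S hf H
  obtain ⟨σ, hσ⟩ := exists_sigma S hf H
  obtain ⟨c, hc, hB, hQ⟩ := exists_multiplier S hf H hσ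
  let w : V → V := fun v => v - B v g • e - B v e • g
  have hw : ∀ v, w v ∈ perp2 Q e g := fun v => by
    refine ⟨?_, ?_⟩
    · show B (w v) e = 0
      simp only [w, map_sub, LinearMap.sub_apply, LinearMap.map_smul₂, smul_eq_mul, H.ee S, H.ge S]
      ring
    · show B (w v) g = 0
      simp only [w, map_sub, LinearMap.sub_apply, LinearMap.map_smul₂, smul_eq_mul, H.eg, H.gg S]
      ring
  let T : V → V := fun v => (c * σ (B v g)) • f e + σ (B v e) • imgG Q f e g + phiW Q f e g (w v)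
  have hTQ : ∀ v, Q (T v) = c * σ (Q v) := by
    intro v
    have hm := phiW_mem S hf H (hw v)
    have hv : v = B v g • e + B v e • g + w v := by simp only [w]; module
    conv_rhs => rw [hv]
    simp only [T, S.quad_add, S.quad_smul, H.qe, H.qg, H'.qe, H'.qg, map_add, map_smul,
      LinearMap.add_apply, LinearMap.smul_apply, smul_eq_mul, H.eg, H'.eg, hQ _ (hw v),
      S.pB_comm e (w v), S.pB_comm g (w v), show B (w v) e = 0 from (hw v).1,
      show B (w v) g = 0 from (hw v).2, S.pB_comm (f e) (phiW Q f e g (w v)),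
      S.pB_comm (imgG Q f e g) (phiW Q f e g (w v)),
      show B (phiW Q f e g (w v)) (f e) = 0 from hm.1,
      show B (phiW Q f e g (w v)) (imgG Q f e g) = 0 from hm.2, map_mul, map_zero, map_one]
    ring
  have hTadd : ∀ x y, T (x + y) = T x + T y := fun x y => by
    have e1 : w (x + y) = w x + w y := by
      simp only [w, map_add, LinearMap.add_apply]; module
    simp only [T, e1, phiW_add S hf H (hw x) (hw y), map_add, LinearMap.add_apply]
    module
  have hTsmul : ∀ (t : F) x, T (t • x) = σ t • T x := fun t x => by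
    have e1 : w (t • x) = t • w x := by
      simp only [w, LinearMap.map_smul₂, smul_eq_mul]; module
    simp only [T, e1, hσ t _ (hw x), LinearMap.map_smul₂, smul_eq_mul, map_mul]
    module
  refine ⟨T, σ, c, hc, Finite.injective_iff_bijective.1 ?_, hTadd, hTsmul, hTQ, ?_⟩
  · intro x y hxy
    have h0 : T (x - y) = 0 := by
      have h := hTadd (x - y) y
      rw [sub_add_cancel, hxy] at h
      exact right_eq_add.1 h
    refine sub_eq_zero.1 (S.eq_of_forall fun z => ?_)
    have h1 := hTQ (z + (x - y))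
    rw [hTadd, h0, add_zero, hTQ, S.quad_add, map_add, map_add, mul_add, mul_add] at h1
    rw [show c * σ (Q (x - y)) = 0 by rw [← hTQ, h0, map_zero], add_zero] at h1
    rw [map_zero]
    exact (map_eq_zero σ).1 ((mul_eq_zero.1 (left_eq_add.1 h1)).resolve_left hc)
  · intro a ha hQa
    have hpt : ∀ v ∈ perp2 Q e g, T (cellPt Q e g v) = cellImg Q f e g v := by
      intro v hv
      have e1 : B (cellPt Q e g v) e = 1 := cellPt_e S H hv
      have e2 : B (cellPt Q e g v) g = -Q v := by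
        simp only [cellPt, map_sub, map_add, LinearMap.sub_apply, LinearMap.add_apply,
          LinearMap.map_smul₂, smul_eq_mul, H.gg S, H.eg, show B v g = 0 from hv.2]
        ring
      have e3 : w (cellPt Q e g v) = v := by simp only [w, e1, e2]; rw [cellPt]; module
      rw [cellImg_eq S hf H hv]
      simp only [T, e1, e2, e3, map_one, map_neg]
      rw [cellPt, hQ v hv]
      module
    by_cases hb : B a e = 0
    swap
    · set v := (B a e)⁻¹ • w a
      have hv : v ∈ perp2 Q e g := Submodule.smul_mem _ _ (hw a)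
      have hQw : Q (w a) = -(B a g * B a e) := by
        have h : a = B a g • e + B a e • g + w a := by simp only [w]; module
        have h' := hQa
        rw [h] at h'
        simp only [S.quad_add, S.quad_smul, H.qe, H.qg, map_add, map_smul, LinearMap.add_apply,
          LinearMap.smul_apply, smul_eq_mul, H.eg, S.pB_comm e (w a), S.pB_comm g (w a),
          show B (w a) e = 0 from (hw a).1, show B (w a) g = 0 from (hw a).2] at h'
        linear_combination h'
      have hae : a = B a e • cellPt Q e g v := by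
        simp only [cellPt, v, S.quad_smul, hQw, smul_sub, smul_add, smul_smul, mul_inv_cancel₀ hb,
          one_smul]
        rw [show B a e * ((B a e)⁻¹ * (B a e)⁻¹ * -(B a g * B a e)) = -B a g by field_simp]
        simp only [w]; module
      obtain ⟨k, hk⟩ := Submodule.mem_span_singleton.1 ((hf.prop _ a (cellPt_ne S H hv)
        (cellPt_quad S H hv) ha hQa).1 (hae ▸ Submodule.smul_mem _ _ (Submodule.mem_span_singleton_self _)))
      have hk0 : k ≠ 0 := fun h => (hf.sing a ha hQa).1 (by rw [← hk, h, zero_smul])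
      have he' : T a = σ (B a e) • cellImg Q f e g v := by
        conv_lhs => rw [hae]
        rw [hTsmul, hpt v hv]
      rw [he', cellImg, smul_smul, ← hk]
      exact Submodule.mem_span_singleton.2 ⟨_ * k⁻¹,
        by rw [smul_smul, inv_mul_cancel_right₀ hk0]⟩
    · set d := w a
      have hd : d ∈ perp2 Q e g := hw a
      have had : a = d + B a g • e := by simp only [d, w, hb]; module
      have hQd : Q d = 0 := by
        have h := hQa
        rw [had, S.quad_add, S.quad_smul, H.qe, map_smul, show B d e = 0 from hd.1] at h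
        simpa using h
      rcases eq_or_ne d 0 with hd0 | hd0
      · rw [hd0, zero_add] at had
        obtain ⟨k, hk⟩ := Submodule.mem_span_singleton.1 ((hf.prop e a he hQe ha hQa).1
          (had ▸ Submodule.smul_mem _ _ (Submodule.mem_span_singleton_self e)))
        have hk0 : k ≠ 0 := fun h => (hf.sing a ha hQa).1 (by rw [← hk, h, zero_smul])
        have he' : T a = (c * σ (B a g)) • f e := by
          have hwa : w a = 0 := hd0
          simp only [T, hwa, hb, phiW_zero S hf H, map_zero, zero_smul, add_zero]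
        rw [he', ← hk]
        exact Submodule.mem_span_singleton.2 ⟨(c * σ (B a g)) * k⁻¹,
          by rw [smul_smul, inv_mul_cancel_right₀ hk0]⟩
      · obtain ⟨u, hu, -, hud⟩ := exists_sing_val S H hd hd0
        set v := -B a g • u
        have hv : v ∈ perp2 Q e g := Submodule.smul_mem _ _ hu
        have hvd : B v d = -B a g := by rw [LinearMap.map_smul₂, hud, smul_eq_mul, mul_one]
        obtain ⟨k, hk⟩ := cell_step S hf H hv hd hd0 hQd
        have hdu : d - -B a g • e = a := by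
          conv_rhs => rw [had]
          module
        rw [hvd, hdu] at hk
        have hsplit : cellPt Q e g (v + d) = cellPt Q e g v + a := by
          rw [cellPt, cellPt, S.quad_add, hQd, hvd]
          conv_rhs => rw [had]
          module
        have hT : T a = cellImg Q f e g (v + d) - cellImg Q f e g v := by
          rw [← hpt _ (add_mem hv hd), ← hpt _ hv, hsplit, hTadd]; abel
        have hk0 : k ≠ 0 := fun h => (hf.sing a ha hQa).1 (by rw [hk, h, zero_smul])
        exact Submodule.mem_span_singleton.2 ⟨k⁻¹,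
          by rw [hk, hT, smul_smul, inv_mul_cancel₀ hk0, one_smul]⟩

end Cfsg.Agent.AutPOmega
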