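import Cfsg.Agent.Lib.Spinor.SemisimpleCent
import Cfsg.Agent.Lib.AutPOmega.OutEven

/-!
Classes of automorphisms of `PΩ` of odd prime order induced by semisimple similarities.
-/

set_option autoImplicit false
set_option linter.unusedSectionVars false
set_option maxHeartbeats 1000000

namespace Cfsg.Agent.AutPOmega

open scoped Matrix
open Cfsg.Agent Cfsg.Agent.TransvMax Cfsg.Agent.QMax Cfsg.Agent.Spinor
open Cfsg.Agent.FormsLib (oEquiv oGroup)

variable {ι : Type} [Fintype ι] [DecidableEq ι] {F : Type*} [Field F] [Fintype F]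
  {Q : QuadraticForm F (ι → F)}

local notation "V" => ι → F
local notation "SimQ" => Cfsg.Geo.quadSimilarityGroup (F := F) (DFunLike.coe Q)
local notation "IsoQ" => Cfsg.isometryGroup F (DFunLike.coe Q)

variable (S : QSetting Q)

include S

theorem units_sq_mem_omega (h : IsoQ) : h * h ∈ Cfsg.Omega F ⇑Q :=
  (OrthRows.mem_omega S.nondeg (hexc S)).2 ⟨by rw [map_mul, Int.units_mul_self], by rw [map_mul, Int.units_mul_self]⟩

/-- An element of odd order of the similarity automorphisms lifts to an isometry of the same order. -/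
theorem exists_iso_lift {x : MulAut (Cfsg.POmega F ⇑Q)} (hx : x ∈ Cfsg.pgoAut F ⇑Q) {r : ℕ} (hro : Odd r)
    (hxr : x ^ r = 1) : ∃ t : IsoQ, t ^ r = 1 ∧ isoAut t = x := by
  rw [pgoAut_eq] at hx
  obtain ⟨g, rfl⟩ := hx
  obtain ⟨e, he⟩ : ∃ e, 4 * e % r = 1 % r := by
    obtain ⟨k, hk⟩ := hro
    refine ⟨(k + 1) * (k + 1), ?_⟩
    rw [show 4 * ((k + 1) * (k + 1)) = 1 + r * (2 * k + 3) by rw [hk]; ring, Nat.add_mul_mod_self_left]
  set μ := simMul S g
  have hk : (scalSim μ)⁻¹ * (g * g) ∈ (simMul S).ker := by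
    rw [MonoidHom.mem_ker, map_mul, map_inv, map_mul, inv_mul_eq_one]
    refine Units.ext ?_
    rw [simMul_eq S (g := scalSim μ) (c := (μ : F) * μ) fun v => ?_]
    · rfl
    · rw [← ofSim_apply, scalSim_apply, QuadraticMap.map_smul, smul_eq_mul]
  rw [ker_simMul S] at hk
  obtain ⟨h, hh⟩ := hk
  have h2 : simAut g ^ 2 = isoAut h := by
    show _ = simAut (Subgroup.inclusion isometry_le_sim h)
    rw [hh, map_mul, map_inv, map_mul, (simAut_eq_one_iff S (scalSim μ)).2 ⟨μ, rfl⟩, inv_one, one_mul, sq]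
  set x := simAut g with hxd
  have hxe : x = isoAut ((h * h) ^ e) := by
    rw [map_pow, map_mul, ← h2, ← sq, ← pow_mul, ← pow_mul, show 2 * (2 * e) = 4 * e by ring,
      pow_eq_pow_mod (4 * e) hxr, he, ← pow_eq_pow_mod 1 hxr, pow_one]
  set h₁ := (h * h) ^ e
  have hr1 : isoAut (h₁ ^ r) = 1 := by rw [map_pow, ← hxe, hxr]
  obtain ⟨a, ha⟩ := (isoAut_eq_one_iff S _).1 hr1
  refine ⟨h₁ ^ (r + 1), ?_, by rw [map_pow, ← hxe, pow_succ, hxr, one_mul]⟩
  have ha2 : a * a = 1 := by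
    haveI : Nonempty ι := Fintype.card_pos_iff.1 (by have := S.dim; omega)
    obtain ⟨w, hw⟩ := Spinor.exists_nonsingular' S.nondeg
    have e2 : Q (((h₁ ^ r).1 : Matrix ι ι F) *ᵥ w) = Q w := (h₁ ^ r).2 w w
    rw [ha, QuadraticMap.map_smul, smul_eq_mul] at e2
    exact (mul_eq_right₀ hw).1 e2
  have h1 : (h₁ ^ r) ^ 2 = 1 := by
    refine Subtype.ext (Units.ext (Matrix.toLin'.injective (LinearMap.ext fun w => ?_)))
    rw [sq, Matrix.toLin'_apply, Matrix.toLin'_apply, Subgroup.coe_mul, Units.val_mul, ← Matrix.mulVec_mulVec, ha, ha,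
      smul_smul, ha2, one_smul, Subgroup.coe_one, Units.val_one, Matrix.one_mulVec]
  obtain ⟨k, hk⟩ := hro
  rw [← pow_mul, show (r + 1) * r = r * 2 * (k + 1) by rw [hk]; ring, pow_mul, pow_mul, h1, one_pow]

theorem oEquiv_pow {t : IsoQ} {r : ℕ} (h : t ^ r = 1) : oEquiv Q t ^ r = 1 := by rw [← map_pow, h, map_one]

theorem commute_of_apply {t k : IsoQ} (h : ∀ v, (oEquiv Q k).1 ((oEquiv Q t).1 v) = (oEquiv Q t).1 ((oEquiv Q k).1 v)) :
    Commute k t := by
  refine (oEquiv Q).injective ?_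
  rw [map_mul, map_mul]
  exact Subtype.ext (LinearEquiv.ext h)

variable {r : ℕ} (hr : r.Prime) (hro : Odd r) (hrF : (r : F) ≠ 0) (h2 : (2 : F) ≠ 0)
  {t : Cfsg.isometryGroup F ⇑Q} (htr : t ^ r = 1)

include hr hro hrF h2 htr

/-- If the centraliser meets a coset of the special group, it contains elements of all invariants there. -/
theorem exists_cent_sign {k₀ : ℕ} (hk : Fintype.card ι = 2 * k₀) (a b : ℤˣ) (ha : (∃ v, v ≠ 0 ∧ (oEquiv Q t).1 v = v) ∨ a = 1) :
    ∃ k : IsoQ, Commute k t ∧ OrthRows.dk S.nondeg (hexc S) k = a ∧ OrthRows.sp S.nondeg (hexc S) k = b := by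
  classical
  set T := oEquiv Q t
  have hTr := oEquiv_pow S htr
  haveI : Nonempty ι := Fintype.card_pos_iff.1 (by have := S.dim; omega)
  by_cases hfix : ∀ v, T.1 v = v → v = 0
  · obtain rfl : a = 1 := ha.resolve_left fun ⟨v, hv, e⟩ => hv (hfix v e)
    rcases Int.units_eq_one_or b with rfl | rfl
    · exact ⟨1, Commute.one_left _, map_one _, map_one _⟩
    obtain ⟨u, hu, hd, hs⟩ := exists_spin_neg S.nondeg h2 hr hro hrF hTr hfix
    refine ⟨(oEquiv Q).symm u, commute_of_apply S fun v => ?_, ?_, ?_⟩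
    · rw [MulEquiv.apply_symm_apply]; exact hu v
    · show dick (oEquiv Q ((oEquiv Q).symm u)) = 1
      rw [MulEquiv.apply_symm_apply, hd]
    · show spin (oEquiv Q ((oEquiv Q).symm u)) = -1
      rw [MulEquiv.apply_symm_apply, hs]
  push Not at hfix
  obtain ⟨v₀, hv₀, hv₀'⟩ := hfix
  obtain ⟨hP, m, hm⟩ := fixed_space S.nondeg h2 hro hrF hTr
  -- commuting reflections
  have hrf : ∀ v (hv : Q v ≠ 0), v ∈ fixS T.1 → Commute (OrthRows.rf Q v hv) t := by
    intro v hv hmem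
    refine (oEquiv Q).injective ?_
    rw [map_mul, map_mul, show oEquiv Q (OrthRows.rf Q v hv) = FormsLib.oRefl Q v hv from (oEquiv Q).apply_symm_apply _]
    have := FormsLib.oRefl_conj hv T
    simp only [mem_fixS.1 hmem] at this
    exact (mul_inv_eq_iff_eq_mul.1 this).symm
  have hdim : 1 ≤ Module.finrank F (fixS T.1) :=
    Submodule.one_le_finrank_iff.2 fun h => hv₀' (by
      have : v₀ ∈ fixS T.1 := mem_fixS.2 hv₀
      rwa [h, Submodule.mem_bot] at this)
  have hd2 : 2 ≤ Module.finrank F (fixS T.1) := by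
    rw [Module.finrank_fintype_fun_eq_card, hk] at hm
    change _ = Module.finrank F (fixS T.1) + 2 * m at hm
    omega
  obtain ⟨e, he⟩ := FiniteField.exists_nonsquare (Spinor.ringChar_ne_two h2)
  have he0 : e ≠ 0 := fun h => he (h ▸ IsSquare.zero)
  obtain ⟨v, hv, hQv⟩ := exists_norm hP (Or.inl hd2) one_ne_zero
  obtain ⟨w, hw, hQw⟩ := exists_norm hP (Or.inl hd2) he0
  have hv0 : Q v ≠ 0 := by rw [hQv]; exact one_ne_zero
  have hw0 : Q w ≠ 0 := by rw [hQw]; exact he0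
  have hsv : IsSquare (Q v) := by rw [hQv]; exact IsSquare.one
  have hsw : ¬ IsSquare (Q w) := by rw [hQw]; exact he
  rcases Int.units_eq_one_or a with rfl | rfl <;> rcases Int.units_eq_one_or b with rfl | rfl
  · exact ⟨1, Commute.one_left _, map_one _, map_one _⟩
  · refine ⟨OrthRows.rf Q v hv0 * OrthRows.rf Q w hw0, (hrf v hv0 hv).mul_left (hrf w hw0 hw), ?_, ?_⟩
    · rw [map_mul, OrthRows.dk_rf, OrthRows.dk_rf]; rfl
    · rw [map_mul, OrthRows.sp_rf, OrthRows.sp_rf, if_pos hsv, if_neg hsw, one_mul]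
  · exact ⟨OrthRows.rf Q v hv0, hrf v hv0 hv, OrthRows.dk_rf _ _ hv0, by rw [OrthRows.sp_rf, if_pos hsv]⟩
  · exact ⟨OrthRows.rf Q w hw0, hrf w hw0 hw, OrthRows.dk_rf _ _ hw0, by rw [OrthRows.sp_rf, if_neg hsw]⟩

/-- Conjugation by a similarity is conjugation by an isometry. -/
theorem exists_iso_conj (g : SimQ) :
    ∃ h : IsoQ, ∃ c : SimQ, g = incl h * c ∧ Commute c (incl t) := by
  have hk : g * incl t * g⁻¹ ∈ (simMul S).ker := by
    rw [MonoidHom.mem_ker, map_mul, map_mul, simMul_incl S, mul_one, map_inv, mul_inv_cancel]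
  rw [ker_simMul S] at hk
  obtain ⟨t', ht'⟩ := hk
  let P : V ≃ₗ[F] V := (Matrix.GeneralLinearGroup.toLin g.1).toLinearEquiv
  obtain ⟨f, hf, hft⟩ := FormCentral.exists_orth_intertwine S.nondeg (oEquiv Q t).1.toLinearMap
    (oEquiv Q t').1.toLinearMap (oEquiv Q t).2 (oEquiv Q t').2 P (fun v => by
      show (g.1 : Matrix ι ι F) *ᵥ ((t.1 : Matrix ι ι F) *ᵥ v) = (t'.1 : Matrix ι ι F) *ᵥ ((g.1 : Matrix ι ι F) *ᵥ v)
      have : (t'.1 : GL ι F) * g.1 = g.1 * t.1 := by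
        have e : incl t' * g = g * incl t := by
          rw [show incl t' = g * incl t * g⁻¹ from ht', inv_mul_cancel_right]
        exact congrArg Subtype.val e
      rw [Matrix.mulVec_mulVec, Matrix.mulVec_mulVec, ← Units.val_mul, ← Units.val_mul, this])
    hro hrF (by
      refine LinearMap.ext fun v => ?_
      have e : ∀ k, ((oEquiv Q t).1.toLinearMap ^ k) v = (oEquiv Q t ^ k).1 v := by
        intro k
        induction k with
        | zero => rfl
        | succ k ih => rw [pow_succ', pow_succ', Module.End.mul_apply, ih]; rfl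
      rw [e, oEquiv_pow S htr]
      rfl)
  set h : IsoQ := (oEquiv Q).symm ⟨f, hf⟩
  have hh : h * t = t' * h := by
    refine (oEquiv Q).injective ?_
    rw [map_mul, map_mul, MulEquiv.apply_symm_apply]
    exact Subtype.ext (LinearEquiv.ext hft)
  refine ⟨h, (incl h)⁻¹ * g, by rw [mul_inv_cancel_left], ?_⟩
  have e : incl t' = g * incl t * g⁻¹ := ht'
  have e2 : incl h * incl t = incl t' * incl h := by rw [← map_mul, ← map_mul, hh]
  show (incl h)⁻¹ * g * incl t = incl t * ((incl h)⁻¹ * g)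
  rw [mul_assoc, show g * incl t = incl t' * g by rw [e, inv_mul_cancel_right], ← mul_assoc, ← mul_assoc,
    show incl t * (incl h)⁻¹ = (incl h)⁻¹ * incl t' by rw [eq_inv_mul_iff_mul_eq, ← mul_assoc, e2, mul_inv_cancel_right]]

/-- Inner-diagonal conjugates are inner conjugates. -/
theorem exists_omega_conj_semisimple {k : ℕ} (hk : Fintype.card ι = 2 * k) (g : SimQ) (hg : epsS S k g = 1) :
    ∃ h : IsoQ, h ∈ Cfsg.Omega F ⇑Q ∧
      simAut g * isoAut t * (simAut g)⁻¹ = isoAut h * isoAut t * (isoAut h)⁻¹ := by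
  classical
  obtain ⟨h, c, rfl, hc⟩ := exists_iso_conj S hr hro hrF h2 htr g
  have hconj : simAut c * isoAut t * (simAut c)⁻¹ = isoAut t := by
    show simAut c * simAut (incl t) * _ = _
    rw [← map_mul, hc.eq, map_mul, mul_inv_cancel_right]
    rfl
  set T := oEquiv Q t
  have hex : (∃ v, v ≠ 0 ∧ T.1 v = v) ∨ OrthRows.dk S.nondeg (hexc S) h = 1 := by
    by_cases hfix : ∀ v, T.1 v = v → v = 0
    · refine Or.inr ?_
      haveI : Nonempty ι := Fintype.card_pos_iff.1 (by have := S.dim; omega)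
      obtain ⟨m, hm, hdet⟩ := det_of_commute S.nondeg hro (oEquiv_pow S htr) hfix
        (Matrix.toLin' (c.1 : Matrix ι ι F)) (Units.ne_zero (simMul S c)) (fun v => by
          rw [Matrix.toLin'_apply]; exact simMul_spec S c v)
        (fun v => by
          rw [Matrix.toLin'_apply, Matrix.toLin'_apply]
          show (c.1 : Matrix ι ι F) *ᵥ ((t.1 : Matrix ι ι F) *ᵥ v) = (t.1 : Matrix ι ι F) *ᵥ ((c.1 : Matrix ι ι F) *ᵥ v)
          rw [Matrix.mulVec_mulVec, Matrix.mulVec_mulVec, ← Units.val_mul, ← Units.val_mul,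
            show c.1 * t.1 = t.1 * c.1 from congrArg Subtype.val hc.eq])
      obtain rfl : m = k := by
        rw [Module.finrank_fintype_fun_eq_card, hk] at hm
        omega
      have hec : epsS S m c = 1 := by
        rw [epsS_apply, div_eq_one]
        refine Units.ext ?_
        rw [Units.val_pow_eq_pow_val, ← hdet, LinearMap.det_toLin']
        rfl
      rw [map_mul, hec, mul_one, epsS_incl S] at hg
      refine (dick_eq_one_iff_det S.nondeg h2 (oEquiv Q h)).2 (Units.ext ?_)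
      rw [det_oEquiv]
      exact congrArg Units.val hg
    · push Not at hfix
      obtain ⟨v, h1, h3⟩ := hfix
      exact Or.inl ⟨v, h3, h1⟩
  obtain ⟨u, hu, hud, hus⟩ := exists_cent_sign S hr hro hrF h2 htr hk (OrthRows.dk S.nondeg (hexc S) h)
    (OrthRows.sp S.nondeg (hexc S) h) hex
  refine ⟨h * u, (OrthRows.mem_omega S.nondeg (hexc S)).2
    ⟨by rw [map_mul, hud, Int.units_mul_self], by rw [map_mul, hus, Int.units_mul_self]⟩, ?_⟩
  have hu' : isoAut u * isoAut t * (isoAut u)⁻¹ = isoAut t := by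
    rw [← map_mul, hu.eq, map_mul, mul_inv_cancel_right]
  rw [map_mul, map_mul]
  show isoAut h * simAut c * isoAut t * (isoAut h * simAut c)⁻¹ = _
  calc isoAut h * simAut c * isoAut t * (isoAut h * simAut c)⁻¹
      = isoAut h * (simAut c * isoAut t * (simAut c)⁻¹) * (isoAut h)⁻¹ := by group
    _ = isoAut h * (isoAut u * isoAut t * (isoAut u)⁻¹) * (isoAut h)⁻¹ := by rw [hconj, hu']
    _ = _ := by group

theorem exists_po_conj (g : SimQ) :
    ∃ h : IsoQ, simAut g * isoAut t * (simAut g)⁻¹ = isoAut h * isoAut t * (isoAut h)⁻¹ := by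
  obtain ⟨h, c, rfl, hc⟩ := exists_iso_conj S hr hro hrF h2 htr g
  have hconj : simAut c * isoAut t * (simAut c)⁻¹ = isoAut t := by
    show simAut c * simAut (incl t) * _ = _
    rw [← map_mul, hc.eq, map_mul, mul_inv_cancel_right]
    rfl
  refine ⟨h, ?_⟩
  rw [map_mul]
  show isoAut h * simAut c * isoAut t * (isoAut h * simAut c)⁻¹ = _
  calc isoAut h * simAut c * isoAut t * (isoAut h * simAut c)⁻¹
      = isoAut h * (simAut c * isoAut t * (simAut c)⁻¹) * (isoAut h)⁻¹ := by group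
    _ = _ := by rw [hconj]

end Cfsg.Agent.AutPOmega

namespace Cfsg.Agent.AutPOmega

variable {ι : Type} [Fintype ι] [DecidableEq ι] {F : Type*} [Field F] [Fintype F]
  {Q : QuadraticForm F (ι → F)}

open Cfsg.Agent.TransvMax Cfsg.Agent.QMax in
/-- The coincidence of classes. -/
theorem class_coincide (S : QSetting Q) (h2 : (2 : F) ≠ 0) {p : ℕ} [Fact p.Prime] [CharP F p]
    {k : ℕ} (hk : Fintype.card ι = 2 * k) {G : Subgroup (MulAut (Cfsg.POmega F ⇑Q))}
    (hG : G = (epsS S k).ker.map (simAut (Q := Q))) {x : MulAut (Cfsg.POmega F ⇑Q)}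
    (hx : x ∈ Cfsg.pgoAut F ⇑Q) {r : ℕ} (hr : r.Prime) (hro : Odd r) (hrp : r ≠ p) (hxr : orderOf x = r) :
    (∀ y, (Cfsg.IsConjUnder (Cfsg.Inn (Cfsg.POmega F ⇑Q)) x y ↔ Cfsg.IsConjUnder G x y) ∧
      (Cfsg.IsConjUnder (Cfsg.psoAut F ⇑Q) x y ↔ Cfsg.IsConjUnder G x y)) ∧
    ∀ y, Cfsg.IsConjUnder (Cfsg.poAut F ⇑Q) x y ↔ Cfsg.IsConjUnder (Cfsg.pgoAut F ⇑Q) x y := by
  have hrF : (r : F) ≠ 0 := by
    rw [Ne, CharP.cast_eq_zero_iff F p]
    exact fun h => hrp ((Nat.prime_dvd_prime_iff_eq (Fact.out : p.Prime) hr).1 h).symm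
  obtain ⟨t, htr, rfl⟩ := exists_iso_lift S hx hro (hxr ▸ pow_orderOf_eq_one x)
  have hmono : ∀ {H K : Subgroup (MulAut (Cfsg.POmega F ⇑Q))}, H ≤ K → ∀ {y},
      Cfsg.IsConjUnder H (isoAut t) y → Cfsg.IsConjUnder K (isoAut t) y :=
    fun hle _ ⟨h, h1, h3⟩ => ⟨h, hle h1, h3⟩
  have hIP : Cfsg.Inn (Cfsg.POmega F ⇑Q) ≤ Cfsg.psoAut F ⇑Q := by
    rw [inn_eq, psoAut_eq]
    refine Subgroup.map_mono fun h hh => OrthRows.mem_special.2 ?_
    have hd := ((OrthRows.mem_omega S.nondeg (hexc S)).1 hh).1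
    refine Units.ext ?_
    have := congrArg Units.val ((Spinor.dick_eq_one_iff_det S.nondeg h2 _).1 hd)
    exact (Spinor.det_oEquiv Q h).symm.trans this
  have hPG : Cfsg.psoAut F ⇑Q ≤ G := by
    rw [psoAut_eq, hG]
    rintro _ ⟨h, hh, rfl⟩
    exact ⟨incl h, (epsS_incl S k h).trans (OrthRows.mem_special.1 hh), rfl⟩
  have hGI : ∀ y, Cfsg.IsConjUnder G (isoAut t) y → Cfsg.IsConjUnder (Cfsg.Inn (Cfsg.POmega F ⇑Q)) (isoAut t) y := by
    rintro y ⟨_, hg, rfl⟩
    rw [hG] at hg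
    obtain ⟨g, hg, rfl⟩ := hg
    obtain ⟨h, hh, e⟩ := exists_omega_conj_semisimple S hr hro hrF h2 htr hk g hg
    exact ⟨isoAut h, by rw [inn_eq]; exact ⟨h, hh, rfl⟩, e⟩
  refine ⟨fun y => ⟨⟨fun h => hmono (hIP.trans hPG) h, hGI y⟩, ⟨fun h => hmono hPG h, fun h => hmono hIP (hGI y h)⟩⟩,
    fun y => ⟨fun h => hmono ?_ h, ?_⟩⟩
  · rw [poAut_eq, pgoAut_eq]
    rintro _ ⟨h, rfl⟩
    exact ⟨incl h, rfl⟩
  · rintro ⟨_, hg, rfl⟩
    rw [pgoAut_eq] at hg
    obtain ⟨g, rfl⟩ := hg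
    obtain ⟨h, e⟩ := exists_po_conj S hr hro hrF h2 htr g
    exact ⟨isoAut h, by rw [poAut_eq]; exact ⟨h, rfl⟩, e⟩

end Cfsg.Agent.AutPOmega
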